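import Cfsg.Agent.Aschbacher.General.Member
import Cfsg.Agent.Aschbacher.General.Maximal
import Cfsg.Agent.Aschbacher.UnitaryMember
import Cfsg.Agent.Geo.SympTv

/-!
Transvections avoid the members of the geometric classes, so these members contain no symplectic or unitary group.
-/
set_option autoImplicit false

namespace CfsgLib.Aschbacher

open Matrix Cfsg Cfsg.Geo CfsgLib.GeoClifford
open scoped MatrixGroups Kronecker

variable {ι : Type} [Fintype ι] [DecidableEq ι] {F : Type*} [Field F]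

/-- A covector has a nonzero kernel vector in dimension two, two covectors in dimension three. -/
lemma exists_kernel_two {κ : Type} [Fintype κ] (h3 : 3 ≤ Fintype.card κ) (y z : κ → F) :
    ∃ w : κ → F, w ≠ 0 ∧ y ⬝ᵥ w = 0 ∧ z ⬝ᵥ w = 0 := by
  obtain ⟨w, hw, hw0⟩ := (LinearMap.ker ((dotProductBilin F F y).prod (dotProductBilin F F z))).ne_bot_iff.mp
    fun h => by
      have h1 := LinearMap.finrank_range_add_finrank_ker ((dotProductBilin F F y).prod (dotProductBilin F F z))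
      have h2 := Submodule.finrank_le (LinearMap.range ((dotProductBilin F F y).prod (dotProductBilin F F z)))
      rw [h, finrank_bot, Module.finrank_fintype_fun_eq_card] at h1
      rw [Module.finrank_prod, Module.finrank_self] at h2
      omega
  rw [LinearMap.mem_ker] at hw
  exact ⟨w, hw0, congrArg Prod.fst hw, congrArg Prod.snd hw⟩

lemma exists_kernel_one {κ : Type} [Fintype κ] (h2 : 2 ≤ Fintype.card κ) (y : κ → F) :
    ∃ w : κ → F, w ≠ 0 ∧ y ⬝ᵥ w = 0 := by
  obtain ⟨w, hw, hw0⟩ := (LinearMap.ker (dotProductBilin F F y)).ne_bot_iff.mp fun h => by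
    have h1 := LinearMap.finrank_range_add_finrank_ker (dotProductBilin F F y)
    have h3 := Submodule.finrank_le (LinearMap.range (dotProductBilin F F y))
    rw [h, finrank_bot, Module.finrank_fintype_fun_eq_card] at h1
    rw [Module.finrank_self] at h3
    omega
  exact ⟨w, hw0, hw⟩

/-- An invertible matrix is no sum of two matrices of rank one in dimension three. -/
lemma not_rank_two {κ : Type} [Fintype κ] [DecidableEq κ] (h3 : 3 ≤ Fintype.card κ) (B : GL κ F) (x y x' y' : κ → F) :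
    (B : Matrix κ κ F) ≠ vecMulVec x y + vecMulVec x' y' := by
  intro h
  obtain ⟨w, hw, h1, h2⟩ := exists_kernel_two h3 y y'
  refine hw (mulVec_injective_GL B (a₁ := w) (a₂ := 0) ?_)
  rw [Matrix.toLin'_apply, Matrix.toLin'_apply, mulVec_zero, h, add_mulVec, vecMulVec_mulVec, vecMulVec_mulVec,
    h1, h2]
  simp

/-- An invertible matrix has not rank one in dimension two. -/
lemma not_rank_one {κ : Type} [Fintype κ] [DecidableEq κ] (h2 : 2 ≤ Fintype.card κ) (B : GL κ F) (x y : κ → F) :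
    (B : Matrix κ κ F) ≠ vecMulVec x y := by
  intro h
  obtain ⟨w, hw, h1⟩ := exists_kernel_one h2 y
  refine hw (mulVec_injective_GL B (a₁ := w) (a₂ := 0) ?_)
  rw [Matrix.toLin'_apply, Matrix.toLin'_apply, mulVec_zero, h, vecMulVec_mulVec, h1]
  simp

lemma exists_row_ne {κ : Type} [Fintype κ] [DecidableEq κ] (B : GL κ F) (p : κ) :
    ∃ q, (B : Matrix κ κ F) p q ≠ 0 := by
  by_contra h
  push Not at h
  have h1 := congrFun (congrFun (Units.mul_inv B) p) p
  rw [Matrix.mul_apply, Finset.sum_eq_zero (fun q _ => by rw [h q, zero_mul]), Matrix.one_apply_eq] at h1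
  exact zero_ne_one h1

lemma exists_col_ne {κ : Type} [Fintype κ] [DecidableEq κ] (B : GL κ F) (q : κ) :
    ∃ p, (B : Matrix κ κ F) p q ≠ 0 := by
  by_contra h
  push Not at h
  have h1 := congrFun (congrFun (Units.inv_mul B) q) q
  rw [Matrix.mul_apply, Finset.sum_eq_zero (fun p _ => by rw [h p, mul_zero]), Matrix.one_apply_eq] at h1
  exact zero_ne_one h1

/-- A transvection has a nonzero entry off the diagonal. -/
lemma exists_offdiag {κ : Type} [Fintype κ] {a φ : κ → F} (h : φ ⬝ᵥ a = 0) (ha : a ≠ 0) (hφ : φ ≠ 0) :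
    ∃ x y, x ≠ y ∧ a x * φ y ≠ 0 := by
  by_contra hcon
  push Not at hcon
  obtain ⟨x, hx⟩ := Function.ne_iff.mp ha
  have hy : ∀ y, y ≠ x → φ y = 0 := fun y hy => (mul_eq_zero.mp (hcon x y hy.symm)).resolve_left hx
  refine hφ (funext fun y => ?_)
  by_cases hyx : y = x
  · rw [dotProduct, Finset.sum_eq_single x (fun b _ hb => by rw [hy b hb, zero_mul]) (by simp)] at h
    rw [hyx]
    exact (mul_eq_zero.mp h).resolve_right hx
  · exact hy y hyx

/-! ### Decompositions -/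

/-- A transvection with centre outside the members moves a decomposition. -/
lemma tvec_notMem_decomposition {t m : ℕ} {D : Fin t → Submodule F (ι → F)} (hD : IsMDecomposition m D) (hm : 2 ≤ m)
    {a φ : ι → F} (hφa : φ ⬝ᵥ a = 0) (ha : ∀ i, a ∉ D i) (hφ : φ ≠ 0) :
    CfsgLib.Geo.tvec a φ hφa ∉ decompositionStabilizer D := by
  rintro ⟨π, hπ⟩
  refine hφ ?_
  have hle : (⊤ : Submodule F (ι → F)) ≤ LinearMap.ker (dotProductBilin F F φ) := by
    rw [← hD.iSup_eq_top, iSup_le_iff]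
    intro i x hx
    have himg : ∀ y ∈ D i, y + (φ ⬝ᵥ y) • a ∈ D (π i) := fun y hy => by
      rw [← hπ i, Submodule.mem_map]
      exact ⟨y, hy, by rw [Matrix.toLin'_apply, CfsgLib.Geo.tvec_mulVec]⟩
    have hfix : π i = i := by
      obtain ⟨v, ⟨hv, hvk⟩, hv0⟩ := (D i ⊓ LinearMap.ker (dotProductBilin F F φ)).ne_bot_iff.mp fun h => by
        have h1 := Submodule.finrank_sup_add_finrank_inf_eq (D i) (LinearMap.ker (dotProductBilin F F φ))
        have h2 := Submodule.finrank_le (D i ⊔ LinearMap.ker (dotProductBilin F F φ))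
        have h3 := LinearMap.finrank_range_add_finrank_ker (dotProductBilin F F φ)
        have h4 := Submodule.finrank_le (LinearMap.range (dotProductBilin F F φ))
        rw [h, finrank_bot, hD.finrank_eq] at h1
        rw [Module.finrank_fintype_fun_eq_card] at h2 h3
        rw [Module.finrank_self] at h4
        omega
      have h5 := himg v hv
      rw [show φ ⬝ᵥ v = 0 from hvk, zero_smul, add_zero] at h5
      by_contra hne
      exact hv0 ((Submodule.mem_bot F).mp ((disjoint_iff.mp (hD.indep.pairwiseDisjoint hne)).le ⟨h5, hv⟩))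
    have h6 := himg x hx
    rw [hfix] at h6
    have h7 : (φ ⬝ᵥ x) • a ∈ D i := by simpa using (D i).sub_mem h6 hx
    show φ ⬝ᵥ x = 0
    by_contra hne
    exact ha i ((Submodule.smul_mem_iff _ hne).mp h7)
  funext j
  have := hle (Submodule.mem_top (x := Pi.single j (1 : F)))
  simpa using this

/-- Two members of a decomposition give a vector outside all of them. -/
lemma add_notMem_decomposition {t m : ℕ} {D : Fin t → Submodule F (ι → F)} (hD : IsMDecomposition m D) {i j : Fin t}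
    (hij : i ≠ j) {u v : ι → F} (hu : u ∈ D i) (hv : v ∈ D j) (hu0 : u ≠ 0) (hv0 : v ≠ 0) (k : Fin t) :
    u + v ∉ D k := by
  intro h
  have hdis : ∀ {l l' : Fin t}, l ≠ l' → ∀ w, w ∈ D l → w ∈ D l' → w = 0 := fun hl w h1 h2 =>
    (Submodule.mem_bot F).mp ((disjoint_iff.mp (hD.indep.pairwiseDisjoint hl)).le ⟨h1, h2⟩)
  by_cases hki : k = i
  · subst hki
    exact hv0 (hdis hij v (by simpa using (D k).sub_mem h hu) hv)
  by_cases hkj : k = j
  · subst hkj
    exact hu0 (hdis hij u hu (by simpa using (D k).sub_mem h hv))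
  have h2 : u + v ∈ ⨆ (l) (_ : l ≠ k), D l :=
    Submodule.add_mem _ (Submodule.mem_iSup_of_mem i (Submodule.mem_iSup_of_mem (Ne.symm hki) hu))
      (Submodule.mem_iSup_of_mem j (Submodule.mem_iSup_of_mem (Ne.symm hkj) hv))
  have h3 : u + v = 0 := (Submodule.mem_bot F).mp ((disjoint_iff.mp (hD.indep k)).le ⟨h, h2⟩)
  refine hu0 (hdis hij u hu ?_)
  rw [eq_neg_of_add_eq_zero_left h3]
  exact (D j).neg_mem hv

/-! ### Tensor products and powers -/

/-- A transvection in a conjugated reindexed group gives a transvection in the group. -/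
lemma tvec_conj_reindex {κ : Type} [Fintype κ] [DecidableEq κ] (e : ι ≃ κ) (P : GL ι F) {K : Subgroup (GL κ F)}
    {a φ : ι → F} (hφa : φ ⬝ᵥ a = 0) (ha : a ≠ 0) (hφ : φ ≠ 0)
    (hmem : CfsgLib.Geo.tvec a φ hφa ∈ (K.map (glReindex e.symm).toMonoidHom).map (MulAut.conj P).toMonoidHom) :
    ∃ (X : GL κ F) (a' φ' : κ → F), X ∈ K ∧ φ' ⬝ᵥ a' = 0 ∧ a' ≠ 0 ∧ φ' ≠ 0 ∧
      (X : Matrix κ κ F) = 1 + vecMulVec a' φ' := by
  obtain ⟨_, ⟨X, hX, rfl⟩, hv⟩ := hmem
  set b := ((P⁻¹ : GL ι F) : Matrix ι ι F) *ᵥ a with hb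
  set ψ := φ ᵥ* (P : Matrix ι ι F) with hψ
  have hψb : ψ ⬝ᵥ b = 0 := by
    rw [hψ, hb, ← dotProduct_mulVec, mulVec_mulVec, Units.mul_inv, one_mulVec, hφa]
  refine ⟨X, b ∘ e.symm, ψ ∘ e.symm, hX, ?_, ?_, ?_, ?_⟩
  · rw [comp_equiv_dotProduct_comp_equiv]; exact hψb
  · intro h
    refine ha (mulVec_injective_GL (P⁻¹ : GL ι F) (a₁ := a) (a₂ := 0) ?_)
    rw [Matrix.toLin'_apply, Matrix.toLin'_apply, mulVec_zero, ← hb]
    funext i
    simpa using congrFun h (e i)
  · intro h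
    refine hφ ?_
    have h2 : ψ = 0 := funext fun i => by simpa using congrFun h (e i)
    have h3 := congrArg (fun z => z ᵥ* ((P⁻¹ : GL ι F) : Matrix ι ι F)) h2
    simpa only [hψ, vecMul_vecMul, Units.mul_inv, vecMul_one, zero_vecMul] using h3
  · have h1 : (glReindex e.symm).toMonoidHom X = P⁻¹ * CfsgLib.Geo.tvec a φ hφa * P := by
      rw [← hv]; simp [mul_assoc]
    have h2 : (X : Matrix κ κ F).submatrix e e = 1 + vecMulVec b ψ := by
      have h3 := congrArg Units.val h1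
      rw [Units.val_mul, Units.val_mul, CfsgLib.Geo.tvec_val, mul_add, add_mul, mul_one, Units.inv_mul,
        Matrix.mul_vecMulVec, Matrix.vecMulVec_mul] at h3
      exact h3
    ext x y
    have h4 := congrFun (congrFun h2 (e.symm x)) (e.symm y)
    simpa [Matrix.one_apply, vecMulVec_apply] using h4

/-- No transvection preserves a tensor decomposition. -/
lemma tvec_notMem_tensor {n₁ n₂ : ℕ} (h1 : 2 ≤ n₁) (h2 : 2 ≤ n₂) (e : ι ≃ Fin n₁ × Fin n₂) (P : GL ι F)
    {a φ : ι → F} (hφa : φ ⬝ᵥ a = 0) (ha : a ≠ 0) (hφ : φ ≠ 0) :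
    CfsgLib.Geo.tvec a φ hφa ∉ tensorProductSubgroup n₁ n₂ e P := by
  intro hmem
  obtain ⟨X, a', φ', ⟨A, B, hAB⟩, hd, ha', hφ', hX⟩ :=
    tvec_conj_reindex e P (K := kroneckerSubgroup n₁ n₂ F) hφa ha hφ hmem
  obtain ⟨⟨i, k⟩, ⟨i', k'⟩, hne, hnz⟩ := exists_offdiag hd ha' hφ'
  have hent : ∀ x y, x ≠ y → (A : Matrix _ _ F) x.1 y.1 * (B : Matrix _ _ F) x.2 y.2 = a' x * φ' y := fun x y hxy => by
    have h := congrFun (congrFun (hX.symm.trans hAB) x) y
    rw [Matrix.add_apply, Matrix.one_apply_ne hxy, zero_add, vecMulVec_apply] at h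
    exact h.symm
  have h0 := hent _ _ hne
  rw [← h0] at hnz
  obtain ⟨hA, hB⟩ := mul_ne_zero_iff.mp hnz
  by_cases hi : i = i'
  · have hk : k ≠ k' := fun hk => hne (by rw [hi, hk])
    refine not_rank_one (by simpa using h1) A (((B : Matrix _ _ F) k k')⁻¹ • fun l => a' (l, k)) (fun l => φ' (l, k')) ?_
    ext l l'
    rw [vecMulVec_apply, Pi.smul_apply, smul_eq_mul, mul_assoc, ← hent (l, k) (l', k') (fun h => hk (congrArg Prod.snd h))]
    field_simp
  · refine not_rank_one (by simpa using h2) B (((A : Matrix _ _ F) i i')⁻¹ • fun l => a' (i, l)) (fun l => φ' (i', l)) ?_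
    ext l l'
    rw [vecMulVec_apply, Pi.smul_apply, smul_eq_mul, mul_assoc, ← hent (i, l) (i', l') (fun h => hi (congrArg Prod.fst h))]
    field_simp

variable [Fintype F]

/-- The shape of the elements of the standard wreath group. -/
lemma exists_tens_perm {m t : ℕ} {X : GL (Fin t → Fin m) F} (hX : X ∈ tensorWreathStandard m t F) :
    ∃ (a : Fin t → GL (Fin m) F) (σ : Equiv.Perm (Fin t)),
      (X : Matrix _ _ F) = tens (fun i => (a i : Matrix (Fin m) (Fin m) F)) * permMat m σ := by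
  classical
  let S : Submonoid (GL (Fin t → Fin m) F) :=
    { carrier := {g | ∃ (a : Fin t → GL (Fin m) F) (σ : Equiv.Perm (Fin t)),
        (g : Matrix _ _ F) = tens (fun i => (a i : Matrix (Fin m) (Fin m) F)) * permMat m σ}
      one_mem' := ⟨fun _ => 1, 1, by
        rw [show (permMat m (1 : Equiv.Perm (Fin t)) : Matrix _ _ F) = 1 from by
          ext x y; simp [permMat, Matrix.one_apply, eq_comm]]
        simp [tens_one]⟩
      mul_mem' := by
        rintro g g' ⟨a, σ, hg⟩ ⟨b, τ, hg'⟩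
        refine ⟨fun i => a i * b (σ.symm i), τ.trans σ, ?_⟩
        rw [Units.val_mul, hg, hg', mul_assoc, ← mul_assoc (permMat m σ), permMat_mul_tens, mul_assoc, ← mul_assoc,
          tens_mul]
        simp only [Units.val_mul]
        congr 1
        ext x y
        rw [permMat_mul_apply]
        simp [permMat, Function.comp_def]
        congr 1 }
  have hle' : tensorWreathStandard m t F ≤
      { S with
        inv_mem' := fun {a} ha => by
          obtain ⟨k, hk⟩ : ∃ k : ℕ, a⁻¹ = a ^ k := ⟨orderOf a - 1, by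
            have : 0 < orderOf a := orderOf_pos a
            rw [inv_eq_iff_mul_eq_one, ← pow_succ', Nat.sub_add_cancel this, pow_orderOf_eq_one]⟩
          rw [hk]
          exact S.pow_mem ha k } := by
    rw [tensorWreathStandard, Subgroup.closure_le]
    rintro g (⟨a, ha⟩ | ⟨σ, hσ⟩)
    · refine ⟨a, 1, Matrix.ext fun x y => ?_⟩
      rw [mul_permMat_apply, ha]
      rfl
    · refine ⟨fun _ => 1, σ, Matrix.ext fun x y => ?_⟩
      simp only [Units.val_one, tens_one, one_mul]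
      exact hσ x y
  exact hle' hX

/-- No transvection preserves a tensor power, the square of a plane excepted. -/
lemma tvec_notMem_wreath {d t : ℕ} (hd : 2 ≤ d) (ht : 2 ≤ t) (hdt : 3 ≤ d ∨ 3 ≤ t) (e : ι ≃ (Fin t → Fin d))
    (P : GL ι F) {a φ : ι → F} (hφa : φ ⬝ᵥ a = 0) (ha : a ≠ 0) (hφ : φ ≠ 0) :
    CfsgLib.Geo.tvec a φ hφa ∉ tensorWreathSubgroup d t e P := by
  classical
  intro hmem
  obtain ⟨X, a', φ', hXK, hdot, ha', hφ', hX⟩ := tvec_conj_reindex e P (K := tensorWreathStandard d t F) hφa ha hφ hmem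
  obtain ⟨g, σ, hg⟩ := exists_tens_perm hXK
  set ρ := σ.symm with hρ
  set h : Fin t → Matrix (Fin d) (Fin d) F := fun i => (g i : Matrix (Fin d) (Fin d) F)
  have hent : ∀ x y, (1 + vecMulVec a' φ' : Matrix _ _ F) x y = ∏ i, h i (x i) (y (ρ i)) := fun x y => by
    rw [← hX, hg, mul_permMat_apply]
    rfl
  -- one slot varies, the others are fixed
  have hslot : ∀ (j : Fin t) (u w : Fin t → Fin d), (∀ l, l ≠ j → h l (u l) (w l) ≠ 0) →
      ∃ C : F, C ≠ 0 ∧ ∀ p q, C * h j p q =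
        (1 + vecMulVec a' φ' : Matrix _ _ F) (Function.update u j p) (Function.update w j q ∘ ρ.symm) := by
    intro j u w huw
    refine ⟨∏ i ∈ Finset.univ.erase j, h i (u i) (w i), Finset.prod_ne_zero_iff.mpr fun i hi =>
      huw i (Finset.ne_of_mem_erase hi), fun p q => ?_⟩
    rw [hent, ← Finset.mul_prod_erase _ _ (Finset.mem_univ j), mul_comm]
    congr 1
    · simp
    · refine Finset.prod_congr rfl fun i hi => ?_
      simp [Function.update_of_ne (Finset.ne_of_mem_erase hi)]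
  have hone : ∀ (j : Fin t) (u w : Fin t → Fin d), (∀ l, l ≠ j → h l (u l) (w l) ≠ 0) →
      (∀ p q, Function.update u j p ≠ Function.update w j q ∘ ρ.symm) → False := by
    intro j u w huw hne
    obtain ⟨C, hC, hCh⟩ := hslot j u w huw
    refine not_rank_one (by simpa using hd) (g j) (C⁻¹ • fun p => a' (Function.update u j p))
      (fun q => φ' (Function.update w j q ∘ ρ.symm)) ?_
    ext p q
    rw [vecMulVec_apply, Pi.smul_apply, smul_eq_mul, mul_assoc]
    have h1 := hCh p q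
    rw [Matrix.add_apply, Matrix.one_apply_ne (hne p q), zero_add, vecMulVec_apply] at h1
    rw [← h1, ← mul_assoc, inv_mul_cancel₀ hC, one_mul]
  by_cases hρ1 : ρ = 1
  · obtain ⟨x0, y0, hne, hnz⟩ := exists_offdiag hdot ha' hφ'
    have h1 := hent x0 y0
    rw [Matrix.add_apply, Matrix.one_apply_ne hne, zero_add, vecMulVec_apply, hρ1] at h1
    rw [h1, Finset.prod_ne_zero_iff] at hnz
    obtain ⟨i, hi⟩ := Function.ne_iff.mp hne
    obtain ⟨j, hj⟩ : ∃ j, j ≠ i := by
      have : Nontrivial (Fin t) := Fin.nontrivial_iff_two_le.mpr ht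
      exact exists_ne i
    refine hone j x0 y0 (fun l _ => by simpa using hnz l (Finset.mem_univ l)) fun p q hpq => hi ?_
    have h2 := congrFun hpq i
    rw [hρ1] at h2
    simpa [Function.update_of_ne (Ne.symm hj), show (Equiv.symm (1 : Equiv.Perm (Fin t))) i = i from rfl] using h2
  obtain ⟨k, hk⟩ : ∃ k, ρ k ≠ k := by
    by_contra hcon
    push Not at hcon
    exact hρ1 (Equiv.ext hcon)
  set k' := ρ.symm k with hk'
  have hkk : k' ≠ k := fun h0 => hk (by rw [hk'] at h0; conv_lhs => rw [← h0, Equiv.apply_symm_apply])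
  let o : Fin d := ⟨0, by omega⟩
  let l1 : Fin d := ⟨1, by omega⟩
  have hol : l1 ≠ o := by simp [o, l1]
  choose row hrow using fun l p => exists_row_ne (g l) p
  choose col hcol using fun l q => exists_col_ne (g l) q
  set u : Fin t → Fin d := fun l => if l = k' then col l o else if l = k then l1 else o with hu
  set w : Fin t → Fin d := fun l => if l = k' then o else row l (u l) with hw
  have huw : ∀ l, h l (u l) (w l) ≠ 0 := fun l => by
    by_cases hl : l = k'
    · simp only [hw, hu, hl, if_true]; exact hcol _ _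
    · simp only [hw, if_neg hl]; exact hrow _ _
  by_cases hex : ∃ j, j ≠ k ∧ j ≠ k'
  · obtain ⟨j, hjk, hjk'⟩ := hex
    refine hone j u w (fun l _ => huw l) fun p q hpq => hol ?_
    have h2 := congrFun hpq k
    simpa [Function.update_of_ne (Ne.symm hjk), Function.update_of_ne (Ne.symm hjk'), hu, hw, hkk.symm, ← hk']
      using h2
  push Not at hex
  have hd3 : 3 ≤ d := by
    rcases hdt with hd3 | ht3
    · exact hd3
    · exfalso
      have hsub : (Finset.univ : Finset (Fin t)) ⊆ {k, k'} := fun j _ => by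
        by_cases hjk : j = k <;> simp [hjk]
        exact hex j hjk
      have := Finset.card_le_card hsub
      have h2 : ({k, k'} : Finset (Fin t)).card ≤ 2 := Finset.card_le_two
      rw [Finset.card_univ, Fintype.card_fin] at this
      omega
  have hρk' : ρ.symm k' = k := by
    by_contra hcon
    exact hkk (ρ.symm.injective (hex _ hcon))
  obtain ⟨C, hC, hCh⟩ := hslot k' u w (fun l _ => huw l)
  refine not_rank_two (by simpa using hd3) (g k') (C⁻¹ • Pi.single (w k) 1) (Pi.single (u k) 1)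
    (C⁻¹ • fun p => a' (Function.update u k' p)) (fun q => φ' (Function.update w k' q ∘ ρ.symm)) ?_
  ext p q
  have h1 := hCh p q
  have hiff : Function.update u k' p = Function.update w k' q ∘ ρ.symm ↔ p = w k ∧ q = u k := by
    constructor
    · intro h2
      refine ⟨?_, ?_⟩
      · simpa [hρk', Function.update_of_ne hkk.symm] using congrFun h2 k'
      · simpa [← hk', Function.update_of_ne hkk.symm] using (congrFun h2 k).symm
    · rintro ⟨rfl, rfl⟩
      funext l
      by_cases hl : l = k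
      · subst hl; simp [← hk', Function.update_of_ne hkk.symm]
      · obtain rfl := hex l hl
        simp [hρk', Function.update_of_ne hkk.symm]
  simp only [Matrix.add_apply, vecMulVec_apply, Pi.smul_apply, smul_eq_mul, Matrix.one_apply, Pi.single_apply] at h1 ⊢
  rw [show ((g k' : Matrix _ _ F) p q) = C⁻¹ * (C * h k' p q) by rw [← mul_assoc, inv_mul_cancel₀ hC, one_mul], h1,
    mul_add]
  congr 1
  · rw [if_congr hiff rfl rfl]
    by_cases hp : p = w k <;> by_cases hq : q = u k <;> simp [hp, hq]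
  · ring

/-! ### The unitary groups -/

section Unitary

variable {σ : F ≃+* F} {f : (ι → F) → (ι → F) → F}

/-- Some isotropic vector lies outside all members of a decomposition. -/
lemma exists_isotropic_outside (hf : IsUnitaryForm σ f) (hn : 3 ≤ Fintype.card ι) {t m : ℕ}
    {D : Fin t → Submodule F (ι → F)} (hD : IsMDecomposition m D) : ∃ z, f z z = 0 ∧ ∀ i, z ∉ D i := by
  by_contra hcon
  push Not at hcon
  obtain ⟨z, x, hz, hzx⟩ := exists_isotropic_pair hf hn
  obtain ⟨i, hi⟩ := hcon z hz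
  have htop : D i ≠ ⊤ := fun h => by
    have h1 := hD.finrank_eq i
    rw [h, finrank_top, Module.finrank_fintype_fun_eq_card, ← decomposition_card hD] at h1
    have h2 := hD.two_le
    have h3 := hD.pos
    nlinarith
  obtain ⟨w, hw, hwi⟩ : ∃ w, f w w = 0 ∧ w ∉ D i := by
    by_contra hall
    push Not at hall
    exact htop (top_le_iff.mp (CfsgLib.Geo.Unit.mem_of_isotropic hf (S := ⊤) Submodule.mem_top Submodule.mem_top hz hzx
      fun v _ hv => hall v hv))
  obtain ⟨j, hj⟩ := hcon w hw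
  have hij : i ≠ j := fun h => hwi (h ▸ hj)
  obtain ⟨d, hd, hiso⟩ := CfsgLib.Geo.Unit.exists_isotropic_combination hf hz hw
  obtain ⟨k, hk⟩ := hcon _ hiso
  exact add_notMem_decomposition hD hij hi ((D j).smul_mem d hj)
    (fun h => hzx (by rw [h]; exact (isSesq_of_unitary hf).zero_left x))
    (smul_ne_zero hd fun h => hwi (h ▸ Submodule.zero_mem _)) k hk

/-- Every isotropic vector is the centre of a transvection in the special unitary group. -/
lemma exists_tv_at (hf : IsUnitaryForm σ f) {z : ι → F} (hz : f z z = 0) (hz0 : z ≠ 0) :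
    ∃ (φ : ι → F) (h : φ ⬝ᵥ z = 0), φ ≠ 0 ∧ CfsgLib.Geo.tvec z φ h ∈ isoSL f := by
  obtain ⟨c, hc0, hc⟩ := CfsgLib.Geo.Unit.exists_skew hf.ne_refl hf.involutive
  refine ⟨_, CfsgLib.Geo.Unit.tv_dot hf hz c, ?_, tv_mem_isoSL hf hz hc⟩
  rw [Ne, smul_eq_zero]
  rintro (h | h)
  · exact hc0 h
  · exact hz0 (CfsgLib.Geo.Unit.eq_zero_of_axis hf h)

theorem isoSL_not_le_decomposition (hf : IsUnitaryForm σ f) (hn : 3 ≤ Fintype.card ι) {t m : ℕ}
    {D : Fin t → Submodule F (ι → F)} (hD : IsMDecomposition m D) (hm : 2 ≤ m) :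
    ¬ isoSL f ≤ decompositionStabilizer D := by
  obtain ⟨z, hz, hout⟩ := exists_isotropic_outside hf hn hD
  have hz0 : z ≠ 0 := fun h => hout ⟨0, by have := hD.two_le; omega⟩ (h ▸ Submodule.zero_mem _)
  obtain ⟨φ, h, hφ, hmem⟩ := exists_tv_at hf hz hz0
  exact fun hle => tvec_notMem_decomposition hD hm h hout hφ (hle hmem)

theorem isoSL_not_le_tensor (hf : IsUnitaryForm σ f) (hn : 3 ≤ Fintype.card ι) {n₁ n₂ : ℕ} (h1 : 2 ≤ n₁)
    (h2 : 2 ≤ n₂) (e : ι ≃ Fin n₁ × Fin n₂) (P : GL ι F) : ¬ isoSL f ≤ tensorProductSubgroup n₁ n₂ e P := by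
  obtain ⟨a, φ, h, ha, hφ, hmem⟩ := exists_nontrivial_tv hf hn
  exact fun hle => tvec_notMem_tensor h1 h2 e P h ha hφ (hle hmem)

theorem isoSL_not_le_wreath (hf : IsUnitaryForm σ f) (hn : 3 ≤ Fintype.card ι) {d t : ℕ} (hd : 3 ≤ d) (ht : 2 ≤ t)
    (e : ι ≃ (Fin t → Fin d)) (P : GL ι F) : ¬ isoSL f ≤ tensorWreathSubgroup d t e P := by
  obtain ⟨a, φ, h, ha, hφ, hmem⟩ := exists_nontrivial_tv hf hn
  exact fun hle => tvec_notMem_wreath (by omega) ht (Or.inl hd) e P h ha hφ (hle hmem)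

/-- The special unitary group is not realised on a structure of symplectic type. -/
theorem isoSL_not_le_subfield_symplectic (hf : IsUnitaryForm σ f) (hn : 3 ≤ Fintype.card ι) {F₁ : Subfield F}
    (hcard : Fintype.card F = Nat.card F₁ ^ 2) {P : GL ι F} {ζ : F} (hζ : ζ ≠ 0)
    (hP : IsFormRationalStructure f F₁ ζ P)
    (hz : ∀ u : ι → F, (∀ i, u i ∈ F₁) → f ((P : Matrix ι ι F) *ᵥ u) ((P : Matrix ι ι F) *ᵥ u) = 0) :
    ¬ isoSL f ≤ subfieldSubgroup F₁ P := by
  classical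
  intro hle
  have hS := isSesq_of_unitary hf
  have hσ1 : ∀ x ∈ F₁, σ x = x := fun x hx => fixed_of_index_two hf.ne_refl hf.involutive hcard hx
  obtain ⟨d, -, hd⟩ := SetLike.exists_of_lt (lt_top_iff_ne_top.mpr (subfield_ne_top Nat.prime_two hcard))
  -- two orthogonal rational vectors
  have hsing : ∀ i j, (Pi.single i 1 : ι → F) j ∈ F₁ := fun i j => by
    rw [Pi.single_apply]; split
    · exact F₁.one_mem
    · exact F₁.zero_mem
  obtain ⟨k, l, v, hkl, hv, hvk, hvl, hfv⟩ : ∃ (k l : ι) (v : ι → F), k ≠ l ∧ (∀ i, v i ∈ F₁) ∧ v k = 0 ∧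
      v l ≠ 0 ∧ f ((P : Matrix ι ι F) *ᵥ Pi.single k 1) ((P : Matrix ι ι F) *ᵥ v) = 0 := by
    obtain ⟨k, i, j, hki, hkj, hij⟩ := Fintype.two_lt_card_iff.mp (show 2 < Fintype.card ι by omega)
    set ξi := f ((P : Matrix ι ι F) *ᵥ Pi.single k 1) ((P : Matrix ι ι F) *ᵥ Pi.single i 1) with hξi
    set ξj := f ((P : Matrix ι ι F) *ᵥ Pi.single k 1) ((P : Matrix ι ι F) *ᵥ Pi.single j 1) with hξj
    by_cases h0 : ξi = 0
    · exact ⟨k, i, Pi.single i 1, hki, hsing i, by simp [hki], by simp, h0⟩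
    refine ⟨k, j, (ζ * ξj) • (Pi.single i 1 : ι → F) - (ζ * ξi) • Pi.single j 1, hkj, fun p => ?_, ?_, ?_, ?_⟩
    · exact F₁.sub_mem (F₁.mul_mem (hP _ _ (hsing k) (hsing j)) (hsing i p))
        (F₁.mul_mem (hP _ _ (hsing k) (hsing i)) (hsing j p))
    · simp [hki, hkj]
    · simp [Ne.symm hij, hζ, h0]
    · have hright : ∀ u w w', f u (w - w') = f u w - f u w' := fun u w w' => by
        rw [eq_sub_iff_add_eq, ← hS.add_right, sub_add_cancel]
      rw [mulVec_sub, mulVec_smul, mulVec_smul, hright, hS.smul_right, hS.smul_right, ← hξi, ← hξj,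
        hσ1 _ (hP _ _ (hsing k) (hsing j)), hσ1 _ (hP _ _ (hsing k) (hsing i))]
      ring
  set u : ι → F := Pi.single k 1 + d • v with hu
  set z := (P : Matrix ι ι F) *ᵥ u with hzdef
  have hzz : f z z = 0 := by
    simp only [hzdef, hu, mulVec_add, mulVec_smul, hS.add_left, hS.add_right, hS.smul_left, hS.smul_right, hfv,
      (isHerm_of_unitary hf).comm_zero hfv, hz _ (hsing k), hz _ hv, mul_zero, add_zero]
  have huk : u k = 1 := by simp [hu, hvk]
  have hz0 : z ≠ 0 := by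
    intro h
    have h1 := congrArg (fun y => ((P⁻¹ : GL ι F) : Matrix ι ι F) *ᵥ y) h
    simp only [hzdef, CfsgLib.Geo.inv_mulVec_mulVec, mulVec_zero] at h1
    rw [h1] at huk
    exact zero_ne_one huk
  obtain ⟨φ, hφz, hφ, hmem⟩ := exists_tv_at hf hzz hz0
  have hrat := tvec_rational_of_mem_subfield hn hφz (hle hmem)
  rw [hzdef, CfsgLib.Geo.inv_mulVec_mulVec] at hrat
  obtain ⟨j, hj⟩ : ∃ j, (φ ᵥ* (P : Matrix ι ι F)) j ≠ 0 := by
    by_contra h
    push Not at h
    refine hφ ?_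
    have h1 := congrArg (fun y => y ᵥ* ((P⁻¹ : GL ι F) : Matrix ι ι F)) (funext h : φ ᵥ* (P : Matrix ι ι F) = 0)
    simpa only [vecMul_vecMul, Units.mul_inv, vecMul_one, zero_vecMul] using h1
  apply hd
  have h1 := hrat k j
  rw [huk, one_mul] at h1
  have h2 : u l ∈ F₁ := by
    have := F₁.div_mem (hrat l j) h1
    rwa [mul_div_cancel_right₀ _ hj] at this
  rw [show u l = d * v l by simp [hu, hkl]] at h2
  have := F₁.div_mem h2 (hv l)
  rwa [mul_div_cancel_right₀ _ hvl] at this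

end Unitary

/-! ### The symplectic groups -/

section Symplectic

variable {m : ℕ}

lemma J_mulVec_ne_zero {v : Fin m ⊕ Fin m → F} (hv : v ≠ 0) : Matrix.J (Fin m) F *ᵥ v ≠ 0 := fun h => hv (by
  have hu := (Matrix.isUnit_iff_isUnit_det _).mpr (Matrix.isUnit_det_J (Fin m) F)
  exact Matrix.mulVec_injective_of_isUnit hu (by rw [h, mulVec_zero]))

/-- The symplectic transvections as transvections. -/
lemma sp_tvec_mem (v : Fin m ⊕ Fin m → F) (c : F) :
    ∃ h : (c • (Matrix.J (Fin m) F *ᵥ v)) ⬝ᵥ v = 0,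
      CfsgLib.Geo.tvec v (c • (Matrix.J (Fin m) F *ᵥ v)) h ∈ Cfsg.spGL m F := by
  have hvv : Cfsg.sympForm m F v v = 0 := by
    simp [Cfsg.sympForm, Matrix.J, dotProduct, mulVec, Fintype.sum_sum_type, Matrix.one_apply, mul_comm]
  refine ⟨by rw [smul_dotProduct, dotProduct_comm]; exact by simp [show v ⬝ᵥ (Matrix.J (Fin m) F *ᵥ v) = 0 from hvv],
    ?_⟩
  convert CfsgLib.Geo.SpTv.stv_mem v c using 1
  refine CfsgLib.Geo.gl_ext_mulVec fun x => ?_
  rw [CfsgLib.Geo.tvec_mulVec, CfsgLib.Geo.SpTv.stv_mulVec, smul_dotProduct, dotProduct_comm]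
  rfl

lemma exists_sp_tv (hm : 1 ≤ m) :
    ∃ (a φ : Fin m ⊕ Fin m → F) (h : φ ⬝ᵥ a = 0), a ≠ 0 ∧ φ ≠ 0 ∧ CfsgLib.Geo.tvec a φ h ∈ Cfsg.spGL m F := by
  have hv : (Pi.single (Sum.inl ⟨0, hm⟩) 1 : Fin m ⊕ Fin m → F) ≠ 0 := by simp
  obtain ⟨h, hmem⟩ := sp_tvec_mem (Pi.single (Sum.inl ⟨0, hm⟩) 1 : Fin m ⊕ Fin m → F) (1 : F)
  exact ⟨_, _, h, hv, by rw [one_smul]; exact J_mulVec_ne_zero hv, hmem⟩

theorem spGL_not_le_decomposition {t k : ℕ} {D : Fin t → Submodule F (Fin m ⊕ Fin m → F)} (hD : IsMDecomposition k D)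
    (hk : 2 ≤ k) : ¬ Cfsg.spGL m F ≤ decompositionStabilizer D := by
  let i : Fin t := ⟨0, by have := hD.two_le; omega⟩
  let j : Fin t := ⟨1, by have := hD.two_le; omega⟩
  have hne : ∀ l, D l ≠ ⊥ := fun l h => by
    have := hD.finrank_eq l
    rw [h, finrank_bot] at this
    omega
  obtain ⟨u, hu, hu0⟩ := (D i).ne_bot_iff.mp (hne i)
  obtain ⟨v, hv, hv0⟩ := (D j).ne_bot_iff.mp (hne j)
  have hout := add_notMem_decomposition hD (show i ≠ j by simp [i, j]) hu hv hu0 hv0
  obtain ⟨h, hmem⟩ := sp_tvec_mem (u + v) (1 : F)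
  refine fun hle => tvec_notMem_decomposition hD hk h hout ?_ (hle hmem)
  rw [one_smul]
  exact J_mulVec_ne_zero fun h0 => hout i (h0 ▸ Submodule.zero_mem _)

theorem spGL_not_le_tensor (hm : 1 ≤ m) {n₁ n₂ : ℕ} (h1 : 2 ≤ n₁) (h2 : 2 ≤ n₂)
    (e : (Fin m ⊕ Fin m) ≃ Fin n₁ × Fin n₂) (P : GL (Fin m ⊕ Fin m) F) :
    ¬ Cfsg.spGL m F ≤ tensorProductSubgroup n₁ n₂ e P := by
  obtain ⟨a, φ, h, ha, hφ, hmem⟩ := exists_sp_tv (F := F) hm
  exact fun hle => tvec_notMem_tensor h1 h2 e P h ha hφ (hle hmem)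

theorem spGL_not_le_wreath (hm : 1 ≤ m) {d t : ℕ} (hd : 2 ≤ d) (ht : 3 ≤ t)
    (e : (Fin m ⊕ Fin m) ≃ (Fin t → Fin d)) (P : GL (Fin m ⊕ Fin m) F) :
    ¬ Cfsg.spGL m F ≤ tensorWreathSubgroup d t e P := by
  obtain ⟨a, φ, h, ha, hφ, hmem⟩ := exists_sp_tv (F := F) hm
  exact fun hle => tvec_notMem_wreath hd (by omega) (Or.inr ht) e P h ha hφ (hle hmem)

theorem spGL_not_le_field (hm : 2 ≤ m) {r : ℕ} (hr : 2 ≤ r)
    {K : Subalgebra F (Matrix (Fin m ⊕ Fin m) (Fin m ⊕ Fin m) F)} (hK : IsFieldSubalgebra r K) :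
    ¬ Cfsg.spGL m F ≤ subalgebraNormalizer K := by
  obtain ⟨a, φ, h, ha, hφ, hmem⟩ := exists_sp_tv (F := F) (show 1 ≤ m by omega)
  exact fun hle => tvec_notMem_subalgebraNormalizer (by simp; omega) hr hK h ha hφ (hle hmem)

theorem spGL_not_le_normalizer (hm : 3 ≤ m) {R : Subgroup (GL (Fin m ⊕ Fin m) F)}
    (hRi : ActsAbsolutelyIrreducibly (matrixSet R)) (hcl : ⁅R, R⁆ ≤ scalars (Fin m ⊕ Fin m) F) :
    ¬ Cfsg.spGL m F ≤ subgroupNormalizer R := by
  obtain ⟨a, φ, h, ha, hφ, hmem⟩ := exists_sp_tv (F := F) (show 1 ≤ m by omega)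
  exact fun hle => tvec_notMem_normalizer (by simp; omega) hRi hcl h ha hφ (hle hmem)

theorem spGL_not_le_subfield (hm : 2 ≤ m) {F₁ : Subfield F} (h1 : F₁ ≠ ⊤) (P : GL (Fin m ⊕ Fin m) F) :
    ¬ Cfsg.spGL m F ≤ subfieldSubgroup F₁ P := by
  intro hle
  set v : Fin m ⊕ Fin m → F := Pi.single (Sum.inl ⟨0, by omega⟩) 1 with hv
  have hv0 : v ≠ 0 := by simp [hv]
  set a := ((P⁻¹ : GL (Fin m ⊕ Fin m) F) : Matrix (Fin m ⊕ Fin m) (Fin m ⊕ Fin m) F) *ᵥ v with ha
  set ψ := (Matrix.J (Fin m) F *ᵥ v) ᵥ* (P : Matrix (Fin m ⊕ Fin m) (Fin m ⊕ Fin m) F) with hψ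
  obtain ⟨i, hi⟩ : ∃ i, a i ≠ 0 := Function.ne_iff.mp fun h => hv0 (mulVec_injective_GL (P⁻¹ : GL (Fin m ⊕ Fin m) F) (a₁ := v) (a₂ := 0)
    (by rw [Matrix.toLin'_apply, Matrix.toLin'_apply, mulVec_zero, ← ha]; exact h))
  obtain ⟨j, hj⟩ : ∃ j, ψ j ≠ 0 := Function.ne_iff.mp fun h => J_mulVec_ne_zero hv0 (by
    have h2 := congrArg (fun z => z ᵥ* ((P⁻¹ : GL (Fin m ⊕ Fin m) F) : Matrix (Fin m ⊕ Fin m) (Fin m ⊕ Fin m) F)) h
    simpa only [hψ, vecMul_vecMul, Units.mul_inv, vecMul_one, zero_vecMul, ← Pi.zero_def] using h2)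
  have key : ∀ c : F, c * (a i * ψ j) ∈ F₁ := fun c => by
    obtain ⟨h, hmem⟩ := sp_tvec_mem v c
    have h2 := tvec_rational_of_mem_subfield (by simp; omega) h (hle hmem) i j
    rw [Matrix.smul_vecMul, Pi.smul_apply, smul_eq_mul, ← ha, ← hψ, mul_left_comm] at h2
    exact h2
  refine h1 (top_le_iff.mp fun c _ => ?_)
  have h3 := F₁.div_mem (key c) (key 1)
  rwa [one_mul, mul_div_cancel_right₀ _ (mul_ne_zero hi hj)] at h3

end Symplectic

end CfsgLib.Aschbacher
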