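import Cfsg.Agent.Aschbacher.Form.Symplectic

/-!
Aschbacher's theorem for the standard symplectic group.
-/
set_option autoImplicit false

namespace CfsgLib.Aschbacher

open Matrix Cfsg Cfsg.Geo
open scoped MatrixGroups

variable {F : Type*} [Field F]

/-- The standard alternating form is symplectic. -/
lemma isSymplecticForm_sympForm (m : ℕ) : IsSymplecticForm (Cfsg.sympForm m F) := by
  refine isSymplecticForm_formOf ((Matrix.isUnit_iff_isUnit_det _).mpr (Matrix.isUnit_det_J _ _))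
    (Matrix.J_transpose _ _) fun v => ?_
  simp [Matrix.J, dotProduct, mulVec, Fintype.sum_sum_type, Matrix.one_apply, mul_comm]

/-- Subgroups of the symplectic group lie in a geometric member or are residual. -/
theorem symplectic_class [Fintype F] (m : ℕ) (hm : 2 ≤ m) (H : Subgroup (GL (Fin m ⊕ Fin m) F))
    (hH : H ≤ Cfsg.spGL m F) :
    (∃ M, InSymplecticClass m F M ∧ H ≤ M) ∨ InSymplecticResidualClass H := by
  have hfix : FixesForm (matrixSet H) (Cfsg.sympForm m F) := fun s hs u v => by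
    obtain ⟨g, hg, rfl⟩ := hs
    exact hH hg u v
  have hcard : Fintype.card (Fin m ⊕ Fin m) = 2 * m := by
    rw [Fintype.card_sum, Fintype.card_fin]; omega
  have key : ∀ X, H ≤ X → H ≤ X ⊓ Cfsg.spGL m F := fun X h => le_inf h hH
  rcases symplectic_structure (isSymplecticForm_sympForm m) (by omega) hfix with
    ⟨W, h0, hW, hG⟩ | ⟨W, h0, hW, hd, hG⟩ | ⟨t, k, D, hD, hG⟩ | ⟨k, D, ho, hk, hD, hts, hG⟩ |
    ⟨r, K, hr, hK, hsa, hz, hG⟩ | ⟨K, ho, hK, hac, hsa, hG⟩ | ⟨n₁, n₂, e, P, f₁, f₂, ho, -, h3, hf₁, hf₂, hT, hG⟩ |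
    ⟨F₀, r, P, ζ, hr, hc, hζ, hP, hG⟩ | ⟨R, p, k, h1, h2, h3, h4, h5, h6, h7, h8, h9, -, -, hG⟩ |
    ⟨k, t, e, P, f₁, ho, hto, ht, -, hex, hf₁, hT, hG⟩ | ⟨ho, Q, hQ, hQf, hG⟩ | h
  · exact Or.inl ⟨_, Or.inl (Or.inl ⟨W, h0, hW, rfl⟩), key _ hG⟩
  · exact Or.inl ⟨_, Or.inl (Or.inr (Or.inl ⟨W, h0, hW, by omega, rfl⟩)), key _ hG⟩
  · exact Or.inl ⟨_, Or.inl (Or.inr (Or.inr (Or.inl ⟨t, k, D, hD, rfl⟩))), key _ hG⟩
  · obtain rfl : k = m := by omega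
    exact Or.inl ⟨_, Or.inl (Or.inr (Or.inr (Or.inr (Or.inl ⟨D, ho, hD, hts, rfl⟩)))), key _ hG⟩
  · exact Or.inl ⟨_, Or.inr (Or.inl ⟨r, K, hr, hK, hsa, hz, rfl⟩), key _ hG⟩
  · exact Or.inl ⟨_, Or.inr (Or.inr (Or.inl ⟨K, ho, hK, hac, hsa, rfl⟩)), key _ hG⟩
  · exact Or.inl ⟨_, Or.inr (Or.inr (Or.inr (Or.inl ⟨n₁, n₂, e, P, f₁, f₂, ho, h3, hf₁, hf₂, hT, rfl⟩))), key _ hG⟩
  · exact Or.inl ⟨_, Or.inl (Or.inr (Or.inr (Or.inr (Or.inr (Or.inl ⟨F₀, r, P, ζ, hr, hc, hζ, hP, rfl⟩))))), key _ hG⟩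
  · exact Or.inl ⟨_, Or.inl (Or.inr (Or.inr (Or.inr (Or.inr (Or.inr (Or.inl
      ⟨R, p, k, h1, h2, h3, h4, h5, h6, h7, h8, h9, rfl⟩)))))), key _ hG⟩
  · exact Or.inl ⟨_, Or.inr (Or.inr (Or.inr (Or.inr ⟨k, t, e, P, f₁, ho, hto, ht, hex, hf₁, hT, rfl⟩))), key _ hG⟩
  · exact Or.inl ⟨_, Or.inl (Or.inr (Or.inr (Or.inr (Or.inr (Or.inr (Or.inr ⟨Q, ho, hQ, hQf, rfl⟩)))))), key _ hG⟩
  · exact Or.inr h

end CfsgLib.Aschbacher
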