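import Cfsg.Prelude.Def_GeometricClasses
import Mathlib.Data.ZMod.Basic
import Mathlib.GroupTheory.Perm.Closure
import Mathlib.Tactic

/-!
The central product of a cyclic group of order four and an extraspecial group of order thirty-two, with its
monomial realisation in dimension four.
-/
set_option autoImplicit false

namespace CfsgLib.Aschbacher.CP

/-- The central product: a power of the central element, a sign character and a translation. -/
@[ext]
structure E where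
  /-- the central exponent -/
  c : ZMod 4
  /-- the sign character -/
  a : Fin 4
  /-- the translation -/
  b : Fin 4
deriving DecidableEq

instance : Fintype E :=
  Fintype.ofEquiv (ZMod 4 × Fin 4 × Fin 4)
    { toFun := fun p => ⟨p.1, p.2.1, p.2.2⟩, invFun := fun x => (x.c, x.a, x.b),
      left_inv := fun _ => rfl, right_inv := fun _ => rfl }

/-- Addition of two pairs of bits. -/
def add : Fin 4 → Fin 4 → Fin 4 := ![![0, 1, 2, 3], ![1, 0, 3, 2], ![2, 3, 0, 1], ![3, 2, 1, 0]]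
/-- The pairing, doubled. -/
def chi : Fin 4 → Fin 4 → ZMod 4 := ![![0, 0, 0, 0], ![0, 0, 2, 2], ![0, 2, 0, 2], ![0, 2, 2, 0]]

lemma add_assoc' : ∀ a b c, add (add a b) c = add a (add b c) := by decide +kernel
lemma add_comm' : ∀ a b, add a b = add b a := by decide +kernel
lemma chi_add_left : ∀ a a' b, chi (add a a') b = chi a b + chi a' b := by decide +kernel
lemma chi_add_right : ∀ a b b', chi a (add b b') = chi a b + chi a b' := by decide +kernel

instance : Mul E := ⟨fun x y => ⟨x.c + y.c + chi y.a x.b, add x.a y.a, add x.b y.b⟩⟩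
instance : One E := ⟨⟨0, 0, 0⟩⟩
instance : Inv E := ⟨fun x => ⟨-x.c - chi x.a x.b, x.a, x.b⟩⟩

lemma mul_def (x y : E) : x * y = ⟨x.c + y.c + chi y.a x.b, add x.a y.a, add x.b y.b⟩ := rfl

instance : Group E where
  mul_assoc x y z := by
    simp only [mul_def, add_assoc', E.ext_iff, and_true, chi_add_left, chi_add_right]
    ring
  one_mul := by decide +kernel
  mul_one := by decide +kernel
  inv_mul_cancel := by decide +kernel

lemma card_E : Nat.card E = 64 := by rw [Nat.card_eq_fintype_card]; decide +kernel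

lemma pow_four : ∀ x : E, (x * x) * (x * x) = 1 := by decide +kernel

lemma exponent_E : Monoid.exponent E = 4 := by
  obtain ⟨k, hk, h⟩ := (Nat.dvd_prime_pow Nat.prime_two).mp
    (show Monoid.exponent E ∣ 2 ^ 2 from Monoid.exponent_dvd_of_forall_pow_eq_one fun x => by
      simpa [pow_succ, mul_assoc] using pow_four x)
  have hne : (⟨1, 0, 0⟩ : E) ^ 2 ≠ 1 := by rw [sq]; decide +kernel
  have := Monoid.pow_exponent_eq_one (⟨1, 0, 0⟩ : E)
  interval_cases k
  · rw [h] at this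
    exact absurd this (by decide +kernel)
  · rw [h] at this
    exact absurd this hne
  · exact h

lemma mem_center_iff' : ∀ x : E, (∀ y, y * x = x * y) ↔ x.a = 0 ∧ x.b = 0 := by decide +kernel

lemma card_center : Nat.card (Subgroup.center E) = 4 := by
  have h : ∀ x, x ∈ Subgroup.center E ↔ x.a = 0 ∧ x.b = 0 := fun x => by
    rw [Subgroup.mem_center_iff]
    exact mem_center_iff' x
  rw [Nat.card_congr (Equiv.subtypeEquivRight h), Nat.card_eq_fintype_card]
  decide +kernel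

lemma commutator_ab : ∀ x y : E, (x * y * x⁻¹ * y⁻¹).a = 0 ∧ (x * y * x⁻¹ * y⁻¹).b = 0 := by decide +kernel

/-- The index of a pair in the tables. -/
def pos (a b : Fin 4) : Fin 16 := ⟨(a.val * 4 + b.val) % 16, Nat.mod_lt _ (by norm_num)⟩
/-- The table of the first automorphism. -/
def tab₁ : Fin 16 → E := ![⟨0, 0, 0⟩, ⟨2, 1, 0⟩, ⟨3, 3, 1⟩, ⟨1, 2, 1⟩, ⟨2, 2, 0⟩, ⟨0, 3, 0⟩, ⟨1, 1, 1⟩, ⟨3, 0, 1⟩, ⟨2, 2, 2⟩, ⟨2, 3, 2⟩, ⟨3, 1, 3⟩, ⟨3, 0, 3⟩, ⟨0, 0, 2⟩, ⟨0, 1, 2⟩, ⟨1, 3, 3⟩, ⟨1, 2, 3⟩]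
/-- The table of the second automorphism. -/
def tab₂ : Fin 16 → E := ![⟨0, 0, 0⟩, ⟨0, 3, 0⟩, ⟨3, 2, 3⟩, ⟨3, 1, 3⟩, ⟨0, 3, 3⟩, ⟨0, 0, 3⟩, ⟨1, 1, 0⟩, ⟨1, 2, 0⟩, ⟨0, 1, 1⟩, ⟨2, 2, 1⟩, ⟨1, 3, 2⟩, ⟨3, 0, 2⟩, ⟨2, 2, 2⟩, ⟨0, 1, 2⟩, ⟨1, 0, 1⟩, ⟨3, 3, 1⟩]
/-- The map with a given table, fixing the central element. -/
def ext' (T : Fin 16 → E) (x : E) : E := ⟨x.c, 0, 0⟩ * T (pos x.a x.b)

lemma central_mul : ∀ (c c' : ZMod 4), (⟨c, 0, 0⟩ : E) * ⟨c', 0, 0⟩ = ⟨c + c', 0, 0⟩ := by decide +kernel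
lemma central_comm : ∀ (c : ZMod 4) (x : E), x * ⟨c, 0, 0⟩ = ⟨c, 0, 0⟩ * x := by decide +kernel

lemma ext'_mul (T : Fin 16 → E) (hT : ∀ a b a' b', T (pos a b) * T (pos a' b') =
    ⟨chi a' b, 0, 0⟩ * T (pos (add a a') (add b b'))) (x y : E) : ext' T (x * y) = ext' T x * ext' T y := by
  calc ext' T (x * y) = ⟨x.c, 0, 0⟩ * ⟨y.c, 0, 0⟩ * (T (pos x.a x.b) * T (pos y.a y.b)) := by
        rw [hT, ← mul_assoc, central_mul, central_mul]; rfl
    _ = ext' T x * ext' T y := by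
        simp only [ext', mul_assoc]
        rw [← mul_assoc (⟨y.c, 0, 0⟩ : E), ← central_comm y.c (T (pos x.a x.b)), mul_assoc]

lemma tab₁_mul (x y : E) : ext' tab₁ (x * y) = ext' tab₁ x * ext' tab₁ y := ext'_mul _ (by decide +kernel) x y
lemma tab₂_mul (x y : E) : ext' tab₂ (x * y) = ext' tab₂ x * ext' tab₂ y := ext'_mul _ (by decide +kernel) x y
lemma tab₁_inj : ∀ x : E, ext' tab₁ x = 1 → x = 1 := by decide +kernel
lemma tab₂_inj : ∀ x : E, ext' tab₂ x = 1 → x = 1 := by decide +kernel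
lemma moved : ∀ x : E, ¬ (x.a = 0 ∧ x.b = 0) →
    x * ext' tab₁ x ≠ ext' tab₁ x * x ∨ x * ext' tab₂ x ≠ ext' tab₂ x * x := by decide +kernel

/-- The automorphism with a given table. -/
noncomputable def autOf (T : Fin 16 → E) (hm : ∀ x y, ext' T (x * y) = ext' T x * ext' T y)
    (hi : ∀ x, ext' T x = 1 → x = 1) : E ≃* E :=
  MulEquiv.ofBijective (MonoidHom.mk' (ext' T) hm)
    (Finite.injective_iff_bijective.mp ((injective_iff_map_eq_one _).mpr hi))

lemma cyclic_of_characteristic (A : Subgroup E) (hA : A.Characteristic) (hAc : IsMulCommutative A) : IsCyclic A := by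
  have hc : ∀ x ∈ A, ∀ y ∈ A, x * y = y * x := fun x hx y hy =>
    congrArg Subtype.val (hAc.is_comm.comm ⟨x, hx⟩ ⟨y, hy⟩)
  have hle : A ≤ Subgroup.center E := by
    intro x hx
    rw [Subgroup.mem_center_iff]
    refine (mem_center_iff' x).mpr ?_
    by_contra hne
    have himg : ∀ φ : E ≃* E, φ x ∈ A := fun φ => by
      have h := hA.fixed φ
      rw [← h] at hx
      exact hx
    rcases moved x hne with h | h
    · exact h (hc x hx _ (himg (autOf tab₁ tab₁_mul tab₁_inj)))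
    · exact h (hc x hx _ (himg (autOf tab₂ tab₂_mul tab₂_inj)))
  have : IsCyclic (Subgroup.center E) := by
    refine ⟨⟨⟨⟨1, 0, 0⟩, Subgroup.mem_center_iff.mpr ((mem_center_iff' _).mpr ⟨rfl, rfl⟩)⟩, ?_⟩⟩
    have hgen : ∀ x : E, x.a = 0 ∧ x.b = 0 → x = 1 ∨ x = ⟨1, 0, 0⟩ ∨ x = ⟨1, 0, 0⟩ * ⟨1, 0, 0⟩ ∨
        x = ⟨1, 0, 0⟩ * ⟨1, 0, 0⟩ * ⟨1, 0, 0⟩ := by decide +kernel
    intro x
    rcases hgen _ ((mem_center_iff' _).mp (Subgroup.mem_center_iff.mp x.2)) with h | h | h | h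
    · exact ⟨0, Subtype.ext (by simp [h])⟩
    · exact ⟨1, Subtype.ext (by simp [h])⟩
    · exact ⟨2, Subtype.ext (by rw [Subgroup.coe_zpow, h]; exact zpow_two _)⟩
    · exact ⟨3, Subtype.ext (by rw [Subgroup.coe_zpow, h, zpow_ofNat, pow_succ, sq])⟩
  exact isCyclic_of_injective (Subgroup.inclusion hle) (Subgroup.inclusion_injective hle)

/-- The exponent in a column of the monomial matrix of an element. -/
def ex (x : E) (k : Fin 4) : ZMod 4 := x.c + chi x.a (add k x.b)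

/-- The character read off from two differences. -/
def rd (d₁ d₂ : ZMod 4) : Fin 4 :=
  if d₁ = 0 then (if d₂ = 0 then 0 else 1) else (if d₂ = 0 then 2 else 3)

lemma ex_mul (x y : E) (k : Fin 4) : ex (x * y) k = ex y k + ex x (add k y.b) := by
  simp only [ex, mul_def, chi_add_left, chi_add_right, add_assoc', add_comm' x.b y.b]
  have h : ∀ a b : Fin 4, chi a b + chi a b = 0 := by decide +kernel
  linear_combination h y.a x.b

lemma orthogonal : ∀ j i : Fin 4, (∑ a : Fin 4, if chi a j + chi a i = 0 then (1 : ℤ) else -1) = if j = i then 4 else 0 := by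
  decide +kernel

/-- A diagonal matrix with exponents of even sum normalises the translations. -/
lemma diag_normal : ∀ e₀ e₁ e₂ e₃ : ZMod 4, (e₀ + e₁ + e₂ + e₃) * 2 = 0 → ∀ b : Fin 4, ∃ c a, ∀ k,
    ![e₀, e₁, e₂, e₃] (add k b) - ![e₀, e₁, e₂, e₃] k = c + chi a (add k b) := by decide +kernel

/-- The adjacent transpositions normalise the group. -/
lemma swap_normal : ∀ i : Fin 3, ∀ x : E, ∃ y : E,
    (∀ k, Equiv.swap i.castSucc i.succ (add k x.b) = add (Equiv.swap i.castSucc i.succ k) y.b) ∧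
      ∀ k, ex x k = ex y (Equiv.swap i.castSucc i.succ k) := by decide +kernel

/-- Every permutation of the four points normalises the group. -/
lemma perm_normal (π : Equiv.Perm (Fin 4)) (x : E) :
    ∃ y : E, (∀ k, π (add k x.b) = add (π k) y.b) ∧ ∀ k, ex x k = ex y (π k) := by
  have hmem : π ∈ Submonoid.closure (Set.range fun i : Fin 3 => Equiv.swap i.castSucc i.succ) := by
    rw [Equiv.Perm.mclosure_swap_castSucc_succ 3]; exact Submonoid.mem_top π
  induction hmem using Submonoid.closure_induction generalizing x with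
  | mem σ hσ => obtain ⟨i, rfl⟩ := hσ; exact swap_normal i x
  | one => exact ⟨x, fun _ => rfl, fun _ => rfl⟩
  | mul σ τ _ _ hs ht =>
    obtain ⟨y, hy1, hy2⟩ := ht x
    obtain ⟨z, hz1, hz2⟩ := hs y
    exact ⟨z, fun k => by rw [Equiv.Perm.mul_apply, hy1, hz1, Equiv.Perm.mul_apply],
      fun k => by rw [hy2, hz2, Equiv.Perm.mul_apply]⟩

/-- A monomial matrix whose exponents have even sum normalises the group. -/
lemma monomial_normal (π : Equiv.Perm (Fin 4)) (e : Fin 4 → ZMod 4) (he : (e 0 + e 1 + e 2 + e 3) * 2 = 0) (x : E) :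
    ∃ y : E, (∀ k, π (add k x.b) = add (π k) y.b) ∧ ∀ k, ex x k + e (add k x.b) = e k + ex y (π k) := by
  obtain ⟨c, a, hca⟩ := diag_normal _ _ _ _ he x.b
  obtain ⟨y, hy1, hy2⟩ := perm_normal π ⟨x.c + c, add x.a a, x.b⟩
  refine ⟨y, hy1, fun k => ?_⟩
  have he' : ![e 0, e 1, e 2, e 3] = e := by funext i; fin_cases i <;> rfl
  have h1 := hca k
  rw [he'] at h1
  rw [← hy2, show ex ⟨x.c + c, add x.a a, x.b⟩ k = x.c + c + chi (add x.a a) (add k x.b) from rfl, chi_add_left, ex]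
  linear_combination h1

end CfsgLib.Aschbacher.CP
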