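import Cfsg.Agent.Aschbacher.Form.Tensor
import Cfsg.Agent.Aschbacher.General.ClassTwoCases
import Cfsg.Agent.Aschbacher.UnitaryRational

/-!
A minimal non-scalar normal subgroup of class two of a clean group of isometries.
-/
set_option autoImplicit false
set_option maxHeartbeats 1000000

namespace CfsgLib.Aschbacher

open Matrix Cfsg.Geo CfsgLib.GeoClifford
open scoped MatrixGroups commutatorElement

variable {ι : Type} [Fintype ι] [DecidableEq ι] {F : Type*} [Field F] [Fintype F]

/-- Scalar elements of the group of the coordinates. -/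
lemma ClassTwoData.mem_span_rep {N : Subgroup (GL ι F)} {r z : ℕ} {ζ : F} (hd : ClassTwoData N r z ζ)
    {F₀ : Subfield F} (hζ : ζ ∈ F₀) {a : GL ι F} (ha : a ∈ N) :
    (a : Matrix ι ι F) ∈ Submodule.span F₀
      (Set.range fun q : N ⧸ Subgroup.center N => ((q.out : N).1 : Matrix ι ι F)) := by
  set q : N ⧸ Subgroup.center N := QuotientGroup.mk ⟨a, ha⟩
  have hc : (q.out : N)⁻¹ * ⟨a, ha⟩ ∈ Subgroup.center N := QuotientGroup.eq.mp (QuotientGroup.out_eq' q)
  obtain ⟨i, hi⟩ := hd.scalar _ (SetLike.coe_mem _) (Subgroup.mem_subgroupOf.mp (hd.center_eq.le hc))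
  have e1 : (a : Matrix ι ι F) = (⟨ζ ^ i, pow_mem hζ i⟩ : F₀) • ((q.out : N).1 : Matrix ι ι F) := by
    calc (a : Matrix ι ι F) = ((q.out.1 * (q.out.1⁻¹ * a) : GL ι F) : Matrix ι ι F) := by rw [mul_inv_cancel_left]
      _ = _ := by
        rw [Units.val_mul]
        show _ * (((q.out : N)⁻¹ * ⟨a, ha⟩ : N) : GL ι F).val = _
        rw [hi, mul_smul_comm, mul_one]
        rfl
  rw [e1]
  exact Submodule.smul_mem _ _ (Submodule.subset_span ⟨q, rfl⟩)

/-- A class-two group is realised over every field containing the eigenvalues of its centre. -/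
theorem ClassTwoData.realisable [Nonempty ι] {N : Subgroup (GL ι F)} {r z : ℕ} {ζ : F}
    (habs : ActsAbsolutelyIrreducibly (matrixSet N)) (hd : ClassTwoData N r z ζ) (hz : 0 < z)
    (F₀ : Subfield F) (hζ : ζ ∈ F₀) : RealisableOver F₀ (matrixSet N) := by
  classical
  letI := Fintype.ofFinite (N ⧸ Subgroup.center N)
  let rep : N ⧸ Subgroup.center N → Matrix ι ι F := fun q => ((q.out : N).1 : Matrix ι ι F)
  have hli : LinearIndependent F rep := hd.coset_li
  have hquot : Fintype.card (N ⧸ Subgroup.center N) = Fintype.card ι * Fintype.card ι := by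
    have h1 := Subgroup.card_eq_card_quotient_mul_card_subgroup (Subgroup.center N)
    rw [hd.card, hd.card_center, Nat.card_eq_fintype_card, mul_comm, sq] at h1
    exact (Nat.eq_of_mul_eq_mul_right hz h1).symm
  set A : Subalgebra F₀ (Matrix ι ι F) := Algebra.adjoin F₀ (matrixSet N) with hA
  have hclos : ∀ Y ∈ Submonoid.closure (matrixSet N), ∃ a ∈ N, (a : Matrix ι ι F) = Y := by
    intro Y hY
    induction hY using Submonoid.closure_induction with
    | mem x hx => exact hx
    | one => exact ⟨1, N.one_mem, rfl⟩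
    | mul x y _ _ hx hy =>
      obtain ⟨a, ha, rfl⟩ := hx
      obtain ⟨b, hb, rfl⟩ := hy
      exact ⟨a * b, N.mul_mem ha hb, rfl⟩
  have hAspan : Subalgebra.toSubmodule A ≤ Submodule.span F₀ (Set.range rep) := by
    rw [hA, Algebra.adjoin_eq_span]
    refine Submodule.span_le.mpr fun Y hY => ?_
    obtain ⟨a, ha, rfl⟩ := hclos Y hY
    exact hd.mem_span_rep hζ ha
  have hfull : ∀ X : Matrix ι ι F, X ∈ Submodule.span F (A : Set (Matrix ι ι F)) := by
    intro X
    have hX := mem_adjoin_of_absIrred habs X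
    rw [← Subalgebra.mem_toSubmodule, Algebra.adjoin_eq_span] at hX
    exact Submodule.span_mono (fun Y hY => Submonoid.closure_le (S := A.toSubsemiring.toSubmonoid).mpr
      Algebra.subset_adjoin hY) hX
  have hdimA : Module.finrank F₀ A ≤ Fintype.card ι * Fintype.card ι := by
    rw [← hquot]
    exact (Submodule.finrank_mono hAspan).trans (finrank_range_le_card rep)
  have hsimp : IsSimpleRing A := by
    refine IsSimpleRing.of_eq_bot_or_eq_top fun I => or_iff_not_imp_left.mpr fun hI => ?_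
    let IS : Submodule F₀ (Matrix ι ι F) :=
      { carrier := {Y | ∃ x : A, x ∈ I ∧ (x : Matrix ι ι F) = Y}
        add_mem' := fun {a b} ⟨x, hx, hxa⟩ ⟨y, hy, hyb⟩ => ⟨x + y, I.add_mem hx hy, by rw [← hxa, ← hyb]; rfl⟩
        zero_mem' := ⟨0, I.zero_mem, rfl⟩
        smul_mem' := fun c Y ⟨x, hx, hxY⟩ => ⟨c • x, by
          rw [Algebra.smul_def]; exact I.mul_mem_left _ _ hx, by rw [← hxY]; rfl⟩ }
    let S : Set (Matrix ι ι F) := (fun x : A => (x : Matrix ι ι F)) '' {x | x ∈ I}
    let J : Submodule F (Matrix ι ι F) := Submodule.span F S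
    have hleft : ∀ X, ∀ Y ∈ J, X * Y ∈ J := by
      intro X Y hY
      induction hY using Submodule.span_induction with
      | mem Y hY =>
        obtain ⟨y, hy, rfl⟩ := hY
        have := hfull X
        induction this using Submodule.span_induction with
        | mem X hX => exact Submodule.subset_span ⟨⟨X, hX⟩ * y, I.mul_mem_left _ _ hy, rfl⟩
        | zero => rw [zero_mul]; exact J.zero_mem
        | add a b _ _ ha hb => rw [add_mul]; exact J.add_mem ha hb
        | smul c a _ ha => rw [smul_mul_assoc]; exact J.smul_mem c ha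
      | zero => rw [mul_zero]; exact J.zero_mem
      | add a b _ _ ha hb => rw [mul_add]; exact J.add_mem ha hb
      | smul c a _ ha => rw [mul_smul_comm]; exact J.smul_mem c ha
    have hright : ∀ X, ∀ Y ∈ J, Y * X ∈ J := by
      intro X Y hY
      induction hY using Submodule.span_induction with
      | mem Y hY =>
        obtain ⟨y, hy, rfl⟩ := hY
        have := hfull X
        induction this using Submodule.span_induction with
        | mem X hX => exact Submodule.subset_span ⟨y * ⟨X, hX⟩, I.mul_mem_right _ _ hy, rfl⟩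
        | zero => rw [mul_zero]; exact J.zero_mem
        | add a b _ _ ha hb => rw [mul_add]; exact J.add_mem ha hb
        | smul c a _ ha => rw [mul_smul_comm]; exact J.smul_mem c ha
      | zero => rw [zero_mul]; exact J.zero_mem
      | add a b _ _ ha hb => rw [add_mul]; exact J.add_mem ha hb
      | smul c a _ ha => rw [smul_mul_assoc]; exact J.smul_mem c ha
    let J' : TwoSidedIdeal (Matrix ι ι F) := TwoSidedIdeal.mk' (J : Set (Matrix ι ι F)) J.zero_mem
      (fun h h' => J.add_mem h h') (fun h => J.neg_mem h) (fun h => hleft _ _ h) (fun h => hright _ _ h)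
    have hJ' : J' ≠ ⊥ := by
      intro h0
      apply hI
      refine le_antisymm (fun x hx => ?_) bot_le
      have : (x : Matrix ι ι F) ∈ J' := (TwoSidedIdeal.mem_mk' _ _ _ _ _ _ _).mpr (Submodule.subset_span ⟨x, hx, rfl⟩)
      rw [h0, TwoSidedIdeal.mem_bot] at this
      rw [TwoSidedIdeal.mem_bot]
      exact Subtype.ext this
    have hJtop : J = ⊤ := by
      have h := (IsSimpleRing.simple.eq_bot_or_eq_top J').resolve_left hJ'
      refine eq_top_iff.mpr fun X _ => ?_
      have : X ∈ J' := by rw [h]; trivial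
      exact (TwoSidedIdeal.mem_mk' _ _ _ _ _ _ _).mp this
    have hle : Module.finrank F J ≤ Module.finrank F₀ IS := by
      let b := Module.finBasis F₀ IS
      have hsub : J ≤ Submodule.span F (Set.range fun j => (b j : Matrix ι ι F)) := by
        refine Submodule.span_le.mpr ?_
        rintro _ ⟨y, hy, rfl⟩
        have hmem : (y : Matrix ι ι F) ∈ IS := ⟨y, hy, rfl⟩
        have h := congrArg Subtype.val (b.sum_repr ⟨_, hmem⟩)
        simp only [AddSubmonoidClass.coe_finsetSum, Submodule.coe_smul_of_tower] at h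
        show (y : Matrix ι ι F) ∈ _
        rw [← h]
        refine Submodule.sum_mem _ fun j _ => ?_
        show ((b.repr ⟨_, hmem⟩ j : F₀) : F) • (b j : Matrix ι ι F) ∈ _
        exact Submodule.smul_mem _ _ (Submodule.subset_span ⟨j, rfl⟩)
      exact (Submodule.finrank_mono hsub).trans ((finrank_range_le_card _).trans (Fintype.card_fin _).le)
    rw [hJtop, finrank_top, Module.finrank_matrix, Module.finrank_self, mul_one] at hle
    have hIS : IS = Subalgebra.toSubmodule A := Submodule.eq_of_le_of_finrank_le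
      (fun Y ⟨x, _, hxY⟩ => hxY ▸ x.2) (hdimA.trans hle)
    obtain ⟨x, hx, hx1⟩ : (1 : Matrix ι ι F) ∈ IS := hIS ▸ A.one_mem
    refine (TwoSidedIdeal.one_mem_iff I).mp ?_
    rwa [show x = 1 from Subtype.ext hx1] at hx
  obtain ⟨k, _, D, _, _, _, ⟨φ⟩⟩ := IsSimpleRing.exists_algEquiv_matrix_divisionRing_finite F₀ A
  have hDf : Finite D := Module.finite_of_finite F₀
  have hcomm : ∀ x y : D, x * y = y * x := fun x y => by
    let := littleWedderburn D
    exact mul_comm x y
  have hcen : ∀ Y : Matrix ι ι F, (∀ X ∈ A, X * Y = Y * X) → ∃ c : F, Y = c • (1 : Matrix ι ι F) := fun Y hY =>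
    habs.2 Y (forall_matrixSet.mpr fun n hn => (hY _ (Algebra.subset_adjoin (coe_mem_matrixSet hn))).symm)
  have hsurj : Function.Surjective (algebraMap F₀ D) := by
    intro x
    set w : A := φ.symm (Matrix.scalar (Fin k) x) with hw
    obtain ⟨c, hc⟩ := hcen (w : Matrix ι ι F) fun X hX => by
      have h : φ ⟨X, hX⟩ * Matrix.scalar (Fin k) x = Matrix.scalar (Fin k) x * φ ⟨X, hX⟩ :=
        ((Matrix.scalar_commute x (fun r => hcomm x r) _).eq).symm
      have h' := congrArg (fun M => ((φ.symm M : A) : Matrix ι ι F)) h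
      simpa [hw] using h'
    have hcF : c ∈ F₀ := by
      obtain ⟨a, ha⟩ := (Submodule.mem_span_range_iff_exists_fun F₀).mp (hAspan w.2)
      obtain ⟨b, hb⟩ := (Submodule.mem_span_range_iff_exists_fun F₀).mp (hd.mem_span_rep hζ N.one_mem)
      have h0 : ∑ q, ((a q : F) - c * (b q : F)) • rep q = 0 := by
        simp only [sub_smul, Finset.sum_sub_distrib, mul_smul, ← Finset.smul_sum]
        rw [show ∑ q, (a q : F) • rep q = c • (1 : Matrix ι ι F) from (show _ = _ from ha).trans hc,
          show ∑ q, (b q : F) • rep q = (1 : Matrix ι ι F) from hb, sub_self]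
      obtain ⟨q, hq⟩ : ∃ q, (b q : F) ≠ 0 := by
        by_contra hcon
        push Not at hcon
        apply one_ne_zero (α := Matrix ι ι F)
        rw [show (1 : Matrix ι ι F) = ∑ q, (b q : F) • rep q from hb.symm]
        simp [hcon]
      have := Fintype.linearIndependent_iff.mp hli _ h0 q
      rw [show c = (a q : F) / (b q : F) from (eq_div_iff hq).mpr (sub_eq_zero.mp this).symm]
      exact F₀.div_mem (a q).2 (b q).2
    refine ⟨⟨c, hcF⟩, ?_⟩
    have h1 : w = algebraMap F₀ A ⟨c, hcF⟩ := Subtype.ext (hc.trans (Algebra.algebraMap_eq_smul_one c).symm)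
    have h2 := congrArg φ h1
    rw [hw, φ.apply_symm_apply, φ.commutes] at h2
    have hk0 : 0 < k := Nat.pos_of_ne_zero (NeZero.ne k)
    have h3 := congrFun (congrFun h2 ⟨0, hk0⟩) ⟨0, hk0⟩
    rw [Matrix.scalar_apply, Matrix.diagonal_apply_eq, Matrix.algebraMap_matrix_apply, if_pos rfl] at h3
    exact h3.symm
  let E : Fin k → Fin k → Matrix ι ι F := fun a b => ((φ.symm (Matrix.single a b 1) : A) : Matrix ι ι F)
  have hE : IsMUnits E := by
    refine ⟨fun a b c c' => ?_, ?_⟩
    · simp only [E]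
      rw [← MulMemClass.coe_mul, ← map_mul]
      by_cases h : b = c
      · subst h; rw [if_pos rfl, Matrix.single_mul_single_same, mul_one]
      · rw [if_neg h, Matrix.single_mul_single_of_ne _ _ _ _ h, map_zero, ZeroMemClass.coe_zero]
    · simp only [E]
      rw [← AddSubmonoidClass.coe_finsetSum, ← map_sum]
      have : (∑ a : Fin k, Matrix.single a a (1 : D)) = 1 := by
        ext a b
        simp [Matrix.sum_apply, Matrix.single_apply, Matrix.one_apply, eq_comm, ite_and]
      rw [this, map_one, OneMemClass.coe_one]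
  have hexp : ∀ X : A, ∃ M : Matrix (Fin k) (Fin k) F, (∀ a b, M a b ∈ F₀) ∧ (X : Matrix ι ι F) = hE.emb M := by
    intro X
    choose m hm using fun a b => hsurj (φ X a b)
    refine ⟨fun a b => (m a b : F), fun a b => (m a b).2, ?_⟩
    have hsum : φ X = ∑ a, ∑ b, m a b • Matrix.single a b (1 : D) := by
      conv_lhs => rw [Matrix.matrix_eq_sum_single (φ X)]
      refine Finset.sum_congr rfl fun a _ => Finset.sum_congr rfl fun b _ => ?_
      rw [Matrix.smul_single, Algebra.smul_def, mul_one, hm]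
    have h := congrArg (fun M => ((φ.symm M : A) : Matrix ι ι F)) hsum
    simp only [φ.symm_apply_apply, map_sum, map_smul, AddSubmonoidClass.coe_finsetSum, SetLike.val_smul] at h
    rw [h]
    rfl
  obtain ⟨e, P, hP⟩ := hE.exists_coords_full fun Y hY => hcen Y fun X hX => by
    obtain ⟨M, -, hM⟩ := hexp ⟨X, hX⟩
    rw [show X = hE.emb M from hM]
    simp only [IsMUnits.emb, Finset.sum_mul, Finset.mul_sum, smul_mul_assoc, mul_smul_comm, hY]
  refine ⟨P⁻¹, forall_matrixSet.mpr fun n hn i j => ?_⟩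
  obtain ⟨M, hM0, hM⟩ := hexp ⟨_, Algebra.subset_adjoin (coe_mem_matrixSet hn)⟩
  rw [inv_inv, show (n : Matrix ι ι F) = hE.emb M from hM, hP]
  exact hM0 _ _

/-- A form fixed by an irreducible group is zero or non-degenerate. -/
lemma isUnit_of_fixed {N : Subgroup (GL ι F)} (hirr : ActsIrreducibly (matrixSet N)) {B : Matrix ι ι F} (hB0 : B ≠ 0)
    (hfix : ∀ g ∈ N, (g : Matrix ι ι F)ᵀ * B * (g : Matrix ι ι F) = B) : IsUnit B := by
  rw [← Matrix.mulVec_injective_iff_isUnit]
  by_contra hni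
  have hker : LinearMap.ker (Matrix.toLin' B) ≠ ⊥ := by
    rw [Ne, LinearMap.ker_eq_bot]
    intro hi
    exact hni fun v w h => hi (by simpa using h)
  have htop := eq_top_of_invariant hirr _ hker (fun g hg v hv => by
    rw [LinearMap.mem_ker, Matrix.toLin'_apply] at hv ⊢
    have hd : IsUnit ((g : Matrix ι ι F)ᵀ) := (Matrix.isUnit_transpose _).mpr g.isUnit
    refine Matrix.mulVec_injective_iff_isUnit.mpr hd ?_
    rw [mulVec_mulVec, mulVec_mulVec, mulVec_zero, hfix g hg, hv])
  rw [LinearMap.ker_eq_top] at htop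
  exact hB0 ((Matrix.toLin').map_eq_zero_iff.mp htop)

/-- The class-two subgroup is of symplectic type. -/
lemma isSymplecticTypeGroup_of_classTwo [Nonempty ι] {H N : Subgroup (GL ι F)} (hclean : Clean H) (hN : NormSub H N)
    {r z : ℕ} {ζ : F} (hd : ClassTwoData N r z ζ) : IsSymplecticTypeGroup r N := by
  refine ⟨hd.prime, hd.pGroup, ?_, hd.exponent_eq⟩
  intro A hA hAc
  have hAZ : A ≤ Subgroup.center N := by
    rw [hd.center_eq]
    intro a ha
    rw [Subgroup.mem_subgroupOf]
    by_contra has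
    have hMn := normSub_map_of_characteristic hN A
    have hMabs := hclean _ hMn (fun h => has (h ⟨a, ha, rfl⟩))
    obtain ⟨d, hd'⟩ := hMabs.2 (a.1 : Matrix ι ι F) (forall_matrixSet.mpr fun b hb => by
      obtain ⟨b', hb', rfl⟩ := hb
      simpa using congrArg (fun w : A => ((w.1.1 : GL ι F) : Matrix ι ι F))
        (hAc.is_comm.comm ⟨a, ha⟩ ⟨b', hb'⟩))
    exact has (mem_scalars_of_eq_smul hd')
  have : IsCyclic (Subgroup.center N) := by
    have : IsCyclic (scalars ι F) := isCyclic_of_surjective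
      (Units.map (Matrix.scalar ι : F →+* Matrix ι ι F).toMonoidHom).rangeRestrict
      (MonoidHom.rangeRestrict_surjective _)
    let φ : Subgroup.center N →* scalars ι F :=
      ((N.subtype).comp (Subgroup.center N).subtype).codRestrict (scalars ι F)
        fun a => Subgroup.mem_subgroupOf.mp (hd.center_eq.le a.2)
    exact isCyclic_of_injective φ fun a b h =>
      Subtype.ext (Subtype.ext (congrArg (fun x : scalars ι F => (x : GL ι F)) h))
  exact isCyclic_of_injective (Subgroup.inclusion hAZ) (Subgroup.inclusion_injective hAZ)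

/-- A group with a large elementary abelian subgroup fixes the identity matrix in suitable coordinates. -/
theorem exists_symm_fixed_of_plus [Nonempty ι] {N : Subgroup (GL ι F)} (hirr : ActsIrreducibly (matrixSet N))
    {k : ℕ} (hk : Fintype.card ι = 2 ^ k) (hN : Nat.card N = 2 ^ (1 + 2 * k)) {ζ : F}
    (hζ : IsPrimitiveRoot ζ 2) {A : Subgroup N} (hA : IsMulCommutative A) (hA2 : ∀ x ∈ A, x * x = 1)
    (hAcard : 2 ^ (k + 1) ≤ Nat.card A) :
    ∃ B : Matrix ι ι F, IsUnit B ∧ Bᵀ = B ∧ ∀ g ∈ N, (g : Matrix ι ι F)ᵀ * B * (g : Matrix ι ι F) = B := by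
  classical
  obtain ⟨v, hv0, hv⟩ := exists_common_eigenvector two_pos hζ
    ((Finset.univ : Finset A).image fun a : A => (((a.1 : N) : GL ι F) : Matrix ι ι F))
    (by
      intro x hx
      obtain ⟨a, -, rfl⟩ := Finset.mem_image.mp hx
      rw [← Units.val_pow_eq_pow_val, ← SubgroupClass.coe_pow, sq, hA2 _ a.2]
      rfl)
    (by
      intro x hx y hy
      obtain ⟨a, -, rfl⟩ := Finset.mem_image.mp hx
      obtain ⟨b, -, rfl⟩ := Finset.mem_image.mp hy
      rw [← Units.val_mul, ← Units.val_mul]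
      exact congrArg (fun w : A => (((w.1 : N) : GL ι F) : Matrix ι ι F)) (hA.is_comm.comm a b))
  have hvA : ∀ a ∈ A, ∃ j : ℕ, ((a : GL ι F) : Matrix ι ι F) *ᵥ v = ζ ^ j • v := fun a ha =>
    hv _ (Finset.mem_image.mpr ⟨⟨a, ha⟩, Finset.mem_univ _, rfl⟩)
  let w : N ⧸ A → (ι → F) := fun q => ((q.out : N).1 : Matrix ι ι F) *ᵥ v
  have hmove : ∀ (g : N) (q : N ⧸ A), ∃ (q' : N ⧸ A) (j : ℕ),
      ((g.1 : GL ι F) : Matrix ι ι F) *ᵥ w q = ζ ^ j • w q' := by
    intro g q
    set y : N := g * q.out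
    refine ⟨QuotientGroup.mk y, ?_⟩
    have hmem : (QuotientGroup.mk (s := A) y).out⁻¹ * y ∈ A := QuotientGroup.eq.mp (QuotientGroup.out_eq' _)
    obtain ⟨j, hj⟩ := hvA _ hmem
    refine ⟨j, ?_⟩
    show _ *ᵥ (_ *ᵥ v) = _ • (_ *ᵥ v)
    rw [← mulVec_smul, ← hj, mulVec_mulVec, mulVec_mulVec, ← Units.val_mul, ← Units.val_mul]
    congr 2
    simp [y]
  have hwne : ∀ q, w q ≠ 0 := fun q h => hv0 (mulVec_injective_GL q.out.1 (a₁ := v) (a₂ := 0) (by
    rw [Matrix.toLin'_apply, Matrix.toLin'_apply, mulVec_zero]; exact h))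
  have hspan : Submodule.span F (Set.range w) = ⊤ := by
    refine eq_top_of_invariant hirr _ ?_ ?_
    · intro h
      exact hwne (QuotientGroup.mk 1) (Submodule.span_eq_bot.mp h _ ⟨_, rfl⟩)
    · intro g hg u hu
      induction hu using Submodule.span_induction with
      | mem x hx =>
        obtain ⟨q, rfl⟩ := hx
        obtain ⟨q', j, hj⟩ := hmove ⟨g, hg⟩ q
        rw [show ((g : Matrix ι ι F)) *ᵥ w q = ζ ^ j • w q' from hj]
        exact Submodule.smul_mem _ _ (Submodule.subset_span ⟨q', rfl⟩)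
      | zero => simp
      | add x y _ _ hx hy => rw [mulVec_add]; exact Submodule.add_mem _ hx hy
      | smul c x _ hx => rw [mulVec_smul]; exact Submodule.smul_mem _ _ hx
  letI := Fintype.ofFinite (N ⧸ A)
  have hcard : Fintype.card (N ⧸ A) = Fintype.card ι := by
    refine le_antisymm ?_ ?_
    · have h1 := Subgroup.card_eq_card_quotient_mul_card_subgroup A
      rw [hN, Nat.card_eq_fintype_card (α := N ⧸ A)] at h1
      rw [hk]
      refine Nat.le_of_mul_le_mul_right (c := 2 ^ (k + 1)) ?_ (pow_pos two_pos _)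
      calc Fintype.card (N ⧸ A) * 2 ^ (k + 1) ≤ Fintype.card (N ⧸ A) * Nat.card A := Nat.mul_le_mul_left _ hAcard
        _ = 2 ^ (1 + 2 * k) := h1.symm
        _ = _ := by rw [← pow_add]; congr 1; omega
    · have := finrank_range_le_card (R := F) w
      rw [Set.finrank, hspan, finrank_top, Module.finrank_fintype_fun_eq_card] at this
      exact this
  let e : ι ≃ N ⧸ A := Fintype.equivOfCardEq hcard.symm
  have hli : LinearIndependent F (w ∘ e) := linearIndependent_of_top_le_span_of_card_eq_finrank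
    (by rw [Set.range_comp, e.surjective.range_eq, Set.image_univ, hspan])
    (by rw [Module.finrank_fintype_fun_eq_card])
  have hPu : IsUnit (Matrix.of fun r i => w (e i) r : Matrix ι ι F) :=
    Matrix.linearIndependent_cols_iff_isUnit.mp hli
  set P : GL ι F := hPu.unit
  have hPs : ∀ i, (P : Matrix ι ι F) *ᵥ Pi.single i 1 = w (e i) := by
    intro i; ext r; simp [P, IsUnit.unit_spec]
  set Q : Matrix ι ι F := ((P⁻¹ : GL ι F) : Matrix ι ι F) with hQ
  refine ⟨Qᵀ * Q, ((Matrix.isUnit_transpose _).mpr (P⁻¹).isUnit).mul (P⁻¹).isUnit, ?_, fun g hg => ?_⟩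
  · rw [transpose_mul, transpose_transpose]
  choose j c hjc using fun i => hmove ⟨g, hg⟩ (e i)
  set M : Matrix ι ι F := Matrix.of fun r i => if r = e.symm (j i) then ζ ^ c i else 0 with hM
  have hQg : Q * (g : Matrix ι ι F) = M * Q := by
    have h1 : (g : Matrix ι ι F) * (P : Matrix ι ι F) = (P : Matrix ι ι F) * M := by
      apply Matrix.ext_of_mulVec_single
      intro i
      have hMi : M *ᵥ Pi.single i 1 = ζ ^ c i • Pi.single (e.symm (j i)) 1 := by
        ext r; simp [hM, Pi.single_apply]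
      rw [← mulVec_mulVec, hPs, ← mulVec_mulVec, hMi, mulVec_smul, hPs, Equiv.apply_symm_apply]
      exact hjc i
    calc Q * (g : Matrix ι ι F) = Q * ((g : Matrix ι ι F) * (P : Matrix ι ι F)) * Q := by
          rw [hQ]; simp [mul_assoc]
      _ = _ := by rw [h1, hQ]; simp [mul_assoc]
  have hMu : IsUnit M := by
    have h1 : M = Q * (g : Matrix ι ι F) * (P : Matrix ι ι F) := by rw [hQg, hQ]; simp [mul_assoc]
    rw [h1]
    exact ((P⁻¹).isUnit.mul g.isUnit).mul P.isUnit
  have hMM : Mᵀ * M = 1 := by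
    ext i l
    simp only [Matrix.mul_apply, transpose_apply, hM, Matrix.of_apply, Matrix.one_apply]
    by_cases hil : i = l
    · subst hil
      rw [if_pos rfl, Finset.sum_eq_single (e.symm (j i)) (fun b _ hb => by simp [hb]) (by simp), if_pos rfl,
        ← pow_add, ← two_mul, pow_mul, hζ.pow_eq_one, one_pow]
    · rw [if_neg hil]
      refine Finset.sum_eq_zero fun r _ => ?_
      by_cases h1 : r = e.symm (j i)
      · by_cases h2 : r = e.symm (j l)
        · exfalso
          have hz : M *ᵥ (ζ ^ c l • Pi.single i (1 : F) - ζ ^ c i • Pi.single l (1 : F)) = 0 := by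
            ext s
            simp [hM, mulVec_sub, mulVec_smul, ← h1, ← h2]
            split <;> ring
          have h0 := Matrix.mulVec_injective_iff_isUnit.mpr hMu (hz.trans (mulVec_zero M).symm)
          have := congrFun h0 i
          simp [Pi.single_apply, hil, hζ.ne_zero two_ne_zero] at this
        · simp [h2]
      · simp [h1]
  calc (g : Matrix ι ι F)ᵀ * (Qᵀ * Q) * (g : Matrix ι ι F) = (Q * (g : Matrix ι ι F))ᵀ * (Q * (g : Matrix ι ι F)) := by
        rw [transpose_mul]; simp only [mul_assoc]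
    _ = Qᵀ * (Mᵀ * M) * Q := by rw [hQg, transpose_mul]; simp only [mul_assoc]
    _ = _ := by rw [hMM, mul_one]

namespace IsRefl

variable {σ : F ≃+* F} {ε : F} {f : (ι → F) → (ι → F) → F}

omit [Fintype F] in
/-- A multiple of the form is hermitian. -/
lemma exists_hermitian (hf : IsRefl σ ε f) [Nonempty ι] (hσ : σ ≠ RingEquiv.refl F) :
    ∃ c : F, c ≠ 0 ∧ IsUnitaryForm σ (fun u v => c * f u v) := by
  have hε := hf.eps_norm
  obtain ⟨α, hα⟩ : ∃ α, σ α ≠ α := by
    by_contra h
    push Not at h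
    exact hσ (RingEquiv.ext h)
  obtain ⟨c, hc0, hc⟩ : ∃ c : F, c ≠ 0 ∧ c * ε = σ c := by
    have hy : ∀ y, (y + σ ε * σ y) * ε = σ (y + σ ε * σ y) := fun y => by
      rw [map_add, map_mul, hf.invol, hf.invol]
      linear_combination σ y * hε
    by_cases h1 : 1 + σ ε * σ 1 = 0
    · refine ⟨α + σ ε * σ α, fun h => hα ?_, hy α⟩
      rw [map_one, mul_one] at h1
      linear_combination σ α * h1 - h
    · exact ⟨_, h1, hy 1⟩
  refine ⟨c, hc0, hσ, hf.invol, fun x y v => by simp only [hf.sesq.add_left, mul_add], fun a x v => by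
    simp only [hf.sesq.smul_left]; ring, fun v w => ?_, fun v hv => ?_⟩
  · simp only [map_mul]
    rw [hf.swap w v, ← mul_assoc, hc]
  · obtain ⟨⟨x, hx⟩, y, hy⟩ := hf.nd v hv
    exact ⟨⟨x, mul_ne_zero hc0 hx⟩, y, mul_ne_zero hc0 hy⟩

/-- The outcomes for a class-two minimal normal subgroup of a clean group of isometries. -/
theorem classTwo_form_cases (hf : IsRefl σ ε f) (hn : 3 ≤ Fintype.card ι) {H N : Subgroup (GL ι F)}
    (hfix : FixesForm (matrixSet H) f) (hclean : Clean H) (hN : NormSub H N) (hNs : ¬ N ≤ scalars ι F)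
    (hmin : ∀ M, NormSub H M → M ≤ N → ¬ M ≤ scalars ι F → M = N) (hcl : ⁅N, N⁆ ≤ scalars ι F)
    (hkind : σ ≠ RingEquiv.refl F ∨ ε = -1 ∨ Odd (Fintype.card ι)) :
    (∃ F₀ : Subfield F, F₀ ≠ ⊤ ∧ RealisableOver F₀ (matrixSet N)) ∨
    (σ = RingEquiv.refl F ∧ ε = -1 ∧ ∃ p k : ℕ, p.Prime ∧ Odd p ∧ Fintype.card F = p ∧ IsSymplecticTypeGroup 2 N ∧
      Nat.card N = 2 ^ (1 + 2 * k) ∧ Nat.card (Subgroup.center N) = 2 ∧ IsOfMinusType k N ∧
      ⁅N, N⁆ ≤ scalars ι F ∧ Fintype.card ι = 2 ^ k) ∨
    (σ ≠ RingEquiv.refl F ∧ ∃ r p e k : ℕ, IsSymplecticTypeGroup r N ∧ r ≠ p ∧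
      IsMinimalFieldFor (Nat.card (Subgroup.center N)) p e F ∧
      ((Odd r ∧ Nat.card (Subgroup.center N) = r ∧ 1 ≤ k ∧ Nat.card N = r ^ (1 + 2 * k)) ∨
       (r = 2 ∧ e = 2 ∧ Nat.card (Subgroup.center N) = 4 ∧ Nat.card N = 2 ^ (2 + 2 * k))) ∧
      ⁅N, N⁆ ≤ scalars ι F ∧ Fintype.card ι = r ^ k) := by
  classical
  have : Nonempty ι := Fintype.card_pos_iff.mp (by omega)
  have habs := hclean _ hN hNs
  obtain ⟨r, z, ζ, hd⟩ := exists_classTwoData (by omega) hclean hN hNs hmin hcl
  have : Fact r.Prime := ⟨hd.prime⟩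
  have hST := isSymplecticTypeGroup_of_classTwo hclean hN hd
  have hfixN : FixesForm (matrixSet N) f := fun s hs => by
    obtain ⟨a, ha, rfl⟩ := hs
    exact hfix _ (coe_mem_matrixSet (hN.1 ha))
  obtain ⟨p, hchar⟩ := CharP.exists F
  obtain ⟨fd, hp, hF⟩ := FiniteField.card F p
  have : Fact p.Prime := ⟨hp⟩
  have hz0 : 0 < z := by
    rcases hd.order with ⟨-, h⟩ | ⟨-, h⟩ | ⟨-, h⟩
    · rw [h]; exact hd.prime.pos
    all_goals omega
  have hprop : ∀ F₀ : Subfield F, Nat.card F₀ < Fintype.card F → F₀ ≠ ⊤ := fun F₀ h htop => by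
    rw [htop, Nat.card_congr Subfield.topEquiv.toEquiv, Nat.card_eq_fintype_card] at h
    exact lt_irrefl _ h
  obtain ⟨m, hm1, hm⟩ := hd.degree
  by_cases hσ : σ = RingEquiv.refl F
  · subst hσ
    have hsq : ∀ a : Subgroup.center N, ∃ c : F, (c = 1 ∨ c = -1) ∧
        ((a.1.1 : GL ι F) : Matrix ι ι F) = c • (1 : Matrix ι ι F) := by
      intro a
      obtain ⟨c, hc⟩ := (mem_scalars_iff _).mp (Subgroup.mem_subgroupOf.mp (hd.center_eq.le a.2))
      refine ⟨c, mul_self_eq_one_iff.mp ?_, hc⟩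
      obtain ⟨i⟩ := ‹Nonempty ι›
      obtain ⟨⟨x, hx⟩, -⟩ := hf.nd (Pi.single i 1) (fun h => one_ne_zero (α := F) (by simpa using congrFun h i))
      have h := hfixN _ (coe_mem_matrixSet a.1.2) x (Pi.single i 1)
      rw [hc, smul_mulVec, smul_mulVec, one_mulVec, one_mulVec, hf.sesq.smul_left, hf.sesq.smul_right,
        RingEquiv.refl_apply, ← mul_assoc] at h
      exact (mul_eq_right₀ hx).mp h
    choose c hc hca using hsq
    have hz2 : z = 2 := by
      have hinj : Function.Injective fun a => (decide (c a = 1)) := by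
        intro a b hab
        have hcc : c a = c b := by
          simp only [decide_eq_decide] at hab
          rcases hc a with h | h <;> rcases hc b with h' | h'
          · rw [h, h']
          · rw [h, hab.mp h]
          · rw [hab.mpr h', h']
          · rw [h, h']
        refine Subtype.ext (Subtype.ext (Units.ext ?_))
        rw [hca, hca, hcc]
      have hle := Nat.card_le_card_of_injective _ hinj
      rw [hd.card_center, Nat.card_eq_fintype_card, Fintype.card_bool] at hle
      rcases hd.order with ⟨ho, h⟩ | ⟨-, h⟩ | ⟨-, h⟩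
      · have := hd.prime.two_le
        exact le_antisymm hle (h ▸ this)
      all_goals omega
    subst hz2
    have hr2 : r = 2 := by
      rcases hd.order with ⟨ho, h⟩ | ⟨h, -⟩ | ⟨h, -⟩
      · exact h.symm
      all_goals exact h
    subst hr2
    have hε : ε = -1 := by
      rcases hkind with h | h | h
      · exact absurd rfl h
      · exact h
      · rw [hm] at h
        exact absurd h (Nat.not_odd_iff_even.mpr (even_two.pow_of_ne_zero (by omega)))
    have h2 : (2 : F) ≠ 0 := by
      intro h2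
      have h1 := hd.primitive.pow_eq_one
      refine hd.primitive.ne_one (by norm_num) ?_
      have : (ζ - 1) * (ζ - 1) = 0 := by linear_combination h1 + (1 - ζ) * h2
      exact sub_eq_zero.mp (mul_self_eq_zero.mp this)
    by_cases hf1 : (fd : ℕ) = 1
    swap
    · left
      obtain ⟨F₀, hF0, -⟩ := exists_subfield_card hp hF (m := 1) (one_dvd _) one_pos
      have hζ : ζ ∈ F₀ := by
        rcases sq_eq_one_iff.mp hd.primitive.pow_eq_one with h | h
        · rw [h]; exact F₀.one_mem
        · rw [h]; exact F₀.neg_mem F₀.one_mem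
      refine ⟨F₀, hprop _ ?_, hd.realisable habs two_pos F₀ hζ⟩
      rw [hF0, hF]
      exact Nat.pow_lt_pow_right hp.one_lt (lt_of_le_of_ne fd.pos (Ne.symm hf1))
    rw [hf1, pow_one] at hF
    have hpodd : Odd p := hF ▸ odd_card_iff_two_ne_zero.mpr h2
    have hcardN : Nat.card N = 2 ^ (1 + 2 * m) := by rw [hd.card, hm]; ring
    refine Or.inr (Or.inl ⟨rfl, hε, p, m, hp, hpodd, hF, hST, hcardN, hd.card_center, fun A hA hA2 => ?_, hcl, hm⟩)
    by_contra hcon
    push Not at hcon
    obtain ⟨B, hBu, hBs, hB⟩ := exists_symm_fixed_of_plus habs.1 hm hcardN hd.primitive hA hA2 hcon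
    have hmap : ∀ M : Matrix ι ι F, M.map (RingEquiv.refl F) = M := fun M => by ext i j; rfl
    obtain ⟨a, ha⟩ := gram_unique (σ := RingEquiv.refl F) (A := B) (B := gramMatrix f) habs hBu
      (forall_matrixSet.mpr fun g hg => by rw [hmap]; exact hB g hg)
      (forall_matrixSet.mpr fun g hg => (fixes_iff hf.sesq _).mp (fun u v => hfixN _ (coe_mem_matrixSet hg) u v))
    have h1 := hf.gram_transpose
    rw [hmap, hε, ha, transpose_smul, hBs, neg_one_smul] at h1
    have h3 : (2 * a) • B = 0 := by rw [two_mul, add_smul]; nth_rewrite 1 [h1]; rw [neg_add_cancel]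
    rcases smul_eq_zero.mp h3 with h4 | h4
    · rcases mul_eq_zero.mp h4 with h5 | h5
      · exact h2 h5
      · rw [h5, zero_smul] at ha
        exact (gram_isUnit hf.sesq hf.nd).ne_zero ha
    · exact hBu.ne_zero h4
  -- unitary
  by_cases hz2 : z = 2
  · subst hz2
    obtain ⟨B, hB0, hB⟩ := exists_fixed_bilinear hd
    have hBu := isUnit_of_fixed habs.1 hB0 hB
    have hmap : ∀ M : Matrix ι ι F, M.map (RingEquiv.refl F) = M := fun M => by ext i j; rfl
    obtain ⟨c, -, hg⟩ := hf.exists_hermitian hσ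
    exact Or.inl ⟨fixSubfield σ, fixSubfield_ne_top hσ, realisable_of_two_forms habs hg
      (fun s hs u v => congrArg (c * ·) (hfixN s hs u v)) (isBilinearForm_formOf B) (nondegenerate_formOf _ hBu)
      (fixesForm_formOf _ (forall_matrixSet.mpr fun x hx => by rw [hmap]; exact hB x hx))⟩
  have : NeZero z := ⟨by omega⟩
  set e := orderOf (p : ZMod z) with he
  have hcast : ∀ d, (p : ZMod z) ^ d = 1 ↔ z ∣ p ^ d - 1 := by
    intro d
    rw [← ZMod.natCast_eq_zero_iff, Nat.cast_sub (Nat.one_le_pow _ _ hp.pos), Nat.cast_pow, Nat.cast_one,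
      sub_eq_zero]
  have hζ0 : ζ ≠ 0 := hd.primitive.ne_zero (by omega)
  have hzq : z ∣ p ^ (fd : ℕ) - 1 := by
    rw [← hF]
    exact hd.primitive.dvd_of_pow_eq_one _ (FiniteField.pow_card_sub_one_eq_one ζ hζ0)
  have hrp : r ≠ p := by
    intro h
    have hr' : r ∣ p ^ (fd : ℕ) - 1 := (show r ∣ z by
      rcases hd.order with ⟨-, h⟩ | ⟨h1, h⟩ | ⟨h1, h⟩
      · rw [h]
      · rw [h, h1]
      · rw [h, h1]; decide).trans hzq
    rw [h] at hr'
    have h1 : p ∣ p ^ (fd : ℕ) := dvd_pow_self _ fd.ne_zero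
    have h2 := Nat.dvd_sub h1 hr'
    rw [Nat.sub_sub_self (Nat.one_le_pow _ _ hp.pos)] at h2
    exact hp.not_dvd_one h2
  have hef : e ∣ (fd : ℕ) := orderOf_dvd_of_pow_eq_one ((hcast _).mpr hzq)
  have he0 : 0 < e := Nat.pos_of_dvd_of_pos hef fd.pos
  by_cases hfe : e = fd
  swap
  · left
    obtain ⟨F₀, hF0, hmem⟩ := exists_subfield_card hp hF hef he0
    have hζF : ζ ∈ F₀ := by
      apply hmem
      obtain ⟨k, hk⟩ := (hcast e).mp (pow_orderOf_eq_one _)
      rw [← Nat.sub_add_cancel (Nat.one_le_pow e p hp.pos), pow_succ, hk, pow_mul, hd.primitive.pow_eq_one, one_pow,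
        one_mul]
    refine ⟨F₀, hprop _ ?_, hd.realisable habs hz0 F₀ hζF⟩
    rw [hF0, hF]
    exact Nat.pow_lt_pow_right hp.one_lt (lt_of_le_of_ne (Nat.le_of_dvd fd.pos hef) hfe)
  rw [← hfe] at hF
  have hmin' : IsMinimalFieldFor (Nat.card (Subgroup.center N)) p e F := by
    refine ⟨hp, hchar, hF, ?_, ?_⟩
    · rw [hd.card_center]; exact (hcast e).mp (pow_orderOf_eq_one _)
    · intro d hd0 hde hdvd
      rw [hd.card_center] at hdvd
      exact pow_ne_one_of_lt_orderOf hd0.ne' hde ((hcast d).mpr hdvd)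
  refine Or.inr (Or.inr ⟨hσ, r, p, e, m, hST, hrp, hmin', ?_, hcl, hm⟩)
  rw [hd.card_center]
  rcases hd.order with ⟨ho, h⟩ | ⟨-, h⟩ | ⟨h1, h⟩
  · exact Or.inl ⟨ho, h, hm1, by rw [hd.card, h, hm]; ring⟩
  · exact absurd h hz2
  · refine Or.inr ⟨h1, ?_, h, by rw [hd.card, h, hm, h1]; ring⟩
    subst h
    have hle : e ≤ 2 := by
      have h2 : ∀ x : ZMod 4, (∃ k, 0 < k ∧ x ^ k = 1) → x ^ 2 = 1 := by
        intro x ⟨k, hk, hxk⟩
        obtain ⟨u, hu⟩ : IsUnit x := IsUnit.of_pow_eq_one hxk hk.ne'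
        have hall : ∀ u : (ZMod 4)ˣ, u ^ 2 = 1 := by decide
        rw [← hu, ← Units.val_pow_eq_pow_val, hall u, Units.val_one]
      exact orderOf_le_of_pow_eq_one two_pos (h2 _ ⟨e, he0, pow_orderOf_eq_one _⟩)
    obtain ⟨s, hs⟩ : ∃ s, Fintype.card F = s ^ 2 := ⟨_, card_eq_sq_fixSubfield hσ hf.invol⟩
    have he1 : e ≠ 1 := by
      intro h
      rw [h, pow_one] at hF
      rw [hs] at hF
      exact absurd (hF ▸ hp) (fun hpr => Nat.Prime.not_prime_pow (le_refl 2) hpr)
    omega

end IsRefl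

end CfsgLib.Aschbacher
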