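import Cfsg.Agent.Aschbacher.Form.ClassTwo
import Cfsg.Agent.Aschbacher.OrthogonalPrime

/-!
Subfield groups carrying the form, for groups of isometries normalising a group written over a subfield.
-/
set_option autoImplicit false
set_option maxHeartbeats 1000000

namespace CfsgLib.Aschbacher

open Matrix Cfsg.Geo CfsgLib.GeoClifford
open scoped MatrixGroups

variable {ι : Type} [Fintype ι] [DecidableEq ι] {F : Type*} [Field F]

/-- The value of the form on vectors of a scaled basis with rational Gram matrix. -/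
lemma gram_value {σ : F ≃+* F} {f : (ι → F) → (ι → F) → F} (hf : IsSesq σ f) {P : Matrix ι ι F} {a : F}
    {R : Matrix ι ι F} (hA : Pᵀ * gramMatrix f * P.map σ = a • R) (μ : F) (u v : ι → F) :
    f ((μ • P) *ᵥ u) ((μ • P) *ᵥ v) = μ * σ μ * a * (u ⬝ᵥ (R *ᵥ (σ ∘ v))) := by
  rw [smul_mulVec, smul_mulVec, hf.smul_left, hf.smul_right, hf.eq_gram, comp_mulVec, ← vecMul_transpose P,
    ← dotProduct_mulVec, mulVec_mulVec, mulVec_mulVec, hA, smul_mulVec, dotProduct_smul, smul_eq_mul]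
  ring

lemma dot_mem_subfield {σ : F ≃+* F} [Fintype F] {F₁ : Subfield F} {R : Matrix ι ι F} (hR : ∀ i j, R i j ∈ F₁)
    {u v : ι → F} (hu : ∀ i, u i ∈ F₁) (hv : ∀ i, v i ∈ F₁) : u ⬝ᵥ (R *ᵥ (σ ∘ v)) ∈ F₁ :=
  Subfield.sum_mem _ fun i _ => F₁.mul_mem (hu i)
    (Subfield.sum_mem _ fun j _ => F₁.mul_mem (hR i j) (map_mem_subfield σ F₁ (hv j)))

variable [Fintype F]

/-- In characteristic two a fixed symmetric bilinear form of an irreducible group is alternating. -/
lemma self_eq_zero_of_fixed_symm (h2 : (2 : F) = 0) (hn : 2 ≤ Fintype.card ι) {N : Subgroup (GL ι F)}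
    (hirr : ActsIrreducibly (matrixSet N)) {X : Matrix ι ι F} (hX : Xᵀ = X)
    (hfix : ∀ g ∈ N, (g : Matrix ι ι F)ᵀ * X * (g : Matrix ι ι F) = X) (v : ι → F) : v ⬝ᵥ (X *ᵥ v) = 0 := by
  classical
  have hc : CharP F 2 := by
    refine char_two_of_even fun ho => odd_card_iff_two_ne_zero.mp ho h2
  have hsymm : ∀ a b : ι → F, a ⬝ᵥ (X *ᵥ b) = b ⬝ᵥ (X *ᵥ a) := fun a b => by
    rw [dotProduct_mulVec, ← mulVec_transpose, hX, dotProduct_comm]
  let d : (ι → F) → F := fun v => v ⬝ᵥ (X *ᵥ v)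
  have hadd : ∀ a b, d (a + b) = d a + d b := fun a b => by
    simp only [d, mulVec_add, dotProduct_add, add_dotProduct, hsymm b a]
    linear_combination (a ⬝ᵥ (X *ᵥ b)) * h2
  have hsmul : ∀ (c : F) a, d (c • a) = c ^ 2 * d a := fun c a => by
    simp only [d, mulVec_smul, dotProduct_smul, smul_dotProduct, smul_eq_mul]; ring
  let W : Submodule F (ι → F) :=
    { carrier := {v | d v = 0}
      add_mem' := fun {a b} ha hb => by
        show d (a + b) = 0
        rw [hadd, ha, hb, add_zero]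
      zero_mem' := by simp [d]
      smul_mem' := fun c a ha => by
        show d (c • a) = 0
        rw [hsmul, ha, mul_zero] }
  obtain ⟨a, b, hab⟩ := Fintype.exists_pair_of_one_lt_card (α := ι) (by omega)
  have hW : W ≠ ⊥ := by
    intro h0
    by_cases hb : d (Pi.single b 1) = 0
    · have : (Pi.single b (1 : F) : ι → F) ∈ W := hb
      rw [h0, Submodule.mem_bot] at this
      simpa using congrFun this b
    obtain ⟨s, hs⟩ := (Finite.injective_iff_surjective.mp (frobenius_inj F 2)) (d (Pi.single a 1) / d (Pi.single b 1))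
    rw [frobenius_def] at hs
    have hmem : (Pi.single a (1 : F) + s • Pi.single b 1 : ι → F) ∈ W := by
      show d _ = 0
      rw [hadd, hsmul, hs, div_mul_cancel₀ _ hb]
      linear_combination d (Pi.single a 1) * h2
    rw [h0, Submodule.mem_bot] at hmem
    simpa [Pi.single_apply, hab] using congrFun hmem a
  have htop := eq_top_of_invariant hirr W hW fun g hg w (hw : d w = 0) => by
    show d _ = 0
    simp only [d] at hw ⊢
    rw [mulVec_mulVec, ← vecMul_transpose (g : Matrix ι ι F), ← dotProduct_mulVec, mulVec_mulVec, ← mul_assoc,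
      hfix g hg]
    exact hw
  exact (htop ▸ Submodule.mem_top : v ∈ W)

/-- A subfield group carrying a multiple of a symplectic form. -/
theorem exists_formRational_symplectic [Nonempty ι] {f : (ι → F) → (ι → F) → F} (hf : IsSymplecticForm f)
    {G N : Subgroup (GL ι F)} (hfix : FixesForm (matrixSet N) f) (habs : ActsAbsolutelyIrreducibly (matrixSet N))
    (hN : NormSub G N) {F₀ : Subfield F} (h0 : F₀ ≠ ⊤) (hre : RealisableOver F₀ (matrixSet N)) :
    ∃ (F₁ : Subfield F) (r : ℕ) (P : GL ι F) (ζ : F), r.Prime ∧ Fintype.card F = Nat.card F₁ ^ r ∧ ζ ≠ 0 ∧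
      IsFormRationalStructure f F₁ ζ P ∧ G ≤ subfieldSubgroup F₁ P := by
  obtain ⟨F₁, r, hle, hr, hcard⟩ := exists_prime_index_ge h0
  obtain ⟨B, hB⟩ := realisableOver_mono hle hre
  obtain ⟨a, A₀, ha, hA⟩ := exists_rational_gram habs (isSesq_of_bilinear hf.bilinear) hf.nondegenerate hfix F₁ B hB
  refine ⟨F₁, r, B⁻¹, a⁻¹, hr, hcard, inv_ne_zero ha, fun u v hu hv => ?_, le_subfieldSubgroup habs hN F₁ B hB⟩
  have h := gram_value (isSesq_of_bilinear hf.bilinear) hA 1 u v
  rw [one_smul, RingEquiv.refl_apply, one_mul, one_mul] at h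
  rw [h, ← mul_assoc, inv_mul_cancel₀ ha, one_mul]
  exact dot_mem_subfield (fun i j => (A₀ i j).2) hu hv

/-- A subfield group carrying a quadratic form in odd dimension. -/
theorem exists_quadRational [Nonempty ι] {Q : (ι → F) → F} (hQ : IsNondegenerateQuadraticForm Q) (h2 : (2 : F) ≠ 0)
    (hodd : Odd (Fintype.card ι)) (hdet : ∀ F₁ : Subfield F, (gramMatrix (QuadraticMap.polar Q)).det ∈ F₁)
    {G N : Subgroup (GL ι F)} (hfixB : FixesForm (matrixSet G) (QuadraticMap.polar Q))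
    (habs : ActsAbsolutelyIrreducibly (matrixSet N)) (hN : NormSub G N) {F₀ : Subfield F} (h0 : F₀ ≠ ⊤)
    (hre : RealisableOver F₀ (matrixSet N)) :
    ∃ (F₁ : Subfield F) (r : ℕ) (P : GL ι F), r.Prime ∧ Fintype.card F = Nat.card F₁ ^ r ∧
      IsQuadFormRationalStructure Q F₁ P ∧ G ≤ subfieldSubgroup F₁ P := by
  have hfh := isHerm_polar hQ
  obtain ⟨F₁, r, hle, hr, hcard⟩ := exists_prime_index_ge h0
  obtain ⟨B, hB⟩ := realisableOver_mono hle hre
  obtain ⟨a, A₀, ha, hA⟩ := exists_rational_gram habs hfh.sesq hfh.nd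
    (fun s hs => hfixB s (Set.image_mono hN.1 hs)) F₁ B hB
  set P₀ : Matrix ι ι F := ((B⁻¹ : GL ι F) : Matrix ι ι F) with hP₀
  set R := A₀.map F₁.subtype with hR
  set A := gramMatrix (QuadraticMap.polar Q) with hAdef
  have e : P₀.map (RingEquiv.refl F) = P₀ := by ext i j; simp
  rw [e] at hA
  have hP0 : P₀.det ≠ 0 := (Matrix.GeneralLinearGroup.det B⁻¹).ne_zero
  have hA0 : A.det ≠ 0 := ((Matrix.isUnit_iff_isUnit_det _).mp (gram_isUnit hfh.sesq hfh.nd)).ne_zero
  have hdet' : P₀.det ^ 2 * A.det = a ^ Fintype.card ι * R.det := by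
    have h := congrArg Matrix.det hA
    rw [det_mul, det_mul, det_transpose, det_smul] at h
    linear_combination h
  have hRdet : R.det ∈ F₁ := by
    rw [hR, show A₀.map F₁.subtype = F₁.subtype.mapMatrix A₀ from rfl, ← RingHom.map_det]
    exact (A₀.det).2
  have hR0 : R.det ≠ 0 := fun h' => by
    rw [h', mul_zero] at hdet'
    exact mul_ne_zero (pow_ne_zero _ hP0) hA0 hdet'
  obtain ⟨k, hk⟩ := hodd
  set s := P₀.det / a ^ k with hs
  have hak : a ^ k ≠ 0 := pow_ne_zero _ ha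
  have has : a = A.det / R.det * s ^ 2 := by
    rw [hs]; field_simp
    rw [hk, pow_succ a (2 * k), pow_mul'] at hdet'
    linear_combination -hdet'
  have hs0 : s ≠ 0 := div_ne_zero hP0 hak
  let sc : GL ι F := Units.map (Matrix.scalar ι : F →+* Matrix ι ι F).toMonoidHom (Units.mk0 s⁻¹ (inv_ne_zero hs0))
  have hsc : sc ∈ scalars ι F := ⟨_, rfl⟩
  have hscv : (sc : Matrix ι ι F) = s⁻¹ • (1 : Matrix ι ι F) := by
    show Matrix.scalar ι s⁻¹ = _
    rw [Matrix.scalar_apply, ← Matrix.smul_one_eq_diagonal]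
  refine ⟨F₁, r, sc * B⁻¹, hr, hcard, fun u hu => ?_, ?_⟩
  · have hval : 2 * Q (((sc * B⁻¹ : GL ι F) : Matrix ι ι F) *ᵥ u) = A.det / R.det * (u ⬝ᵥ (R *ᵥ u)) := by
      have eu : ∀ x : ι → F, ⇑(RingEquiv.refl F) ∘ x = x := fun x => rfl
      rw [← polar_self_eq hQ, hfh.sesq.eq_gram, eu, Units.val_mul, hscv, smul_mul_assoc, one_mul, smul_mulVec,
        mulVec_smul, smul_dotProduct, dotProduct_smul, ← hP₀, ← hAdef, mulVec_mulVec,
        ← vecMul_transpose P₀ u, ← dotProduct_mulVec, mulVec_mulVec, ← mul_assoc, hA, smul_mulVec, dotProduct_smul]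
      simp only [smul_eq_mul]
      rw [has]
      field_simp
    have hmem : A.det / R.det * (u ⬝ᵥ (R *ᵥ u)) ∈ F₁ := F₁.mul_mem (F₁.div_mem (hdet F₁) hRdet)
      (Subfield.sum_mem _ fun i _ => F₁.mul_mem (hu i)
        (Subfield.sum_mem _ fun j _ => F₁.mul_mem (A₀ i j).2 (hu j)))
    rw [← hval] at hmem
    have h2F : (2 : F) ∈ F₁ := by rw [← one_add_one_eq_two]; exact F₁.add_mem F₁.one_mem F₁.one_mem
    have := F₁.div_mem hmem h2F
    rwa [mul_div_cancel_left₀ _ h2] at this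
  · rw [subfieldSubgroup_scalar_mul F₁ _ hsc]
    exact le_subfieldSubgroup habs hN F₁ B hB

omit [DecidableEq ι] in
/-- A subfield fixed by an involution with prime index has index two. -/
lemma index_two_of_fixed {σ : F ≃+* F} (hσ : σ ≠ RingEquiv.refl F) (hinv : ∀ a, σ (σ a) = a) {F₁ : Subfield F}
    {r : ℕ} (hr : r.Prime) (hcard : Fintype.card F = Nat.card F₁ ^ r) (hfix : ∀ x ∈ F₁, σ x = x) : r = 2 := by
  classical
  letI : Algebra F₁ (fixSubfield σ) := (Subfield.inclusion (show F₁ ≤ fixSubfield σ from hfix)).toAlgebra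
  have h := Module.card_eq_pow_finrank (K := F₁) (V := fixSubfield σ)
  rw [card_eq_sq_fixSubfield hσ hinv, Nat.card_eq_fintype_card, h, ← pow_mul, Nat.card_eq_fintype_card] at hcard
  have h2 := Nat.pow_right_injective (Fintype.one_lt_card (α := F₁)) hcard
  exact ((Nat.prime_dvd_prime_iff_eq Nat.prime_two hr).mp (h2 ▸ dvd_mul_left _ _)).symm

/-- A subfield group carrying a unitary form. -/
theorem exists_formRational_unitary' [Nonempty ι] (hn : 2 ≤ Fintype.card ι) {σ : F ≃+* F}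
    {f : (ι → F) → (ι → F) → F} (hf : IsUnitaryForm σ f) {G N : Subgroup (GL ι F)}
    (habs : ActsAbsolutelyIrreducibly (matrixSet N)) (hN : NormSub G N) (hfix : FixesForm (matrixSet N) f)
    {F₀ : Subfield F} (h0 : F₀ ≠ ⊤) (hre : RealisableOver F₀ (matrixSet N)) :
    ∃ (F₁ : Subfield F) (r : ℕ) (P : GL ι F) (ζ : F), r.Prime ∧ Fintype.card F = Nat.card F₁ ^ r ∧ ζ ≠ 0 ∧
      IsFormRationalStructure f F₁ ζ P ∧ G ≤ subfieldSubgroup F₁ P ∧
      ((ζ = 1 ∧ (Odd r ∨ (r = 2 ∧ Odd (Fintype.card F)))) ∨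
       (r = 2 ∧ Even (Fintype.card ι) ∧ ζ + σ ζ = 0 ∧
        ∀ u : ι → F, (∀ i, u i ∈ F₁) → f ((P : Matrix ι ι F) *ᵥ u) ((P : Matrix ι ι F) *ᵥ u) = 0)) := by
  classical
  have hs := isSesq_of_unitary hf
  obtain ⟨F₁, r, hle, hr, hcard⟩ := exists_prime_index_ge h0
  obtain ⟨B, hB⟩ := realisableOver_mono hle hre
  obtain ⟨a, A₀, ha, hA⟩ := exists_rational_gram habs hs hf.nondegenerate hfix F₁ B hB
  set P₀ : Matrix ι ι F := ((B⁻¹ : GL ι F) : Matrix ι ι F) with hP₀
  set R := A₀.map F₁.subtype with hRdef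
  have hRmem : ∀ i j, R i j ∈ F₁ := fun i j => (A₀ i j).2
  have hswap : ∀ i j, σ a * σ (R j i) = a * R i j := by
    intro i j
    have hv : ∀ i j, f (P₀ *ᵥ Pi.single i 1) (P₀ *ᵥ Pi.single j 1) = a * R i j := fun i j => by
      have h := gram_value hs hA 1 (Pi.single i 1) (Pi.single j 1)
      rw [one_smul, map_one, one_mul, one_mul] at h
      have e : σ ∘ (Pi.single j 1 : ι → F) = Pi.single j 1 := by
        ext k; by_cases hk : k = j <;> simp [Pi.single_apply, hk]
      rw [h, e]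
      simp
    rw [← map_mul, ← hv, ← hv, ← hf.herm]
  have hRdet : R.det ≠ 0 := by
    intro h0
    have h := congrArg Matrix.det hA
    have hB0 : P₀.det ≠ 0 := (Matrix.GeneralLinearGroup.det B⁻¹).ne_zero
    rw [det_smul, h0, mul_zero, det_mul, det_mul, det_transpose,
      show (P₀.map σ).det = σ P₀.det from ((σ : F →+* F).map_det P₀).symm] at h
    simp only [mul_eq_zero, map_eq_zero, hB0, false_or, or_false] at h
    exact ((Matrix.isUnit_iff_isUnit_det _).mp (gram_isUnit hs hf.nondegenerate)).ne_zero h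
  have hσa : σ a ≠ 0 := by simpa using ha
  obtain ⟨i0, j0, hij⟩ : ∃ i j, R i j ≠ 0 := by
    by_contra h
    push Not at h
    exact hRdet (by rw [show R = 0 from Matrix.ext h]; exact Matrix.det_zero)
  set ν := a / σ a with hν
  have hνF : ν ∈ F₁ := by
    have : ν = σ (R j0 i0) / R i0 j0 := by
      rw [hν, div_eq_div_iff hσa hij]; linear_combination -hswap i0 j0
    rw [this]
    exact F₁.div_mem (map_mem_subfield σ F₁ (hRmem j0 i0)) (hRmem i0 j0)
  have hνν : σ ν * ν = 1 := by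
    rw [hν, map_div₀, hf.involutive]; field_simp
  have hone : ∀ t ∈ F₁, t ≠ 0 → σ (a * t) = a * t →
      ∃ P : GL ι F, IsFormRationalStructure f F₁ 1 P ∧ G ≤ subfieldSubgroup F₁ P := by
    intro t htF ht0 ht
    obtain ⟨μ, hμ⟩ := CfsgLib.Geo.Unit.exists_norm_eq hf.ne_refl hf.involutive ht
    have hμ0 : μ ≠ 0 := fun h => mul_ne_zero ha ht0 (by rw [← hμ, h, zero_mul])
    let sc : GL ι F := Units.map (Matrix.scalar ι : F →+* Matrix ι ι F).toMonoidHom (Units.mk0 μ⁻¹ (inv_ne_zero hμ0))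
    have hscv : (sc : Matrix ι ι F) = μ⁻¹ • (1 : Matrix ι ι F) := by
      show Matrix.scalar ι μ⁻¹ = _
      rw [Matrix.scalar_apply, ← Matrix.smul_one_eq_diagonal]
    refine ⟨sc * B⁻¹, fun u v hu hv => ?_, ?_⟩
    · rw [one_mul, Units.val_mul, hscv, smul_mul_assoc, one_mul, gram_value hs hA,
        show μ⁻¹ * σ μ⁻¹ * a = t⁻¹ by
          rw [map_inv₀, ← mul_inv, hμ]; field_simp]
      exact F₁.mul_mem (F₁.inv_mem htF) (dot_mem_subfield hRmem hu hv)
    · rw [subfieldSubgroup_scalar_mul F₁ _ ⟨_, rfl⟩]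
      exact le_subfieldSubgroup habs hN F₁ B hB
  by_cases htriv : ∀ x ∈ F₁, σ x = x
  swap
  · push Not at htriv
    obtain ⟨y, hy, hyσ⟩ := htriv
    have hodd : Odd r := by
      rcases hr.eq_two_or_odd' with rfl | h
      · exact absurd (fixed_of_index_two hf.ne_refl hf.involutive hcard hy) hyσ
      · exact h
    obtain ⟨s, hsF, hs0, hsσ⟩ : ∃ s ∈ F₁, s ≠ 0 ∧ σ s = ν * s := by
      have hk : ∀ z, σ (z + σ ν * σ z) = ν * (z + σ ν * σ z) := fun z => by
        rw [map_add, map_mul, hf.involutive, hf.involutive]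
        linear_combination -(σ z) * hνν
      have hm : ∀ z ∈ F₁, z + σ ν * σ z ∈ F₁ := fun z hz =>
        F₁.add_mem hz (F₁.mul_mem (map_mem_subfield σ F₁ hνF) (map_mem_subfield σ F₁ hz))
      by_cases h1 : (1 : F) + σ ν * σ 1 = 0
      · refine ⟨_, hm y hy, fun h => hyσ ?_, hk y⟩
        rw [map_one, mul_one] at h1
        linear_combination σ y * h1 - h
      · exact ⟨_, hm 1 F₁.one_mem, h1, hk 1⟩
    obtain ⟨P, hP, hG⟩ := hone s hsF hs0 (by rw [map_mul, hsσ, hν]; field_simp)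
    exact ⟨F₁, r, P, 1, hr, hcard, one_ne_zero, hP, hG, Or.inl ⟨rfl, Or.inl hodd⟩⟩
  have hr2 := index_two_of_fixed hf.ne_refl hf.involutive hr hcard htriv
  have hνsq : ν * ν = 1 := by
    rw [← hνν, htriv ν hνF]
  have hRν : ∀ i j, R j i = ν * R i j := fun i j => by
    have h := hswap i j
    rw [htriv _ (hRmem j i)] at h
    rw [hν, div_mul_eq_mul_div, eq_div_iff hσa]
    linear_combination h
  have hhalf : Odd (Fintype.card F) → ν = 1 →
      ∃ P : GL ι F, IsFormRationalStructure f F₁ 1 P ∧ G ≤ subfieldSubgroup F₁ P := fun _ h1 => by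
    refine hone 1 F₁.one_mem one_ne_zero ?_
    rw [mul_one]
    rw [hν, div_eq_one_iff_eq hσa] at h1
    exact h1.symm
  by_cases hcase : Odd (Fintype.card F) ∧ ν = 1
  · obtain ⟨P, hP, hG⟩ := hhalf hcase.1 hcase.2
    exact ⟨F₁, r, P, 1, hr, hcard, one_ne_zero, hP, hG, Or.inl ⟨rfl, Or.inr ⟨hr2, hcase.1⟩⟩⟩
  have hν1 : ν = -1 := by
    rcases mul_self_eq_one_iff.mp hνsq with h | h
    · have : CharP F 2 := char_two_of_even fun ho => hcase ⟨ho, h⟩
      rw [h, CharTwo.neg_eq]
    · exact h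
  have hRt : Rᵀ = -R := by
    ext i j
    rw [transpose_apply, hRν, hν1, Matrix.neg_apply, neg_one_mul]
  have hskew : ∀ u v : ι → F, u ⬝ᵥ (R *ᵥ v) = -(v ⬝ᵥ (R *ᵥ u)) := fun u v => by
    rw [dotProduct_mulVec, ← mulVec_transpose, hRt, neg_mulVec, neg_dotProduct, dotProduct_comm]
  have hdiag : ∀ u : ι → F, u ⬝ᵥ (R *ᵥ u) = 0 := by
    intro u
    by_cases h2 : (2 : F) = 0
    swap
    · have : (2 : F) * (u ⬝ᵥ (R *ᵥ u)) = 0 := by linear_combination hskew u u
      exact (mul_eq_zero.mp this).resolve_left h2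
    have hc : CharP F 2 := char_two_of_even fun ho => odd_card_iff_two_ne_zero.mp ho h2
    have hn1 : (-R : Matrix ι ι F) = R := by ext i j; rw [Matrix.neg_apply, CharTwo.neg_eq]
    set Bm : Matrix ι ι F := (B : Matrix ι ι F) with hBm
    have hz := self_eq_zero_of_fixed_symm h2 hn habs.1 (X := Bmᵀ * R * Bm)
      (by rw [transpose_mul, transpose_mul, transpose_transpose, hRt, hn1, mul_assoc]) (fun g hg => by
        have hrat : ∀ i j, (Bm * (g : Matrix ι ι F) * P₀) i j ∈ F₁ := hB _ (coe_mem_matrixSet hg)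
        have hm : Bm * (g : Matrix ι ι F) = Bm * (g : Matrix ι ι F) * P₀ * Bm := by
          rw [mul_assoc _ P₀, hP₀, hBm, Units.inv_mul, mul_one]
        generalize hmdef : Bm * (g : Matrix ι ι F) * P₀ = m at hrat hm
        have hgP : P₀ * m = (g : Matrix ι ι F) * P₀ := by
          rw [← hmdef, ← mul_assoc, ← mul_assoc, hP₀, hBm, Units.inv_mul, one_mul]
        have h1 : mᵀ * (a • R) * m.map σ = a • R := by
          have h := (fixes_iff hs _).mp (fun u v => hfix _ (coe_mem_matrixSet hg) u v)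
          rw [← hA]
          calc _ = (P₀ * m)ᵀ * gramMatrix f * (P₀ * m).map σ := by
                rw [transpose_mul P₀ m, Matrix.map_mul (L := P₀) (M := m)]; simp only [mul_assoc]
            _ = P₀ᵀ * ((g : Matrix ι ι F)ᵀ * gramMatrix f * (g : Matrix ι ι F).map σ) * P₀.map σ := by
                rw [hgP, transpose_mul, Matrix.map_mul]; simp only [mul_assoc]
            _ = _ := by rw [h]
        rw [show m.map σ = m by ext i j; exact htriv _ (hrat i j), mul_smul_comm, smul_mul_assoc] at h1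
        have h2' := smul_right_injective _ ha h1
        calc _ = (Bm * (g : Matrix ι ι F))ᵀ * R * (Bm * (g : Matrix ι ι F)) := by
              rw [transpose_mul]; simp only [mul_assoc]
          _ = Bmᵀ * (mᵀ * R * m) * Bm := by rw [hm, transpose_mul]; simp only [mul_assoc]
          _ = _ := by rw [h2']) (P₀ *ᵥ u)
    rw [mulVec_mulVec, ← vecMul_transpose P₀ u, ← dotProduct_mulVec, mulVec_mulVec] at hz
    have e : P₀ᵀ * (Bmᵀ * R * Bm * P₀) = R := by
      calc P₀ᵀ * (Bmᵀ * R * Bm * P₀) = (Bm * P₀)ᵀ * R * (Bm * P₀) := by rw [transpose_mul]; simp only [mul_assoc]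
        _ = R := by rw [hBm, hP₀, Units.mul_inv, transpose_one, one_mul, mul_one]
    rwa [e] at hz
  refine ⟨F₁, r, B⁻¹, a⁻¹, hr, hcard, inv_ne_zero ha, fun u v hu hv => ?_, le_subfieldSubgroup habs hN F₁ B hB,
    Or.inr ⟨hr2, ?_, ?_, fun u hu => ?_⟩⟩
  · have h := gram_value hs hA 1 u v
    rw [one_smul, map_one, one_mul, one_mul] at h
    rw [h, ← mul_assoc, inv_mul_cancel₀ ha, one_mul]
    exact dot_mem_subfield hRmem hu hv
  · by_contra hodd
    refine not_symplectic_of_odd (Nat.not_even_iff_odd.mp hodd) (fun u v => u ⬝ᵥ (R *ᵥ v))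
      ⟨⟨?_, ?_, ?_, ?_⟩, hskew, hdiag, ?_⟩
    · intro x y v; exact add_dotProduct _ _ _
    · intro c x v; exact smul_dotProduct _ _ _
    · intro v x y; simp only [mulVec_add, dotProduct_add]
    · intro c v x; simp only [mulVec_smul, dotProduct_smul, smul_eq_mul]
    · intro v hv
      have hRu : IsUnit R := (Matrix.isUnit_iff_isUnit_det _).mpr (Ne.isUnit hRdet)
      have hne : R *ᵥ v ≠ 0 :=
        fun h => hv ((Matrix.mulVec_injective_iff_isUnit.mpr hRu) (h.trans (mulVec_zero R).symm))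
      obtain ⟨k, hk⟩ := Function.ne_iff.mp hne
      refine ⟨⟨Pi.single k 1, by simpa using hk⟩, Pi.single k 1, fun h => hk ?_⟩
      have h' := hskew v (Pi.single k 1)
      rw [show v ⬝ᵥ (R *ᵥ Pi.single k 1) = 0 from h, eq_comm, neg_eq_zero] at h'
      simpa using h'
  · rw [map_inv₀, show σ a = -a by rw [hν, div_eq_iff hσa] at hν1; linear_combination hν1]
    rw [inv_neg, add_neg_cancel]
  · have h := gram_value hs hA 1 u u
    rw [one_smul, map_one, one_mul, one_mul] at h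
    rw [h, show σ ∘ u = u from funext fun i => htriv _ (hu i), hdiag, mul_zero]

end CfsgLib.Aschbacher
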