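import Cfsg.Agent.Aschbacher.Form.Power
import Cfsg.Agent.Aschbacher.Form.Rational

/-!
The common part of Aschbacher's theorem for a group of isometries.
-/
set_option autoImplicit false
set_option maxHeartbeats 1000000

namespace CfsgLib.Aschbacher

open Matrix Cfsg.Geo CfsgLib.GeoClifford
open scoped MatrixGroups Kronecker commutatorElement

variable {ι : Type} [Fintype ι] [DecidableEq ι] {F : Type*} [Field F] {n₁ n₂ t d : ℕ}

/-- Scaling a Kronecker product identity to its factors. -/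
lemma kronecker_factor {κ ν : Type} {A B : Matrix κ κ F} {C D : Matrix ν ν F} (hB : B ≠ 0) (hD : D ≠ 0)
    (h : A ⊗ₖ C = B ⊗ₖ D) : ∃ s : F, s ≠ 0 ∧ C = s • D ∧ A = s⁻¹ • B := by
  obtain ⟨i, j, hij⟩ : ∃ i j, B i j ≠ 0 := by
    by_contra hcon
    push Not at hcon
    exact hB (Matrix.ext hcon)
  obtain ⟨x, y, hxy⟩ : ∃ x y, D x y ≠ 0 := by
    by_contra hcon
    push Not at hcon
    exact hD (Matrix.ext hcon)
  have key : ∀ a b p q, A a b * C p q = B a b * D p q := fun a b p q => congrFun (congrFun h (a, p)) (b, q)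
  have hA : A i j ≠ 0 := fun h0 => mul_ne_zero hij hxy (by rw [← key, h0, zero_mul])
  have hC : C = (B i j / A i j) • D := by
    ext p q
    rw [Matrix.smul_apply, smul_eq_mul, div_mul_eq_mul_div, eq_div_iff hA, ← key i j p q]
    ring
  refine ⟨_, div_ne_zero hij hA, hC, ?_⟩
  ext a b
  have := key a b x y
  rw [hC, Matrix.smul_apply, smul_eq_mul, ← mul_assoc] at this
  rw [Matrix.smul_apply, smul_eq_mul, ← mul_right_cancel₀ hxy this, mul_comm (A a b), ← mul_assoc,
    inv_mul_cancel₀ (div_ne_zero hij hA), one_mul]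

lemma formOf_refl (G : Matrix ι ι F) (u v : ι → F) : formOf (RingEquiv.refl F) G u v = u ⬝ᵥ (G *ᵥ v) := rfl

lemma isSymplecticForm_formOf {G : Matrix ι ι F} (hG : IsUnit G) (ht : Gᵀ = -G) (hd : ∀ v, v ⬝ᵥ (G *ᵥ v) = 0) :
    IsSymplecticForm (formOf (RingEquiv.refl F) G) := by
  refine ⟨isBilinearForm_formOf G, fun v w => ?_, hd, nondegenerate_formOf _ hG⟩
  rw [formOf_swap G w v, ht, formOf_refl, formOf_refl, neg_mulVec, dotProduct_neg]

lemma isSymmetricForm_formOf {G : Matrix ι ι F} (hG : IsUnit G) (ht : Gᵀ = G) :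
    IsSymmetricForm (formOf (RingEquiv.refl F) G) :=
  ⟨isBilinearForm_formOf G, fun v w => by rw [formOf_swap G w v, ht], nondegenerate_formOf _ hG⟩

lemma self_eq_zero_of_skew (h2 : (2 : F) ≠ 0) {G : Matrix ι ι F} (ht : Gᵀ = -G) (v : ι → F) :
    v ⬝ᵥ (G *ᵥ v) = 0 := by
  have h : v ⬝ᵥ (G *ᵥ v) = -(v ⬝ᵥ (G *ᵥ v)) := by
    nth_rewrite 1 [dotProduct_mulVec, ← mulVec_transpose, ht, neg_mulVec, neg_dotProduct, dotProduct_comm]
    rfl
  have : (2 : F) * (v ⬝ᵥ (G *ᵥ v)) = 0 := by linear_combination h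
  exact (mul_eq_zero.mp this).resolve_left h2

lemma coords_mul {e : ι ≃ Fin n₁ × Fin n₂} (A A' : Matrix (Fin n₁) (Fin n₁) F) (C C' : Matrix (Fin n₂) (Fin n₂) F) :
    (A ⊗ₖ C).submatrix e e * (A' ⊗ₖ C').submatrix e e = ((A * A') ⊗ₖ (C * C')).submatrix e e := by
  rw [submatrix_mul_equiv, ← mul_kronecker_mul]

lemma map_kronecker_submatrix (σ : F ≃+* F) (e : ι ≃ Fin n₁ × Fin n₂) (A : Matrix (Fin n₁) (Fin n₁) F)
    (C : Matrix (Fin n₂) (Fin n₂) F) :
    ((A ⊗ₖ C).submatrix e e).map σ = (A.map σ ⊗ₖ C.map σ).submatrix e e := by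
  ext i j; simp [Matrix.kroneckerMap_apply]

namespace IsTensorGram

variable {σ : F ≃+* F} {f : (ι → F) → (ι → F) → F} {G : Subgroup (GL ι F)} {e : ι ≃ Fin n₁ × Fin n₂} {P : GL ι F}
  {B : Matrix (Fin n₁) (Fin n₁) F} {C : Matrix (Fin n₂) (Fin n₂) F}

lemma card_eq (_h : IsTensorGram σ f G e P B C) : Fintype.card ι = n₁ * n₂ := by
  rw [Fintype.card_congr e, Fintype.card_prod, Fintype.card_fin, Fintype.card_fin]

/-- The form is a tensor product of the forms of the two Gram matrices. -/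
lemma structure_eq (h : IsTensorGram σ f G e P B C) (hf : IsSesq σ f) :
    IsTensorFormStructure σ f (formOf σ B) (formOf σ C) e P :=
  ⟨1, one_ne_zero, fun x y => by
    rw [form_of_gram hf e (P : Matrix ι ι F) _ 1 (by rw [one_smul]; exact h.gram) x y, gramMatrix_formOf,
      gramMatrix_formOf]⟩

/-- The factors of an isometry are similitudes of the factors. -/
lemma factor (h : IsTensorGram σ f G e P B C) (hf : IsSesq σ f) (hfix : FixesForm (matrixSet G) f) {x : GL ι F}
    (hx : x ∈ G) {g : GL (Fin n₁) F} {b : GL (Fin n₂) F}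
    (hgb : ((P⁻¹ : GL ι F) : Matrix ι ι F) * (x : Matrix ι ι F) * (P : Matrix ι ι F) =
      ((g : Matrix (Fin n₁) (Fin n₁) F) ⊗ₖ (b : Matrix (Fin n₂) (Fin n₂) F)).submatrix e e) :
    ∃ s : F, s ≠ 0 ∧ (b : Matrix (Fin n₂) (Fin n₂) F)ᵀ * C * (b : Matrix (Fin n₂) (Fin n₂) F).map σ = s • C ∧
      (g : Matrix (Fin n₁) (Fin n₁) F)ᵀ * B * (g : Matrix (Fin n₁) (Fin n₁) F).map σ = s⁻¹ • B := by
  have h1 := (fixes_iff hf _).mp (fun u v => hfix _ (coe_mem_matrixSet hx) u v)
  set K := ((P⁻¹ : GL ι F) : Matrix ι ι F) * (x : Matrix ι ι F) * (P : Matrix ι ι F) with hK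
  have hPK : (x : Matrix ι ι F) * (P : Matrix ι ι F) = (P : Matrix ι ι F) * K := by
    rw [hK, ← mul_assoc, ← mul_assoc, Units.mul_inv, one_mul]
  clear_value K
  have h2 : Kᵀ * ((B ⊗ₖ C).submatrix e e) * K.map σ = (B ⊗ₖ C).submatrix e e := by
    rw [← h.gram]
    calc _ = ((P : Matrix ι ι F) * K)ᵀ * gramMatrix f * ((P : Matrix ι ι F) * K).map σ := by
          rw [transpose_mul, Matrix.map_mul]; simp only [mul_assoc]
      _ = (P : Matrix ι ι F)ᵀ * ((x : Matrix ι ι F)ᵀ * gramMatrix f * (x : Matrix ι ι F).map σ) *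
          (P : Matrix ι ι F).map σ := by rw [← hPK, transpose_mul, Matrix.map_mul]; simp only [mul_assoc]
      _ = _ := by rw [h1]
  rw [hgb, transpose_submatrix, ← Matrix.kroneckerMap_transpose, map_kronecker_submatrix, coords_mul, coords_mul]
    at h2
  have h3 := congrArg (fun X : Matrix ι ι F => X.submatrix e.symm e.symm) h2
  simp only [submatrix_submatrix, Equiv.self_comp_symm, submatrix_id_id] at h3
  have : Nonempty (Fin n₁) := ⟨⟨0, by have := h.two_le_left; omega⟩⟩
  have : Nonempty (Fin n₂) := ⟨⟨0, by have := h.two_le_right; omega⟩⟩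
  exact kronecker_factor h.unit_left.ne_zero h.unit_right.ne_zero h3

end IsTensorGram

namespace IsPowerGram

variable {σ : F ≃+* F} {f : (ι → F) → (ι → F) → F} {G : Subgroup (GL ι F)} {e : ι ≃ (Fin t → Fin d)} {P : GL ι F}
  {B : Matrix (Fin d) (Fin d) F} {c : F}

/-- The form is a tensor power of the form of the Gram matrix. -/
lemma structure_eq (h : IsPowerGram σ f G e P B c) (hf : IsSesq σ f) :
    IsTensorPowerFormStructure σ f (formOf σ B) e P :=
  ⟨c, h.ne_zero, fun x y => by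
    rw [form_of_gram hf e (P : Matrix ι ι F) _ c h.gram x y, gramMatrix_formOf]
    rfl⟩

lemma le_wreath (h : IsPowerGram σ f G e P B c) (ht : 0 < t) : G ≤ tensorWreathSubgroup d t e P := fun x hx => by
  obtain ⟨gs, π, hT⟩ := h.form x hx
  exact hT.mem_wreath ht

/-- The factor is symmetric up to `σ` and a scalar. -/
lemma sym {ε : F} (h : IsPowerGram σ f G e P B c) (hf : IsRefl σ ε f) (ht : 0 < t) (hd : 0 < d) :
    ∃ a : F, a * σ a = 1 ∧ Bᵀ = a • B.map σ ∧ c * a ^ t = ε * σ c := by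
  have h1 : (c • (tens fun _ : Fin t => B).submatrix e e)ᵀ =
      ε • (c • (tens fun _ : Fin t => B).submatrix e e).map σ := by
    rw [← h.gram, transpose_mul, transpose_mul, transpose_transpose, hf.gram_transpose, Matrix.map_mul,
      Matrix.map_mul, smul_mul_assoc, mul_smul_comm, ← mul_assoc,
      show ((P : Matrix ι ι F).map σ).map σ = (P : Matrix ι ι F) by ext i j; exact hf.invol _]
    rfl
  have h2 : tens (fun _ : Fin t => Bᵀ) = (ε * σ c / c) • tens fun _ : Fin t => B.map σ := by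
    ext x y
    have := congrFun (congrFun h1 (e.symm x)) (e.symm y)
    simp only [transpose_apply, Matrix.smul_apply, submatrix_apply, Equiv.apply_symm_apply, Matrix.map_apply,
      smul_eq_mul, map_mul, tens, Matrix.of_apply, map_prod] at this ⊢
    rw [div_mul_eq_mul_div, eq_div_iff h.ne_zero]
    linear_combination this
  obtain ⟨a, ha, haB⟩ := tens_factor (fun _ => (Matrix.isUnit_transpose _).mpr h.unit) h2 hd ⟨0, ht⟩
  have hne : Nonempty (Fin d) := ⟨⟨0, hd⟩⟩
  obtain ⟨i, j, hij⟩ : ∃ i j, B i j ≠ 0 := by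
    by_contra hcon
    push Not at hcon
    exact h.unit.ne_zero (Matrix.ext hcon)
  refine ⟨a, ?_, haB, ?_⟩
  · have e1 : ∀ i j, B j i = a * σ (B i j) := fun i j => congrFun (congrFun haB i) j
    have hh := e1 j i
    rw [e1 i j, map_mul, hf.invol, ← mul_assoc] at hh
    exact (mul_eq_right₀ hij).mp hh.symm
  · rw [haB, tens_smul, Finset.prod_const, Finset.card_univ, Fintype.card_fin] at h2
    have := congrFun (congrFun h2 fun _ => i) fun _ => j
    simp only [Matrix.smul_apply, tens, Matrix.of_apply, smul_eq_mul] at this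
    rw [mul_right_cancel₀ (Finset.prod_ne_zero_iff.mpr fun _ _ => by simpa using hij) this,
      mul_div_cancel₀ _ h.ne_zero]

end IsPowerGram

/-- Vectors `x₁ ⊗ ⋯ ⊗ xₜ` in coordinates. -/
def pureTensor (x : Fin t → Fin d → F) : (Fin t → Fin d) → F := fun a => ∏ i, x i (a i)

lemma pureTensor_single (b : Fin t → Fin d) :
    pureTensor (fun i => (Pi.single (b i) 1 : Fin d → F)) = Pi.single b 1 := by
  funext a
  simp only [pureTensor]
  by_cases h : a = b
  · subst h; simp
  · obtain ⟨i, hi⟩ := Function.ne_iff.mp h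
    rw [Pi.single_eq_of_ne h]
    exact Finset.prod_eq_zero (Finset.mem_univ i) (by simp [hi])

lemma pureTensor_update (x : Fin t → Fin d → F) (k : Fin t) :
    pureTensor x = ∑ p, x k p • pureTensor (Function.update x k (Pi.single p 1)) := by
  funext a
  rw [Finset.sum_apply, Finset.sum_eq_single (a k)]
  · simp only [Pi.smul_apply, smul_eq_mul, pureTensor]
    rw [← Finset.mul_prod_erase _ _ (Finset.mem_univ k), ← Finset.mul_prod_erase _ _ (Finset.mem_univ k),
      Function.update_self, Pi.single_eq_same, one_mul]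
    congr 1
    exact Finset.prod_congr rfl fun j hj => by rw [Function.update_of_ne (Finset.ne_of_mem_erase hj)]
  · intro p _ hp
    simp only [Pi.smul_apply, smul_eq_mul, pureTensor]
    rw [Finset.prod_eq_zero (Finset.mem_univ k), mul_zero]
    simp [Ne.symm hp]
  · simp

lemma tens_pure (B : Matrix (Fin d) (Fin d) F) (x y : Fin t → Fin d → F) :
    pureTensor x ⬝ᵥ ((tens fun _ : Fin t => B) *ᵥ pureTensor y) = ∏ i, x i ⬝ᵥ (B *ᵥ y i) := by
  simp only [dotProduct, mulVec, pureTensor, tens, Matrix.of_apply]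
  rw [Fintype.prod_sum]
  refine Finset.sum_congr rfl fun a _ => ?_
  rw [Finset.prod_mul_distrib]
  congr 1
  rw [Fintype.prod_sum]
  exact Finset.sum_congr rfl fun b _ => by rw [Finset.prod_mul_distrib]

section Quad

variable {Q : (ι → F) → F}

/-- A quadratic form on a combination of pairwise orthogonal vectors. -/
lemma quad_sum_eq_zero (hQ : IsNondegenerateQuadraticForm Q) {α : Type*} (s : Finset α) (c : α → F)
    (v : α → ι → F) (hp : ∀ p ∈ s, ∀ q ∈ s, QuadraticMap.polar Q (v p) (v q) = 0) (hz : ∀ p ∈ s, Q (v p) = 0) :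
    Q (∑ p ∈ s, c p • v p) = 0 := by
  classical
  have h0 : Q 0 = 0 := by simpa using hQ.smul 0 0
  induction s using Finset.induction_on with
  | empty => simpa using h0
  | insert p s hp' ih =>
    have hpolar : QuadraticMap.polar Q (c p • v p) (∑ q ∈ s, c q • v q) = 0 := by
      rw [hQ.polar_bilinear.smul_left]
      have : QuadraticMap.polar Q (v p) (∑ q ∈ s, c q • v q) = 0 := by
        have hind : ∀ u : Finset α, u ⊆ s → QuadraticMap.polar Q (v p) (∑ q ∈ u, c q • v q) = 0 := by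
          intro u
          induction u using Finset.induction_on with
          | empty =>
            intro _
            rw [Finset.sum_empty]
            simpa using hQ.polar_bilinear.smul_right 0 (v p) 0
          | insert q u hq ihu =>
            intro hu
            rw [Finset.sum_insert hq, hQ.polar_bilinear.add_right, hQ.polar_bilinear.smul_right,
              hp p (Finset.mem_insert_self _ _) q (Finset.mem_insert_of_mem (hu (Finset.mem_insert_self _ _))),
              mul_zero, zero_add, ihu ((Finset.subset_insert _ _).trans hu)]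
        exact hind s subset_rfl
      rw [this, mul_zero]
    rw [Finset.sum_insert hp', quad_add hQ, hpolar, add_zero, hQ.smul, hz p (Finset.mem_insert_self _ _),
      mul_zero, zero_add]
    exact ih (fun a ha b hb => hp a (Finset.mem_insert_of_mem ha) b (Finset.mem_insert_of_mem hb))
      fun a ha => hz a (Finset.mem_insert_of_mem ha)

variable [Fintype F]

/-- In characteristic two an isometry of the polar form mapping a singular basis to singular vectors is an isometry. -/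
lemma quad_eq_of_cols (h2 : (2 : F) = 0) (hQ : IsNondegenerateQuadraticForm Q) {h P : GL ι F}
    (hiso : ∀ u v, QuadraticMap.polar Q ((h : Matrix ι ι F) *ᵥ u) ((h : Matrix ι ι F) *ᵥ v) = QuadraticMap.polar Q u v)
    (hb : ∀ a, Q ((P : Matrix ι ι F) *ᵥ Pi.single a 1) = 0)
    (hhb : ∀ a, Q ((h : Matrix ι ι F) *ᵥ ((P : Matrix ι ι F) *ᵥ Pi.single a 1)) = 0) (v : ι → F) :
    Q ((h : Matrix ι ι F) *ᵥ v) = Q v := by
  have hneg : ∀ a : F, a = -a := fun a => eq_neg_of_add_eq_zero_left (by rw [← two_mul, h2, zero_mul])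
  let W : Submodule F (ι → F) :=
    { carrier := {v | Q ((h : Matrix ι ι F) *ᵥ v) = Q v}
      add_mem' := fun {a b} (ha : Q _ = _) (hb : Q _ = _) => by
        show Q _ = Q _
        rw [mulVec_add, quad_add hQ, quad_add hQ, ha, hb, hiso]
      zero_mem' := by show Q _ = Q _; rw [mulVec_zero]
      smul_mem' := fun c a (ha : Q _ = _) => by
        show Q _ = Q _
        rw [mulVec_smul, hQ.smul, hQ.smul, ha] }
  have hmem : ∀ a, (P : Matrix ι ι F) *ᵥ Pi.single a 1 ∈ W := fun a => (hhb a).trans (hb a).symm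
  have hw : ∀ w : ι → F, (P : Matrix ι ι F) *ᵥ w ∈ W := fun w => by
    rw [pi_eq_sum_univ' w, mulVec_sum]
    exact Submodule.sum_mem _ fun a _ => by rw [mulVec_smul]; exact W.smul_mem _ (hmem a)
  have := hw (((P⁻¹ : GL ι F) : Matrix ι ι F) *ᵥ v)
  rwa [mulVec_mulVec, Units.mul_inv, one_mulVec] at this

/-- A quadratic form in characteristic two with given alternating polar form, singular on a given basis. -/
lemma exists_quad_of_basis (h2 : (2 : F) = 0) {f : (ι → F) → (ι → F) → F} (hf : IsSymplecticForm f) (P : GL ι F) :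
    ∃ Q : (ι → F) → F, IsNondegenerateQuadraticForm Q ∧ (∀ u v, QuadraticMap.polar Q u v = f u v) ∧
      ∀ a, Q ((P : Matrix ι ι F) *ᵥ Pi.single a 1) = 0 := by
  classical
  have hs := isSesq_of_bilinear hf.bilinear
  let en := Fintype.equivFin ι
  set Γ : Matrix ι ι F := (P : Matrix ι ι F)ᵀ * gramMatrix f * (P : Matrix ι ι F) with hΓ
  have hΓf : ∀ u v, f ((P : Matrix ι ι F) *ᵥ u) ((P : Matrix ι ι F) *ᵥ v) = u ⬝ᵥ (Γ *ᵥ v) := fun u v => by
    rw [hs.eq_gram, hΓ, show (RingEquiv.refl F) ∘ ((P : Matrix ι ι F) *ᵥ v) = (P : Matrix ι ι F) *ᵥ v from rfl,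
      ← vecMul_transpose (P : Matrix ι ι F) u, ← dotProduct_mulVec, mulVec_mulVec, mulVec_mulVec]
  set U : Matrix ι ι F := Matrix.of fun i j => if en i < en j then Γ i j else 0 with hU
  have hneg : ∀ a : F, a = -a := fun a => eq_neg_of_add_eq_zero_left (by rw [← two_mul, h2, zero_mul])
  have hUU : U + Uᵀ = Γ := by
    ext i j
    have e1 : Γ j i = Γ i j := by
      have h := hf.skew ((P : Matrix ι ι F) *ᵥ Pi.single j 1) ((P : Matrix ι ι F) *ᵥ Pi.single i 1)
      rw [hΓf, hΓf, ← hneg] at h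
      simpa using h
    simp only [Matrix.add_apply, transpose_apply, hU, Matrix.of_apply]
    rcases lt_trichotomy (en i) (en j) with h | h | h
    · rw [if_pos h, if_neg h.not_gt, add_zero]
    · have hij : i = j := en.injective h
      subst hij
      have := hf.alternating ((P : Matrix ι ι F) *ᵥ Pi.single i 1)
      rw [hΓf] at this
      simp only [mulVec_single_one, single_one_dotProduct] at this
      rw [if_neg (lt_irrefl _), add_zero]
      simpa using this.symm
    · rw [if_neg h.not_gt, if_pos h, zero_add, e1]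
  set R : Matrix ι ι F := ((P⁻¹ : GL ι F) : Matrix ι ι F)
  have hPR : ∀ w : ι → F, (P : Matrix ι ι F) *ᵥ (R *ᵥ w) = w := fun w => by
    simp only [R, mulVec_mulVec, Units.mul_inv, one_mulVec]
  refine ⟨fun v => (R *ᵥ v) ⬝ᵥ (U *ᵥ (R *ᵥ v)), ?_, ?_, fun a => ?_⟩
  rotate_left
  · intro u v
    have h := hΓf (R *ᵥ u) (R *ᵥ v)
    rw [hPR, hPR] at h
    rw [h, ← hUU, add_mulVec, dotProduct_add, dotProduct_mulVec (R *ᵥ u) Uᵀ, vecMul_transpose,
      dotProduct_comm (U *ᵥ (R *ᵥ u))]
    simp only [QuadraticMap.polar, mulVec_add, add_dotProduct, dotProduct_add, R]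
    ring
  · simp only [R, mulVec_mulVec, Units.inv_mul, one_mulVec]
    simp [hU]
  · have hp : QuadraticMap.polar (fun v => (R *ᵥ v) ⬝ᵥ (U *ᵥ (R *ᵥ v))) = f := by
      funext u v
      have h := hΓf (R *ᵥ u) (R *ᵥ v)
      rw [hPR, hPR] at h
      rw [h, ← hUU, add_mulVec, dotProduct_add, dotProduct_mulVec (R *ᵥ u) Uᵀ, vecMul_transpose,
        dotProduct_comm (U *ᵥ (R *ᵥ u))]
      simp only [QuadraticMap.polar, mulVec_add, add_dotProduct, dotProduct_add, R]
      ring
    refine ⟨fun c v => ?_, by rw [hp]; exact hf.bilinear, by rw [hp]; exact hf.nondegenerate⟩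
    simp only [mulVec_smul, smul_dotProduct, dotProduct_smul, smul_eq_mul]
    ring

end Quad

variable [Fintype F]

/-- The outcomes common to all forms. -/
theorem IsRefl.form_structure {σ : F ≃+* F} {ε : F} {f : (ι → F) → (ι → F) → F} (hf : IsRefl σ ε f)
    (hn : 3 ≤ Fintype.card ι) {G : Subgroup (GL ι F)} (hfix : FixesForm (matrixSet G) f)
    (hkind : σ ≠ RingEquiv.refl F ∨ ε = -1 ∨ Odd (Fintype.card ι)) :
    HasFormSubspace f G ∨
    (HasFormDecomposition f G ∧ (ActsIrreducibly (matrixSet G) ∨ Even (Fintype.card ι))) ∨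
    (ActsIrreducibly (matrixSet G) ∧
      (HasFormField hf G ∨
      (∃ (n₁ n₂ : ℕ) (e : ι ≃ Fin n₁ × Fin n₂) (P : GL ι F) (B : Matrix (Fin n₁) (Fin n₁) F)
          (C : Matrix (Fin n₂) (Fin n₂) F), IsTensorGram σ f G e P B C) ∨
      (∃ (t d : ℕ) (e : ι ≃ (Fin t → Fin d)) (P : GL ι F) (B : Matrix (Fin d) (Fin d) F) (c : F),
          2 ≤ t ∧ 2 ≤ d ∧ IsPowerGram σ f G e P B c ∧
          ∃ K : Subgroup (GL (Fin d) F), K ≠ ⊥ ∧ ⁅K, K⁆ = K ∧
            ∀ g ∈ K, (g : Matrix (Fin d) (Fin d) F)ᵀ * B * (g : Matrix (Fin d) (Fin d) F).map σ = B) ∨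
      (∃ N : Subgroup (GL ι F), NormSub G N ∧ ActsAbsolutelyIrreducibly (matrixSet N) ∧
        ((∃ F₀ : Subfield F, F₀ ≠ ⊤ ∧ RealisableOver F₀ (matrixSet N)) ∨
        (σ = RingEquiv.refl F ∧ ε = -1 ∧ ∃ p k : ℕ, p.Prime ∧ Odd p ∧ Fintype.card F = p ∧
          IsSymplecticTypeGroup 2 N ∧ Nat.card N = 2 ^ (1 + 2 * k) ∧ Nat.card (Subgroup.center N) = 2 ∧
          IsOfMinusType k N ∧ ⁅N, N⁆ ≤ scalars ι F ∧ Fintype.card ι = 2 ^ k) ∨
        (σ ≠ RingEquiv.refl F ∧ ∃ r p e k : ℕ, IsSymplecticTypeGroup r N ∧ r ≠ p ∧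
          IsMinimalFieldFor (Nat.card (Subgroup.center N)) p e F ∧
          ((Odd r ∧ Nat.card (Subgroup.center N) = r ∧ 1 ≤ k ∧ Nat.card N = r ^ (1 + 2 * k)) ∨
           (r = 2 ∧ e = 2 ∧ Nat.card (Subgroup.center N) = 4 ∧ Nat.card N = 2 ^ (2 + 2 * k))) ∧
          ⁅N, N⁆ ≤ scalars ι F ∧ Fintype.card ι = r ^ k) ∨
        IsResidualCore G N)))) := by
  classical
  have : Nonempty ι := Fintype.card_pos_iff.mp (by omega)
  by_cases hsub : HasFormSubspace f G
  · exact Or.inl hsub
  right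
  by_cases hirr : ActsIrreducibly (matrixSet G)
  swap
  · exact Or.inl ⟨((hf.reducible_cases hfix hirr).resolve_left hsub).1,
      Or.inr ((hf.reducible_cases hfix hirr).resolve_left hsub).2⟩
  by_cases hclean : Clean G
  swap
  · unfold Clean at hclean
    push Not at hclean
    obtain ⟨N, hN, hNs, hna⟩ := hclean
    rcases hf.notClean_cases hfix hirr hN hNs hna with h | h | h
    · exact Or.inl ⟨h, Or.inl hirr⟩
    · exact Or.inr ⟨hirr, Or.inl h⟩
    · exact Or.inr ⟨hirr, Or.inr (Or.inl h)⟩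
  refine Or.inr ⟨hirr, Or.inr (Or.inr ?_)⟩
  obtain ⟨N, hN, hNs, hmin⟩ := exists_minimal_normal (not_le_scalars_of_irreducible (by omega) hirr)
  by_cases hcl : ⁅N, N⁆ ≤ scalars ι F
  · right
    refine ⟨N, hN, hclean _ hN hNs, ?_⟩
    rcases hf.classTwo_form_cases hn hfix hclean hN hNs hmin hcl hkind with h | h | h
    · exact Or.inl h
    · exact Or.inr (Or.inl h)
    · exact Or.inr (Or.inr (Or.inl h))
  rcases perfect_cases' hn hclean hN hmin hcl with ⟨-, -, t, d, e, P, hD⟩ | ⟨hperf, hsimp, hna, hcent, habs⟩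
  · obtain ⟨P', B, c, hP, hK⟩ := hf.exists_powerGram hfix hN.1 hD
    exact Or.inl ⟨t, d, e, P', B, c, hD.two_le_count, hD.two_le_dim, hP, hK⟩
  right
  refine ⟨N, hN, habs, ?_⟩
  by_cases hre : ∃ F₀ : Subfield F, F₀ ≠ ⊤ ∧ RealisableOver F₀ (matrixSet N)
  · exact Or.inl hre
  exact Or.inr (Or.inr (Or.inr ⟨hN.1, fun h hh x hx => hN.2 h hh x hx, hperf, hsimp, hna, hcent, habs,
    fun F₀ h0 h1 => hre ⟨F₀, h0, h1⟩⟩))

end CfsgLib.Aschbacher
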