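import Cfsg.Agent.Aschbacher.Form.Refl
import Cfsg.Agent.Aschbacher.General.Maximal
import Cfsg.Agent.Aschbacher.UnitaryRational

/-!
A commutative adjoint-closed algebra normalised by an irreducible group of isometries gives a decomposition
compatible with the form, or an extension field closed under adjoints.
-/
set_option autoImplicit false
set_option maxHeartbeats 1000000

namespace CfsgLib.Aschbacher

open Matrix Cfsg.Geo CfsgLib.GeoClifford
open scoped MatrixGroups

variable {ι : Type} [Fintype ι] [DecidableEq ι] {F : Type*} [Field F]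

/-- Conjugation. -/
def cjm (g : GL ι F) (x : Matrix ι ι F) : Matrix ι ι F :=
  (g : Matrix ι ι F) * x * ((g⁻¹ : GL ι F) : Matrix ι ι F)

lemma cjm_mul (g : GL ι F) (x y : Matrix ι ι F) : cjm g x * cjm g y = cjm g (x * y) := by
  simp [cjm, mul_assoc]

lemma cjm_cjm (g h : GL ι F) (x : Matrix ι ι F) : cjm g (cjm h x) = cjm (g * h) x := by
  simp only [cjm, _root_.mul_inv_rev, Units.val_mul, mul_assoc]

lemma cjm_one (x : Matrix ι ι F) : cjm 1 x = x := by simp [cjm]

lemma cjm_injective (g : GL ι F) : Function.Injective (cjm g) := by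
  intro x y h
  have := congrArg (cjm g⁻¹) h
  rwa [cjm_cjm, cjm_cjm, inv_mul_cancel, cjm_one, cjm_one] at this

lemma range_cjm (g : GL ι F) (x : Matrix ι ι F) :
    LinearMap.range (Matrix.toLin' (cjm g x)) =
      (LinearMap.range (Matrix.toLin' x)).map (Matrix.toLin' (g : Matrix ι ι F)) := by
  have hs : LinearMap.range (Matrix.toLin' ((g⁻¹ : GL ι F) : Matrix ι ι F)) = ⊤ := by
    rw [LinearMap.range_eq_top]
    intro v
    exact ⟨(g : Matrix ι ι F) *ᵥ v, by simp [mulVec_mulVec]⟩
  simp only [cjm, Matrix.toLin'_mul]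
  rw [LinearMap.range_comp_of_range_eq_top _ hs, LinearMap.range_comp]

lemma mulVec_eq_of_mem_range {e : Matrix ι ι F} (he : e * e = e) {v : ι → F}
    (hv : v ∈ LinearMap.range (Matrix.toLin' e)) : e *ᵥ v = v := by
  obtain ⟨w, rfl⟩ := hv
  rw [Matrix.toLin'_apply, mulVec_mulVec, he]

/-- An irreducible group permuting orthogonal idempotents of sum one is transitive on them and stabilises their
decomposition. -/
theorem decomp_of_idempotents [Fintype F] {G : Subgroup (GL ι F)} (hirr : ActsIrreducibly (matrixSet G))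
    (O : Finset (Matrix ι ι F)) (h2 : 2 ≤ O.card) (hidem : ∀ e ∈ O, e * e = e)
    (horth : ∀ a ∈ O, ∀ b ∈ O, a ≠ b → a * b = 0) (hne : ∀ e ∈ O, e ≠ 0)
    (hstab : ∀ g ∈ G, ∀ e ∈ O, cjm g e ∈ O) (hsum : ∑ e ∈ O, e = 1) :
    (∀ a ∈ O, ∀ b ∈ O, ∃ g ∈ G, cjm g a = b) ∧
    ∃ (m : ℕ) (en : Fin O.card ≃ O),
      IsMDecomposition m (fun i => LinearMap.range (Matrix.toLin' (en i : Matrix ι ι F))) ∧
      G ≤ decompositionStabilizer (fun i => LinearMap.range (Matrix.toLin' (en i : Matrix ι ι F))) := by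
  classical
  have hperm : ∀ g ∈ G, O.image (cjm g) = O := fun g hg =>
    Finset.eq_of_subset_of_card_le (fun e he => by
      obtain ⟨a, ha, rfl⟩ := Finset.mem_image.mp he
      exact hstab g hg a ha) (by rw [Finset.card_image_of_injective _ (cjm_injective g)])
  have htr : ∀ a ∈ O, ∀ b ∈ O, ∃ g ∈ G, cjm g a = b := by
    intro a ha b hb
    by_contra hcon
    push Not at hcon
    set O' := O.filter (fun e => ∃ g ∈ G, cjm g a = e) with hO'
    have haO' : a ∈ O' := Finset.mem_filter.mpr ⟨ha, 1, G.one_mem, cjm_one a⟩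
    set u := ∑ e ∈ O', e with hu
    have hue : ∀ e ∈ O', u * e = e := fun e he => by
      rw [hu, Finset.sum_mul, Finset.sum_eq_single e
        (fun c hc hce => horth c (Finset.mem_filter.mp hc).1 e (Finset.mem_filter.mp he).1 hce)
        (fun h => absurd he h), hidem e (Finset.mem_filter.mp he).1]
    have huu : u * u = u := by
      rw [hu, Finset.mul_sum]
      exact Finset.sum_congr rfl hue
    have hperm' : ∀ g ∈ G, O'.image (cjm g) = O' := fun g hg =>
      Finset.eq_of_subset_of_card_le (fun e he => by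
        obtain ⟨c, hc, rfl⟩ := Finset.mem_image.mp he
        obtain ⟨hcO, h, hh, rfl⟩ := Finset.mem_filter.mp hc
        exact Finset.mem_filter.mpr ⟨hstab g hg _ hcO, g * h, G.mul_mem hg hh, (cjm_cjm g h a).symm⟩)
        (by rw [Finset.card_image_of_injective _ (cjm_injective g)])
    have hufix : ∀ g ∈ G, cjm g u = u := fun g hg => by
      calc cjm g u = ∑ e ∈ O', cjm g e := by simp only [hu, cjm, Finset.mul_sum, Finset.sum_mul]
        _ = ∑ e ∈ O'.image (cjm g), e :=
          (Finset.sum_image (f := fun e => e) (g := cjm g) (fun a _ b _ h => cjm_injective g h)).symm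
        _ = u := by rw [hperm' g hg]
    have htop : LinearMap.range (Matrix.toLin' u) = ⊤ := by
      refine eq_top_of_invariant hirr _ ?_ ?_
      · intro hb'
        rw [LinearMap.range_eq_bot, LinearEquiv.map_eq_zero_iff] at hb'
        exact hne a ha (by rw [← hue a haO', hb', zero_mul])
      · intro g hg v hv
        have h := (range_cjm g u).symm
        rw [hufix g hg] at h
        exact h.le ⟨v, hv, Matrix.toLin'_apply _ _⟩
    have hu1 : u = 1 := Matrix.ext_of_mulVec_single fun i => by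
      rw [one_mulVec]; exact mulVec_eq_of_mem_range huu (htop ▸ Submodule.mem_top)
    apply hne b hb
    rw [← one_mul b, ← hu1, hu, Finset.sum_mul]
    refine Finset.sum_eq_zero fun c hc => horth c (Finset.mem_filter.mp hc).1 b hb ?_
    rintro rfl
    obtain ⟨-, g, hg, hgc⟩ := Finset.mem_filter.mp hc
    exact hcon g hg hgc
  refine ⟨htr, ?_⟩
  obtain ⟨a0, ha0⟩ := Finset.card_pos.mp (show 0 < O.card by omega)
  let en : Fin O.card ≃ O := O.equivFin.symm
  refine ⟨Module.finrank F (LinearMap.range (Matrix.toLin' a0)), en, ⟨h2, ?_, fun i => ?_, ?_, ?_⟩, ?_⟩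
  · rw [Nat.pos_iff_ne_zero]
    intro h0
    rw [Submodule.finrank_eq_zero, LinearMap.range_eq_bot, LinearEquiv.map_eq_zero_iff] at h0
    exact hne a0 ha0 h0
  · obtain ⟨g, -, hg⟩ := htr a0 ha0 _ (en i).2
    show Module.finrank F (LinearMap.range (Matrix.toLin' (en i : Matrix ι ι F))) = _
    rw [← hg, range_cjm]
    exact (Submodule.equivMapOfInjective _ (fun v w h => mulVec_injective_GL g h) _).finrank_eq.symm
  · intro i
    rw [disjoint_iff_inf_le]
    rintro x ⟨hx1, hx2⟩
    have hle : (⨆ (j) (_ : j ≠ i), LinearMap.range (Matrix.toLin' (en j : Matrix ι ι F))) ≤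
        LinearMap.ker (Matrix.toLin' (en i : Matrix ι ι F)) := by
      refine iSup₂_le fun j hj => ?_
      rintro _ ⟨z, rfl⟩
      rw [LinearMap.mem_ker, ← LinearMap.comp_apply, ← Matrix.toLin'_mul,
        horth _ (en i).2 _ (en j).2 (fun h => hj (en.injective (Subtype.ext h.symm)))]
      simp
    have h1 := LinearMap.mem_ker.mp (hle hx2)
    rw [Matrix.toLin'_apply, mulVec_eq_of_mem_range (hidem _ (en i).2) hx1] at h1
    exact h1 ▸ Submodule.zero_mem _
  · rw [eq_top_iff]
    intro v _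
    have hv : v = ∑ e ∈ O, Matrix.toLin' e v := by
      rw [← LinearMap.sum_apply, ← map_sum, hsum]; simp
    rw [hv]
    refine Submodule.sum_mem _ fun e he => Submodule.mem_iSup_of_mem (en.symm ⟨e, he⟩) ?_
    simp only [Equiv.apply_symm_apply]
    exact LinearMap.mem_range_self _ v
  · intro g hg
    let π : O ≃ O :=
      Equiv.ofBijective (fun e => ⟨cjm g e, hstab g hg _ e.2⟩)
        (Finite.injective_iff_bijective.mp fun a b hab => Subtype.ext (cjm_injective g (congrArg Subtype.val hab)))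
    refine ⟨(en.trans π).trans en.symm, fun i => ?_⟩
    simp only [Equiv.trans_apply, Equiv.apply_symm_apply]
    exact (range_cjm g _).symm

/-- The elements of a field subalgebra as roots of `X ^ (q ^ r') - X`. -/
lemma exists_subfield_algebra' [Fintype F] [Nonempty ι] {r r' : ℕ} {K : Subalgebra F (Matrix ι ι F)}
    (hK : IsFieldSubalgebra r K) (hr' : r' ∣ r) (hr0 : 0 < r') :
    ∃ K' : Subalgebra F (Matrix ι ι F), IsFieldSubalgebra r' K' ∧ K' ≤ K ∧
      ∀ x ∈ K, x ^ Fintype.card F ^ r' = x ↔ x ∈ K' := by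
  classical
  have hfield : IsField K :=
    { exists_pair_ne := ⟨0, 1, fun h => by
        have h' := congrArg Subtype.val h
        simp at h'⟩
      mul_comm := fun a b => Subtype.ext (hK.comm a.1 a.2 b.1 b.2)
      mul_inv_cancel := fun {a} ha => by
        obtain ⟨y, hy, hy1⟩ := hK.inv a.1 a.2 (fun h => ha (Subtype.ext h))
        exact ⟨⟨y, hy⟩, Subtype.ext hy1⟩ }
  letI : Field K := hfield.toField
  letI : Fintype K := Fintype.ofFinite K
  obtain ⟨p, hchar⟩ := CharP.exists F
  obtain ⟨f, hp, hF⟩ := FiniteField.card F p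
  have hcard : Fintype.card K = p ^ ((f : ℕ) * r) := by
    rw [Module.card_eq_pow_finrank (K := F) (V := K), hF, ← pow_mul, hK.finrank_eq]
  obtain ⟨K₀, hK0, hmem⟩ := exists_subfield_card hp hcard (m := (f : ℕ) * r') (mul_dvd_mul_left _ hr')
    (Nat.mul_pos f.pos hr0)
  have halg : ∀ c : F, algebraMap F K c ∈ K₀ := by
    intro c
    refine hmem _ ?_
    rw [← map_pow, pow_mul, ← hF, FiniteField.pow_card_pow]
  let S : Subalgebra F K :=
    { carrier := {x | x ∈ K₀}
      mul_mem' := fun {a b} ha hb => K₀.mul_mem ha hb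
      add_mem' := fun {a b} ha hb => K₀.add_mem ha hb
      algebraMap_mem' := halg }
  have hS : Module.finrank F S = r' := by
    letI : Fintype S := Fintype.ofFinite S
    have h1 : Fintype.card S = p ^ ((f : ℕ) * r') := by rw [← Nat.card_eq_fintype_card]; exact hK0
    rw [Module.card_eq_pow_finrank (K := F) (V := S), hF, ← pow_mul] at h1
    exact Nat.eq_of_mul_eq_mul_left f.pos (Nat.pow_right_injective hp.two_le h1)
  refine ⟨S.map K.val, ⟨?_, ?_, ?_⟩, ?_, ?_⟩
  · rintro _ ⟨a, -, rfl⟩ _ ⟨b, -, rfl⟩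
    exact hK.comm a.1 a.2 b.1 b.2
  · rintro _ ⟨a, ha, rfl⟩ h0
    have ha0 : a ≠ 0 := fun h => h0 (congrArg Subtype.val h)
    exact ⟨_, ⟨a⁻¹, K₀.inv_mem ha, rfl⟩, congrArg Subtype.val (mul_inv_cancel₀ ha0)⟩
  · rw [← hS]
    exact (LinearEquiv.finrank_eq (Submodule.equivMapOfInjective K.val.toLinearMap Subtype.val_injective
      (Subalgebra.toSubmodule S))).symm
  · rintro _ ⟨a, -, rfl⟩
    exact a.2
  · intro x hx
    refine ⟨fun h => ⟨⟨x, hx⟩, hmem _ (Subtype.ext ?_), rfl⟩, ?_⟩
    · show x ^ p ^ ((f : ℕ) * r') = x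
      rw [pow_mul, ← hF]
      exact h
    · rintro ⟨a, ha, rfl⟩
      have h2 := congrArg Subtype.val ((mem_subfield_iff K₀ a).mp ha)
      rw [hK0, pow_mul, ← hF] at h2
      exact h2

namespace IsRefl

variable {σ : F ≃+* F} {ε : F} {f : (ι → F) → (ι → F) → F}

lemma adj_pow (hf : IsRefl σ ε f) (a : Matrix ι ι F) (n : ℕ) : hf.adj (a ^ n) = hf.adj a ^ n := by
  induction n with
  | zero => rw [pow_zero, pow_zero, hf.adj_one]
  | succ n ih => rw [pow_succ, hf.adj_mul, ih, pow_succ']

lemma adj_sum {α : Type*} (hf : IsRefl σ ε f) (s : Finset α) (a : α → Matrix ι ι F) :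
    hf.adj (∑ i ∈ s, a i) = ∑ i ∈ s, hf.adj (a i) := by
  classical
  induction s using Finset.induction_on with
  | empty => rw [Finset.sum_empty, Finset.sum_empty, hf.adj_zero]
  | insert i s hi ih => rw [Finset.sum_insert hi, Finset.sum_insert hi, hf.adj_add, ih]

variable [Fintype F]

/-- A commutative adjoint-closed algebra normalised by an irreducible group of isometries. -/
theorem commutative_cases (hf : IsRefl σ ε f) [Nonempty ι] {G : Subgroup (GL ι F)}
    (hfix : FixesForm (matrixSet G) f) (hirr : ActsIrreducibly (matrixSet G)) {R : Subalgebra F (Matrix ι ι F)}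
    (hcomm : ∀ x ∈ R, ∀ y ∈ R, x * y = y * x) (hstab : ConjStable G R) (hadj : ∀ x ∈ R, hf.adj x ∈ R) :
    HasFormDecomposition f G ∨ IsFieldSubalgebra (Module.finrank F R) R := by
  classical
  let idem : Matrix ι ι F → Prop := fun e => e ∈ R ∧ e * e = e
  set O : Finset (Matrix ι ι F) := Finset.univ.filter
    (fun e => idem e ∧ e ≠ 0 ∧ ∀ e', idem e' → e' * e = e' → e' = 0 ∨ e' = e) with hO
  have memO : ∀ {e}, e ∈ O ↔ idem e ∧ e ≠ 0 ∧ ∀ e', idem e' → e' * e = e' → e' = 0 ∨ e' = e := by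
    simp [hO]
  have hbelow : ∀ x, idem x → x ≠ 0 → ∃ e ∈ O, e * x = e := by
    intro x hx hx0
    obtain ⟨e, he, hmin⟩ := Finset.exists_min_image
      (Finset.univ.filter (fun e => idem e ∧ e ≠ 0 ∧ e * x = e))
      (fun e => Module.finrank F (LinearMap.range (Matrix.toLin' e)))
      ⟨x, by simp [hx, hx0, hx.2]⟩
    obtain ⟨-, hei, he0, hex⟩ := Finset.mem_filter.mp he
    refine ⟨e, memO.mpr ⟨hei, he0, fun e' he' hle => ?_⟩, hex⟩
    by_cases h0 : e' = 0
    · exact Or.inl h0
    right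
    have h1 := hmin e' (Finset.mem_filter.mpr ⟨Finset.mem_univ _, he', h0, by rw [← hle, mul_assoc, hex]⟩)
    have hc : e * e' = e' := by rw [hcomm e hei.1 e' he'.1, hle]
    have hsub : LinearMap.range (Matrix.toLin' e') ≤ LinearMap.range (Matrix.toLin' e) := by
      rw [← hc, Matrix.toLin'_mul]; exact LinearMap.range_comp_le_range _ _
    have heq := Submodule.eq_of_le_of_finrank_le hsub h1
    rw [← hle]
    refine Matrix.ext_of_mulVec_single fun i => ?_
    rw [← mulVec_mulVec, mulVec_eq_of_mem_range he'.2 (heq ▸ ⟨Pi.single i 1, Matrix.toLin'_apply _ _⟩)]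
  have hidem : ∀ e ∈ O, e * e = e := fun e he => (memO.mp he).1.2
  have horth : ∀ a ∈ O, ∀ b ∈ O, a ≠ b → a * b = 0 := by
    intro a ha b hb hab
    obtain ⟨hai, -, hamin⟩ := memO.mp ha
    obtain ⟨hbi, -, hbmin⟩ := memO.mp hb
    have hc := hcomm a hai.1 b hbi.1
    have hab' : idem (a * b) := ⟨R.mul_mem hai.1 hbi.1, by
      rw [mul_assoc, ← mul_assoc b, ← hc, mul_assoc a b b, hbi.2, ← mul_assoc, hai.2]⟩
    rcases hamin _ hab' (by rw [hc, mul_assoc, hai.2]) with h | h
    · exact h
    rcases hbmin _ hab' (by rw [mul_assoc, hbi.2]) with h' | h'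
    · exact h'
    exact absurd (h.symm.trans h') hab
  have hne : ∀ e ∈ O, e ≠ 0 := fun e he => (memO.mp he).2.1
  have hstabO : ∀ g ∈ G, ∀ e ∈ O, cjm g e ∈ O := by
    intro g hg e he
    obtain ⟨hei, he0, hemin⟩ := memO.mp he
    refine memO.mpr ⟨⟨hstab g hg e hei.1, by rw [cjm_mul, hei.2]⟩,
      fun h => he0 (cjm_injective g (h.trans (by simp [cjm]))), fun e' he' hle => ?_⟩
    have hb : idem (cjm g⁻¹ e') := ⟨hstab g⁻¹ (G.inv_mem hg) e' he'.1, by rw [cjm_mul, he'.2]⟩
    have hback : cjm g (cjm g⁻¹ e') = e' := by rw [cjm_cjm, mul_inv_cancel, cjm_one]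
    rcases hemin _ hb (by
        apply cjm_injective g
        rw [← cjm_mul, hback, hle]) with h | h
    · exact Or.inl (by rw [← hback, h]; simp [cjm])
    · exact Or.inr (by rw [← hback, h])
  have hadjO : ∀ e ∈ O, hf.adj e ∈ O := by
    intro e he
    obtain ⟨hei, he0, hemin⟩ := memO.mp he
    refine memO.mpr ⟨⟨hadj e hei.1, by rw [← hf.adj_mul, hei.2]⟩,
      fun h => he0 (by rw [← hf.adj_adj e, h, hf.adj_zero]), fun e' he' hle => ?_⟩
    rcases hemin (hf.adj e') ⟨hadj e' he'.1, by rw [← hf.adj_mul, he'.2]⟩ (by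
        rw [hcomm _ (hadj e' he'.1) e hei.1, ← hf.adj_adj e, ← hf.adj_mul, hle]) with h | h
    · exact Or.inl (by rw [← hf.adj_adj e', h, hf.adj_zero])
    · exact Or.inr (by rw [← hf.adj_adj e', h])
  have hR1 : idem 1 := ⟨R.one_mem, one_mul 1⟩
  have hsum : ∑ e ∈ O, e = 1 := by
    set u := ∑ e ∈ O, e with hu
    have huR : u ∈ R := R.sum_mem fun e he => (memO.mp he).1.1
    have hue : ∀ e ∈ O, u * e = e := fun e he => by
      rw [hu, Finset.sum_mul, Finset.sum_eq_single e (fun c hc hce => horth c hc e he hce)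
        (fun h => absurd he h), hidem e he]
    have huu : u * u = u := by
      rw [hu, Finset.mul_sum]
      exact Finset.sum_congr rfl hue
    by_contra hcon
    have hi : idem (1 - u) := ⟨R.sub_mem R.one_mem huR, by
      rw [sub_mul, one_mul, mul_sub, mul_one, huu, sub_self, sub_zero]⟩
    obtain ⟨e, he, hex⟩ := hbelow _ hi (sub_ne_zero.mpr (Ne.symm hcon))
    apply hne e he
    rw [← hex, mul_sub, mul_one, hcomm e (memO.mp he).1.1 u huR, hue e he, sub_self]
  by_cases h2 : 2 ≤ O.card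
  swap
  · right
    refine ⟨hcomm, fun x hx hx0 => ?_, rfl⟩
    obtain ⟨k, hk, hkk⟩ := exists_idem_pow x
    have hall : ∀ e, idem e → e ≠ 0 → e = 1 := fun e he he0 => by
      obtain ⟨c, hc, hce⟩ := hbelow e he he0
      have hc1 : c = 1 := by
        rw [← hsum, Finset.eq_singleton_iff_unique_mem.mpr
          ⟨hc, fun d hd => Finset.card_le_one.mp (by omega) d hd c hc⟩, Finset.sum_singleton]
      rwa [hc1, one_mul] at hce
    by_cases h0 : x ^ k = 0
    · exact absurd (nilpotent_eq_zero hirr hcomm hstab hx ⟨k, h0⟩) hx0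
    refine ⟨x ^ (k - 1), R.pow_mem hx _, ?_⟩
    rw [← pow_succ', Nat.sub_add_cancel hk]
    exact hall _ ⟨R.pow_mem hx k, hkk⟩ h0
  left
  obtain ⟨htr, m, en, hD, hG⟩ := decomp_of_idempotents hirr O h2 hidem horth hne hstabO hsum
  -- orthogonality of ranges
  have hperp : ∀ a ∈ O, ∀ b ∈ O, hf.adj a ≠ b → ∀ u ∈ LinearMap.range (Matrix.toLin' a),
      ∀ v ∈ LinearMap.range (Matrix.toLin' b), f u v = 0 := by
    intro a ha b hb hab u hu v hv
    rw [← mulVec_eq_of_mem_range (hidem a ha) hu, hf.adj_spec, ← mulVec_eq_of_mem_range (hidem b hb) hv,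
      mulVec_mulVec, horth _ (hadjO a ha) b hb hab, zero_mulVec]
    exact hf.sesq.zero_right _
  -- self-adjoint idempotents
  have hself : ∀ O' : Finset (Matrix ι ι F), 2 ≤ O'.card → (∀ e ∈ O', e * e = e) →
      (∀ a ∈ O', ∀ b ∈ O', a ≠ b → a * b = 0) → (∀ e ∈ O', e ≠ 0) → (∀ g ∈ G, ∀ e ∈ O', cjm g e ∈ O') →
      ∑ e ∈ O', e = 1 → (∀ e ∈ O', hf.adj e = e) → HasFormDecomposition f G := by
    intro O' h2' hidem' horth' hne' hstab' hsum' hadj'
    obtain ⟨-, m', en', hD', hG'⟩ := decomp_of_idempotents hirr O' h2' hidem' horth' hne' hstab' hsum'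
    refine Or.inl ⟨O'.card, m', _, ⟨hD', fun i w hw hw0 => ?_, fun i j hij u hu v hv => ?_⟩, hG'⟩
    · obtain ⟨⟨x, hx⟩, -⟩ := hf.nd w hw0
      have he := hadj' _ (en' i).2
      have hmem : (en' i : Matrix ι ι F) *ᵥ x ∈ LinearMap.range (Matrix.toLin' (en' i : Matrix ι ι F)) :=
        ⟨x, Matrix.toLin'_apply _ _⟩
      have h1 : f ((en' i : Matrix ι ι F) *ᵥ x) w ≠ 0 := by
        rw [hf.adj_spec, he, mulVec_eq_of_mem_range (hidem' _ (en' i).2) hw]; exact hx
      exact ⟨⟨_, hmem, h1⟩, _, hmem, fun h => h1 (hf.comm_zero h)⟩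
    · rw [← mulVec_eq_of_mem_range (hidem' _ (en' i).2) hu, hf.adj_spec, hadj' _ (en' i).2,
        ← mulVec_eq_of_mem_range (hidem' _ (en' j).2) hv, mulVec_mulVec,
        horth' _ (en' i).2 _ (en' j).2 (fun h => hij (en'.injective (Subtype.ext h))), zero_mulVec]
      exact hf.sesq.zero_right _
  by_cases hfixed : ∃ e ∈ O, hf.adj e = e
  · obtain ⟨a, ha, haa⟩ := hfixed
    refine hself O h2 hidem horth hne hstabO hsum fun b hb => ?_
    obtain ⟨g, hg, rfl⟩ := htr a ha b hb
    show hf.adj (cjm g a) = cjm g a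
    rw [cjm, hf.adj_conj hfix hg, haa]
  push Not at hfixed
  set O' := O.image (fun e => e + hf.adj e) with hO'
  have hkey : ∀ a ∈ O, ∀ b ∈ O, b ≠ a → b ≠ hf.adj a → (a + hf.adj a) * (b + hf.adj b) = 0 := by
    intro a ha b hb h1 h2
    rw [mul_add, add_mul, add_mul, horth a ha b hb (Ne.symm h1), horth _ (hadjO a ha) b hb (Ne.symm h2),
      horth a ha _ (hadjO b hb) (fun h => h2 (by rw [h, hf.adj_adj])),
      horth _ (hadjO a ha) _ (hadjO b hb) (fun h => h1 (by
        rw [← hf.adj_adj b, ← h, hf.adj_adj]))]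
    simp
  by_cases hpair : 2 ≤ O'.card
  · refine hself O' hpair ?_ ?_ ?_ ?_ ?_ ?_
    · intro e he
      obtain ⟨a, ha, rfl⟩ := Finset.mem_image.mp he
      rw [mul_add, add_mul, add_mul, hidem a ha, hidem _ (hadjO a ha), horth a ha _ (hadjO a ha)
        (Ne.symm (hfixed a ha)), horth _ (hadjO a ha) a ha (hfixed a ha)]
      abel
    · intro x hx y hy hxy
      obtain ⟨a, ha, rfl⟩ := Finset.mem_image.mp hx
      obtain ⟨b, hb, rfl⟩ := Finset.mem_image.mp hy
      exact hkey a ha b hb (fun h => hxy (by rw [h])) (fun h => hxy (by rw [h, hf.adj_adj, add_comm]))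
    · intro e he h0
      obtain ⟨a, ha, rfl⟩ := Finset.mem_image.mp he
      apply hne a ha
      have := congrArg (a * ·) h0
      simp only [mul_add, mul_zero, hidem a ha, horth a ha _ (hadjO a ha) (Ne.symm (hfixed a ha)), add_zero] at this
      exact this
    · intro g hg e he
      obtain ⟨a, ha, rfl⟩ := Finset.mem_image.mp he
      refine Finset.mem_image.mpr ⟨cjm g a, hstabO g hg a ha, ?_⟩
      rw [cjm, hf.adj_conj hfix hg, cjm, mul_add, add_mul]
    · have hc : ∀ a ∈ O, O.filter (fun b => b + hf.adj b = a + hf.adj a) = {a, hf.adj a} := by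
        intro a ha
        ext b
        simp only [Finset.mem_filter, Finset.mem_insert, Finset.mem_singleton]
        constructor
        · rintro ⟨hb, h⟩
          by_contra hcon
          push Not at hcon
          apply hne b hb
          have h1 := hkey a ha b hb hcon.1 hcon.2
          rw [h] at h1
          have h2 := congrArg (b * ·) h.symm
          simp only [mul_add, hidem b hb, horth b hb _ (hadjO b hb) (Ne.symm (hfixed b hb)), add_zero,
            horth b hb a ha hcon.1, horth b hb _ (hadjO a ha) hcon.2] at h2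
          exact h2.symm
        · rintro (rfl | rfl)
          · exact ⟨ha, rfl⟩
          · exact ⟨hadjO a ha, by rw [hf.adj_adj, add_comm]⟩
      rw [← hsum, ← Finset.sum_fiberwise_of_maps_to (g := fun b => b + hf.adj b) (t := O')
        (fun b hb => Finset.mem_image_of_mem _ hb)]
      refine Finset.sum_congr rfl fun e he => ?_
      obtain ⟨a, ha, rfl⟩ := Finset.mem_image.mp he
      rw [hc a ha, Finset.sum_pair (Ne.symm (hfixed a ha))]
    · intro e he
      obtain ⟨a, ha, rfl⟩ := Finset.mem_image.mp he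
      rw [hf.adj_add, hf.adj_adj, add_comm]
  -- two totally singular halves
  obtain ⟨a, ha⟩ := Finset.card_pos.mp (show 0 < O.card by omega)
  have hOpair : O = {a, hf.adj a} := by
    ext b
    simp only [Finset.mem_insert, Finset.mem_singleton]
    refine ⟨fun hb => ?_, fun h => by rcases h with rfl | rfl <;> [exact ha; exact hadjO a ha]⟩
    by_contra hcon
    push Not at hcon
    have h1 := hkey a ha b hb hcon.1 hcon.2
    rw [Finset.card_le_one.mp (show O'.card ≤ 1 by omega) _ (Finset.mem_image_of_mem _ hb) _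
      (Finset.mem_image_of_mem _ ha)] at h1
    apply hne a ha
    have h2 := congrArg (a * ·) h1
    simp only [mul_zero, mul_add, ← mul_assoc, hidem a ha, horth a ha _ (hadjO a ha) (Ne.symm (hfixed a ha)),
      add_mul, zero_mul, add_zero] at h2
    exact h2
  have hcard : O.card = 2 := by rw [hOpair, Finset.card_pair (Ne.symm (hfixed a ha))]
  refine Or.inr ⟨m, fun i => LinearMap.range (Matrix.toLin' (en (Fin.cast hcard.symm i) : Matrix ι ι F)), ?_, ?_,
    fun i u hu v hv => hperp _ (en _).2 _ (en _).2 (hfixed _ (en _).2) u hu v hv, ?_⟩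
  · have := decomposition_card hD
    rw [← this, hcard]
  · refine ⟨le_rfl, hD.pos, fun i => hD.finrank_eq _, hD.indep.comp (finCongr hcard.symm).injective, ?_⟩
    rw [← hD.iSup_eq_top]
    exact (finCongr hcard.symm).iSup_comp (g := fun i => LinearMap.range (Matrix.toLin' (en i : Matrix ι ι F)))
  · intro g hg
    obtain ⟨π, hπ⟩ := hG hg
    exact ⟨((finCongr hcard.symm).trans π).trans (finCongr hcard), fun i => by
      rw [hπ]; simp⟩

/-- For a unitary form an adjoint-closed field has odd degree. -/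
theorem odd_field_degree (hf : IsRefl σ ε f) [Nonempty ι] (hσ : σ ≠ RingEquiv.refl F) {r : ℕ}
    {K : Subalgebra F (Matrix ι ι F)} (hK : IsFieldSubalgebra r K) (hadj : ∀ x ∈ K, hf.adj x ∈ K) : Odd r := by
  classical
  by_contra hr
  obtain ⟨K', hK', hle, hmem⟩ := exists_subfield_algebra' hK (r' := 2)
    (even_iff_two_dvd.mp (Nat.not_odd_iff_even.mp hr)) two_pos
  have hadj' : ∀ x ∈ K', hf.adj x ∈ K' := fun x hx =>
    (hmem _ (hadj x (hle hx))).mp (by rw [← hf.adj_pow, (hmem x (hle hx)).mpr hx])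
  have hfield : IsField K' :=
    { exists_pair_ne := ⟨0, 1, fun h => by
        have h' := congrArg Subtype.val h
        simp at h'⟩
      mul_comm := fun a b => Subtype.ext (hK'.comm a.1 a.2 b.1 b.2)
      mul_inv_cancel := fun {a} ha => by
        obtain ⟨y, hy, hy1⟩ := hK'.inv a.1 a.2 (fun h => ha (Subtype.ext h))
        exact ⟨⟨y, hy⟩, Subtype.ext hy1⟩ }
  letI : Field K' := hfield.toField
  letI : Fintype K' := Fintype.ofFinite K'
  let θ : K' ≃+* K' :=
    { toFun := fun x => ⟨hf.adj x.1, hadj' x.1 x.2⟩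
      invFun := fun x => ⟨hf.adj x.1, hadj' x.1 x.2⟩
      left_inv := fun x => Subtype.ext (hf.adj_adj _)
      right_inv := fun x => Subtype.ext (hf.adj_adj _)
      map_mul' := fun x y => Subtype.ext (by
        show hf.adj (x.1 * y.1) = hf.adj x.1 * hf.adj y.1
        rw [hf.adj_mul, hK'.comm _ (hadj' _ y.2) _ (hadj' _ x.2)])
      map_add' := fun x y => Subtype.ext (hf.adj_add _ _) }
  obtain ⟨c, hc⟩ : ∃ c, σ c ≠ c := by
    by_contra h
    push Not at h
    exact hσ (RingEquiv.ext h)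
  have hsc : ∀ a : F, θ (algebraMap F K' a) = algebraMap F K' (σ a) := fun a => Subtype.ext (by
    show hf.adj (algebraMap F (Matrix ι ι F) a) = algebraMap F (Matrix ι ι F) (σ a)
    rw [Algebra.algebraMap_eq_smul_one, Algebra.algebraMap_eq_smul_one, hf.adj_smul, hf.adj_one])
  have hθ : θ ≠ RingEquiv.refl K' := fun h => hc ((algebraMap F K').injective (by rw [← hsc, h]; rfl))
  have hθinv : ∀ x, θ (θ x) = x := fun x => Subtype.ext (hf.adj_adj _)
  have h1 := card_eq_sq_fixSubfield hθ hθinv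
  rw [Module.card_eq_pow_finrank (K := F) (V := K'), hK'.finrank_eq] at h1
  have h2 : Nat.card (fixSubfield θ) = Fintype.card F := (Nat.pow_left_injective two_ne_zero h1).symm
  have h3 : algebraMap F K' c ∈ fixSubfield θ := by
    rw [mem_subfield_iff, h2, ← map_pow, FiniteField.pow_card]
  exact hc ((algebraMap F K').injective (by rw [← hsc]; exact h3))

/-- For a bilinear form an adjoint-closed field gives a self-adjoint one of prime degree, or has degree two. -/
theorem bilinear_field (hf : IsRefl σ ε f) [Nonempty ι] (hσ : σ = RingEquiv.refl F) {G : Subgroup (GL ι F)}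
    (hfix : FixesForm (matrixSet G) f) {r : ℕ} {K : Subalgebra F (Matrix ι ι F)} (hK : IsFieldSubalgebra r K)
    (hK0 : K ≠ ⊥) (hstab : ConjStable G K) (hadj : ∀ x ∈ K, hf.adj x ∈ K) :
    (∃ (s : ℕ) (L : Subalgebra F (Matrix ι ι F)), s.Prime ∧ IsFieldSubalgebra s L ∧
        (∀ x ∈ L, hf.adj x = x) ∧ G ≤ subalgebraNormalizer L) ∨
    (r = 2 ∧ ∃ x ∈ K, hf.adj x ≠ x) := by
  classical
  subst hσ
  let S : Subalgebra F (Matrix ι ι F) :=
    { carrier := {x | x ∈ K ∧ hf.adj x = x}
      mul_mem' := fun {a b} ha hb => ⟨K.mul_mem ha.1 hb.1, by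
        rw [hf.adj_mul, ha.2, hb.2, hK.comm b hb.1 a ha.1]⟩
      add_mem' := fun {a b} ha hb => ⟨K.add_mem ha.1 hb.1, by rw [hf.adj_add, ha.2, hb.2]⟩
      algebraMap_mem' := fun c => ⟨K.algebraMap_mem c, by
        rw [Algebra.algebraMap_eq_smul_one, hf.adj_smul, hf.adj_one]; rfl⟩ }
  have hSle : S ≤ K := fun x hx => hx.1
  have hScomm : ∀ x ∈ S, ∀ y ∈ S, x * y = y * x := fun x hx y hy => hK.comm x hx.1 y hy.1
  by_cases hS : S = ⊥
  swap
  · left
    have hSf : IsFieldSubalgebra (Module.finrank F S) S := by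
      refine ⟨hScomm, fun x hx hx0 => ?_, rfl⟩
      obtain ⟨y, hy, hy1⟩ := hK.inv x hx.1 hx0
      refine ⟨y, ⟨hy, ?_⟩, hy1⟩
      have h := congrArg hf.adj hy1
      rw [hf.adj_mul, hx.2, hf.adj_one] at h
      calc hf.adj y = hf.adj y * (x * y) := by rw [hy1, mul_one]
        _ = y := by rw [← mul_assoc, h, one_mul]
    have hne1 : Module.finrank F S ≠ 1 := fun h => hS (fieldSubalgebra_eq_bot h)
    obtain ⟨s, hs, hsd⟩ := Nat.exists_prime_and_dvd hne1
    obtain ⟨L, hL, hle, hmem⟩ := exists_subfield_algebra' hSf hsd hs.pos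
    refine ⟨s, L, hs, hL, fun x hx => (hle hx).2, le_subalgebraNormalizer fun g hg x hx => ?_⟩
    have hxS : (g : Matrix ι ι F) * x * ((g⁻¹ : GL ι F) : Matrix ι ι F) ∈ S :=
      ⟨hstab g hg x (hle hx).1, by rw [hf.adj_conj hfix hg, (hle hx).2]⟩
    exact (hmem _ hxS).mp (by rw [Units.conj_pow, (hmem x (hle hx)).mpr hx])
  right
  have hfield : IsField K :=
    { exists_pair_ne := ⟨0, 1, fun h => by
        have h' := congrArg Subtype.val h
        simp at h'⟩
      mul_comm := fun a b => Subtype.ext (hK.comm a.1 a.2 b.1 b.2)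
      mul_inv_cancel := fun {a} ha => by
        obtain ⟨y, hy, hy1⟩ := hK.inv a.1 a.2 (fun h => ha (Subtype.ext h))
        exact ⟨⟨y, hy⟩, Subtype.ext hy1⟩ }
  letI : Field K := hfield.toField
  letI : Fintype K := Fintype.ofFinite K
  let θ : K ≃+* K :=
    { toFun := fun x => ⟨hf.adj x.1, hadj x.1 x.2⟩
      invFun := fun x => ⟨hf.adj x.1, hadj x.1 x.2⟩
      left_inv := fun x => Subtype.ext (hf.adj_adj _)
      right_inv := fun x => Subtype.ext (hf.adj_adj _)
      map_mul' := fun x y => Subtype.ext (by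
        show hf.adj (x.1 * y.1) = hf.adj x.1 * hf.adj y.1
        rw [hf.adj_mul, hK.comm _ (hadj _ y.2) _ (hadj _ x.2)])
      map_add' := fun x y => Subtype.ext (hf.adj_add _ _) }
  obtain ⟨x, hx, hxne⟩ : ∃ x ∈ K, hf.adj x ≠ x := by
    by_contra h
    push Not at h
    exact hK0 (eq_bot_iff.mpr fun x hx => hS ▸ (⟨hx, h x hx⟩ : x ∈ S))
  refine ⟨?_, x, hx, hxne⟩
  have hθ : θ ≠ RingEquiv.refl K := fun h =>
    hxne (congrArg Subtype.val (RingEquiv.congr_fun h ⟨x, hx⟩))
  have h1 := card_eq_sq_fixSubfield hθ (fun y => Subtype.ext (hf.adj_adj _))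
  have h2 : Nat.card (fixSubfield θ) = Fintype.card F := by
    have e1 : Nat.card (fixSubfield θ) = Nat.card S := Nat.card_congr
      { toFun := fun y => ⟨y.1.1, y.1.2, congrArg Subtype.val (y.2 : θ y.1 = y.1)⟩
        invFun := fun y => ⟨⟨y.1, y.2.1⟩, Subtype.ext y.2.2⟩
        left_inv := fun y => rfl
        right_inv := fun y => rfl }
    rw [e1, hS, Nat.card_congr (Algebra.botEquiv F (Matrix ι ι F)).toEquiv, Nat.card_eq_fintype_card]
  rw [Module.card_eq_pow_finrank (K := F) (V := K), hK.finrank_eq, h2] at h1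
  exact Nat.pow_right_injective (Fintype.one_lt_card) h1

end IsRefl

end CfsgLib.Aschbacher
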