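import Cfsg.Agent.Aschbacher.Form.Hermitian
import Cfsg.Agent.Char.Burnside

/-!
The unitary group in dimension three over the field of four elements has no non-trivial perfect subgroup.
-/
set_option autoImplicit false

namespace CfsgLib.Aschbacher

open Matrix Cfsg.Geo
open scoped MatrixGroups commutatorElement

variable {F : Type*} [Field F] [Fintype F]

namespace FourElements

variable (hq : Fintype.card F = 4)

include hq

lemma two_eq_zero : (2 : F) = 0 := by
  by_contra h
  have := odd_card_iff_two_ne_zero.mpr h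
  rw [hq] at this
  exact absurd this (by decide)

lemma cube_eq_one {x : F} (hx : x ≠ 0) : x ^ 3 = 1 := by
  have := FiniteField.pow_card_sub_one_eq_one x hx
  rwa [hq] at this

lemma cube_cases (x : F) : x ^ 3 = 0 ∧ x = 0 ∨ x ^ 3 = 1 ∧ x ≠ 0 := by
  by_cases hx : x = 0
  · exact Or.inl ⟨by rw [hx]; ring, hx⟩
  · exact Or.inr ⟨cube_eq_one hq hx, hx⟩

/-- Three cube roots of unity with sum zero have product one. -/
lemma prod_eq_one {a b c : F} (ha : a ^ 3 = 1) (hb : b ^ 3 = 1) (hc : c ^ 3 = 1) (h : a + b + c = 0) :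
    a * b * c = 1 := by
  have h2 := two_eq_zero hq
  have hne : a - b ≠ 0 := fun e => by
    have hc0 : c = 0 := by linear_combination h + e - a * h2
    rw [hc0] at hc
    simp at hc
  have h1 : a * a + a * b + b * b = 0 := by
    have : (a - b) * (a * a + a * b + b * b) = 0 := by linear_combination ha - hb
    exact (mul_eq_zero.mp this).resolve_left hne
  have hcc : c * c = a * b := by linear_combination (c - a - b) * h + h1
  calc a * b * c = c * c * c := by rw [hcc]
    _ = 1 := by rw [← hc]; ring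

/-- Unit vectors have weight one or three. -/
lemma weight {u : Fin 3 → F} (hu : ∑ i, u i ^ 3 = 1) :
    (∃ i, u i ≠ 0 ∧ ∀ j, j ≠ i → u j = 0) ∨ ∀ i, u i ≠ 0 := by
  have h2 := two_eq_zero hq
  rw [Fin.sum_univ_three] at hu
  rcases cube_cases hq (u 0) with ⟨e0, h0⟩ | ⟨e0, h0⟩ <;>
  rcases cube_cases hq (u 1) with ⟨e1, h1⟩ | ⟨e1, h1⟩ <;>
  rcases cube_cases hq (u 2) with ⟨e2, h2'⟩ | ⟨e2, h2'⟩ <;> rw [e0, e1, e2] at hu
  · simp at hu
  · exact Or.inl ⟨2, h2', fun j hj => by fin_cases j <;> first | exact h0 | exact h1 | exact absurd rfl hj⟩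
  · exact Or.inl ⟨1, h1, fun j hj => by fin_cases j <;> first | exact h0 | exact h2' | exact absurd rfl hj⟩
  · exact absurd (show (1 : F) = 0 by linear_combination h2 - hu) one_ne_zero
  · exact Or.inl ⟨0, h0, fun j hj => by fin_cases j <;> first | exact h1 | exact h2' | exact absurd rfl hj⟩
  · exact absurd (show (1 : F) = 0 by linear_combination h2 - hu) one_ne_zero
  · exact absurd (show (1 : F) = 0 by linear_combination h2 - hu) one_ne_zero
  · exact Or.inr fun j => by fin_cases j <;> first | exact h0 | exact h1 | exact h2'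

lemma class_eq_zero_iff {u : Fin 3 → F} (hu : ∑ i, u i ^ 3 = 1) :
    u 0 * u 1 * u 2 = 0 ↔ ∃ i, u i ≠ 0 ∧ ∀ j, j ≠ i → u j = 0 := by
  rcases weight hq hu with h | h
  · refine iff_of_true ?_ h
    obtain ⟨i, -, hz⟩ := h
    fin_cases i
    · rw [hz 1 (by decide)]; ring
    · rw [hz 0 (by decide)]; ring
    · rw [hz 0 (by decide)]; ring
  · refine iff_of_false (mul_ne_zero (mul_ne_zero (h 0) (h 1)) (h 2)) ?_
    rintro ⟨i, -, hz⟩
    fin_cases i
    · exact h 1 (hz 1 (by decide))
    · exact h 0 (hz 0 (by decide))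
    · exact h 0 (hz 0 (by decide))

/-- Orthogonal unit vectors have the same class. -/
lemma class_eq_of_orth {u v : Fin 3 → F} (hu : ∑ i, u i ^ 3 = 1) (hv : ∑ i, v i ^ 3 = 1)
    (h : ∑ i, u i * v i ^ 2 = 0) : u 0 * u 1 * u 2 = v 0 * v 1 * v 2 := by
  rcases weight hq hu with h1 | h1 <;> rcases weight hq hv with h2 | h2
  · rw [(class_eq_zero_iff hq hu).mpr h1, (class_eq_zero_iff hq hv).mpr h2]
  · obtain ⟨i, hi, hz⟩ := h1
    rw [Finset.sum_eq_single i (fun j _ hj => by rw [hz j hj, zero_mul]) (by simp)] at h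
    exact absurd h (mul_ne_zero hi (pow_ne_zero _ (h2 i)))
  · obtain ⟨i, hi, hz⟩ := h2
    rw [Finset.sum_eq_single i (fun j _ hj => by rw [hz j hj]; ring) (by simp)] at h
    exact absurd h (mul_ne_zero (h1 i) (pow_ne_zero _ hi))
  · rw [Fin.sum_univ_three] at h
    have hk : ∀ i, (u i * v i ^ 2) ^ 3 = 1 := fun i => by
      rw [mul_pow, ← pow_mul, pow_mul' (v i) 2 3, cube_eq_one hq (h1 i), cube_eq_one hq (h2 i), one_pow, one_mul]
    have hp := prod_eq_one hq (hk 0) (hk 1) (hk 2) h
    have hw : (v 0 * v 1 * v 2) ^ 3 = 1 := cube_eq_one hq (mul_ne_zero (mul_ne_zero (h2 0) (h2 1)) (h2 2))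
    linear_combination (v 0 * v 1 * v 2) * hp - (u 0 * u 1 * u 2) * hw

/-- Unit vectors of the same class are proportional or orthogonal. -/
lemma prop_or_orth {u v : Fin 3 → F} (hu : ∑ i, u i ^ 3 = 1) (hv : ∑ i, v i ^ 3 = 1)
    (h : u 0 * u 1 * u 2 = v 0 * v 1 * v 2) :
    (∃ s : F, s ≠ 0 ∧ u = s • v) ∨ ∑ i, u i * v i ^ 2 = 0 := by
  rcases weight hq hv with h2 | h2
  · obtain ⟨j, hj, hzj⟩ := h2
    obtain ⟨i, hi, hzi⟩ := (class_eq_zero_iff hq hu).mp (h.trans ((class_eq_zero_iff hq hv).mpr ⟨j, hj, hzj⟩))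
    by_cases hij : i = j
    · subst hij
      refine Or.inl ⟨u i / v i, div_ne_zero hi hj, funext fun k => ?_⟩
      by_cases hk : k = i
      · subst hk; simp [hj]
      · simp [hzi k hk, hzj k hk]
    · exact Or.inr (Finset.sum_eq_zero fun k _ => by
        by_cases hk : k = i
        · subst hk; rw [hzj k hij]; ring
        · rw [hzi k hk, zero_mul])
  · have h1 : ∀ i, u i ≠ 0 := by
      rcases weight hq hu with h1 | h1
      · exact absurd (h.symm.trans ((class_eq_zero_iff hq hu).mpr h1)) (mul_ne_zero (mul_ne_zero (h2 0) (h2 1)) (h2 2))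
      · exact h1
    set a := u 0 * v 0 ^ 2 with ha
    set b := u 1 * v 1 ^ 2 with hb
    set c := u 2 * v 2 ^ 2 with hc
    have hk : ∀ i, (u i * v i ^ 2) ^ 3 = 1 := fun i => by
      rw [mul_pow, ← pow_mul, pow_mul' (v i) 2 3, cube_eq_one hq (h1 i), cube_eq_one hq (h2 i), one_pow, one_mul]
    have habc : a * b * c = 1 := by
      have hw := cube_eq_one hq (mul_ne_zero (mul_ne_zero (h2 0) (h2 1)) (h2 2))
      rw [ha, hb, hc]
      linear_combination (v 0 * v 1 * v 2) ^ 2 * h + hw
    by_cases hab : a = b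
    · left
      have hca : c = a := by
        have : a ^ 3 = 1 := hk 0
        rw [← hab] at habc
        linear_combination a * habc - c * this
      refine ⟨a, mul_ne_zero (h1 0) (pow_ne_zero _ (h2 0)), funext fun k => ?_⟩
      have e : ∀ k, u k * v k ^ 2 = a → u k = a * v k := fun k hk' => by
        have := cube_eq_one hq (h2 k)
        linear_combination v k * hk' - u k * this
      fin_cases k
      · exact e 0 rfl
      · exact e 1 hab.symm
      · exact e 2 hca
    · right
      rw [Fin.sum_univ_three]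
      have h3 : a * a + a * b + b * b = 0 := by
        have : (a - b) * (a * a + a * b + b * b) = 0 := by linear_combination hk 0 - hk 1
        exact (mul_eq_zero.mp this).resolve_left (sub_ne_zero.mpr hab)
      have hab3 : (a * b) ^ 3 = 1 := by rw [mul_pow, hk 0, hk 1, mul_one]
      have hcab : c = (a * b) ^ 2 := by linear_combination (a * b) ^ 2 * habc - c * hab3
      have h2F := two_eq_zero hq
      show a + b + c = 0
      have e1 : (a * b) ^ 2 = (a + b) := by
        have hs : (a + b) ^ 2 = a * b := by linear_combination h3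
        have hs3 : (a + b) ≠ 0 := fun h0 => by
          rw [h0, ha, hb] at hs
          exact mul_ne_zero (mul_ne_zero (h1 0) (pow_ne_zero 2 (h2 0))) (mul_ne_zero (h1 1) (pow_ne_zero 2 (h2 1)))
            (by linear_combination -hs)
        rw [← hs, ← pow_mul]
        calc (a + b) ^ (2 * 2) = (a + b) ^ 3 * (a + b) := by ring
          _ = _ := by rw [cube_eq_one hq hs3, one_mul]
      rw [hcab, e1]
      linear_combination (a + b) * h2F

lemma class_smul {s : F} (hs : s ≠ 0) (u : Fin 3 → F) :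
    (s • u) 0 * (s • u) 1 * (s • u) 2 = u 0 * u 1 * u 2 := by
  simp only [Pi.smul_apply, smul_eq_mul]
  linear_combination (u 0 * u 1 * u 2) * cube_eq_one hq hs

end FourElements

lemma isSolvable_perm_le_four {α : Type*} [Fintype α] [DecidableEq α] (hα : Fintype.card α ≤ 4) :
  Group.IsSolvable (Equiv.Perm α) := by
  have hd : Nat.card (Equiv.Perm α) ∣ 24 := by
    rw [Nat.card_eq_fintype_card, Fintype.card_perm]
    exact Nat.factorial_dvd_factorial hα
  have hmem : Nat.card (Equiv.Perm α) ∈ Nat.divisors 24 := Nat.mem_divisors.mpr ⟨hd, by norm_num⟩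
  rw [show Nat.divisors 24 = {1, 2, 3, 4, 6, 8, 12, 24} by decide] at hmem
  simp only [Finset.mem_insert, Finset.mem_singleton] at hmem
  rcases hmem with h | h | h | h | h | h | h | h
  · exact CfsgLib.Char.isSolvable_of_card_eq 2 3 0 0 Nat.prime_two Nat.prime_three h
  · exact CfsgLib.Char.isSolvable_of_card_eq 2 3 1 0 Nat.prime_two Nat.prime_three h
  · exact CfsgLib.Char.isSolvable_of_card_eq 2 3 0 1 Nat.prime_two Nat.prime_three h
  · exact CfsgLib.Char.isSolvable_of_card_eq 2 3 2 0 Nat.prime_two Nat.prime_three h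
  · exact CfsgLib.Char.isSolvable_of_card_eq 2 3 1 1 Nat.prime_two Nat.prime_three h
  · exact CfsgLib.Char.isSolvable_of_card_eq 2 3 3 0 Nat.prime_two Nat.prime_three h
  · exact CfsgLib.Char.isSolvable_of_card_eq 2 3 2 1 Nat.prime_two Nat.prime_three h
  · exact CfsgLib.Char.isSolvable_of_card_eq 2 3 3 1 Nat.prime_two Nat.prime_three h

lemma hom_eq_one_of_perfect {K M : Type*} [Group K] [Group M] [Finite M]
    (htop : ⁅(⊤ : Subgroup K), (⊤ : Subgroup K)⁆ = ⊤) (hM : Group.IsSolvable M) (ψ : K →* M) (g : K) : ψ g = 1 := by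
  have hperf : ⁅ψ.range, ψ.range⁆ = ψ.range := by rw [MonoidHom.range_eq_map, ← Subgroup.map_commutator, htop]
  have hbot : ψ.range = ⊥ := by
    by_contra hne
    have : Nontrivial ψ.range := (Subgroup.nontrivial_iff_ne_bot _).mpr hne
    refine (Group.IsSolvable.commutator_lt_top_of_nontrivial (G := ψ.range)).ne ?_
    apply Subgroup.map_injective ψ.range.subtype_injective
    rw [commutator_def, Subgroup.map_commutator, ← MonoidHom.range_eq_map, Subgroup.range_subtype, hperf]
  exact Subgroup.mem_bot.mp (hbot ▸ ⟨g, rfl⟩)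

open FourElements in
/-- A perfect subgroup of the unitary group in dimension three over four elements is trivial. -/
theorem perfect_eq_bot_of_GU_three_two (hq : Fintype.card F = 4) {σ : F ≃+* F} (hσ : ∀ x, σ x = x ^ 2)
    {K : Subgroup (GL (Fin 3) F)} (hK : ⁅K, K⁆ = K)
    (hfix : ∀ g ∈ K, (g : Matrix (Fin 3) (Fin 3) F)ᵀ * (g : Matrix (Fin 3) (Fin 3) F).map σ = 1) : K = ⊥ := by
  classical
  let cls : (Fin 3 → F) → F := fun u => u 0 * u 1 * u 2
  let dot : (Fin 3 → F) → (Fin 3 → F) → F := fun u v => ∑ i, u i * v i ^ 2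
  have hdot : ∀ g ∈ K, ∀ u v, dot ((g : Matrix (Fin 3) (Fin 3) F) *ᵥ u) ((g : Matrix (Fin 3) (Fin 3) F) *ᵥ v) = dot u v := by
    intro g hg u v
    have e : ∀ x y : Fin 3 → F, dot x y = x ⬝ᵥ (σ ∘ y) := fun x y => by simp [dot, dotProduct, hσ]
    rw [e, e, comp_mulVec, ← vecMul_transpose (g : Matrix (Fin 3) (Fin 3) F), ← dotProduct_mulVec, mulVec_mulVec,
      hfix g hg, one_mulVec]
  have hsq : ∀ u, dot u u = ∑ i, u i ^ 3 := fun u => Finset.sum_congr rfl fun i _ => by ring
  let rep : F → Fin 3 → F := fun c => if c = 0 then ![1, 0, 0] else ![c, 1, 1]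
  have hrep : ∀ c, ∑ i, rep c i ^ 3 = 1 := by
    intro c
    by_cases hc : c = 0
    · simp [rep, hc, Fin.sum_univ_three]
    · simp [rep, hc, Fin.sum_univ_three, cube_eq_one hq hc]
      linear_combination two_eq_zero hq
  have hcls : ∀ c, cls (rep c) = c := fun c => by
    by_cases hc : c = 0 <;> simp [cls, rep, hc]
  have himg : ∀ g ∈ K, ∀ u v : Fin 3 → F, ∑ i, u i ^ 3 = 1 → ∑ i, v i ^ 3 = 1 → cls u = cls v →
      cls ((g : Matrix (Fin 3) (Fin 3) F) *ᵥ u) = cls ((g : Matrix (Fin 3) (Fin 3) F) *ᵥ v) := by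
    intro g hg u v hu hv huv
    rcases prop_or_orth hq hu hv huv with ⟨s, hs, rfl⟩ | h
    · rw [mulVec_smul]; exact class_smul hq hs _
    · exact class_eq_of_orth hq (by rw [← hsq, hdot g hg, hsq, hu]) (by rw [← hsq, hdot g hg, hsq, hv])
        ((hdot g hg u v).trans h)
  let act : K → F → F := fun g c => cls ((g.1 : Matrix (Fin 3) (Fin 3) F) *ᵥ rep c)
  have hact : ∀ (a b : K) c, act (a * b) c = act a (act b c) := by
    intro a b c
    show cls _ = cls _
    rw [Subgroup.coe_mul, Units.val_mul, ← mulVec_mulVec]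
    exact himg a a.2 _ _ (by rw [← hsq, hdot b b.2, hsq, hrep]) (hrep _) (hcls _).symm
  have hact1 : ∀ c, act 1 c = c := fun c => by simp [act, hcls]
  let φ : K →* Equiv.Perm F :=
    { toFun := fun g => ⟨act g, act g⁻¹, fun c => by rw [← hact, inv_mul_cancel, hact1],
        fun c => by rw [← hact, mul_inv_cancel, hact1]⟩
      map_one' := Equiv.ext hact1
      map_mul' := fun a b => Equiv.ext (hact a b) }
  have htop : ⁅(⊤ : Subgroup K), (⊤ : Subgroup K)⁆ = ⊤ := by
    apply Subgroup.map_injective K.subtype_injective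
    rw [Subgroup.map_commutator, ← MonoidHom.range_eq_map, Subgroup.range_subtype, hK]
  have hmono : ∀ (g : K) (i : Fin 3), ∃ k, ((g.1 : Matrix (Fin 3) (Fin 3) F) *ᵥ Pi.single i 1) k ≠ 0 ∧
      ∀ j, j ≠ k → ((g.1 : Matrix (Fin 3) (Fin 3) F) *ᵥ Pi.single i 1) j = 0 := by
    intro g i
    have hi : ∑ j, (Pi.single i (1 : F) : Fin 3 → F) j ^ 3 = 1 := by simp [Pi.single_apply]
    refine (class_eq_zero_iff hq (by rw [← hsq, hdot g g.2, hsq, hi])).mp ?_
    have h0 : cls (Pi.single i (1 : F)) = cls (rep 0) := by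
      rw [hcls]; fin_cases i <;> simp [cls]
    have h := himg g g.2 _ _ hi (hrep 0) h0
    exact h.trans (Equiv.ext_iff.mp (hom_eq_one_of_perfect htop (isSolvable_perm_le_four hq.le) φ g) 0)
  choose pos hpos hzero using hmono
  have hgu : ∀ (g : K) i, (g.1 : Matrix (Fin 3) (Fin 3) F) *ᵥ Pi.single i 1 =
      ((g.1 : Matrix (Fin 3) (Fin 3) F) *ᵥ Pi.single i 1) (pos g i) • Pi.single (pos g i) 1 := by
    intro g i
    funext j
    by_cases hj : j = pos g i
    · subst hj; simp
    · rw [hzero g i j hj, Pi.smul_apply, Pi.single_eq_of_ne hj, smul_zero]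
  have hposmul : ∀ (a b : K) i, pos (a * b) i = pos a (pos b i) := by
    intro a b i
    by_contra hne
    apply hpos (a * b) i
    rw [Subgroup.coe_mul, Units.val_mul, ← mulVec_mulVec, hgu b i, mulVec_smul, Pi.smul_apply,
      hzero a _ _ hne, smul_zero]
  have hpos1 : ∀ i, pos 1 i = i := fun i => by
    by_contra hne
    apply hpos 1 i
    simp [Matrix.one_apply_ne hne]
  let ψ : K →* Equiv.Perm (Fin 3) :=
    { toFun := fun g => ⟨pos g, pos g⁻¹, fun c => by rw [← hposmul, inv_mul_cancel, hpos1],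
        fun c => by rw [← hposmul, mul_inv_cancel, hpos1]⟩
      map_one' := Equiv.ext hpos1
      map_mul' := fun a b => Equiv.ext (hposmul a b) }
  have hdiag : ∀ (g : K) i j, i ≠ j → (g.1 : Matrix (Fin 3) (Fin 3) F) i j = 0 := by
    intro g i j hij
    have h := hzero g j i (by rw [show pos g j = j from Equiv.ext_iff.mp (hom_eq_one_of_perfect htop (isSolvable_perm_le_four (α := Fin 3) (by simp)) ψ g) j]; exact hij)
    simpa using h
  have hcomm : ∀ a b : K, a * b = b * a := by
    intro a b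
    have hd : ∀ g : K, (g.1 : Matrix (Fin 3) (Fin 3) F) = Matrix.diagonal fun i => (g.1 : Matrix (Fin 3) (Fin 3) F) i i := by
      intro g
      ext i j
      by_cases hij : i = j
      · subst hij; simp
      · simp [hdiag g i j hij, hij]
    refine Subtype.ext (Units.ext ?_)
    rw [Subgroup.coe_mul, Subgroup.coe_mul, Units.val_mul, Units.val_mul, hd a, hd b, Matrix.diagonal_mul_diagonal,
      Matrix.diagonal_mul_diagonal]
    simp only [mul_comm]
  rw [eq_bot_iff, ← hK, Subgroup.commutator_le]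
  intro a ha b hb
  rw [Subgroup.mem_bot, commutatorElement_eq_one_iff_mul_comm]
  exact congrArg Subtype.val (hcomm ⟨a, ha⟩ ⟨b, hb⟩)

end CfsgLib.Aschbacher
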