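import Cfsg.Agent.Aschbacher.Form.Members
import Cfsg.Agent.Aschbacher.Form.UnitaryThreeTwo

/-!
Over four elements a unitary plane has one orthogonal frame: planes refine to lines, a tensor factor of dimension two
to two blocks.
-/
set_option autoImplicit false

namespace CfsgLib.Aschbacher

open Matrix Cfsg.Geo CfsgLib.GeoClifford
open scoped MatrixGroups Kronecker

variable {F : Type*} [Field F] [Fintype F] {σ : F ≃+* F}

section Plane

variable {ι : Type} [Fintype ι] [DecidableEq ι] {f : (ι → F) → (ι → F) → F}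

lemma norm_eq_one_of_four (hq : Fintype.card F = 4) (hσ : σ ≠ RingEquiv.refl F) (hinv : ∀ x, σ (σ x) = x) {x : F}
    (hx : σ x = x) (hx0 : x ≠ 0) : x = 1 := by
  have hc := card_eq_sq_fixSubfield hσ hinv
  rw [hq, show (4 : ℕ) = 2 ^ 2 by norm_num] at hc
  have hc2 : Nat.card (fixSubfield σ) = 2 := (Nat.pow_left_injective two_ne_zero hc).symm
  have h1 : x ∈ fixSubfield σ := hx
  rw [mem_subfield_iff, hc2, sq] at h1
  exact (mul_eq_left₀ hx0).mp h1

/-- The two orthogonal anisotropic lines of a plane. -/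
lemma exists_two_lines (hq : Fintype.card F = 4) (hf : IsUnitaryForm σ f) {W : Submodule F (ι → F)}
    (hd : Module.finrank F W = 2) (hW : IsNondegenerateOn f W) :
    ∃ b : Fin 2 → (ι → F), (∀ i, b i ∈ W) ∧ (∀ i, f (b i) (b i) ≠ 0) ∧ (∀ i j, i ≠ j → f (b i) (b j) = 0) ∧
      ∀ w ∈ W, f w w ≠ 0 → ∃ i, w ∈ Submodule.span F {b i} := by
  have hS := isSesq_of_unitary hf
  have h2 := FourElements.two_eq_zero hq
  have hfix : ∀ w, σ (f w w) = f w w := fun w => (hf.herm w w).symm
  obtain ⟨u, hu, huu⟩ : ∃ u ∈ W, f u u ≠ 0 := by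
    by_contra hcon
    push Not at hcon
    obtain ⟨e, he, he0⟩ := W.ne_bot_iff.mp (fun h => by rw [h, finrank_bot] at hd; exact absurd hd (by norm_num))
    obtain ⟨-, x, hx, hex⟩ := hW e he he0
    obtain ⟨w, hw⟩ : ∃ w : F, σ w ≠ w := by
      by_contra h
      push Not at h
      exact hf.ne_refl (RingEquiv.ext h)
    set lam := σ (w / f e x) with hlam
    have h0 := hcon _ (W.add_mem he (W.smul_mem lam hx))
    rw [hS.add_left, hS.add_right, hS.add_right, hS.smul_left, hS.smul_left, hS.smul_right, hS.smul_right,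
      hcon e he, hcon x hx, hf.herm x e, hlam, hf.involutive, map_div₀, div_mul_cancel₀ _ hex,
      div_mul_cancel₀ _ (by simpa using hex)] at h0
    exact hw (by linear_combination h0 - w * h2)
  have hu0 : u ≠ 0 := fun h => huu (by rw [h]; exact hS.zero_left _)
  obtain ⟨y, hy, hyu⟩ : ∃ y ∈ W, y ∉ Submodule.span F {u} := by
    by_contra hcon
    push Not at hcon
    have := Submodule.finrank_mono (show W ≤ Submodule.span F {u} from hcon)
    rw [hd, finrank_span_singleton hu0] at this
    omega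
  set v := y + (-(f y u / f u u)) • u with hv
  have hvW : v ∈ W := W.add_mem hy (W.smul_mem _ hu)
  have hvu : f v u = 0 := by
    rw [hv, hS.add_left, hS.smul_left, neg_mul, div_mul_cancel₀ _ huu, add_neg_cancel]
  have huv : f u v = 0 := (isHerm_of_unitary hf).comm_zero hvu
  have hvspan : v ∉ Submodule.span F {u} := fun h => hyu (by
    simpa [hv] using Submodule.sub_mem _ h (Submodule.smul_mem _ (-(f y u / f u u)) (Submodule.mem_span_singleton_self u)))
  have hv0 : v ≠ 0 := fun h => hvspan (h ▸ Submodule.zero_mem _)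
  have hWspan : ∀ w ∈ W, ∃ a b : F, a • u + b • v = w := by
    intro w hw
    have hle : Submodule.span F {u, v} ≤ W := Submodule.span_le.mpr (by rintro _ (rfl | rfl) <;> assumption)
    have hlt : Submodule.span F {u} < Submodule.span F {u, v} :=
      lt_of_le_of_ne (Submodule.span_mono (by simp)) fun h => hvspan (h ▸ Submodule.subset_span (by simp))
    have h1 := Submodule.finrank_lt_finrank_of_lt hlt
    rw [finrank_span_singleton hu0] at h1
    rw [← Submodule.eq_of_le_of_finrank_le hle (by omega), Submodule.mem_span_pair] at hw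
    exact hw
  have hvv : f v v ≠ 0 := by
    intro h0
    obtain ⟨-, x, hx, hne⟩ := hW v hvW hv0
    obtain ⟨a, b, rfl⟩ := hWspan x hx
    rw [hS.add_right, hS.smul_right, hS.smul_right, hvu, h0, mul_zero, mul_zero, add_zero] at hne
    exact hne rfl
  refine ⟨![u, v], ?_, ?_, ?_, fun w hw hww => ?_⟩
  · intro i; fin_cases i <;> assumption
  · intro i; fin_cases i <;> assumption
  · intro i j hij; fin_cases i <;> fin_cases j <;> first | exact absurd rfl hij | assumption
  obtain ⟨a, b, rfl⟩ := hWspan w hw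
  by_cases ha : a = 0
  · exact ⟨1, by subst ha; simp [Submodule.smul_mem, Submodule.mem_span_singleton_self]⟩
  by_cases hb : b = 0
  · exact ⟨0, by subst hb; simp [Submodule.smul_mem, Submodule.mem_span_singleton_self]⟩
  exfalso
  apply hww
  have hn : ∀ x : F, x ≠ 0 → σ x * x = 1 := fun x hx =>
    norm_eq_one_of_four hq hf.ne_refl hf.involutive (by rw [map_mul, hf.involutive, mul_comm]) (mul_ne_zero (by simpa using hx) hx)
  rw [hS.add_left, hS.add_right, hS.add_right, hS.smul_left, hS.smul_left, hS.smul_left, hS.smul_left, hS.smul_right,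
    hS.smul_right, hS.smul_right, hS.smul_right, huv, hvu,
    norm_eq_one_of_four hq hf.ne_refl hf.involutive (hfix u) huu,
    norm_eq_one_of_four hq hf.ne_refl hf.involutive (hfix v) hvv]
  linear_combination hn a ha + hn b hb + h2

omit [Fintype F] in
/-- A full orthogonal family of anisotropic vectors is a frame. -/
lemma frame_of_orth (hf : IsUnitaryForm σ f) {N : ℕ} (b : Fin N → (ι → F)) (hN : N = Fintype.card ι) (h2 : 2 ≤ N)
    (hb : ∀ i, f (b i) (b i) ≠ 0) (ho : ∀ i j, i ≠ j → f (b i) (b j) = 0) :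
    IsNondegenerateMDecomposition f 1 (fun i => Submodule.span F {b i}) := by
  classical
  have hS := isSesq_of_unitary hf
  have hli : LinearIndependent F b := by
    rw [Fintype.linearIndependent_iff]
    intro a ha i
    have hlin : ∀ s : Finset (Fin N), f (∑ j ∈ s, a j • b j) (b i) = ∑ j ∈ s, a j * f (b j) (b i) := by
      intro s
      induction s using Finset.induction_on with
      | empty => simp [hS.zero_left]
      | insert x s hx ih => rw [Finset.sum_insert hx, Finset.sum_insert hx, hS.add_left, hS.smul_left, ih]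
    have h1 := hlin Finset.univ
    rw [ha, hS.zero_left, Finset.sum_eq_single i (fun j _ hj => by rw [ho j i hj, mul_zero]) (by simp)] at h1
    exact (mul_eq_zero.mp h1.symm).resolve_right (hb i)
  refine ⟨⟨h2, one_pos, fun i => finrank_span_singleton (hli.ne_zero i), hli.iSupIndep_span_singleton, ?_⟩, ?_, ?_⟩
  · rw [← Submodule.span_range_eq_iSup]
    refine hli.span_eq_top_of_card_eq_finrank' (by rw [Fintype.card_fin, Module.finrank_fintype_fun_eq_card, hN])
  · intro i w hw hw0
    obtain ⟨c, rfl⟩ := Submodule.mem_span_singleton.mp hw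
    have hc : c ≠ 0 := fun h => hw0 (by rw [h, zero_smul])
    refine ⟨⟨b i, Submodule.mem_span_singleton_self _, ?_⟩, b i, Submodule.mem_span_singleton_self _, ?_⟩
    · rw [hS.smul_right]; exact mul_ne_zero (by simpa using hc) (hb i)
    · rw [hS.smul_left]; exact mul_ne_zero hc (hb i)
  · intro i j hij u hu v hv
    obtain ⟨c, rfl⟩ := Submodule.mem_span_singleton.mp hu
    obtain ⟨c', rfl⟩ := Submodule.mem_span_singleton.mp hv
    rw [hS.smul_left, hS.smul_right, ho i j hij, mul_zero, mul_zero]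

/-- Planes refine to lines. -/
lemma planes_to_lines (hq : Fintype.card F = 4) (hf : IsUnitaryForm σ f) {G : Subgroup (GL ι F)}
    (hfix : FixesForm (matrixSet G) f) {t : ℕ} {D : Fin t → Submodule F (ι → F)}
    (hD : IsNondegenerateMDecomposition f 2 D) (hG : G ≤ decompositionStabilizer D) :
    ∃ D' : Fin (t * 2) → Submodule F (ι → F), IsNondegenerateMDecomposition f 1 D' ∧ G ≤ decompositionStabilizer D' := by
  classical
  choose b hbD hb ho hbw using fun i => exists_two_lines hq hf (hD.decomp.finrank_eq i) (hD.nondegenerate i)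
  let c : Fin (t * 2) → (ι → F) := fun x => b (finProdFinEquiv.symm x).1 (finProdFinEquiv.symm x).2
  have hframe : IsNondegenerateMDecomposition f 1 fun x => Submodule.span F {c x} := by
    refine frame_of_orth hf c (decomposition_card hD.decomp) (by have := hD.decomp.two_le; omega) (fun x => hb _ _)
      fun x y hxy => ?_
    have hne : finProdFinEquiv.symm x ≠ finProdFinEquiv.symm y := fun h => hxy (finProdFinEquiv.symm.injective h)
    show f (b _ _) (b _ _) = 0
    generalize finProdFinEquiv.symm x = p at *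
    generalize finProdFinEquiv.symm y = p' at *
    by_cases h1 : p.1 = p'.1
    · rw [← h1]; exact ho _ _ _ fun h2 => hne (Prod.ext h1 h2)
    · exact hD.orthogonal _ _ h1 _ (hbD _ _) _ (hbD _ _)
  refine ⟨_, hframe, fun g hg => ?_⟩
  obtain ⟨π, hπ⟩ := hG hg
  have hsend : ∀ x, ∃ y, (g : Matrix ι ι F) *ᵥ c x ∈ Submodule.span F {c y} := by
    intro x
    set p := finProdFinEquiv.symm x
    have hmem : (g : Matrix ι ι F) *ᵥ c x ∈ D (π p.1) := by
      rw [← hπ p.1, Submodule.mem_map]
      exact ⟨c x, hbD _ _, by rw [Matrix.toLin'_apply]⟩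
    obtain ⟨l, hl⟩ := hbw _ _ hmem (by rw [hfix _ (coe_mem_matrixSet hg)]; exact hb _ _)
    refine ⟨finProdFinEquiv (π p.1, l), ?_⟩
    show _ ∈ Submodule.span F {b (finProdFinEquiv.symm (finProdFinEquiv (π p.1, l))).1
      (finProdFinEquiv.symm (finProdFinEquiv (π p.1, l))).2}
    rw [Equiv.symm_apply_apply]
    exact hl
  choose ψ hψ using hsend
  have hc0 : ∀ x, c x ≠ 0 := fun x h => hb (finProdFinEquiv.symm x).1 (finProdFinEquiv.symm x).2 (by
    show f (c x) (c x) = 0
    rw [h]; exact (isSesq_of_unitary hf).zero_left _)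
  have hψmap : ∀ x, (Submodule.span F {c x}).map (Matrix.toLin' (g : Matrix ι ι F)) = Submodule.span F {c (ψ x)} := by
    intro x
    refine Submodule.eq_of_le_of_finrank_eq ?_ ?_
    · rw [Submodule.map_span, Set.image_singleton, Submodule.span_le, Set.singleton_subset_iff, Matrix.toLin'_apply]
      exact hψ x
    · rw [← (Submodule.equivMapOfInjective _ (mulVec_injective_GL g) _).finrank_eq, finrank_span_singleton (hc0 _),
        finrank_span_singleton (hc0 _)]
  have hinj : Function.Injective ψ := by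
    intro x y hxy
    by_contra hne
    have h1 := Submodule.map_injective_of_injective (mulVec_injective_GL g)
      (((hψmap x).trans (congrArg (fun z => Submodule.span F {c z}) hxy)).trans (hψmap y).symm)
    have hdis := disjoint_iff.mp (hframe.decomp.indep.pairwiseDisjoint hne)
    simp only at hdis
    rw [h1, inf_idem] at hdis
    exact hc0 y ((Submodule.mem_bot F).mp (hdis ▸ Submodule.mem_span_singleton_self _))
  exact ⟨Equiv.ofBijective ψ ⟨hinj, Finite.surjective_of_injective hinj⟩, hψmap⟩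

end Plane

section Tensor

variable {ι : Type} [Fintype ι] [DecidableEq ι] {f : (ι → F) → (ι → F) → F}

/-- The form on pure tensors. -/
lemma tensor_form_pure {n₁ n₂ : ℕ} {f₁ : (Fin n₁ → F) → (Fin n₁ → F) → F} {f₂ : (Fin n₂ → F) → (Fin n₂ → F) → F}
    (h₁ : IsSesq σ f₁) (h₂ : IsSesq σ f₂) {e : ι ≃ Fin n₁ × Fin n₂} {P : GL ι F} {c : F}
    (hT : ∀ x y : Fin n₁ × Fin n₂ → F, f ((P : Matrix ι ι F) *ᵥ (x ∘ e)) ((P : Matrix ι ι F) *ᵥ (y ∘ e)) =
      c * formOfGram σ (gramMatrix f₁ ⊗ₖ gramMatrix f₂) x y) (x x' : Fin n₁ → F) (y y' : Fin n₂ → F) :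
    f ((P : Matrix ι ι F) *ᵥ ((fun z => x z.1 * y z.2) ∘ e)) ((P : Matrix ι ι F) *ᵥ ((fun z => x' z.1 * y' z.2) ∘ e)) =
      c * (f₁ x x' * f₂ y y') := by
  rw [hT, h₁.eq_gram x x', h₂.eq_gram y y']
  congr 1
  simp only [formOfGram, dotProduct, mulVec, Fintype.sum_prod_type, kroneckerMap_apply, map_mul, Function.comp_apply]
  rw [Finset.sum_mul]
  refine Finset.sum_congr rfl fun i _ => ?_
  rw [Finset.mul_sum]
  refine Finset.sum_congr rfl fun k _ => ?_
  simp only [Finset.mul_sum, Finset.sum_mul]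
  rw [Finset.sum_comm]
  exact Finset.sum_congr rfl fun l _ => Finset.sum_congr rfl fun j _ => by ring

/-- A tensor factor of dimension two gives two blocks. -/
lemma tensor_two_to_blocks (hq : Fintype.card F = 4) (hf : IsUnitaryForm σ f) {G : Subgroup (GL ι F)}
    (hfix : FixesForm (matrixSet G) f) {n₂ : ℕ} (hn₂ : 0 < n₂) {e : ι ≃ Fin 2 × Fin n₂} {P : GL ι F}
    {f₁ : (Fin 2 → F) → (Fin 2 → F) → F} {f₂ : (Fin n₂ → F) → (Fin n₂ → F) → F} (hf₁ : IsUnitaryForm σ f₁)
    (hf₂ : IsUnitaryForm σ f₂) (hT : IsTensorFormStructure σ f f₁ f₂ e P) (hG : G ≤ tensorProductSubgroup 2 n₂ e P) :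
    ∃ D : Fin 2 → Submodule F (ι → F), IsNondegenerateMDecomposition f n₂ D ∧ G ≤ decompositionStabilizer D := by
  classical
  obtain ⟨c, hc, hT⟩ := hT
  have key := tensor_form_pure (isSesq_of_unitary hf₁) (isSesq_of_unitary hf₂) hT
  obtain ⟨b, -, hb, ho, hbw⟩ := exists_two_lines hq hf₁ (W := ⊤)
    (by rw [finrank_top, Module.finrank_fintype_fun_eq_card, Fintype.card_fin])
    (fun w _ hw => ⟨(hf₁.nondegenerate w hw).1.imp fun x hx => ⟨Submodule.mem_top, hx⟩,
      (hf₁.nondegenerate w hw).2.imp fun x hx => ⟨Submodule.mem_top, hx⟩⟩)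
  have hS₁ := isSesq_of_unitary hf₁
  let L : (Fin 2 → F) → (Fin n₂ → F) →ₗ[F] (ι → F) := fun x =>
    { toFun := fun y => (P : Matrix ι ι F) *ᵥ ((fun z => x z.1 * y z.2) ∘ e)
      map_add' := fun y y' => by rw [← mulVec_add]; congr 1; funext i; simp [mul_add]
      map_smul' := fun a y => by rw [RingHom.id_apply, ← mulVec_smul]; congr 1; funext i; simp [mul_left_comm] }
  have hL : ∀ x, x ≠ 0 → Function.Injective (L x) := by
    intro x hx
    rw [← LinearMap.ker_eq_bot, Submodule.eq_bot_iff]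
    intro y hy
    have h1 : (fun z => x z.1 * y z.2) ∘ e = (0 : ι → F) := mulVec_injective_GL P (by
      rw [Matrix.toLin'_apply, Matrix.toLin'_apply, mulVec_zero]; exact hy)
    obtain ⟨i, hi⟩ := Function.ne_iff.mp hx
    funext k
    have h2 := congrFun h1 (e.symm (i, k))
    simp only [Function.comp_apply, Equiv.apply_symm_apply, Pi.zero_apply, mul_eq_zero] at h2
    exact h2.resolve_left hi
  let D : Fin 2 → Submodule F (ι → F) := fun j => LinearMap.range (L (b j))
  have hb0 : ∀ j, b j ≠ 0 := fun j h => hb j (by rw [h]; exact hS₁.zero_left _)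
  have hrank : ∀ j, Module.finrank F (D j) = n₂ := fun j => by
    rw [LinearMap.finrank_range_of_inj (hL _ (hb0 j)), Module.finrank_fintype_fun_eq_card, Fintype.card_fin]
  have hnd : ∀ j, IsNondegenerateOn f (D j) := by
    rintro j _ ⟨y, rfl⟩ hy
    obtain ⟨⟨a, ha⟩, a', ha'⟩ := hf₂.nondegenerate y (fun h => hy (by rw [h, map_zero]))
    exact ⟨⟨_, ⟨a, rfl⟩, (key _ _ _ _).trans_ne (mul_ne_zero hc (mul_ne_zero (hb j) ha))⟩,
      _, ⟨a', rfl⟩, (key _ _ _ _).trans_ne (mul_ne_zero hc (mul_ne_zero (hb j) ha'))⟩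
  have horth : ∀ i j, i ≠ j → AreOrthogonalFor f (D i) (D j) := by
    rintro i j hij _ ⟨y, rfl⟩ _ ⟨y', rfl⟩
    exact (key _ _ _ _).trans (by rw [ho i j hij, zero_mul, mul_zero])
  have hdis : ∀ i j, i ≠ j → Disjoint (D i) (D j) := by
    intro i j hij
    rw [Submodule.disjoint_def]
    intro w hw hw'
    by_contra hw0
    obtain ⟨-, x, hx, hne⟩ := hnd i w hw hw0
    exact hne (horth j i (Ne.symm hij) w hw' x hx)
  have htop : D 0 ⊔ D 1 = ⊤ := by
    refine Submodule.eq_top_of_finrank_eq ?_
    have h1 := Submodule.finrank_sup_add_finrank_inf_eq (D 0) (D 1)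
    rw [disjoint_iff.mp (hdis 0 1 (by decide)), finrank_bot, hrank, hrank, add_zero] at h1
    rw [h1, Module.finrank_fintype_fun_eq_card, Fintype.card_congr e, Fintype.card_prod, Fintype.card_fin,
      Fintype.card_fin, two_mul]
  have hdec : IsMDecomposition n₂ D := by
    refine ⟨le_rfl, hn₂, hrank, ?_, ?_⟩
    · intro i
      fin_cases i
      · refine (hdis 0 1 (by decide)).mono_right (iSup₂_le fun l hl => ?_)
        fin_cases l
        · exact absurd rfl hl
        · exact le_rfl
      · refine (hdis 1 0 (by decide)).mono_right (iSup₂_le fun l hl => ?_)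
        fin_cases l
        · exact le_rfl
        · exact absurd rfl hl
    · exact top_le_iff.mp (htop ▸ sup_le (le_iSup D 0) (le_iSup D 1))
  refine ⟨D, ⟨hdec, hnd, horth⟩, fun g hg => ?_⟩
  obtain ⟨_, ⟨X, ⟨A, B, hAB⟩, rfl⟩, hXg⟩ := hG hg
  have hgP : ∀ x y, (g : Matrix ι ι F) *ᵥ L x y =
      L ((A : Matrix _ _ F) *ᵥ x) ((B : Matrix _ _ F) *ᵥ y) := by
    intro x y
    have h1 : (g : Matrix ι ι F) = (P : Matrix ι ι F) * (X : Matrix _ _ F).submatrix e e * ((P⁻¹ : GL ι F) : Matrix ι ι F) := by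
      rw [← hXg]; rfl
    show (g : Matrix ι ι F) *ᵥ ((P : Matrix ι ι F) *ᵥ _) = (P : Matrix ι ι F) *ᵥ _
    rw [h1, ← mulVec_mulVec, ← mulVec_mulVec, CfsgLib.Geo.inv_mulVec_mulVec, submatrix_mulVec_equiv]
    congr 1
    funext i
    simp only [Function.comp_apply, hAB, mulVec, dotProduct, kroneckerMap_apply, Fintype.sum_prod_type,
      Finset.sum_mul, Finset.mul_sum, Equiv.apply_symm_apply]
    rw [Finset.sum_comm]
    exact Finset.sum_congr rfl fun k _ => Finset.sum_congr rfl fun l _ => by ring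
  have hA : ∀ j, ∃ k, (A : Matrix _ _ F) *ᵥ b j ∈ Submodule.span F {b k} := by
    intro j
    refine hbw _ Submodule.mem_top fun h0 => ?_
    obtain ⟨-, y', hy'⟩ := hf₂.nondegenerate (Pi.single ⟨0, hn₂⟩ 1) (by simp)
    have h1 := hfix _ (coe_mem_matrixSet hg) (L (b j) (Pi.single ⟨0, hn₂⟩ 1)) (L (b j) y')
    rw [hgP, hgP] at h1
    have h2 := ((key _ _ _ _).symm.trans h1).trans (key _ _ _ _)
    rw [h0, zero_mul, mul_zero] at h2
    exact mul_ne_zero hc (mul_ne_zero (hb j) hy') h2.symm
  choose ψ hψ using hA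
  have hmap : ∀ j, (D j).map (Matrix.toLin' (g : Matrix ι ι F)) = D (ψ j) := by
    intro j
    refine Submodule.eq_of_le_of_finrank_eq ?_ ?_
    · rintro _ ⟨_, ⟨y, rfl⟩, rfl⟩
      obtain ⟨s, hs⟩ := Submodule.mem_span_singleton.mp (hψ j)
      refine ⟨s • ((B : Matrix _ _ F) *ᵥ y), ?_⟩
      rw [Matrix.toLin'_apply, hgP, ← hs]
      show _ *ᵥ _ = _ *ᵥ _
      congr 1
      funext i
      simp; ring
    · rw [← (Submodule.equivMapOfInjective _ (mulVec_injective_GL g) _).finrank_eq, hrank, hrank]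
  have hinj : Function.Injective ψ := by
    intro x y hxy
    by_contra hne
    have h1 := Submodule.map_injective_of_injective (mulVec_injective_GL g)
      (((hmap x).trans (congrArg D hxy)).trans (hmap y).symm)
    have := disjoint_iff.mp (hdis x y hne)
    rw [h1, inf_idem] at this
    have := hrank y
    rw [‹D y = ⊥›, finrank_bot] at this
    omega
  exact ⟨Equiv.ofBijective ψ ⟨hinj, Finite.surjective_of_injective hinj⟩, hmap⟩

end Tensor

end CfsgLib.Aschbacher
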