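import Cfsg.Agent.Aschbacher.Form.Common
import Cfsg.Agent.Forms.OfBilin

/-!
Hermitian Gram matrices: scaling, congruence to the identity, and tensor powers of two-dimensional unitary forms.
-/
set_option autoImplicit false
set_option maxHeartbeats 1000000

namespace CfsgLib.Aschbacher

open Matrix Cfsg.Geo CfsgLib.GeoClifford
open scoped MatrixGroups Kronecker commutatorElement

variable {ι : Type} [Fintype ι] [DecidableEq ι] {F : Type*} [Field F] {σ : F ≃+* F}

/-- A scalar turning a matrix that is hermitian up to a scalar of norm one into a hermitian one. -/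
lemma exists_herm_scalar (hσ : σ ≠ RingEquiv.refl F) (hinv : ∀ x, σ (σ x) = x) {a : F} (ha : a * σ a = 1) :
    ∃ s : F, s ≠ 0 ∧ σ s = s * a := by
  obtain ⟨α, hα⟩ : ∃ α, σ α ≠ α := by
    by_contra h
    push Not at h
    exact hσ (RingEquiv.ext h)
  have hy : ∀ y, σ (y + σ a * σ y) = (y + σ a * σ y) * a := fun y => by
    rw [map_add, map_mul, hinv, hinv]
    linear_combination -(σ y) * ha
  by_cases h1 : 1 + σ a * σ 1 = 0
  · refine ⟨_, fun h => hα ?_, hy α⟩
    rw [map_one, mul_one] at h1
    linear_combination σ α * h1 - h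
  · exact ⟨_, h1, hy 1⟩

lemma smul_herm {n : ℕ} {B : Matrix (Fin n) (Fin n) F} (hinv : ∀ x, σ (σ x) = x) {a s : F}
    (hB : Bᵀ = a • B.map σ) (hs : σ s = s * a) : (s • B)ᵀ = (s • B).map σ := by
  ext i j
  have h1 := congrFun (congrFun hB i) j
  simp only [transpose_apply, Matrix.smul_apply, Matrix.map_apply, smul_eq_mul, map_mul] at h1 ⊢
  rw [h1, hs]
  ring

lemma isUnitaryForm_formOf (hσ : σ ≠ RingEquiv.refl F) (hinv : ∀ x, σ (σ x) = x) {B : Matrix ι ι F} (hB : IsUnit B)
    (ht : Bᵀ = B.map σ) : IsUnitaryForm σ (formOf σ B) := by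
  refine ⟨hσ, hinv, (isSesq_formOf σ B).add_left, (isSesq_formOf σ B).smul_left, fun v w => ?_,
    nondegenerate_formOf σ hB⟩
  simp only [formOf]
  rw [dotProduct_mulVec, ← mulVec_transpose, ht, dotProduct_comm]
  simp only [dotProduct, mulVec, map_sum, map_mul, Function.comp_apply, Matrix.map_apply, hinv]

lemma submatrix_sum' {κ α : Type*} (e : ι ≃ κ) (s : Finset α) (g : α → Matrix κ κ F) :
    (∑ a ∈ s, g a).submatrix e e = ∑ a ∈ s, (g a).submatrix e e := by
  ext i j
  simp [Matrix.sum_apply]

variable [Fintype F]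

/-- A hermitian invertible matrix is congruent to the identity. -/
theorem exists_congr_one (hσ : σ ≠ RingEquiv.refl F) (hinv : ∀ x, σ (σ x) = x) {B : Matrix ι ι F} (hB : IsUnit B)
    (ht : Bᵀ = B.map σ) : ∃ X : GL ι F, (X : Matrix ι ι F)ᵀ * B * (X : Matrix ι ι F).map σ = 1 := by
  classical
  set g := formOf σ B
  have hu := isUnitaryForm_formOf hσ hinv hB ht
  have hs := isSesq_of_unitary hu
  let L : (ι → F) →ₛₗ[(σ : F →+* F)] (ι → F) →ₗ[F] F :=
    { toFun := fun v =>
        { toFun := fun w => g w v
          map_add' := fun x y => hs.add_left x y v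
          map_smul' := fun c x => hs.smul_left c x v }
      map_add' := fun x y => LinearMap.ext fun w => hs.add_right w x y
      map_smul' := fun c x => LinearMap.ext fun w => hs.smul_right c w x }
  have hL : L.Nondegenerate := by
    refine ⟨fun x hx => ?_, fun y hy => ?_⟩
    · by_contra h
      obtain ⟨⟨w, hw⟩, -⟩ := hu.nondegenerate x h
      exact hw (hx w)
    · by_contra h
      obtain ⟨-, w, hw⟩ := hu.nondegenerate y h
      exact hw (hy w)
  have hS : L.IsSymm := ⟨fun x y => (hu.herm x y).symm⟩
  have hne : (σ : F →+* F) ≠ RingHom.id F := fun h => hσ (RingEquiv.ext fun x => RingHom.congr_fun h x)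
  obtain ⟨b, hb⟩ := CfsgLib.Forms.exists_orthonormal_herm hne hinv
    (CfsgLib.Forms.finite_norm_surjective hne hinv) _ (ι → F) L hS hL (Module.finrank_fintype_fun_eq_card F)
  let en := Fintype.equivFin ι
  have hPu : IsUnit (Matrix.of fun r i => b (en i) r : Matrix ι ι F) :=
    Matrix.linearIndependent_cols_iff_isUnit.mp (show LinearIndependent F fun i => b (en i) from
      b.linearIndependent.comp en en.injective)
  refine ⟨hPu.unit, ?_⟩
  ext i j
  have e : ∀ i, (hPu.unit : Matrix ι ι F) *ᵥ Pi.single i 1 = b (en i) := by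
    intro i; ext r; simp [IsUnit.unit_spec]
  have h := hb (en j) (en i)
  change formOf σ B (b (en i)) (b (en j)) = _ at h
  rw [← e, ← e] at h
  rw [formOf, comp_mulVec, ← vecMul_transpose (hPu.unit : Matrix ι ι F), ← dotProduct_mulVec, mulVec_mulVec,
    mulVec_mulVec] at h
  have hsj : σ ∘ (Pi.single j 1 : ι → F) = Pi.single j 1 := by
    ext k; by_cases hk : k = j <;> simp [Pi.single_apply, hk]
  rw [hsj] at h
  simp only [mulVec_single_one, single_one_dotProduct, Matrix.col_apply, en.injective.eq_iff] at h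
  rw [h, Matrix.one_apply]
  simp only [eq_comm]

variable {t d : ℕ} {f : (ι → F) → (ι → F) → F} {G : Subgroup (GL ι F)} {e : ι ≃ (Fin t → Fin d)} {P : GL ι F}
  {B : Matrix (Fin d) (Fin d) F} {c : F}

omit [Fintype F] in
/-- Changing coordinates in every factor. -/
lemma IsPowerGram.congr (h : IsPowerGram σ f G e P B c) (X : GL (Fin d) F) {B' : Matrix (Fin d) (Fin d) F}
    (hB' : IsUnit B') {s : F} (hs : s ≠ 0)
    (hX : (X : Matrix (Fin d) (Fin d) F)ᵀ * B * (X : Matrix (Fin d) (Fin d) F).map σ = s • B') :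
    ∃ (P' : GL ι F) (c' : F), IsPowerGram σ f G e P' B' c' := by
  classical
  set T : GL ι F := glReindex e.symm (tensUnit fun _ => X) with hT
  have hTv : (T : Matrix ι ι F) = (tens fun _ : Fin t => (X : Matrix (Fin d) (Fin d) F)).submatrix e e := rfl
  have hTi : ((T⁻¹ : GL ι F) : Matrix ι ι F) =
      (tens fun _ : Fin t => ((X⁻¹ : GL (Fin d) F) : Matrix (Fin d) (Fin d) F)).submatrix e e := rfl
  refine ⟨P * T, c * s ^ t, mul_ne_zero h.ne_zero (pow_ne_zero _ hs), hB', ?_, fun x hx => ?_⟩
  · rw [Units.val_mul]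
    calc _ = (T : Matrix ι ι F)ᵀ * ((P : Matrix ι ι F)ᵀ * gramMatrix f * (P : Matrix ι ι F).map σ) *
          (T : Matrix ι ι F).map σ := by rw [transpose_mul, Matrix.map_mul]; simp only [mul_assoc]
      _ = _ := by
        rw [h.gram, hTv, transpose_submatrix, ← Matrix.submatrix_map, mul_smul_comm, smul_mul_assoc, submatrix_mul_equiv,
          submatrix_mul_equiv, tens_transpose, tens_map, tens_mul, tens_mul, mul_smul, hX, tens_smul,
          Finset.prod_const, Finset.card_univ, Fintype.card_fin]
        rfl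
  · obtain ⟨gs, π, a, ha, hK⟩ := h.form x hx
    refine ⟨fun i => X⁻¹ * gs i * X, π, a, ha, ?_⟩
    calc _ = ((T⁻¹ : GL ι F) : Matrix ι ι F) * (((P⁻¹ : GL ι F) : Matrix ι ι F) * (x : Matrix ι ι F) *
          (P : Matrix ι ι F)) * (T : Matrix ι ι F) := by
          rw [_root_.mul_inv_rev, Units.val_mul, Units.val_mul]; simp only [mul_assoc]
      _ = _ := by
        rw [hK, hTi, hTv, mul_smul_comm, smul_mul_assoc, submatrix_mul_equiv, submatrix_mul_equiv]
        congr 2
        rw [mul_assoc, mul_assoc, permMat_mul_tens, ← mul_assoc, ← mul_assoc, tens_mul, tens_mul]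
        simp [Units.val_mul]

omit [Fintype F] in
/-- An isometry in power coordinates has isometric factors up to a scalar. -/
lemma IsPowerGram.factor (h : IsPowerGram σ f G e P B c) (hf : IsSesq σ f) (hfix : FixesForm (matrixSet G) f)
    (hd : 0 < d) {x : GL ι F} (hx : x ∈ G) {gs : Fin t → GL (Fin d) F} {π : Equiv.Perm (Fin t)}
    (hT : HasTensForm e P x gs π) (i : Fin t) : ∃ s : F, s ≠ 0 ∧
      (gs i : Matrix (Fin d) (Fin d) F)ᵀ * B * (gs i : Matrix (Fin d) (Fin d) F).map σ = s • B := by
  classical
  obtain ⟨a, ha, hK⟩ := hT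
  have h1 := (fixes_iff hf _).mp (fun u v => hfix _ (coe_mem_matrixSet hx) u v)
  set K := ((P⁻¹ : GL ι F) : Matrix ι ι F) * (x : Matrix ι ι F) * (P : Matrix ι ι F) with hKdef
  have hPK : (x : Matrix ι ι F) * (P : Matrix ι ι F) = (P : Matrix ι ι F) * K := by
    rw [hKdef, ← mul_assoc, ← mul_assoc, Units.mul_inv, one_mul]
  clear_value K
  have h2 : Kᵀ * ((P : Matrix ι ι F)ᵀ * gramMatrix f * (P : Matrix ι ι F).map σ) * K.map σ =
      (P : Matrix ι ι F)ᵀ * gramMatrix f * (P : Matrix ι ι F).map σ := by
    calc _ = ((P : Matrix ι ι F) * K)ᵀ * gramMatrix f * ((P : Matrix ι ι F) * K).map σ := by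
          rw [transpose_mul, Matrix.map_mul]; simp only [mul_assoc]
      _ = (P : Matrix ι ι F)ᵀ * ((x : Matrix ι ι F)ᵀ * gramMatrix f * (x : Matrix ι ι F).map σ) *
          (P : Matrix ι ι F).map σ := by rw [← hPK, transpose_mul, Matrix.map_mul]; simp only [mul_assoc]
      _ = _ := by rw [h1]
  have hm : (a • (tens (fun i => (gs i : Matrix (Fin d) (Fin d) F)) * permMat d π).submatrix e e).map σ =
      σ a • ((tens (fun i => (gs i : Matrix (Fin d) (Fin d) F)) * permMat d π).map σ).submatrix e e := by
    ext u v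
    simp only [Matrix.map_apply, Matrix.smul_apply, submatrix_apply, smul_eq_mul, map_mul]
  rw [h.gram, hK, transpose_smul, hm, transpose_submatrix] at h2
  simp only [mul_smul_comm, smul_mul_assoc, submatrix_mul_equiv] at h2
  rw [transpose_mul, tens_transpose, Matrix.map_mul, tens_map, permMat_map, permMat_transpose] at h2
  have e1 : (permMat d π.symm : Matrix _ _ F) * tens (fun i => (gs i : Matrix (Fin d) (Fin d) F)ᵀ) * tens (fun _ => B) *
      (tens (fun i => (gs i : Matrix (Fin d) (Fin d) F).map σ) * permMat d π) =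
      tens (fun i => (gs (π i) : Matrix (Fin d) (Fin d) F)ᵀ * B * (gs (π i) : Matrix (Fin d) (Fin d) F).map σ) := by
    calc _ = (permMat d π.symm : Matrix _ _ F) * (tens (fun i => (gs i : Matrix (Fin d) (Fin d) F)ᵀ) * tens (fun _ => B) *
          tens (fun i => (gs i : Matrix (Fin d) (Fin d) F).map σ)) * permMat d π := by simp only [mul_assoc]
      _ = _ := by
        rw [tens_mul, tens_mul, permMat_mul_tens, mul_assoc]
        have h2 := permMat_mul_inv (m := d) (F := F) π.symm
        rw [Equiv.symm_symm] at h2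
        rw [h2, mul_one]
        simp
  rw [e1, smul_smul, smul_smul] at h2
  have h3 := congrArg (fun X : Matrix ι ι F => X.submatrix e.symm e.symm) h2
  simp only [Matrix.submatrix_smul, Pi.smul_apply, submatrix_submatrix, Equiv.self_comp_symm, submatrix_id_id] at h3
  have hσa : σ a ≠ 0 := by simpa using ha
  have h4 : tens (fun i => (gs (π i) : Matrix (Fin d) (Fin d) F)ᵀ * B * (gs (π i) : Matrix (Fin d) (Fin d) F).map σ) =
      (a * σ a)⁻¹ • tens fun _ : Fin t => B := by
    rw [eq_inv_smul_iff₀ (mul_ne_zero ha hσa)]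
    refine smul_right_injective _ h.ne_zero ?_
    show c • _ = c • _
    rw [← h3, smul_smul]
    congr 1
    ring
  have := tens_factor (fun j => (((Matrix.isUnit_transpose _).mpr (gs (π j)).isUnit).mul h.unit).mul
    ((gs (π j)).isUnit.map (σ : F →+* F).mapMatrix)) h4 hd (π.symm i)
  simpa using this

omit [Fintype F] in
lemma det_smul_J (g : Matrix (Fin 2) (Fin 2) F) :
    gᵀ * !![0, 1; -1, 0] * g = g.det • (!![0, 1; -1, 0] : Matrix (Fin 2) (Fin 2) F) := by
  ext a b
  fin_cases a <;> fin_cases b <;> simp [Matrix.mul_apply, Fin.sum_univ_two, Matrix.det_fin_two] <;> ring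

/-- An element of norm one different from its inverse. -/
lemma exists_norm_one (hσ : σ ≠ RingEquiv.refl F) (hinv : ∀ x, σ (σ x) = x) :
    ∃ x : F, x * σ x = 1 ∧ σ x ≠ x := by
  classical
  obtain ⟨α, hα⟩ : ∃ α, σ α ≠ α := by
    by_contra h
    push Not at h
    exact hσ (RingEquiv.ext h)
  by_contra hcon
  push Not at hcon
  have hkey : ∀ u : F, u ≠ 0 → σ u = u ∨ σ u = -u := by
    intro u hu
    have hu' : σ u ≠ 0 := by simpa using hu
    have h1 : u / σ u * σ (u / σ u) = 1 := by rw [map_div₀, hinv]; field_simp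
    have h2 := hcon _ h1
    rw [map_div₀, hinv, div_eq_div_iff hu hu'] at h2
    rcases mul_self_eq_mul_self_iff.mp h2 with h | h
    · exact Or.inl h
    · exact Or.inr h
  have hα0 : α ≠ 0 := fun h => hα (by rw [h, map_zero])
  have hαneg := (hkey α hα0).resolve_left hα
  have h2 : (2 : F) ≠ 0 := fun h => hα (by rw [hαneg]; linear_combination (-α) * h)
  by_cases h10 : 1 + α = 0
  · apply hα
    rw [eq_neg_of_add_eq_zero_right h10, map_neg, map_one]
  rcases hkey _ h10 with h | h
  · rw [map_add, map_one, hαneg] at h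
    exact mul_ne_zero h2 hα0 (by linear_combination -h)
  · rw [map_add, map_one, hαneg] at h
    exact h2 (by linear_combination h)

/-- A tensor power of a two-dimensional unitary form lies in a subfield group carrying the form. -/
theorem exists_formRational_power_two (hn : 2 ≤ Fintype.card ι) [Nonempty ι] (hf : IsUnitaryForm σ f)
    (hfix : FixesForm (matrixSet G) f) {e : ι ≃ (Fin t → Fin 2)} {P : GL ι F}
    {c : F} (h : IsPowerGram σ f G e P (1 : Matrix (Fin 2) (Fin 2) F) c) :
    ∃ (F₁ : Subfield F) (r : ℕ) (P : GL ι F) (ζ : F), r.Prime ∧ Fintype.card F = Nat.card F₁ ^ r ∧ ζ ≠ 0 ∧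
      IsFormRationalStructure f F₁ ζ P ∧ G ≤ subfieldSubgroup F₁ P ∧
      ((ζ = 1 ∧ (Odd r ∨ (r = 2 ∧ Odd (Fintype.card F)))) ∨
       (r = 2 ∧ Even (Fintype.card ι) ∧ ζ + σ ζ = 0 ∧
        ∀ u : ι → F, (∀ i, u i ∈ F₁) → f ((P : Matrix ι ι F) *ᵥ u) ((P : Matrix ι ι F) *ᵥ u) = 0)) := by
  classical
  set J : Matrix (Fin 2) (Fin 2) F := !![0, 1; -1, 0] with hJ
  set Q : Matrix ι ι F := ((P⁻¹ : GL ι F) : Matrix ι ι F) with hQ
  set Bm : Matrix ι ι F := Qᵀ * (tens fun _ : Fin t => J).submatrix e e * Q with hBm
  have hJu : J * (-J) = 1 := by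
    ext a b; fin_cases a <;> fin_cases b <;> simp [hJ, Matrix.mul_apply, Fin.sum_univ_two]
  have hBu : IsUnit Bm := by
    refine ((Matrix.isUnit_transpose _).mpr (P⁻¹).isUnit |>.mul ?_).mul (P⁻¹).isUnit
    refine IsUnit.of_mul_eq_one ((tens fun _ : Fin t => -J).submatrix e e) ?_
    rw [submatrix_mul_equiv, tens_mul]
    simp only [hJu, tens_one, submatrix_one_equiv]
  have hrefl : ∀ M : Matrix ι ι F, M.map (RingEquiv.refl F) = M := fun M => by ext i j; rfl
  have hs := isSesq_of_unitary hf
  let N : Subgroup (GL ι F) :=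
    { carrier := {g | (∀ u v, f ((g : Matrix ι ι F) *ᵥ u) ((g : Matrix ι ι F) *ᵥ v) = f u v) ∧
        (g : Matrix ι ι F)ᵀ * Bm * (g : Matrix ι ι F) = Bm}
      one_mem' := ⟨fun u v => by simp, by simp⟩
      mul_mem' := fun {a b} ha hb => ⟨fun u v => by rw [Units.val_mul, ← mulVec_mulVec, ← mulVec_mulVec, ha.1, hb.1], by
        rw [Units.val_mul, transpose_mul]
        calc _ = (b : Matrix ι ι F)ᵀ * ((a : Matrix ι ι F)ᵀ * Bm * a) * b := by simp only [mul_assoc]
          _ = Bm := by rw [ha.2, hb.2]⟩
      inv_mem' := fun {a} ha => ⟨fun u v => by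
          have := ha.1 (((a⁻¹ : GL ι F) : Matrix ι ι F) *ᵥ u) (((a⁻¹ : GL ι F) : Matrix ι ι F) *ᵥ v)
          rw [mulVec_mulVec, mulVec_mulVec, ← Units.val_mul, mul_inv_cancel, Units.val_one, one_mulVec, one_mulVec] at this
          exact this.symm, by
        calc _ = ((a⁻¹ : GL ι F) : Matrix ι ι F)ᵀ * ((a : Matrix ι ι F)ᵀ * Bm * a) * ((a⁻¹ : GL ι F) : Matrix ι ι F) := by
              rw [ha.2]
          _ = ((a : Matrix ι ι F) * ((a⁻¹ : GL ι F) : Matrix ι ι F))ᵀ * Bm *
              ((a : Matrix ι ι F) * ((a⁻¹ : GL ι F) : Matrix ι ι F)) := by rw [transpose_mul]; simp only [mul_assoc]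
          _ = Bm := by simp⟩ }
  have hsim : ∀ g ∈ G, ∃ s : F, s ≠ 0 ∧ (g : Matrix ι ι F)ᵀ * Bm * (g : Matrix ι ι F) = s • Bm := by
    intro g hg
    obtain ⟨gs, π, a, ha, hK⟩ := h.form g hg
    refine ⟨a * a * ∏ i, (gs i : Matrix (Fin 2) (Fin 2) F).det,
      mul_ne_zero (mul_ne_zero ha ha) (Finset.prod_ne_zero_iff.mpr fun i _ =>
        (Matrix.GeneralLinearGroup.det (gs i)).ne_zero), ?_⟩
    have hKQ : Q * (g : Matrix ι ι F) =
        (a • (tens (fun i => (gs i : Matrix (Fin 2) (Fin 2) F)) * permMat 2 π).submatrix e e) * Q := by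
      rw [← hK, hQ]; simp [mul_assoc]
    calc _ = (Q * (g : Matrix ι ι F))ᵀ * (tens fun _ : Fin t => J).submatrix e e * (Q * (g : Matrix ι ι F)) := by
          rw [hBm, transpose_mul]; simp only [mul_assoc]
      _ = _ := by
        rw [hKQ, transpose_mul, transpose_smul, transpose_submatrix, hBm]
        set T := tens fun i => (gs i : Matrix (Fin 2) (Fin 2) F)
        calc _ = (a * a) • (Qᵀ * ((T * permMat 2 π)ᵀ * (tens fun _ : Fin t => J) * (T * permMat 2 π)).submatrix e e * Q) := by
              generalize T * permMat 2 π = U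
              rw [← submatrix_mul_equiv _ U e e e, ← submatrix_mul_equiv Uᵀ _ e e e]
              simp only [mul_smul_comm, smul_mul_assoc, smul_smul, mul_assoc]
          _ = _ := by
            have hperm : (T * permMat 2 π)ᵀ * (tens fun _ : Fin t => J) * (T * permMat 2 π) =
                (∏ i, (gs i : Matrix (Fin 2) (Fin 2) F).det) • tens fun _ : Fin t => J := by
              rw [transpose_mul, tens_transpose, permMat_transpose]
              calc _ = (permMat 2 π.symm : Matrix _ _ F) * (tens (fun i => (gs i : Matrix (Fin 2) (Fin 2) F)ᵀ) *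
                    (tens fun _ : Fin t => J) * tens (fun i => (gs i : Matrix (Fin 2) (Fin 2) F))) * permMat 2 π := by
                    simp only [mul_assoc]; rfl
                _ = _ := by
                  rw [tens_mul, tens_mul]
                  simp only [hJ, det_smul_J]
                  rw [tens_smul, mul_smul_comm, smul_mul_assoc, permMat_mul_tens, mul_assoc]
                  have h2 := permMat_mul_inv (m := 2) (F := F) π.symm
                  rw [Equiv.symm_symm] at h2
                  rw [h2, mul_one]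
            rw [hperm, Matrix.submatrix_smul, Pi.smul_apply, Pi.smul_apply, mul_smul_comm, smul_mul_assoc, smul_smul]
  set G' : Subgroup (GL ι F) := G ⊔ N with hG'
  have hnorm : G ≤ subgroupNormalizer N := by
    intro g hg
    have key : ∀ g ∈ G, ∀ x ∈ N, g * x * g⁻¹ ∈ N := by
      intro g hg x hx
      refine ⟨fun u v => ?_, ?_⟩
      · have e1 := fun a b => hfix _ (coe_mem_matrixSet hg) a b
        have e2 := fun a b => hfix _ (coe_mem_matrixSet (G.inv_mem hg)) a b
        simp only [Units.val_mul, ← mulVec_mulVec]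
        rw [e1, hx.1, e2]
      · obtain ⟨s, hs0, hs⟩ := hsim g hg
        have hsi : ((g⁻¹ : GL ι F) : Matrix ι ι F)ᵀ * Bm * ((g⁻¹ : GL ι F) : Matrix ι ι F) = s⁻¹ • Bm := by
          rw [eq_inv_smul_iff₀ hs0]
          calc _ = ((g⁻¹ : GL ι F) : Matrix ι ι F)ᵀ * (s • Bm) * ((g⁻¹ : GL ι F) : Matrix ι ι F) := by
                rw [mul_smul_comm, smul_mul_assoc]
            _ = ((g : Matrix ι ι F) * ((g⁻¹ : GL ι F) : Matrix ι ι F))ᵀ * Bm *
                ((g : Matrix ι ι F) * ((g⁻¹ : GL ι F) : Matrix ι ι F)) := by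
                rw [← hs, transpose_mul]; simp only [mul_assoc]
            _ = Bm := by simp
        simp only [Units.val_mul]
        rw [transpose_mul, transpose_mul]
        calc _ = ((g⁻¹ : GL ι F) : Matrix ι ι F)ᵀ * ((x : Matrix ι ι F)ᵀ * ((g : Matrix ι ι F)ᵀ * Bm * g) * x) *
              ((g⁻¹ : GL ι F) : Matrix ι ι F) := by simp only [mul_assoc]
          _ = Bm := by
            rw [hs, mul_smul_comm, smul_mul_assoc, hx.2, mul_smul_comm, smul_mul_assoc, hsi, smul_smul,
              mul_inv_cancel₀ hs0, one_smul]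
    rw [subgroupNormalizer, Subgroup.mem_normalizer_iff]
    intro x
    refine ⟨fun hx => key g hg x hx, fun hx => ?_⟩
    simpa [mul_assoc] using key g⁻¹ (G.inv_mem hg) _ hx
  have hN : NormSub G' N := by
    have hG'n : G' ≤ subgroupNormalizer N := sup_le hnorm Subgroup.le_normalizer
    exact ⟨le_sup_right, fun g hg x hx => (Subgroup.mem_normalizer_iff.mp (hG'n hg) x).mp hx⟩
  -- the special unitary elements of one factor
  obtain ⟨y, hy, hyne⟩ := exists_norm_one hf.ne_refl hf.involutive
  have hgen : ∀ (i : Fin t) (M : GL (Fin 2) F), (M : Matrix (Fin 2) (Fin 2) F)ᵀ * (M : Matrix (Fin 2) (Fin 2) F).map σ = 1 →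
      (M : Matrix (Fin 2) (Fin 2) F).det = 1 →
      (P : Matrix ι ι F) * (slot i (M : Matrix (Fin 2) (Fin 2) F)).submatrix e e * Q ∈ matrixSet N := by
    intro i M hM hdet
    set gs : Fin t → GL (Fin 2) F := Function.update (fun _ => 1) i M with hgs
    set g : GL ι F := P * glReindex e.symm (tensUnit gs) * P⁻¹
    have hgv : (g : Matrix ι ι F) = (P : Matrix ι ι F) * (slot i (M : Matrix (Fin 2) (Fin 2) F)).submatrix e e * Q := by
      have hfun : (fun l => ((gs l : GL (Fin 2) F) : Matrix (Fin 2) (Fin 2) F)) =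
          Function.update (fun _ => 1) i (M : Matrix (Fin 2) (Fin 2) F) := by
        funext l
        by_cases hl : l = i
        · subst hl; simp [hgs]
        · simp [hgs, Function.update_of_ne hl]
      rw [Units.val_mul, Units.val_mul, slot, ← hfun]
      rfl
    refine ⟨g, ⟨fun u v => ?_, ?_⟩, hgv⟩
    · refine (fixes_iff hs _).mpr ?_ u v
      set S := (slot i (M : Matrix (Fin 2) (Fin 2) F)).submatrix e e with hS
      have h1 : Sᵀ * ((P : Matrix ι ι F)ᵀ * gramMatrix f * (P : Matrix ι ι F).map σ) * S.map σ =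
          (P : Matrix ι ι F)ᵀ * gramMatrix f * (P : Matrix ι ι F).map σ := by
        rw [h.gram, hS, transpose_submatrix, ← Matrix.submatrix_map, slot_map, mul_smul_comm, smul_mul_assoc,
          submatrix_mul_equiv, submatrix_mul_equiv, slot, slot, tens_transpose, tens_mul, tens_mul]
        congr 3
        funext l
        by_cases hl : l = i
        · subst hl; simp [hM]
        · simp [Function.update_of_ne hl]
      calc (g : Matrix ι ι F)ᵀ * gramMatrix f * (g : Matrix ι ι F).map σ
          = Qᵀ * (Sᵀ * ((P : Matrix ι ι F)ᵀ * gramMatrix f * (P : Matrix ι ι F).map σ) * S.map σ) * Q.map σ := by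
            rw [hgv, transpose_mul, transpose_mul, Matrix.map_mul, Matrix.map_mul]; simp only [mul_assoc]
        _ = ((P : Matrix ι ι F) * Q)ᵀ * gramMatrix f * ((P : Matrix ι ι F) * Q).map σ := by
            rw [h1, transpose_mul, Matrix.map_mul]; simp only [mul_assoc]
        _ = _ := by rw [hQ, Units.mul_inv, transpose_one, one_mul, Matrix.map_one _ (map_zero σ) (map_one σ), mul_one]
    · set S := (slot i (M : Matrix (Fin 2) (Fin 2) F)).submatrix e e with hS
      have h1 : Sᵀ * (tens fun _ : Fin t => J).submatrix e e * S = (tens fun _ : Fin t => J).submatrix e e := by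
        rw [hS, transpose_submatrix, submatrix_mul_equiv, submatrix_mul_equiv, slot, tens_transpose, tens_mul, tens_mul]
        congr 2
        funext l
        by_cases hl : l = i
        · subst hl; simp [hJ, det_smul_J, hdet]
        · simp [Function.update_of_ne hl]
      calc (g : Matrix ι ι F)ᵀ * Bm * (g : Matrix ι ι F)
          = Qᵀ * (Sᵀ * ((Q * (P : Matrix ι ι F))ᵀ * (tens fun _ : Fin t => J).submatrix e e *
              (Q * (P : Matrix ι ι F))) * S) * Q := by
            rw [hgv, hBm]; simp only [transpose_mul, mul_assoc]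
        _ = Bm := by rw [hQ, Units.inv_mul, transpose_one, one_mul, mul_one, h1, hBm]
  have hNabs : ActsAbsolutelyIrreducibly (matrixSet N) := by
    refine absIrred_of_adjoin_eq_top fun X => ?_
    set A := Algebra.adjoin F (matrixSet N)
    have hmem : ∀ i (a b : Fin 2), (P : Matrix ι ι F) * (slot i (Matrix.single a b 1)).submatrix e e * Q ∈ A := by
      intro i
      let L : Matrix (Fin 2) (Fin 2) F → Matrix ι ι F := fun M => (P : Matrix ι ι F) * (slot i M).submatrix e e * Q
      have hLadd : ∀ M M', L (M + M') = L M + L M' := fun M M' => by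
        simp only [L]
        rw [← add_mul, ← mul_add]
        congr 2
        ext u v
        simp only [submatrix_apply, Matrix.add_apply, slot_apply]
        split <;> simp
      have hLsmul : ∀ (s : F) M, L (s • M) = s • L M := fun s M => by
        simp only [L]
        rw [← smul_mul_assoc, ← mul_smul_comm]
        congr 2
        ext u v
        simp only [submatrix_apply, Matrix.smul_apply, slot_apply]
        split <;> simp
      have hLmul : ∀ M M', L (M * M') = L M * L M' := fun M M' => by
        simp only [L]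
        rw [← slot_mul, ← submatrix_mul_equiv (slot i M) (slot i M') e e e, hQ]
        simp only [mul_assoc, Units.inv_mul_cancel_left]
      have hsu : ∀ M : Matrix (Fin 2) (Fin 2) F, Mᵀ * M.map σ = 1 → M.det = 1 → L M ∈ A := fun M h1 h2 => by
        have hu : IsUnit M := (Matrix.isUnit_iff_isUnit_det _).mpr (by rw [h2]; exact isUnit_one)
        exact Algebra.subset_adjoin (hgen i hu.unit (by simpa using h1) (by simpa using h2))
      have hD : L !![y, 0; 0, σ y] ∈ A := hsu _ (by
          ext a b; fin_cases a <;> fin_cases b <;> simp [Matrix.mul_apply, Fin.sum_univ_two, hy, hf.involutive, mul_comm (σ y)])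
        (by simp [Matrix.det_fin_two, hy])
      have hW : L J ∈ A := hsu _ (by
          ext a b; fin_cases a <;> fin_cases b <;> simp [hJ, Matrix.mul_apply, Fin.sum_univ_two])
        (by simp [hJ, Matrix.det_fin_two])
      have h1 : L 1 ∈ A := hsu 1 (by simp [Matrix.map_one _ (map_zero σ) (map_one σ)]) (by simp)
      have hne : y - σ y ≠ 0 := sub_ne_zero.mpr (Ne.symm hyne)
      have h00 : L (Matrix.single 0 0 1) ∈ A := by
        have : Matrix.single (0 : Fin 2) (0 : Fin 2) (1 : F) =
            (y - σ y)⁻¹ • (!![y, 0; 0, σ y] + (-σ y) • (1 : Matrix (Fin 2) (Fin 2) F)) := by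
          ext a b; fin_cases a <;> fin_cases b <;> simp <;> field_simp <;> ring
        rw [this, hLsmul, hLadd, hLsmul]
        exact Subalgebra.smul_mem _ (Subalgebra.add_mem _ hD (Subalgebra.smul_mem _ h1 _)) _
      have h11 : L (Matrix.single 1 1 1) ∈ A := by
        have : Matrix.single (1 : Fin 2) (1 : Fin 2) (1 : F) = 1 + (-1 : F) • Matrix.single 0 0 1 := by
          ext a b; fin_cases a <;> fin_cases b <;> simp
        rw [this, hLadd, hLsmul]
        exact Subalgebra.add_mem _ h1 (Subalgebra.smul_mem _ h00 _)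
      intro a b
      show L _ ∈ A
      fin_cases a <;> fin_cases b
      · exact h00
      · have : Matrix.single (0 : Fin 2) (1 : Fin 2) (1 : F) = Matrix.single 0 0 1 * J := by
          ext a b; fin_cases a <;> fin_cases b <;> simp [hJ, Matrix.mul_apply, Fin.sum_univ_two]
        show L (Matrix.single 0 1 1) ∈ A
        rw [this, hLmul]
        exact Subalgebra.mul_mem _ h00 hW
      · have : Matrix.single (1 : Fin 2) (0 : Fin 2) (1 : F) = (-1 : F) • (Matrix.single 1 1 1 * J) := by
          ext a b; fin_cases a <;> fin_cases b <;> simp [hJ, Matrix.mul_apply, Fin.sum_univ_two]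
        show L (Matrix.single 1 0 1) ∈ A
        rw [this, hLsmul, hLmul]
        exact Subalgebra.smul_mem _ (Subalgebra.mul_mem _ h11 hW) _
      · exact h11
    have hall : ∀ (S : Finset (Fin t)) (a b : Fin t → Fin 2), (P : Matrix ι ι F) *
        (tens fun i => if i ∈ S then Matrix.single (a i) (b i) 1 else 1).submatrix e e * Q ∈ A := by
      intro S
      induction S using Finset.induction_on with
      | empty => intro a b; simp [tens_one, hQ]
      | insert i S hi ih =>
        intro a b
        have e1 : (tens fun l => if l ∈ insert i S then Matrix.single (a l) (b l) (1 : F) else 1) =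
            slot i (Matrix.single (a i) (b i) 1) * tens fun l => if l ∈ S then Matrix.single (a l) (b l) 1 else 1 := by
          rw [slot, tens_mul]
          congr 1
          funext l
          by_cases hl : l = i
          · subst hl; simp [hi]
          · simp [Function.update_of_ne hl, hl]
        rw [e1, ← submatrix_mul_equiv _ _ _ e]
        have key : ∀ U V : Matrix ι ι F, (P : Matrix ι ι F) * (U * V) * Q =
            ((P : Matrix ι ι F) * U * Q) * ((P : Matrix ι ι F) * V * Q) := fun U V => by simp [hQ, mul_assoc]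
        rw [key]
        exact Subalgebra.mul_mem _ (hmem i (a i) (b i)) (ih a b)
    set Y := ((Q * X * (P : Matrix ι ι F))).submatrix e.symm e.symm
    have hX : X = ∑ a, ∑ b, Y a b • ((P : Matrix ι ι F) *
        (tens fun i => if i ∈ Finset.univ then Matrix.single (a i) (b i) 1 else 1).submatrix e e * Q) := by
      have hY : Y = ∑ a, ∑ b, Y a b • (tens fun i : Fin t => Matrix.single (a i) (b i) (1 : F)) := by
        have hsingle : ∀ a b : Fin t → Fin 2, (tens fun i : Fin t => Matrix.single (a i) (b i) (1 : F)) =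
            Matrix.single a b 1 := by
          intro a b
          ext u v
          simp only [tens, Matrix.of_apply, Matrix.single_apply]
          by_cases huv : a = u ∧ b = v
          · rw [if_pos huv]; obtain ⟨rfl, rfl⟩ := huv; simp
          · rw [if_neg huv]
            obtain ⟨i, hi⟩ : ∃ i, ¬ (a i = u i ∧ b i = v i) := by
              by_contra hc
              push Not at hc
              exact huv ⟨funext fun i => (hc i).1, funext fun i => (hc i).2⟩
            exact Finset.prod_eq_zero (Finset.mem_univ i) (if_neg hi)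
        simp only [hsingle, Matrix.smul_single, smul_eq_mul, mul_one]
        exact Matrix.matrix_eq_sum_single Y
      have h2 : X = (P : Matrix ι ι F) * Y.submatrix e e * Q := by simp [Y, hQ, ← mul_assoc]
      conv_lhs => rw [h2, hY]
      simp only [Finset.mem_univ, if_true, Finset.sum_mul, Finset.mul_sum, mul_smul_comm, smul_mul_assoc,
        submatrix_sum' e, Matrix.submatrix_smul, Pi.smul_apply]
    rw [hX]
    exact Subalgebra.sum_mem _ fun a _ => Subalgebra.sum_mem _ fun b _ => Subalgebra.smul_mem _ (hall _ a b) _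
  have hfixN : FixesForm (matrixSet N) f := forall_matrixSet.mpr fun x hx => hx.1
  have hre := realisable_of_two_forms hNabs hf hfixN (isBilinearForm_formOf Bm) (nondegenerate_formOf _ hBu)
    (fixesForm_formOf _ (forall_matrixSet.mpr fun x hx => by rw [hrefl]; exact hx.2))
  obtain ⟨F₁, r, P', ζ, hr, hc, hζ, hP, hG1, hkind⟩ :=
    exists_formRational_unitary' hn hf hNabs hN hfixN (fixSubfield_ne_top hf.ne_refl) hre
  exact ⟨F₁, r, P', ζ, hr, hc, hζ, hP, le_sup_left.trans hG1, hkind⟩

end CfsgLib.Aschbacher
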