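import Cfsg.Agent.Aschbacher.Form.Members

/-!
Transvections normalise no group of class two in dimension at least four.
-/
set_option autoImplicit false

namespace CfsgLib.Aschbacher

open Matrix Cfsg Cfsg.Geo CfsgLib.GeoClifford
open scoped MatrixGroups commutatorElement

variable {ι : Type} [Fintype ι] [DecidableEq ι] {F : Type*} [Field F]

/-- A nontrivial transvection normalises no absolutely irreducible group of class two in dimension at least four. -/
lemma tvec_notMem_normalizer' (hn : 4 ≤ Fintype.card ι) {R : Subgroup (GL ι F)}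
    (hRi : ActsAbsolutelyIrreducibly (matrixSet R)) (hcl : ⁅R, R⁆ ≤ scalars ι F) {a φ : ι → F}
    (hφa : φ ⬝ᵥ a = 0) (ha : a ≠ 0) (hφ : φ ≠ 0) : CfsgLib.Geo.tvec a φ hφa ∉ subgroupNormalizer R := by
  by_cases h5 : 5 ≤ Fintype.card ι
  · exact tvec_notMem_normalizer h5 hRi hcl hφa ha hφ
  have hn4 : Fintype.card ι = 4 := by omega
  intro htR
  set t := CfsgLib.Geo.tvec a φ hφa with ht
  rw [subgroupNormalizer, Subgroup.mem_normalizer_iff] at htR
  have hcomm : ∀ x ∈ R, t * x = x * t := by
    intro x hx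
    have hdR : ⁅t, x⁆ ∈ R := by
      rw [commutatorElement_def]
      exact R.mul_mem ((htR x).mp hx) (R.inv_mem hx)
    have hd' := finrank_fixSpace_commutator t x
    have hW : Fintype.card ι ≤ Module.finrank F (fixSpace t) + 1 := by
      have hker : LinearMap.ker ((dotProductBilin F F) φ) ≤ fixSpace t := by
        intro v hv
        rw [LinearMap.mem_ker] at hv
        rw [mem_fixSpace, ht, CfsgLib.Geo.tvec_mulVec, show φ ⬝ᵥ v = 0 from hv, zero_smul, add_zero]
      have h := LinearMap.finrank_range_add_finrank_ker ((dotProductBilin F F) φ)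
      have h2 := Submodule.finrank_le (LinearMap.range ((dotProductBilin F F) φ))
      have h3 := Submodule.finrank_mono hker
      rw [Module.finrank_self] at h2
      rw [Module.finrank_fintype_fun_eq_card] at h
      omega
    generalize hdx : ⁅t, x⁆ = d at hdR hd'
    suffices hd1 : d = 1 from commutatorElement_eq_one_iff_mul_comm.mp (hdx.trans hd1)
    by_contra hne
    by_cases hcen : ∀ y ∈ R, y * d = d * y
    · obtain ⟨c, hc⟩ := hRi.2 (d : Matrix ι ι F) (forall_matrixSet.mpr fun y hy => by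
        simpa using (congrArg Units.val (hcen y hy)).symm)
      have hc1 : c - 1 ≠ 0 := fun h => hne (Units.ext (by rw [hc, sub_eq_zero.mp h, one_smul, Units.val_one]))
      have : fixSpace d = ⊥ := by
        rw [Submodule.eq_bot_iff]
        intro v hv
        rw [mem_fixSpace, hc, smul_mulVec, one_mulVec] at hv
        exact (smul_eq_zero.mp (show (c - 1) • v = 0 by rw [sub_smul, hv, one_smul, sub_self])).resolve_left hc1
      rw [this, finrank_bot] at hd'
      omega
    push Not at hcen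
    obtain ⟨y, hy, hyd⟩ := hcen
    obtain ⟨c, hc⟩ := (mem_scalars_iff _).mp (hcl (Subgroup.commutator_mem_commutator hy hdR))
    have hc1 : (c : F) - 1 ≠ 0 := fun h => hyd (commutatorElement_eq_one_iff_mul_comm.mp
      (Units.ext (by rw [hc, sub_eq_zero.mp h, one_smul, Units.val_one])))
    -- the image of the fixed space is an eigenspace
    set γ : F := ((c : F))⁻¹ with hγ
    have hγ1 : γ - 1 ≠ 0 := fun h => hc1 (by
      rw [hγ, sub_eq_zero, inv_eq_one] at h; rw [h, sub_self])
    have heig : ∀ v, (d : Matrix ι ι F) *ᵥ v = v →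
        (d : Matrix ι ι F) *ᵥ ((y : Matrix ι ι F) *ᵥ v) = γ • ((y : Matrix ι ι F) *ᵥ v) := by
      intro v hv
      have e : y * d = ⁅y, d⁆ * (d * y) := by rw [commutatorElement_def]; group
      have h := congrArg (fun M : GL ι F => (M : Matrix ι ι F) *ᵥ v) e
      simp only [Units.val_mul, hc, smul_mul_assoc, one_mul, smul_mulVec, ← mulVec_mulVec, hv] at h
      rw [hγ]
      nth_rewrite 2 [h]
      rw [smul_smul, inv_mul_cancel₀ c.ne_zero, one_smul]
    set Y := (fixSpace d).map (Matrix.toLin' (y : Matrix ι ι F)) with hY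
    have hYeig : ∀ w ∈ Y, (d : Matrix ι ι F) *ᵥ w = γ • w := by
      rintro w hw
      obtain ⟨v, hv, rfl⟩ := Submodule.mem_map.mp hw
      rw [Matrix.toLin'_apply]
      exact heig v (mem_fixSpace.mp hv)
    have hdisj : fixSpace d ⊓ Y = ⊥ := by
      rw [Submodule.eq_bot_iff]
      rintro w ⟨hw, hw'⟩
      have h : w = γ • w := by
        rw [← hYeig w hw']
        exact (mem_fixSpace.mp hw).symm
      exact (smul_eq_zero.mp (show (γ - 1) • w = 0 by rw [sub_smul, ← h, one_smul, sub_self])).resolve_left hγ1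
    have hdim := Submodule.finrank_sup_add_finrank_inf_eq (fixSpace d) Y
    rw [hdisj, finrank_bot, hY, ← (Submodule.equivMapOfInjective _ (mulVec_injective_GL y) _).finrank_eq, ← hY] at hdim
    have hle := Submodule.finrank_le (fixSpace d ⊔ Y)
    rw [Module.finrank_fintype_fun_eq_card] at hle
    have hfix2 : Module.finrank F (fixSpace d) = 2 := by omega
    have htop : fixSpace d ⊔ Y = ⊤ := by
      refine Submodule.eq_top_of_finrank_eq ?_
      rw [Module.finrank_fintype_fun_eq_card]
      omega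
    set K : Matrix ι ι F := (d : Matrix ι ι F) - 1 with hKdef
    have hKK : ∀ s, K *ᵥ (K *ᵥ s) = (γ - 1) • (K *ᵥ s) := by
      intro s
      obtain ⟨v, hv, w, hw, rfl⟩ := Submodule.mem_sup.mp (htop ▸ Submodule.mem_top : s ∈ fixSpace d ⊔ Y)
      have h1 : K *ᵥ v = 0 := by rw [hKdef, sub_mulVec, one_mulVec, mem_fixSpace.mp hv, sub_self]
      have h2 : K *ᵥ w = (γ - 1) • w := by rw [hKdef, sub_mulVec, one_mulVec, hYeig w hw, sub_smul, one_smul]
      rw [mulVec_add, h1, zero_add, h2, mulVec_smul, h2]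
    -- the commutator is one plus a map of rank two
    set b := (x : Matrix ι ι F) *ᵥ a with hb
    set ψ : ι → F := φ ᵥ* ((x⁻¹ : GL ι F) : Matrix ι ι F) with hψ
    have hψv : ∀ s, ψ ⬝ᵥ s = φ ⬝ᵥ (((x⁻¹ : GL ι F) : Matrix ι ι F) *ᵥ s) := fun s => (dotProduct_mulVec _ _ _).symm
    have hK : ∀ s, K *ᵥ s = (φ ⬝ᵥ s) • a - (ψ ⬝ᵥ s) • (b + (φ ⬝ᵥ b) • a) := by
      intro s
      have htinv : ∀ q, ((t⁻¹ : GL ι F) : Matrix ι ι F) *ᵥ q = q - (φ ⬝ᵥ q) • a := by
        intro q
        apply mulVec_injective_GL t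
        simp only [Matrix.toLin'_apply]
        rw [CfsgLib.Geo.mulVec_inv_mulVec, ht, CfsgLib.Geo.tvec_mulVec, dotProduct_sub, dotProduct_smul, hφa,
          smul_zero, sub_zero, sub_add_cancel]
      have hds : (d : Matrix ι ι F) *ᵥ s = s + ((φ ⬝ᵥ s) • a - (ψ ⬝ᵥ s) • (b + (φ ⬝ᵥ b) • a)) := by
        rw [← hdx, commutatorElement_def, Units.val_mul, Units.val_mul, Units.val_mul, ← mulVec_mulVec, ← mulVec_mulVec,
          ← mulVec_mulVec, htinv, ← hψv, mulVec_sub, CfsgLib.Geo.mulVec_inv_mulVec, mulVec_smul, ← hb,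
          CfsgLib.Geo.tvec_mulVec, dotProduct_sub, dotProduct_smul, sub_smul, smul_add, smul_smul, smul_eq_mul]
        abel
      simp only [hKdef, sub_mulVec, one_mulVec, hds]
      abel
    have hrange : LinearMap.range (Matrix.toLin' K) ≤ Submodule.span F {a, b} := by
      rintro _ ⟨s, rfl⟩
      rw [Matrix.toLin'_apply, hK, Submodule.mem_span_pair]
      exact ⟨φ ⬝ᵥ s - (ψ ⬝ᵥ s) * (φ ⬝ᵥ b), -(ψ ⬝ᵥ s), by rw [sub_smul, smul_add, smul_smul, neg_smul]; abel⟩
    have hker : LinearMap.ker (Matrix.toLin' K) = fixSpace d := by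
      ext v
      rw [LinearMap.mem_ker, Matrix.toLin'_apply, mem_fixSpace, hKdef, sub_mulVec, one_mulVec, sub_eq_zero]
    have hrk := LinearMap.finrank_range_add_finrank_ker (Matrix.toLin' K)
    rw [hker, hfix2, Module.finrank_fintype_fun_eq_card, hn4] at hrk
    have hli : LinearIndependent F ![a, b] := by
      refine LinearIndependent.pair_iff.mpr fun u v huv => ?_
      by_cases hv : v = 0
      · subst hv
        rw [zero_smul, add_zero, smul_eq_zero] at huv
        exact ⟨huv.resolve_right ha, rfl⟩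
      exfalso
      have hb' : b ∈ Submodule.span F {a} := by
        refine Submodule.mem_span_singleton.mpr ⟨-(v⁻¹ * u), ?_⟩
        have h1 := congrArg (fun z => v⁻¹ • z) huv
        simp only [smul_add, smul_smul, inv_mul_cancel₀ hv, one_smul, smul_zero] at h1
        rw [neg_smul, eq_neg_of_add_eq_zero_right h1]
      have h2 : Submodule.span F ({a, b} : Set (ι → F)) ≤ Submodule.span F {a} :=
        Submodule.span_le.mpr (by rintro _ (rfl | rfl); exacts [Submodule.mem_span_singleton_self _, hb'])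
      have h3 := Submodule.finrank_mono (hrange.trans h2)
      rw [finrank_span_singleton ha] at h3
      omega
    have heq : LinearMap.range (Matrix.toLin' K) = Submodule.span F {a, b} := by
      refine Submodule.eq_of_le_of_finrank_le hrange ?_
      have h2 := finrank_span_eq_card hli
      rw [Matrix.range_cons_cons_empty, Fintype.card_fin] at h2
      rw [h2]
      omega
    obtain ⟨s, hs⟩ : a ∈ LinearMap.range (Matrix.toLin' K) := heq ▸ Submodule.subset_span (by simp)
    rw [Matrix.toLin'_apply] at hs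
    have h1 := hKK s
    rw [hs, hK, hφa, zero_smul, zero_sub] at h1
    have h2 := (LinearIndependent.pair_iff.mp hli) (-((ψ ⬝ᵥ a) * (φ ⬝ᵥ b)) - (γ - 1)) (-(ψ ⬝ᵥ a)) (by
      rw [sub_smul (-((ψ ⬝ᵥ a) * (φ ⬝ᵥ b))) (γ - 1) a, ← h1, smul_add, smul_smul, neg_smul, neg_smul]; abel)
    have h3 : γ - 1 = 0 := by linear_combination -h2.1 + (φ ⬝ᵥ b) * h2.2
    exact hγ1 h3
  obtain ⟨c, hc⟩ := hRi.2 (t : Matrix ι ι F) (forall_matrixSet.mpr fun x hx => by
    simpa using congrArg Units.val (hcomm x hx))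
  obtain ⟨v, hv0, hv⟩ := exists_kernel_one (show 2 ≤ Fintype.card ι by omega) φ
  have h1 := congrArg (fun M => M *ᵥ v) hc
  simp only [ht, CfsgLib.Geo.tvec_mulVec, hv, zero_smul, add_zero, smul_mulVec, one_mulVec] at h1
  have hc1 : c = 1 := sub_eq_zero.mp
    ((smul_eq_zero.mp (show (c - 1) • v = 0 by rw [sub_smul, ← h1, one_smul, sub_self])).resolve_right hv0)
  obtain ⟨j, hj⟩ := Function.ne_iff.mp hφ
  have h2 := congrArg (fun M => M *ᵥ Pi.single j 1) hc
  simp only [ht, CfsgLib.Geo.tvec_mulVec, hc1, one_smul, one_mulVec, dotProduct_single, mul_one, add_eq_left,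
    smul_eq_zero] at h2
  exact h2.elim hj ha

variable [Fintype F]

theorem isoSL_not_le_normalizer' {σ : F ≃+* F} {f : (ι → F) → (ι → F) → F} (hf : IsUnitaryForm σ f)
    (hn : 4 ≤ Fintype.card ι) {R : Subgroup (GL ι F)} (hRi : ActsAbsolutelyIrreducibly (matrixSet R))
    (hcl : ⁅R, R⁆ ≤ scalars ι F) : ¬ isoSL f ≤ subgroupNormalizer R := by
  obtain ⟨a, φ, h, ha, hφ, hmem⟩ := exists_nontrivial_tv hf (by omega)
  exact fun hle => tvec_notMem_normalizer' hn hRi hcl h ha hφ (hle hmem)

theorem spGL_not_le_normalizer' {m : ℕ} (hm : 2 ≤ m) {R : Subgroup (GL (Fin m ⊕ Fin m) F)}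
    (hRi : ActsAbsolutelyIrreducibly (matrixSet R)) (hcl : ⁅R, R⁆ ≤ scalars (Fin m ⊕ Fin m) F) :
    ¬ Cfsg.spGL m F ≤ subgroupNormalizer R := by
  obtain ⟨a, φ, h, ha, hφ, hmem⟩ := exists_sp_tv (F := F) (show 1 ≤ m by omega)
  exact fun hle => tvec_notMem_normalizer' (by simp; omega) hRi hcl h ha hφ (hle hmem)

end CfsgLib.Aschbacher
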