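import Cfsg.Agent.Aschbacher.Form.Unitary
import Cfsg.Agent.Aschbacher.OrthogonalPrime
import Cfsg.Agent.Forms.Classify

/-!
Tools for symmetric forms in odd dimension: classification up to similarity, isometric frames and monomial groups.
-/
set_option autoImplicit false
set_option maxHeartbeats 1000000

namespace CfsgLib.Aschbacher

open Matrix Cfsg Cfsg.Geo CfsgLib.GeoClifford
open scoped MatrixGroups Kronecker commutatorElement

variable {ι : Type} [Fintype ι] [DecidableEq ι] {F : Type*} [Field F]

lemma map_refl {κ ν : Type} (M : Matrix κ ν F) : M.map (RingEquiv.refl F) = M := by ext i j; rfl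

variable [Fintype F]

/-- In odd dimension an invertible symmetric matrix is similar to the identity. -/
theorem exists_congr_scalar_one (h2 : (2 : F) ≠ 0) {k : ℕ} (hk : Odd k) {B : Matrix (Fin k) (Fin k) F}
    (hB : IsUnit B) (hBt : Bᵀ = B) :
    ∃ (X : GL (Fin k) F) (s : F), s ≠ 0 ∧
      (X : Matrix (Fin k) (Fin k) F)ᵀ * B * (X : Matrix (Fin k) (Fin k) F).map (RingEquiv.refl F) = s • 1 := by
  classical
  obtain ⟨n, rfl⟩ : ∃ n, k = n + 1 := ⟨k - 1, by rcases hk with ⟨m, rfl⟩; omega⟩
  obtain ⟨α, hα⟩ : ∃ α : F, ¬ IsSquare α := FiniteField.exists_nonsquare fun h => h2 (by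
    have : CharP F 2 := ringChar.of_eq h
    exact CharP.cast_eq_zero F 2)
  have hα0 : α ≠ 0 := by rintro rfl; exact hα ⟨0, by simp⟩
  -- a diagonalisation of any multiple
  have hdiag : ∀ u : F, u ≠ 0 → ∃ (X : GL (Fin (n + 1)) F) (β : F), (β = 1 ∨ β = α) ∧
      (X : Matrix (Fin (n + 1)) (Fin (n + 1)) F)ᵀ * (u • B) * (X : Matrix (Fin (n + 1)) (Fin (n + 1)) F) =
        Matrix.diagonal (fun i => if i = Fin.last n then β else 1) := by
    intro u hu
    have hM : (u • B).det ≠ 0 := by
      rw [det_smul]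
      exact mul_ne_zero (pow_ne_zero _ hu) ((Matrix.isUnit_iff_isUnit_det _).mp hB).ne_zero
    have hMt : (u • B)ᵀ = u • B := by rw [transpose_smul, hBt]
    set L := Matrix.toBilin' (u • B)
    obtain ⟨b, hb1, hb2, hb3⟩ := CfsgLib.Forms.exists_symm_basis h2 hα n (Fin (n + 1) → F) L
      ⟨fun x y => by
        simp only [L, Matrix.toBilin'_apply', RingHom.id_apply]
        rw [dotProduct_mulVec, ← mulVec_transpose, hMt, dotProduct_comm]⟩
      (Matrix.nondegenerate_toBilin'_iff.mpr (Matrix.nondegenerate_of_det_ne_zero hM))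
      (by rw [Module.finrank_fintype_fun_eq_card, Fintype.card_fin])
    have hXu : IsUnit (Matrix.of fun r i => b i r : Matrix (Fin (n + 1)) (Fin (n + 1)) F) :=
      Matrix.linearIndependent_cols_iff_isUnit.mp (show LinearIndependent F fun i => b i from b.linearIndependent)
    refine ⟨hXu.unit, L (b (Fin.last n)) (b (Fin.last n)), hb3, ?_⟩
    rw [IsUnit.unit_spec]
    ext i j
    have e : ((Matrix.of fun r i => b i r : Matrix (Fin (n + 1)) (Fin (n + 1)) F)ᵀ * (u • B) *
        Matrix.of fun r i => b i r) i j = L (b i) (b j) := by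
      simp only [L, Matrix.toBilin'_apply', Matrix.mul_apply, transpose_apply, Matrix.of_apply, dotProduct, mulVec,
        Finset.sum_mul, Finset.mul_sum]
      rw [Finset.sum_comm]
      exact Finset.sum_congr rfl fun x _ => Finset.sum_congr rfl fun y _ => by ring
    rw [e]
    by_cases hij : i = j
    · subst hij
      by_cases hi : i = Fin.last n
      · subst hi; simp
      · simp [hi, hb2 i hi]
    · simp [hij, hb1 i j hij]
  have hone : Matrix.diagonal (fun i : Fin (n + 1) => if i = Fin.last n then (1 : F) else 1) = 1 := by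
    ext i j
    by_cases hij : i = j
    · subst hij; simp
    · simp [hij]
  obtain ⟨X, β, hβ, hX⟩ := hdiag 1 one_ne_zero
  rw [one_smul] at hX
  rcases hβ with rfl | hβ
  · exact ⟨X, 1, one_ne_zero, by rw [map_refl, hX, hone, one_smul]⟩
  obtain ⟨Y, β', hβ', hY⟩ := hdiag α hα0
  rcases hβ' with rfl | hβ'
  · refine ⟨Y, α⁻¹, inv_ne_zero hα0, ?_⟩
    rw [map_refl, ← hone, ← hY, mul_smul_comm, smul_mul_assoc, smul_smul, inv_mul_cancel₀ hα0, one_smul]
  exfalso
  have hd : ∀ c : F, (Matrix.diagonal (fun i : Fin (n + 1) => if i = Fin.last n then c else (1 : F))).det = c := by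
    intro c
    rw [det_diagonal, Finset.prod_ite_eq' Finset.univ (Fin.last n) (fun _ => c), if_pos (Finset.mem_univ _)]
  have e1 := congrArg Matrix.det hX
  have e2 := congrArg Matrix.det hY
  rw [hd, det_mul, det_mul, det_transpose, hβ] at e1
  rw [hd, det_mul, det_mul, det_transpose, det_smul, Fintype.card_fin, hβ'] at e2
  set x := (X : Matrix (Fin (n + 1)) (Fin (n + 1)) F).det
  set y := (Y : Matrix (Fin (n + 1)) (Fin (n + 1)) F).det
  have hy : y ≠ 0 := (Matrix.GeneralLinearGroup.det Y).ne_zero
  have hx : x ≠ 0 := (Matrix.GeneralLinearGroup.det X).ne_zero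
  obtain ⟨m, hm⟩ := hk
  refine hα ⟨x / (y * α ^ m), ?_⟩
  rw [show α ^ (n + 1) = (α ^ m) ^ 2 * α by rw [hm, pow_succ, pow_mul']] at e2
  have hd0 : y * α ^ m ≠ 0 := mul_ne_zero hy (pow_ne_zero _ hα0)
  have h : α * (y * α ^ m) * (y * α ^ m) = x * x := by
    refine mul_left_cancel₀ (a := B.det) ((Matrix.isUnit_iff_isUnit_det _).mp hB).ne_zero ?_
    linear_combination e2 - e1
  rw [div_mul_div_comm, eq_div_iff (mul_ne_zero hd0 hd0), ← h]
  ring

/-- Monomial matrices over three elements. -/
lemma weight_one_of_three (hq : Fintype.card F = 3) {k : Fin 3 → F} (h : ∑ i, k i * k i = 1) :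
    ∃ i, k i ≠ 0 ∧ ∀ j, j ≠ i → k j = 0 := by
  have h2 : (2 : F) ≠ 0 := odd_card_iff_two_ne_zero.mp (by rw [hq]; decide)
  have hc : ∀ x : F, x = 0 ∨ x * x = 1 := fun x => by
    by_cases hx : x = 0
    · exact Or.inl hx
    · have := FiniteField.pow_card_sub_one_eq_one x hx
      rw [hq] at this
      exact Or.inr (by rw [← this]; ring)
  have h3 : (3 : F) = 0 := by
    have := FiniteField.cast_card_eq_zero F
    rwa [hq, Nat.cast_ofNat] at this
  rw [Fin.sum_univ_three] at h
  rcases hc (k 0) with h0 | h0 <;> rcases hc (k 1) with h1 | h1 <;> rcases hc (k 2) with h2' | h2'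
  · simp [h0, h1, h2'] at h
  · exact ⟨2, fun e => by simp [e] at h2', fun j hj => by fin_cases j <;> first | exact h0 | exact h1 | exact absurd rfl hj⟩
  · exact ⟨1, fun e => by simp [e] at h1, fun j hj => by fin_cases j <;> first | exact h0 | exact h2' | exact absurd rfl hj⟩
  · rw [h0, h1, h2'] at h; exact absurd (show (1 : F) = 0 by linear_combination h) one_ne_zero
  · exact ⟨0, fun e => by simp [e] at h0, fun j hj => by fin_cases j <;> first | exact h1 | exact h2' | exact absurd rfl hj⟩
  · rw [h0, h1, h2'] at h; exact absurd (show (1 : F) = 0 by linear_combination h) one_ne_zero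
  · rw [h0, h1, h2'] at h; exact absurd (show (1 : F) = 0 by linear_combination h) one_ne_zero
  · rw [h0, h1, h2'] at h; exact absurd (show (1 : F) = 0 by linear_combination h3 - h) one_ne_zero

/-- Similitudes of the identity in dimension three over three elements are monomial. -/
lemma monomial_of_three (hq : Fintype.card F = 3) {g : Matrix (Fin 3) (Fin 3) F} {s : F} (hs : s ≠ 0)
    (hg : gᵀ * g = s • 1) (j : Fin 3) : ∃ i, g i j ≠ 0 ∧ ∀ l, l ≠ i → g l j = 0 := by
  have hsq : ∀ x : F, x ≠ 0 → x * x = 1 := fun x hx => by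
    have := FiniteField.pow_card_sub_one_eq_one x hx
    rw [hq] at this
    rw [← this]; ring
  have hs1 : s = 1 := by
    have h := congrArg Matrix.det hg
    rw [det_mul, det_transpose, det_smul, det_one, mul_one, Fintype.card_fin] at h
    by_cases hd : g.det = 0
    · rw [hd, zero_mul] at h; exact absurd h.symm (pow_ne_zero _ hs)
    rw [hsq _ hd] at h
    have := hsq _ hs
    linear_combination -h - s * this
  subst hs1
  refine weight_one_of_three hq (k := fun i => g i j) ?_
  have h := congrFun (congrFun hg j) j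
  simpa [Matrix.mul_apply] using h

/-- A perfect group of similitudes of a form similar to the identity in dimension three over three elements. -/
theorem perfect_eq_bot_of_orth_three (hq : Fintype.card F = 3) {K : Subgroup (GL (Fin 3) F)} (hK : ⁅K, K⁆ = K)
    (hfix : ∀ g ∈ K, (g : Matrix (Fin 3) (Fin 3) F)ᵀ * (g : Matrix (Fin 3) (Fin 3) F) = 1) : K = ⊥ := by
  classical
  have hmono : ∀ (g : K) (j : Fin 3), ∃ i, (g.1 : Matrix (Fin 3) (Fin 3) F) i j ≠ 0 ∧
      ∀ l, l ≠ i → (g.1 : Matrix (Fin 3) (Fin 3) F) l j = 0 := fun g j =>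
    monomial_of_three hq one_ne_zero (by rw [one_smul]; exact hfix g g.2) j
  choose pos hpos hzero using hmono
  have hposmul : ∀ (a b : K) j, pos (a * b) j = pos a (pos b j) := by
    intro a b j
    by_contra hne
    apply hpos (a * b) j
    rw [Subgroup.coe_mul, Units.val_mul, Matrix.mul_apply,
      Finset.sum_eq_single (pos b j) (fun l _ hl => by rw [hzero b j l hl, mul_zero]) (by simp),
      hzero a _ _ hne, zero_mul]
  have hpos1 : ∀ j, pos 1 j = j := fun j => by
    by_contra hne
    apply hpos 1 j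
    simp [Matrix.one_apply_ne hne]
  let ψ : K →* Equiv.Perm (Fin 3) :=
    { toFun := fun g => ⟨pos g, pos g⁻¹, fun c => by rw [← hposmul, inv_mul_cancel, hpos1],
        fun c => by rw [← hposmul, mul_inv_cancel, hpos1]⟩
      map_one' := Equiv.ext hpos1
      map_mul' := fun a b => Equiv.ext (hposmul a b) }
  have htop : ⁅(⊤ : Subgroup K), (⊤ : Subgroup K)⁆ = ⊤ := by
    apply Subgroup.map_injective K.subtype_injective
    rw [Subgroup.map_commutator, ← MonoidHom.range_eq_map, Subgroup.range_subtype, hK]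
  have hd : ∀ g : K, (g.1 : Matrix (Fin 3) (Fin 3) F) = Matrix.diagonal fun i => (g.1 : Matrix (Fin 3) (Fin 3) F) i i := by
    intro g
    ext i j
    by_cases hij : i = j
    · subst hij; simp
    · rw [Matrix.diagonal_apply_ne _ hij]
      refine hzero g j i ?_
      rw [show pos g j = j from Equiv.ext_iff.mp
        (hom_eq_one_of_perfect htop (isSolvable_perm_le_four (α := Fin 3) (by simp)) ψ g) j]
      exact hij
  rw [eq_bot_iff, ← hK, Subgroup.commutator_le]
  intro a ha b hb
  rw [Subgroup.mem_bot, commutatorElement_eq_one_iff_mul_comm]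
  apply Units.ext
  rw [Units.val_mul, Units.val_mul, hd ⟨a, ha⟩, hd ⟨b, hb⟩, Matrix.diagonal_mul_diagonal,
    Matrix.diagonal_mul_diagonal]
  simp only [mul_comm]

/-- An irreducible group of isometries in odd dimension is not abelian. -/
theorem false_of_abelian_orth {ε : F} {f : (ι → F) → (ι → F) → F} (hR : IsRefl (RingEquiv.refl F) ε f)
    (hf : IsHerm (RingEquiv.refl F) f) (h2 : (2 : F) ≠ 0)
    (hodd : Odd (Fintype.card ι)) (hn : 2 ≤ Fintype.card ι) {G : Subgroup (GL ι F)}
    (hfix : FixesForm (matrixSet G) f) (hirr : ActsIrreducibly (matrixSet G))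
    (hab : ∀ a ∈ G, ∀ b ∈ G, a * b = b * a) : False := by
  classical
  have : Nonempty ι := Fintype.card_pos_iff.mp (by omega)
  set A := Algebra.adjoin F (matrixSet G)
  have hGc : ∀ g ∈ G, ∀ y ∈ A, (g : Matrix ι ι F) * y = y * (g : Matrix ι ι F) := fun g hg y hy =>
    (Algebra.commute_of_mem_adjoin_of_forall_mem_commute hy (forall_matrixSet.mpr fun b hb => by
      show (g : Matrix ι ι F) * b = b * g
      rw [← Units.val_mul, hab g hg b hb, Units.val_mul])).eq
  have hcomm : ∀ x ∈ A, ∀ y ∈ A, x * y = y * x := fun x hx y hy =>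
    (Algebra.commute_of_mem_adjoin_of_forall_mem_commute hx (forall_matrixSet.mpr fun g hg => by
      show y * (g : Matrix ι ι F) = (g : Matrix ι ι F) * y
      exact (hGc g hg y hy).symm)).eq.symm
  have hA : IsFieldSubalgebra (Module.finrank F A) A := by
    refine ⟨hcomm, fun x hx hx0 => ?_, rfl⟩
    have hinj : Function.Injective x.mulVec := by
      let W : Submodule F (ι → F) := LinearMap.ker (Matrix.toLin' x)
      have hW : W = ⊥ := by
        by_contra hne
        have htop := eq_top_of_invariant hirr W hne fun g hg w hw => by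
          simp only [W, LinearMap.mem_ker, Matrix.toLin'_apply] at hw ⊢
          rw [mulVec_mulVec, ← hGc g hg x hx, ← mulVec_mulVec, hw, mulVec_zero]
        apply hx0
        apply Matrix.toLin'.injective
        rw [map_zero]
        exact LinearMap.ker_eq_top.mp htop
      have := LinearMap.ker_eq_bot.mp hW
      intro a b hab'
      exact this (by simpa using hab')
    let mul : A →ₗ[F] A :=
      { toFun := fun y => ⟨x, hx⟩ * y
        map_add' := mul_add _
        map_smul' := fun c y => mul_smul_comm c _ y }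
    have hu : IsUnit x := Matrix.mulVec_injective_iff_isUnit.mp hinj
    have hmi : Function.Injective mul := fun a b h => Subtype.ext (hu.mul_left_cancel (congrArg Subtype.val h))
    obtain ⟨y, hy⟩ := LinearMap.surjective_of_injective hmi 1
    exact ⟨y.1, y.2, congrArg Subtype.val hy⟩
  have hr : Odd (Module.finrank F A) := hodd.of_dvd_nat (fieldSubalgebra_dvd hA)
  have hsa := selfAdjoint_of_odd hf rfl hr hA (hR.isAdjointClosedFor fun k hk => hR.adjoin_adjClosed hfix hk) h2
  refine not_le_scalars_of_irreducible hn hirr fun a ha => ?_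
  have haK : (a : Matrix ι ι F) ∈ A := Algebra.subset_adjoin (coe_mem_matrixSet ha)
  have hsq : (a : Matrix ι ι F) * (a : Matrix ι ι F) = 1 := by
    apply Matrix.toLin'.injective
    refine LinearMap.ext fun w => hf.eq_of_right fun u => ?_
    rw [Matrix.toLin'_apply, ← mulVec_mulVec, ← hsa _ haK, hfix _ (coe_mem_matrixSet ha), Matrix.toLin'_apply,
      one_mulVec]
  rcases eq_or_ne ((a : Matrix ι ι F) - 1) 0 with h | h
  · rw [show a = 1 from Units.ext (by rw [sub_eq_zero.mp h, Units.val_one])]
    exact (scalars ι F).one_mem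
  · obtain ⟨y, hy, hy1⟩ := hA.inv _ (A.sub_mem haK A.one_mem) h
    have h0 : ((a : Matrix ι ι F) - 1) * ((a : Matrix ι ι F) + 1) = 0 := by
      rw [mul_add, mul_one, sub_mul, one_mul, hsq]; abel
    have h1 : (a : Matrix ι ι F) + 1 = 0 := by
      calc (a : Matrix ι ι F) + 1 = y * ((a : Matrix ι ι F) - 1) * ((a : Matrix ι ι F) + 1) := by
            rw [hA.comm y hy _ (A.sub_mem haK A.one_mem), hy1, one_mul]
        _ = 0 := by rw [mul_assoc, h0, mul_zero]
    refine (mem_scalars_iff a).mpr ⟨-1, ?_⟩
    rw [eq_neg_of_add_eq_zero_left h1, Units.val_neg, Units.val_one, neg_smul, one_smul]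

/-- A self-adjoint field of degree the odd dimension is not normalised by an irreducible group of isometries. -/
theorem field_degree_ne_dim {ε : F} {f : (ι → F) → (ι → F) → F} (hR : IsRefl (RingEquiv.refl F) ε f)
    (hf : IsHerm (RingEquiv.refl F) f) (h2 : (2 : F) ≠ 0) (hodd : Odd (Fintype.card ι)) (hn : 2 ≤ Fintype.card ι)
    {G : Subgroup (GL ι F)} (hfix : FixesForm (matrixSet G) f) (hirr : ActsIrreducibly (matrixSet G))
    {L : Subalgebra F (Matrix ι ι F)} (hL : IsFieldSubalgebra (Fintype.card ι) L) (hsa : ∀ x ∈ L, hR.adj x = x)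
    (hG : G ≤ subalgebraNormalizer L) : False := by
  classical
  have : Nonempty ι := Fintype.card_pos_iff.mp (by omega)
  have hfield : IsField L :=
    { exists_pair_ne := ⟨0, 1, fun h => by
        have h' := congrArg Subtype.val h
        simp at h'⟩
      mul_comm := fun a b => Subtype.ext (hL.comm a.1 a.2 b.1 b.2)
      mul_inv_cancel := fun {a} ha => by
        obtain ⟨y, hy, hy1⟩ := hL.inv a.1 a.2 (fun h => ha (Subtype.ext h))
        exact ⟨⟨y, hy⟩, Subtype.ext hy1⟩ }
  letI : Field L := hfield.toField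
  have : Finite L := inferInstance
  let cj : G →* (L ≃ₐ[F] L) :=
    { toFun := fun g =>
        { toFun := fun x => ⟨_, (hG g.2 x.1).mp x.2⟩
          invFun := fun x => ⟨_, (hG (G.inv_mem g.2) x.1).mp x.2⟩
          left_inv := fun x => Subtype.ext (by simp [mul_assoc])
          right_inv := fun x => Subtype.ext (by simp [mul_assoc])
          map_mul' := fun x y => Subtype.ext (by simp [mul_assoc])
          map_add' := fun x y => Subtype.ext (by simp [mul_add, add_mul])
          commutes' := fun c => Subtype.ext (by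
            show ((g : GL ι F) : Matrix ι ι F) * algebraMap F (Matrix ι ι F) c * _ = algebraMap F (Matrix ι ι F) c
            rw [← Algebra.commutes, mul_assoc, Units.mul_inv, mul_one]) }
      map_one' := AlgEquiv.ext fun x => Subtype.ext (by simp)
      map_mul' := fun a b => AlgEquiv.ext fun x => Subtype.ext (by simp [mul_assoc]) }
  -- the field is its own centraliser
  have hcent : ∀ x : Matrix ι ι F, (∀ l ∈ L, x * l = l * x) → x ∈ L := by
    intro x hx
    obtain ⟨i⟩ := ‹Nonempty ι›
    let ev : L →ₗ[F] (ι → F) :=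
      { toFun := fun k => (k : Matrix ι ι F) *ᵥ Pi.single i 1
        map_add' := fun a b => add_mulVec _ _ _
        map_smul' := fun c a => smul_mulVec _ _ _ }
    have hinj : Function.Injective ev := by
      rw [injective_iff_map_eq_zero]
      intro k hk
      by_contra h0
      obtain ⟨y, hy, hy1⟩ := hL.inv k.1 k.2 (fun h => h0 (Subtype.ext h))
      apply one_ne_zero (α := F)
      have : (Pi.single i (1 : F) : ι → F) = 0 := by
        rw [← one_mulVec (Pi.single i (1 : F) : ι → F), ← hy1, hL.comm k.1 k.2 y hy, ← mulVec_mulVec,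
          show (k : Matrix ι ι F) *ᵥ Pi.single i 1 = 0 from hk, mulVec_zero]
      simpa using congrFun this i
    have hsurj : Function.Surjective ev :=
      (LinearMap.injective_iff_surjective_of_finrank_eq_finrank
        (hL.finrank_eq.trans (Module.finrank_fintype_fun_eq_card F).symm)).mp hinj
    obtain ⟨k, hk⟩ := hsurj (x *ᵥ Pi.single i 1)
    have hk' : (k : Matrix ι ι F) *ᵥ Pi.single i 1 = x *ᵥ Pi.single i 1 := hk
    have : x = k := by
      apply Matrix.toLin'.injective
      refine LinearMap.ext fun w => ?_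
      obtain ⟨k2, rfl⟩ := hsurj w
      show x *ᵥ ((k2 : Matrix ι ι F) *ᵥ _) = (k : Matrix ι ι F) *ᵥ ((k2 : Matrix ι ι F) *ᵥ _)
      rw [mulVec_mulVec, hx k2.1 k2.2, ← mulVec_mulVec, ← hk', mulVec_mulVec, mulVec_mulVec, hL.comm k.1 k.2 k2.1 k2.2]
    exact this ▸ k.2
  refine false_of_abelian_orth hR hf h2 hodd hn hfix hirr fun a ha b hb => ?_
  set z : G := ⁅(⟨a, ha⟩ : G), ⟨b, hb⟩⁆ with hz
  have hgal : ∀ u v : L ≃ₐ[F] L, u * v = v * u := fun u v => IsCyclic.isMulCommutative.is_comm.comm u v
  have hz1 : cj z = 1 := by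
    rw [hz, map_commutatorElement, commutatorElement_eq_one_iff_mul_comm]
    exact hgal _ _
  set zm := ((z : GL ι F) : Matrix ι ι F) with hzm
  have hzL : zm ∈ L := hcent _ fun l hl => by
    have h : zm * l * (((z : GL ι F)⁻¹ : GL ι F) : Matrix ι ι F) = l :=
      congrArg Subtype.val (AlgEquiv.ext_iff.mp hz1 ⟨l, hl⟩)
    calc zm * l = zm * l * ((((z : GL ι F)⁻¹ : GL ι F) : Matrix ι ι F) * zm) := by rw [Units.inv_mul, mul_one]
      _ = l * zm := by rw [← mul_assoc, h]
  have hzz : zm * zm = 1 := by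
    have h1 := hR.adj_inv_of_fixes hfix z.2
    rw [hsa _ hzL] at h1
    nth_rewrite 1 [h1]
    exact Units.inv_mul _
  have hdet : zm.det = 1 := by
    have : Matrix.GeneralLinearGroup.det (z : GL ι F) = 1 := by
      rw [hz, ← Subgroup.coe_subtype G, map_commutatorElement, map_commutatorElement]
      exact commutatorElement_eq_one_iff_mul_comm.mpr (mul_comm _ _)
    exact congrArg Units.val this
  have hzone : zm = 1 := by
    rcases eq_or_ne (zm - 1) 0 with h | h
    · exact sub_eq_zero.mp h
    obtain ⟨y, hy, hy1⟩ := hL.inv _ (L.sub_mem hzL L.one_mem) h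
    have h0 : (zm - 1) * (zm + 1) = 0 := by rw [mul_add, mul_one, sub_mul, one_mul, hzz]; abel
    have h1 : zm + 1 = 0 := by
      calc zm + 1 = y * (zm - 1) * (zm + 1) := by rw [hL.comm y hy _ (L.sub_mem hzL L.one_mem), hy1, one_mul]
        _ = 0 := by rw [mul_assoc, h0, mul_zero]
    exfalso
    rw [eq_neg_of_add_eq_zero_left h1, det_neg, det_one, mul_one, hodd.neg_one_pow] at hdet
    exact h2 (by linear_combination -hdet)
  have : ⁅a, b⁆ = 1 := by
    have e : (z : GL ι F) = ⁅a, b⁆ := by rw [hz, ← Subgroup.coe_subtype G, map_commutatorElement]; rfl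
    rw [← e]; exact Units.ext hzone
  exact commutatorElement_eq_one_iff_mul_comm.mp this

section Frame

variable {Q : (ι → F) → F}

/-- The isometries permuting the lines of the columns of `X`. -/
def frameGroup (Q : (ι → F) → F) (X : GL ι F) : Subgroup (GL ι F) :=
  let M : Submonoid (GL ι F) :=
    { carrier := {g | (∀ u v, QuadraticMap.polar Q ((g : Matrix ι ι F) *ᵥ u) ((g : Matrix ι ι F) *ᵥ v) =
          QuadraticMap.polar Q u v) ∧ ∀ j, ∃ (i : ι) (a : F), (g : Matrix ι ι F) *ᵥ ((X : Matrix ι ι F) *ᵥ Pi.single j 1) =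
          a • ((X : Matrix ι ι F) *ᵥ Pi.single i 1)}
      one_mem' := ⟨fun u v => by simp, fun j => ⟨j, 1, by simp⟩⟩
      mul_mem' := fun {g h} hg hh => ⟨fun u v => by rw [Units.val_mul, ← mulVec_mulVec, ← mulVec_mulVec, hg.1, hh.1],
        fun j => by
          obtain ⟨i, a, ha⟩ := hh.2 j
          obtain ⟨l, b, hb⟩ := hg.2 i
          exact ⟨l, a * b, by rw [Units.val_mul, ← mulVec_mulVec, ha, mulVec_smul, hb, smul_smul]⟩⟩ }
  { M with
    inv_mem' := fun {a} ha => by
      have h := pow_orderOf_eq_one a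
      have hinv : a⁻¹ = a ^ (orderOf a - 1) := by
        refine inv_eq_of_mul_eq_one_right ?_
        rw [← pow_succ', Nat.sub_add_cancel (orderOf_pos a), h]
      show a⁻¹ ∈ M
      rw [hinv]
      exact M.pow_mem ha _ }

/-- An isometric frame of lines gives a subfield group carrying the quadratic form. -/
theorem exists_quadRational_frame (hQ : IsNondegenerateQuadraticForm Q) (h2 : (2 : F) ≠ 0)
    (hodd : Odd (Fintype.card ι)) (hdet : ∀ F₁ : Subfield F, (gramMatrix (QuadraticMap.polar Q)).det ∈ F₁)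
    (hq : ¬ (Fintype.card F).Prime) {G : Subgroup (GL ι F)}
    (hfix : FixesForm (matrixSet G) (QuadraticMap.polar Q)) (hirr : ActsIrreducibly (matrixSet G)) {X : GL ι F}
    {c : F} (hc : c ≠ 0) (hX : ∀ i j, QuadraticMap.polar Q ((X : Matrix ι ι F) *ᵥ Pi.single i 1)
      ((X : Matrix ι ι F) *ᵥ Pi.single j 1) = if i = j then c else 0)
    (hmono : ∀ g ∈ G, ∀ j, ∃ (i : ι) (a : F), (g : Matrix ι ι F) *ᵥ ((X : Matrix ι ι F) *ᵥ Pi.single j 1) =
      a • ((X : Matrix ι ι F) *ᵥ Pi.single i 1))
    (htrans : ∀ i j, ∃ g ∈ G, ∃ a : F, (g : Matrix ι ι F) *ᵥ ((X : Matrix ι ι F) *ᵥ Pi.single i 1) =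
      a • ((X : Matrix ι ι F) *ᵥ Pi.single j 1)) :
    ∃ (F₁ : Subfield F) (r : ℕ) (P : GL ι F), r.Prime ∧ Fintype.card F = Nat.card F₁ ^ r ∧
      IsQuadFormRationalStructure Q F₁ P ∧ G ≤ subfieldSubgroup F₁ P := by
  classical
  have : Nonempty ι := Fintype.card_pos_iff.mp hodd.pos
  set N := frameGroup Q X
  have hGN : G ≤ N := fun g hg => ⟨fun u v => hfix _ (coe_mem_matrixSet hg) u v, hmono g hg⟩
  have hs := isSesq_of_bilinear hQ.polar_bilinear
  set Xi := ((X⁻¹ : GL ι F) : Matrix ι ι F) with hXi
  set b : ι → ι → F := fun i => (X : Matrix ι ι F) *ᵥ Pi.single i 1 with hb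
  have hXg : (X : Matrix ι ι F)ᵀ * gramMatrix (QuadraticMap.polar Q) * (X : Matrix ι ι F) = c • 1 := by
    ext i j
    have h := hX i j
    rw [hs.eq_gram, show (RingEquiv.refl F) ∘ ((X : Matrix ι ι F) *ᵥ Pi.single j 1) = (X : Matrix ι ι F) *ᵥ Pi.single j 1 from rfl,
      ← vecMul_transpose (X : Matrix ι ι F), ← dotProduct_mulVec, mulVec_mulVec, mulVec_mulVec] at h
    simpa [Matrix.one_apply] using h
  have hfixN : FixesForm (matrixSet N) (QuadraticMap.polar Q) := forall_matrixSet.mpr fun g hg => hg.1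
  have hcoord : ∀ g ∈ N, ∀ j, ∃ (i : ι) (a : F), a * a = 1 ∧
      (Xi * (g : Matrix ι ι F) * (X : Matrix ι ι F)) *ᵥ Pi.single j 1 = a • Pi.single i 1 := by
    intro g hg j
    obtain ⟨i, a, ha⟩ := hg.2 j
    refine ⟨i, a, ?_, ?_⟩
    · have h := hg.1 (b j) (b j)
      rw [ha, hQ.polar_bilinear.smul_left, hQ.polar_bilinear.smul_right, hb, hX, hX, if_pos rfl, if_pos rfl,
        ← mul_assoc] at h
      exact (mul_eq_right₀ hc).mp h
    · rw [← mulVec_mulVec, ← mulVec_mulVec, ha, mulVec_smul, hXi, mulVec_mulVec, Units.inv_mul, one_mulVec]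
  have habs : ActsAbsolutelyIrreducibly (matrixSet N) := by
    refine ⟨fun W hW => hirr W fun s hs' => hW s (Set.image_mono hGN hs'), fun M hM => ?_⟩
    set M' := Xi * M * (X : Matrix ι ι F) with hM'
    let refl' : ι → GL ι F := fun l => ⟨Matrix.diagonal fun i => if i = l then -1 else 1,
      Matrix.diagonal fun i => if i = l then -1 else 1,
      by rw [Matrix.diagonal_mul_diagonal, ← Matrix.diagonal_one]; congr 1; funext i; split <;> simp,
      by rw [Matrix.diagonal_mul_diagonal, ← Matrix.diagonal_one]; congr 1; funext i; split <;> simp⟩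
    have hmem : ∀ l, X * refl' l * X⁻¹ ∈ N := by
      intro l
      refine ⟨fun u v => ?_, fun j => ⟨j, if j = l then -1 else 1, ?_⟩⟩
      · refine (fixes_iff hs _).mpr ?_ u v
        set D : Matrix ι ι F := Matrix.diagonal fun i => if i = l then -1 else 1
        rw [map_refl, Units.val_mul, Units.val_mul]
        show ((X : Matrix ι ι F) * D * Xi)ᵀ * _ * ((X : Matrix ι ι F) * D * Xi) = _
        calc _ = Xiᵀ * (Dᵀ * ((X : Matrix ι ι F)ᵀ * gramMatrix (QuadraticMap.polar Q) * (X : Matrix ι ι F)) * D) * Xi := by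
              simp only [transpose_mul, mul_assoc]
          _ = Xiᵀ * ((X : Matrix ι ι F)ᵀ * gramMatrix (QuadraticMap.polar Q) * (X : Matrix ι ι F)) * Xi := by
              congr 2
              rw [hXg, mul_smul_comm, mul_one, smul_mul_assoc, Matrix.diagonal_transpose, Matrix.diagonal_mul_diagonal,
                ← Matrix.diagonal_one]
              congr 2
              funext i
              split <;> simp
          _ = ((X : Matrix ι ι F) * Xi)ᵀ * gramMatrix (QuadraticMap.polar Q) * ((X : Matrix ι ι F) * Xi) := by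
              simp only [transpose_mul, mul_assoc]
          _ = _ := by rw [hXi, Units.mul_inv, transpose_one, one_mul, mul_one]
      · have e : (refl' l : Matrix ι ι F) *ᵥ Pi.single j 1 = (if j = l then (-1 : F) else 1) • Pi.single j 1 := by
          ext i
          by_cases hij : i = j <;> simp [refl', Matrix.mulVec_diagonal, hij]
        simp only [Units.val_mul, ← mulVec_mulVec]
        rw [show ((X⁻¹ : GL ι F) : Matrix ι ι F) *ᵥ ((X : Matrix ι ι F) *ᵥ Pi.single j 1) = Pi.single j 1 by
          rw [mulVec_mulVec, Units.inv_mul, one_mulVec], e, mulVec_smul]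
    have hdiag : ∀ i l, i ≠ l → M' i l = 0 := by
      intro i l hil
      have h := hM _ (coe_mem_matrixSet (hmem l))
      have h' : M' * (refl' l : Matrix ι ι F) = (refl' l : Matrix ι ι F) * M' := by
        have h1 := congrArg (fun Z => Xi * Z * (X : Matrix ι ι F)) h
        simp only [Units.val_mul, mul_assoc, hXi, Units.inv_mul, mul_one, Units.inv_mul_cancel_left] at h1
        simpa only [hM', hXi, mul_assoc] using h1
      have h2' := congrFun (congrFun h' i) l
      simp [refl', hil] at h2'
      have : (2 : F) * M' i l = 0 := by linear_combination -h2'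
      exact (mul_eq_zero.mp this).resolve_left h2
    have hMb : ∀ j, M *ᵥ b j = M' j j • b j := by
      intro j
      have : M' *ᵥ Pi.single j 1 = M' j j • Pi.single j 1 := by
        ext i
        by_cases hij : i = j
        · subst hij; simp
        · simp [hij, hdiag i j hij]
      calc M *ᵥ b j = (X : Matrix ι ι F) *ᵥ (M' *ᵥ Pi.single j 1) := by
            simp only [hM', hb, hXi, mulVec_mulVec]
            congr 1
            rw [← mul_assoc, ← mul_assoc, Units.mul_inv, one_mul]
        _ = _ := by rw [this, mulVec_smul]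
    obtain ⟨i₀⟩ := ‹Nonempty ι›
    have hbne : ∀ i, b i ≠ 0 := fun i h0 => by
      have := congrArg (Xi *ᵥ ·) h0
      simp only [hb, hXi, mulVec_mulVec, Units.inv_mul, one_mulVec, mulVec_zero] at this
      simpa using congrFun this i
    have hconst : ∀ j, M' j j = M' i₀ i₀ := by
      intro j
      obtain ⟨g, hg, a, ha⟩ := htrans i₀ j
      have ha0 : a ≠ 0 := fun h0 => by
        rw [h0, zero_smul] at ha
        exact hbne i₀ (mulVec_injective_GL g (show Matrix.toLin' _ (b i₀) = Matrix.toLin' _ 0 by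
          rw [map_zero, Matrix.toLin'_apply]; exact ha))
      have ha' : (g : Matrix ι ι F) *ᵥ b i₀ = a • b j := ha
      have h : M *ᵥ ((g : Matrix ι ι F) *ᵥ b i₀) = (g : Matrix ι ι F) *ᵥ (M *ᵥ b i₀) := by
        simp only [hb, mulVec_mulVec, ← mul_assoc, hM _ (coe_mem_matrixSet (hGN hg))]
      rw [hMb i₀, mulVec_smul (g : Matrix ι ι F), ha', mulVec_smul, hMb j, smul_smul, smul_smul] at h
      have := smul_left_injective F (hbne j) h
      exact mul_left_cancel₀ ha0 (by linear_combination this)
    refine ⟨M' i₀ i₀, ?_⟩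
    have : M * (X : Matrix ι ι F) = (M' i₀ i₀ • (1 : Matrix ι ι F)) * (X : Matrix ι ι F) := by
      refine Matrix.ext fun i j => ?_
      have h := congrFun (hMb j) i
      rw [hconst, hb, mulVec_mulVec] at h
      simpa using h
    exact X.isUnit.mul_right_cancel this
  obtain ⟨p, hchar⟩ := CharP.exists F
  obtain ⟨e, hp, hF⟩ := FiniteField.card F p
  obtain ⟨F₀, hF0, -⟩ := exists_subfield_card hp hF (m := 1) (one_dvd _) one_pos
  have h0 : F₀ ≠ ⊤ := fun htop => by
    rw [htop, Nat.card_congr Subfield.topEquiv.toEquiv, Nat.card_eq_fintype_card, pow_one] at hF0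
    exact hq (hF0 ▸ hp)
  have hre : RealisableOver F₀ (matrixSet N) := by
    refine ⟨X⁻¹, forall_matrixSet.mpr fun g hg i j => ?_⟩
    obtain ⟨l, a, ha, h⟩ := hcoord g hg j
    rw [inv_inv]
    have h' := congrFun h i
    rw [Matrix.mulVec_single_one, Matrix.col_apply] at h'
    rw [h', Pi.smul_apply, Pi.single_apply, smul_eq_mul]
    split
    · rw [mul_one]
      rcases mul_self_eq_one_iff.mp ha with rfl | rfl
      · exact F₀.one_mem
      · exact F₀.neg_mem F₀.one_mem
    · rw [mul_zero]; exact F₀.zero_mem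
  obtain ⟨F₁, r, P, h1, h2', h3, h4⟩ := exists_quadRational hQ h2 hodd hdet hfixN habs
    (N := N) ⟨le_rfl, fun g hg a ha => N.mul_mem (N.mul_mem hg ha) (N.inv_mem hg)⟩ h0 hre
  exact ⟨F₁, r, P, h1, h2', h3, hGN.trans h4⟩

end Frame

end CfsgLib.Aschbacher
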