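import Cfsg.Agent.Aschbacher.Form.OrthEvenTools

/-!
Subfield groups carrying a multiple of a quadratic form in any dimension; in dimension eight index two gives plus type.
-/
set_option autoImplicit false
set_option maxHeartbeats 800000

namespace CfsgLib.Aschbacher

open Matrix Cfsg Cfsg.Geo CfsgLib.GeoClifford
open scoped MatrixGroups

variable {ι : Type} [Fintype ι] [DecidableEq ι] {F : Type*} [Field F] [Fintype F] {Q : (ι → F) → F}

namespace OE

/-- A subfield group carrying a multiple of a quadratic form. -/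
theorem exists_quadRational_scaled [Nonempty ι] (hn : 2 ≤ Fintype.card ι) (hQ : IsNondegenerateQuadraticForm Q)
    {G N : Subgroup (GL ι F)} (hfix : ∀ g ∈ G, ∀ v, Q ((g : Matrix ι ι F) *ᵥ v) = Q v)
    (habs : ActsAbsolutelyIrreducibly (matrixSet N)) (hN : NormSub G N) {F₀ : Subfield F} (h0 : F₀ ≠ ⊤)
    (hre : RealisableOver F₀ (matrixSet N)) :
    ∃ (F₁ : Subfield F) (r : ℕ) (P : GL ι F) (ζ : F), r.Prime ∧ Fintype.card F = Nat.card F₁ ^ r ∧ ζ ≠ 0 ∧
      IsQuadFormRationalStructure (fun v => ζ * Q v) F₁ P ∧ G ≤ subfieldSubgroup F₁ P := by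
  classical
  have hfh := isHerm_polar hQ
  have hfixN : FixesForm (matrixSet N) (QuadraticMap.polar Q) := forall_matrixSet.mpr fun g hg u v => by
    simp only [QuadraticMap.polar, ← mulVec_add, hfix g (hN.1 hg)]
  obtain ⟨F₁, r, hle, hr, hcard⟩ := exists_prime_index_ge h0
  obtain ⟨B, hB⟩ := realisableOver_mono hle hre
  obtain ⟨a, A₀, ha, hA⟩ := exists_rational_gram habs hfh.sesq hfh.nd hfixN F₁ B hB
  set P : Matrix ι ι F := ((B⁻¹ : GL ι F) : Matrix ι ι F) with hP
  set R := A₀.map F₁.subtype with hR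
  have hpol : ∀ u v, QuadraticMap.polar Q (P *ᵥ u) (P *ᵥ v) = a * (u ⬝ᵥ (R *ᵥ v)) := fun u v => by
    have h := gram_value hfh.sesq hA 1 u v
    rw [one_smul, RingEquiv.refl_apply, one_mul, one_mul] at h
    exact h
  refine ⟨F₁, r, B⁻¹, a⁻¹, hr, hcard, inv_ne_zero ha, ?_, le_subfieldSubgroup habs hN F₁ B hB⟩
  set T : (ι → F) → F := fun u => a⁻¹ * Q (P *ᵥ u) with hT
  show ∀ u : ι → F, (∀ i, u i ∈ F₁) → T u ∈ F₁
  have hTpol : ∀ u v, QuadraticMap.polar T u v = u ⬝ᵥ (R *ᵥ v) := fun u v => by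
    have h := hpol u v
    simp only [QuadraticMap.polar] at h
    simp only [QuadraticMap.polar, hT, mulVec_add]
    rw [← mul_sub, ← mul_sub, h, ← mul_assoc, inv_mul_cancel₀ ha, one_mul]
  have hTsmul : ∀ (c : F) u, T (c • u) = c ^ 2 * T u := fun c u => by
    simp only [hT, mulVec_smul, hQ.smul]; ring
  have hrat : ∀ {u v : ι → F}, (∀ i, u i ∈ F₁) → (∀ i, v i ∈ F₁) → u ⬝ᵥ (R *ᵥ v) ∈ F₁ := fun hu hv =>
    Subfield.sum_mem _ fun i _ => F₁.mul_mem (hu i)
      (Subfield.sum_mem _ fun j _ => F₁.mul_mem (A₀ i j).2 (hv j))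
  intro u hu
  by_cases h2 : (2 : F) = 0
  swap
  · have h : (2 : F) * T u = u ⬝ᵥ (R *ᵥ u) := by
      rw [← hTpol, QuadraticMap.polar, ← two_smul F u, hTsmul]; ring
    have hm := F₁.div_mem (h ▸ hrat hu hu) (show (2 : F) ∈ F₁ by
      rw [← one_add_one_eq_two]; exact F₁.add_mem F₁.one_mem F₁.one_mem)
    rwa [mul_div_cancel_left₀ _ h2] at hm
  have hc : CharP F 2 := char_two_of_even fun ho => odd_card_iff_two_ne_zero.mp ho h2
  have : CharP F₁ 2 := RingHom.charP F₁.subtype F₁.subtype.injective 2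
  obtain ⟨k, -, hk⟩ := FiniteField.card F₁ 2
  have hbij : Function.Bijective (iterateFrobenius F 2 k) :=
    Finite.injective_iff_bijective.mp (iterateFrobenius F 2 k).injective
  let φ : F ≃+* F := RingEquiv.ofBijective _ hbij
  have hφ : ∀ x, φ x = x ^ Nat.card F₁ := fun x => by
    rw [Nat.card_eq_fintype_card, hk]; exact iterateFrobenius_def 2 k x
  have hfix1 : ∀ x ∈ F₁, φ x = x := fun x hx => (hφ x).trans ((mem_subfield_iff F₁ x).mp hx)
  have hfix1' : ∀ x ∈ F₁, φ.symm x = x := fun x hx => by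
    conv_lhs => rw [← hfix1 x hx]
    exact φ.symm_apply_apply x
  set T' : (ι → F) → F := fun w => φ (T (φ.symm ∘ w)) with hT'
  have hsym : ∀ (c : F) (w : ι → F), φ.symm ∘ (c • w) = φ.symm c • (φ.symm ∘ w) := fun c w => by
    funext i; simp
  have hadd : ∀ v w : ι → F, φ.symm ∘ (v + w) = φ.symm ∘ v + φ.symm ∘ w := fun v w => by funext i; simp
  have hTT : T = T' := by
    refine quad_eq_of_polar_eq (S := (fun s => (B : Matrix ι ι F) * s * P) '' matrixSet N) hn ?_ hTsmul ?_ ?_ ?_ ?_
    · intro W hW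
      refine (habs.1 (W.map (Matrix.toLin' P)) fun s hs => ?_).imp (fun h => ?_) fun h => ?_
      · rintro _ ⟨_, ⟨w, hw, rfl⟩, rfl⟩
        refine ⟨((B : Matrix ι ι F) * s * P) *ᵥ w, hW _ ⟨s, hs, rfl⟩ ⟨w, hw, Matrix.toLin'_apply _ _⟩, ?_⟩
        simp only [Matrix.toLin'_apply, mulVec_mulVec, hP, ← mul_assoc, Units.inv_mul, one_mul]
      · exact Submodule.map_injective_of_injective (mulVec_injective_GL B⁻¹) (h.trans (Submodule.map_bot _).symm)
      · refine eq_top_iff.mpr fun w _ => ?_
        obtain ⟨w', hw', he⟩ : P *ᵥ w ∈ W.map (Matrix.toLin' P) := by rw [h]; trivial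
        exact mulVec_injective_GL B⁻¹ (show Matrix.toLin' P w' = Matrix.toLin' P w from he.trans (Matrix.toLin'_apply _ _).symm) ▸ hw'
    · intro c w
      simp only [hT', hsym, hTsmul, map_mul, map_pow, RingEquiv.apply_symm_apply]
    · intro v w
      have h := hTpol (φ.symm ∘ v) (φ.symm ∘ w)
      rw [hTpol]
      simp only [QuadraticMap.polar] at h
      simp only [QuadraticMap.polar, hT', hadd, ← map_sub, h]
      simp only [dotProduct, mulVec, map_sum, map_mul, Function.comp_apply, RingEquiv.apply_symm_apply]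
      refine Finset.sum_congr rfl fun i _ => congrArg _ (Finset.sum_congr rfl fun j _ => ?_)
      rw [hfix1 (R i j) (A₀ i j).2]
    · rintro _ ⟨s, hs, rfl⟩ w
      obtain ⟨g, hg, rfl⟩ := hs
      simp only [hT, mulVec_mulVec, hP, ← mul_assoc, Units.inv_mul, one_mul]
      rw [← mulVec_mulVec, hfix g (hN.1 hg)]
    · rintro _ ⟨s, hs, rfl⟩ w
      have hm : φ.symm ∘ (((B : Matrix ι ι F) * s * P) *ᵥ w) = ((B : Matrix ι ι F) * s * P) *ᵥ (φ.symm ∘ w) := by
        funext i
        simp only [Function.comp_apply, mulVec, dotProduct, map_sum, map_mul]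
        exact Finset.sum_congr rfl fun j _ => by rw [hfix1' _ (hB s hs i j)]
      obtain ⟨g, hg, rfl⟩ := hs
      simp only [hT', hm]
      congr 1
      simp only [hT, mulVec_mulVec, hP, ← mul_assoc, Units.inv_mul, one_mul]
      rw [← mulVec_mulVec, hfix g (hN.1 hg)]
  rw [mem_subfield_iff, ← hφ]
  have hu' : φ.symm ∘ u = u := funext fun i => hfix1' _ (hu i)
  have h := congrFun hTT u
  rw [hT'] at h
  simp only [hu'] at h
  exact h.symm

omit [DecidableEq ι] in
/-- A binary form over a subfield of index two has a zero. -/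
lemma exists_binary_zero {F₁ : Subfield F} (h : Fintype.card F = Nat.card F₁ ^ 2) {α β γ : F} (hα : α ∈ F₁)
    (hβ : β ∈ F₁) (hγ : γ ∈ F₁) : ∃ x y : F, (x ≠ 0 ∨ y ≠ 0) ∧ α * x ^ 2 + β * (x * y) + γ * y ^ 2 = 0 := by
  classical
  by_cases hα0 : α = 0
  · exact ⟨1, 0, Or.inl one_ne_zero, by rw [hα0]; ring⟩
  set p : Polynomial F₁ := Polynomial.C ⟨α, hα⟩ * Polynomial.X ^ 2 + Polynomial.C ⟨β, hβ⟩ * Polynomial.X +
    Polynomial.C ⟨γ, hγ⟩ with hp
  have hα1 : (⟨α, hα⟩ : F₁) ≠ 0 := fun h => hα0 (congrArg Subtype.val h)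
  have hdeg : p.natDegree = 2 := Polynomial.natDegree_quadratic hα1
  suffices hroot : ∃ t : F, (p.map F₁.subtype).eval t = 0 by
    obtain ⟨t, ht⟩ := hroot
    simp [hp] at ht
    exact ⟨t, 1, Or.inr one_ne_zero, by linear_combination ht⟩
  by_cases hr : ∃ t : F₁, p.IsRoot t
  · obtain ⟨t, ht⟩ := hr
    exact ⟨t, by rw [show (t : F) = F₁.subtype t from rfl, Polynomial.eval_map, Polynomial.eval₂_at_apply, ht.eq_zero, map_zero]⟩
  push Not at hr
  have hirr : Irreducible p := by
    refine (Polynomial.irreducible_iff_roots_eq_zero_of_degree_le_three (by omega) (by omega)).mpr ?_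
    refine Multiset.eq_zero_of_forall_notMem fun t ht => hr t (Polynomial.isRoot_of_mem_roots ht)
  have : Fact (Irreducible p) := ⟨hirr⟩
  have hfr : Module.finrank F₁ F = 2 := by
    rw [Module.card_eq_pow_finrank (K := F₁) (V := F), Nat.card_eq_fintype_card] at h
    exact Nat.pow_right_injective (Fintype.one_lt_card) h
  obtain ⟨g⟩ := FiniteField.nonempty_algHom_of_finrank_dvd (F := F₁) (K := AdjoinRoot p) (L := F) (by
    rw [hfr, (AdjoinRoot.powerBasis hirr.ne_zero).finrank, AdjoinRoot.powerBasis_dim, hdeg])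
  refine ⟨g (AdjoinRoot.root p), ?_⟩
  rw [Polynomial.eval_map]
  show Polynomial.aeval (g (AdjoinRoot.root p)) p = 0
  rw [Polynomial.aeval_algHom_apply, AdjoinRoot.aeval_eq, AdjoinRoot.mk_self, map_zero]

/-- In dimension eight a rational structure over a subfield of index two forces plus type. -/
theorem plus_of_index_two_eight (hQ : IsNondegenerateQuadraticForm Q) (h8 : Fintype.card ι = 8) {F₁ : Subfield F}
    (hcard : Fintype.card F = Nat.card F₁ ^ 2) {P : GL ι F} {ζ : F} (hζ : ζ ≠ 0)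
    (hstr : IsQuadFormRationalStructure (fun v => ζ * Q v) F₁ P) : IsPlusTypeOn Q ⊤ := by
  classical
  let cst : (ι → F₁) →ₗ[F₁] (ι → F) :=
    { toFun := fun u i => (u i : F)
      map_add' := fun a b => funext fun i => rfl
      map_smul' := fun c a => funext fun i => rfl }
  let lift : (ι → F₁) → (ι → F) := fun u => (P : Matrix ι ι F) *ᵥ cst u
  have hladd : ∀ u v, lift (u + v) = lift u + lift v := fun u v => by simp only [lift, map_add, mulVec_add]
  have hlsmul : ∀ (c : F₁) u, lift (c • u) = (c : F) • lift u := fun c u => by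
    simp only [lift, ← mulVec_smul]; rfl
  let q : (ι → F₁) → F₁ := fun u => ⟨ζ * Q (lift u), hstr _ fun i => (u i).2⟩
  have hqpol : ∀ u v, ((QuadraticMap.polar q u v : F₁) : F) = ζ * QuadraticMap.polar Q (lift u) (lift v) := fun u v => by
    simp only [QuadraticMap.polar, q, Subfield.coe_sub, hladd]; ring
  have hq : IsNondegenerateQuadraticForm q := by
    refine ⟨fun c u => Subtype.ext ?_, ⟨fun x y v => Subtype.ext ?_, fun c x v => Subtype.ext ?_,
      fun v x y => Subtype.ext ?_, fun c v x => Subtype.ext ?_⟩, fun v hv => ?_⟩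
    · simp only [q, hlsmul, hQ.smul, Subfield.coe_mul, SubmonoidClass.coe_pow]; ring
    · rw [Subfield.coe_add, hqpol, hqpol, hqpol, hladd, hQ.polar_bilinear.add_left]; ring
    · rw [Subfield.coe_mul, hqpol, hqpol, hlsmul, hQ.polar_bilinear.smul_left]; ring
    · rw [Subfield.coe_add, hqpol, hqpol, hqpol, hladd, hQ.polar_bilinear.add_right]; ring
    · rw [Subfield.coe_mul, hqpol, hqpol, hlsmul, hQ.polar_bilinear.smul_right]; ring
    have hv0 : lift v ≠ 0 := fun h => hv (funext fun i => Subtype.ext (by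
      have := congrFun (mulVec_injective_GL P (a₁ := cst v) (a₂ := 0) (by
        rw [Matrix.toLin'_apply, Matrix.toLin'_apply, mulVec_zero]; exact h)) i
      exact this))
    obtain ⟨x, hx⟩ : ∃ x, QuadraticMap.polar q x v ≠ 0 := by
      by_contra hcon
      push Not at hcon
      obtain ⟨⟨w, hw⟩, -⟩ := hQ.nondegenerate _ hv0
      apply hw
      let φ : (ι → F) →ₗ[F] F :=
        { toFun := fun z => QuadraticMap.polar Q ((P : Matrix ι ι F) *ᵥ z) (lift v)
          map_add' := fun a b => by rw [mulVec_add, hQ.polar_bilinear.add_left]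
          map_smul' := fun c a => by rw [mulVec_smul, hQ.polar_bilinear.smul_left]; rfl }
      have hφ : φ = 0 := (Pi.basisFun F ι).ext fun i => by
        rw [Pi.basisFun_apply, LinearMap.zero_apply]
        have h := congrArg Subtype.val (hcon (Pi.single i 1))
        rw [hqpol] at h
        have e : cst (Pi.single i 1) = Pi.single i 1 := funext fun l => by
          by_cases hl : l = i <;> simp [cst, hl]
        simp only [lift, e, Subfield.coe_zero] at h
        exact (mul_eq_zero.mp h).resolve_left hζ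
      have h := LinearMap.congr_fun hφ (((P⁻¹ : GL ι F) : Matrix ι ι F) *ᵥ w)
      simp only [φ, LinearMap.coe_mk, AddHom.coe_mk, mulVec_mulVec, Units.mul_inv, one_mulVec,
        LinearMap.zero_apply] at h
      exact h
    exact ⟨⟨x, hx⟩, x, by rwa [polar_symm]⟩
  obtain ⟨q', hq'e, hq'⟩ := CfsgLib.Geo.OS.exists_quadraticForm hq
  have hd : Module.finrank F₁ (ι → F₁) = 8 := by rw [Module.finrank_fintype_fun_eq_card, h8]
  have hperp : ∀ S : Submodule F₁ (ι → F₁), Module.finrank F₁ (CfsgLib.Quad.perpS q' S) + Module.finrank F₁ S = 8 :=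
    fun S => by rw [add_comm, CfsgLib.Quad.finrank_perpS hq' S, hd]
  have hspan : ∀ {n : ℕ} (e : Fin n → ι → F₁), Module.finrank F₁ (Submodule.span F₁ (Set.range e)) ≤ n := fun e =>
    (finrank_range_le_card e).trans (by simp)
  obtain ⟨e1, -, he1, hQ1⟩ := CfsgLib.Quad.exists_singular_of_three (Q := q') (⊤ : Submodule F₁ (ι → F₁))
    (by rw [finrank_top, hd]; omega)
  set S1 := Submodule.span F₁ (Set.range ![e1]) with hS1
  obtain ⟨e2, hp2, hQ2, hn2⟩ := CfsgLib.Geo.OS.exists_singular_outside hq' (CfsgLib.Quad.perpS q' S1) S1 (by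
    have := hperp S1; have := hspan ![e1]; rw [← hS1] at this; omega)
  set S2 := Submodule.span F₁ (Set.range ![e1, e2]) with hS2
  obtain ⟨e3, hp3, hQ3, hn3⟩ := CfsgLib.Geo.OS.exists_singular_outside hq' (CfsgLib.Quad.perpS q' S2) S2 (by
    have := hperp S2; have := hspan ![e1, e2]; rw [← hS2] at this; omega)
  set S3 := Submodule.span F₁ (Set.range ![e1, e2, e3]) with hS3
  have h3 : Module.finrank F₁ S3 ≤ 3 := hspan ![e1, e2, e3]
  obtain ⟨w1, hw1, hn4⟩ := SetLike.not_le_iff_exists.mp (fun h : CfsgLib.Quad.perpS q' S3 ≤ S3 => by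
    have := Submodule.finrank_mono h; have := hperp S3; omega)
  set S4 := Submodule.span F₁ (Set.range ![e1, e2, e3, w1]) with hS4
  obtain ⟨w2, hw2, hn5⟩ := SetLike.not_le_iff_exists.mp (fun h : CfsgLib.Quad.perpS q' S3 ≤ S4 => by
    have := Submodule.finrank_mono h; have := hperp S3
    have := hspan ![e1, e2, e3, w1]; rw [← hS4] at this; omega)
  set e : Fin 5 → ι → F₁ := ![e1, e2, e3, w1, w2] with he
  have hli : LinearIndependent F₁ e := by
    have l1 : LinearIndependent F₁ ![e1] := linearIndependent_unique_iff.mpr he1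
    have l2 : LinearIndependent F₁ ![e1, e2] := by
      rw [show ![e1, e2] = Fin.snoc ![e1] e2 from by funext i; fin_cases i <;> rfl]
      exact l1.finSnoc hn2
    have l3 : LinearIndependent F₁ ![e1, e2, e3] := by
      rw [show ![e1, e2, e3] = Fin.snoc ![e1, e2] e3 from by funext i; fin_cases i <;> rfl]
      exact l2.finSnoc hn3
    have l4 : LinearIndependent F₁ ![e1, e2, e3, w1] := by
      rw [show ![e1, e2, e3, w1] = Fin.snoc ![e1, e2, e3] w1 from by funext i; fin_cases i <;> rfl]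
      exact l3.finSnoc hn4
    rw [show e = Fin.snoc ![e1, e2, e3, w1] w2 from by funext i; fin_cases i <;> rfl]
    exact l4.finSnoc hn5
  set E : Matrix ι (Fin 5) F₁ := Matrix.of fun i l => e l i
  obtain ⟨L, hL⟩ : ∃ L : Matrix (Fin 5) ι F₁, L * E = 1 := by
    let f := Matrix.toLin' E
    have hinj : Function.Injective f := by
      intro x y hxy
      simp only [f, Matrix.toLin'_apply] at hxy
      exact Matrix.mulVec_injective_iff.mpr (show LinearIndependent F₁ E.col from hli) hxy
    obtain ⟨g, hg⟩ := f.exists_leftInverse_of_injective (LinearMap.ker_eq_bot.mpr hinj)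
    refine ⟨LinearMap.toMatrix' g, ?_⟩
    rw [← LinearMap.toMatrix'_toLin' E, ← LinearMap.toMatrix'_comp, hg, LinearMap.toMatrix'_id]
  have hsing : ∀ l : Fin 5, l.1 < 3 → q' (e l) = 0 := by
    intro l hl; fin_cases l <;> first | exact hQ1 | exact hQ2 | exact hQ3 | (simp at hl)
  have horth : ∀ l : Fin 5, l.1 < 3 → ∀ l', l' ≠ l → QuadraticMap.polar q (e l) (e l') = 0 := by
    have m1 : e1 ∈ S1 := Submodule.subset_span ⟨0, rfl⟩
    have m21 : e1 ∈ S2 := Submodule.subset_span ⟨0, rfl⟩
    have m22 : e2 ∈ S2 := Submodule.subset_span ⟨1, rfl⟩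
    have m31 : e1 ∈ S3 := Submodule.subset_span ⟨0, rfl⟩
    have m32 : e2 ∈ S3 := Submodule.subset_span ⟨1, rfl⟩
    have m33 : e3 ∈ S3 := Submodule.subset_span ⟨2, rfl⟩
    rw [← hq'e]
    intro l hl l' hll
    fin_cases l <;> simp at hl <;> fin_cases l' <;> first
      | exact absurd rfl hll
      | exact hp2 _ m1 | exact hp3 _ m21 | exact hp3 _ m22
      | exact hw1 _ m31 | exact hw1 _ m32 | exact hw1 _ m33
      | exact hw2 _ m31 | exact hw2 _ m32 | exact hw2 _ m33
      | exact (QuadraticMap.polar_comm _ _ _).trans (hp2 _ m1)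
      | exact (QuadraticMap.polar_comm _ _ _).trans (hp3 _ m21)
      | exact (QuadraticMap.polar_comm _ _ _).trans (hp3 _ m22)
  obtain ⟨x, y, hxy, hzero⟩ := exists_binary_zero hcard (q (e 3)).2 (QuadraticMap.polar q (e 3) (e 4)).2 (q (e 4)).2
  have hpolf : ∀ l l', QuadraticMap.polar Q (lift (e l)) (lift (e l')) =
      ζ⁻¹ * ((QuadraticMap.polar q (e l) (e l') : F₁) : F) := fun l l' => by
    rw [hqpol, ← mul_assoc, inv_mul_cancel₀ hζ, one_mul]
  have hQf : ∀ l, Q (lift (e l)) = ζ⁻¹ * ((q (e l) : F₁) : F) := fun l => by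
    show _ = ζ⁻¹ * (ζ * _)
    rw [← mul_assoc, inv_mul_cancel₀ hζ, one_mul]
  have h5 : LinearIndependent F fun l => lift (e l) := by
    refine Fintype.linearIndependent_iff.mpr fun c hc j => ?_
    have h1 : (E.map F₁.subtype) *ᵥ c = 0 := by
      apply mulVec_injective_GL P
      rw [Matrix.toLin'_apply, Matrix.toLin'_apply, mulVec_zero, ← hc]
      simp only [lift, ← mulVec_smul, ← mulVec_sum]
      congr 1
      funext i
      simp [E, cst, mulVec, dotProduct, Finset.sum_apply, mul_comm]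
    have h2 := congrArg ((L.map F₁.subtype) *ᵥ ·) h1
    simp only [mulVec_mulVec, mulVec_zero, ← Matrix.map_mul, hL, Matrix.map_one _ (map_zero _) (map_one _),
      one_mulVec] at h2
    exact congrFun h2 j
  let z : Fin 4 → ι → F := ![lift (e 0), lift (e 1), lift (e 2), x • lift (e 3) + y • lift (e 4)]
  have hz : LinearIndependent F z := by
    refine Fintype.linearIndependent_iff.mpr fun c hc => ?_
    have h := Fintype.linearIndependent_iff.mp h5 ![c 0, c 1, c 2, c 3 * x, c 3 * y] (by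
      rw [← hc]; simp [z, Fin.sum_univ_five, Fin.sum_univ_four]; module)
    intro i
    fin_cases i
    · exact h 0
    · exact h 1
    · exact h 2
    · rcases hxy with hx | hy
      · exact (mul_eq_zero.mp (h 3)).resolve_right hx
      · exact (mul_eq_zero.mp (h 4)).resolve_right hy
  refine plus_of_ts (T := Submodule.span F (Set.range z)) ?_ (by rw [finrank_span_eq_card hz, h8]; rfl)
  intro w hw
  obtain ⟨k, rfl⟩ := (Submodule.mem_span_range_iff_exists_fun F).mp hw
  have hs0 : ∀ l : Fin 5, l.1 < 3 → Q (lift (e l)) = 0 := fun l hl => by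
    rw [hQf, show q (e l) = q' (e l) by rw [hq'e], hsing l hl, Subfield.coe_zero, mul_zero]
  have ho : ∀ l : Fin 5, l.1 < 3 → ∀ l', QuadraticMap.polar Q (lift (e l)) (lift (e l')) = 0 := by
    intro l hl l'
    by_cases h : l' = l
    · rw [h, polar_self_eq hQ, hs0 l hl, mul_zero]
    · rw [hpolf, horth l hl l' h, Subfield.coe_zero, mul_zero]
  have hlast : Q (x • lift (e 3) + y • lift (e 4)) = 0 := by
    rw [quad_add hQ, hQ.smul, hQ.smul, hQ.polar_bilinear.smul_left, hQ.polar_bilinear.smul_right, hQf, hQf, hpolf]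
    linear_combination ζ⁻¹ * hzero
  refine quad_sum_eq_zero hQ _ _ _ (fun p _ p' _ => ?_) fun p _ => ?_
  · have hself : QuadraticMap.polar Q (x • lift (e 3) + y • lift (e 4)) (x • lift (e 3) + y • lift (e 4)) = 0 := by
      rw [polar_self_eq hQ, hlast, mul_zero]
    have ho' : ∀ l : Fin 5, l.1 < 3 → ∀ l', QuadraticMap.polar Q (lift (e l')) (lift (e l)) = 0 := fun l hl l' =>
      (polar_symm _ _ _).trans (ho l hl l')
    fin_cases p <;> fin_cases p' <;> first
      | exact hself
      | exact ho _ (by decide) _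
      | exact ho' _ (by decide) _
      | (simp [z, hQ.polar_bilinear.add_left, hQ.polar_bilinear.add_right, hQ.polar_bilinear.smul_left,
          hQ.polar_bilinear.smul_right, ho, ho'])
  · fin_cases p <;> first | exact hlast | exact hs0 _ (by decide)

end OE

end CfsgLib.Aschbacher
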