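import Cfsg.Agent.Aschbacher.Form.OrthEvenTools
import Cfsg.Agent.Aschbacher.Form.Common

/-!
The outcomes for an irreducible group of isometries of a symmetric form in even dimension: as for every reflexive
form, where the class-two case gives two anticommuting elements, one of them an involution.
-/
set_option autoImplicit false
set_option maxHeartbeats 800000

namespace CfsgLib.Aschbacher

open Matrix Cfsg Cfsg.Geo CfsgLib.GeoClifford
open scoped MatrixGroups Kronecker commutatorElement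

variable {ι : Type} [Fintype ι] [DecidableEq ι] {F : Type*} [Field F] [Fintype F]

namespace OE

/-- A class-two minimal normal subgroup of isometries of a bilinear form has an involution anticommuting with an element. -/
theorem classTwo_pair {ε : F} {f : (ι → F) → (ι → F) → F} (hf : IsRefl (RingEquiv.refl F) ε f)
    (hn : 3 ≤ Fintype.card ι) {H N : Subgroup (GL ι F)}
    (hfix : FixesForm (matrixSet H) f) (hclean : Clean H) (hN : NormSub H N) (hNs : ¬ N ≤ scalars ι F)
    (hmin : ∀ M, NormSub H M → M ≤ N → ¬ M ≤ scalars ι F → M = N) (hcl : ⁅N, N⁆ ≤ scalars ι F) :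
    (2 : F) ≠ 0 ∧ (∃ m, Fintype.card ι = 2 ^ m) ∧ ∃ a ∈ N, ∃ b ∈ N, a * a = 1 ∧
      (a : Matrix ι ι F) * (b : Matrix ι ι F) = -((b : Matrix ι ι F) * (a : Matrix ι ι F)) := by
  classical
  have : Nonempty ι := Fintype.card_pos_iff.mp (by omega)
  obtain ⟨r, z, ζ, hd⟩ := exists_classTwoData (by omega) hclean hN hNs hmin hcl
  have hfixN : FixesForm (matrixSet N) f := fun s hs => by
    obtain ⟨a, ha, rfl⟩ := hs
    exact hfix _ (coe_mem_matrixSet (hN.1 ha))
  have hsc : ∀ a ∈ N, a ∈ scalars ι F → ∃ c : F, (c = 1 ∨ c = -1) ∧ (a : Matrix ι ι F) = c • (1 : Matrix ι ι F) := by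
    intro a ha has
    obtain ⟨c, hc⟩ := (mem_scalars_iff _).mp has
    refine ⟨c, mul_self_eq_one_iff.mp ?_, hc⟩
    obtain ⟨i⟩ := ‹Nonempty ι›
    obtain ⟨⟨x, hx⟩, -⟩ := hf.nd (Pi.single i 1) (fun h => one_ne_zero (α := F) (by simpa using congrFun h i))
    have h := hfixN _ (coe_mem_matrixSet ha) x (Pi.single i 1)
    rw [hc, smul_mulVec, smul_mulVec, one_mulVec, one_mulVec, hf.sesq.smul_left, hf.sesq.smul_right,
      RingEquiv.refl_apply, ← mul_assoc] at h
    exact (mul_eq_right₀ hx).mp h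
  have hz2 : z = 2 := by
    have hle : Nat.card (Subgroup.center N) ≤ 2 := by
      choose c hc hca using fun a : Subgroup.center N =>
        hsc a.1.1 a.1.2 (Subgroup.mem_subgroupOf.mp (hd.center_eq.le a.2))
      have hinj : Function.Injective fun a => (decide (c a = 1)) := by
        intro a b hab
        have hcc : c a = c b := by
          simp only [decide_eq_decide] at hab
          rcases hc a with h | h <;> rcases hc b with h' | h'
          · rw [h, h']
          · rw [h, hab.mp h]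
          · rw [hab.mpr h', h']
          · rw [h, h']
        refine Subtype.ext (Subtype.ext (Units.ext ?_))
        rw [hca, hca, hcc]
      have h := Nat.card_le_card_of_injective _ hinj
      rwa [Nat.card_eq_fintype_card (α := Bool), Fintype.card_bool] at h
    rw [hd.card_center] at hle
    rcases hd.order with ⟨ho, h⟩ | ⟨-, h⟩ | ⟨-, h⟩
    · have := hd.prime.two_le
      exact le_antisymm hle (h ▸ this)
    all_goals omega
  subst hz2
  have hr2 : r = 2 := by
    rcases hd.order with ⟨ho, h⟩ | ⟨h, -⟩ | ⟨h, -⟩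
    · exact h.symm
    all_goals exact h
  subst hr2
  have h2 : (2 : F) ≠ 0 := by
    intro h2
    have h1 := hd.primitive.pow_eq_one
    refine hd.primitive.ne_one (by norm_num) ?_
    have : (ζ - 1) * (ζ - 1) = 0 := by linear_combination h1 + (1 - ζ) * h2
    exact sub_eq_zero.mp (mul_self_eq_zero.mp this)
  obtain ⟨m, -, hm⟩ := hd.degree
  refine ⟨h2, ⟨m, hm⟩, ?_⟩
  have habs := hclean _ hN hNs
  have hcomm : ∀ x ∈ N, ∀ y ∈ N, (x : Matrix ι ι F) * (y : Matrix ι ι F) = (y : Matrix ι ι F) * (x : Matrix ι ι F) ∨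
      (x : Matrix ι ι F) * (y : Matrix ι ι F) = -((y : Matrix ι ι F) * (x : Matrix ι ι F)) := by
    intro x hx y hy
    obtain ⟨c, hc, hcv⟩ := hsc _ (Subgroup.commutator_le_self N (Subgroup.commutator_mem_commutator hx hy))
      (hcl (Subgroup.commutator_mem_commutator hx hy))
    have e : (x : Matrix ι ι F) * (y : Matrix ι ι F) =
        ((⁅x, y⁆ : GL ι F) : Matrix ι ι F) * ((y : Matrix ι ι F) * (x : Matrix ι ι F)) := by
      rw [← Units.val_mul, ← Units.val_mul, ← Units.val_mul, commutatorElement_def]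
      congr 1
      group
    rw [hcv] at e
    rcases hc with rfl | rfl
    · exact Or.inl (by rw [e, one_smul, one_mul])
    · exact Or.inr (by rw [e, neg_one_smul, neg_one_mul])
  have hnc : ∀ x ∈ N, x ∉ scalars ι F → ∃ y ∈ N, (x : Matrix ι ι F) * (y : Matrix ι ι F) =
      -((y : Matrix ι ι F) * (x : Matrix ι ι F)) := by
    intro x hx hxs
    by_contra hcon
    push Not at hcon
    obtain ⟨c, hc⟩ := habs.2 (x : Matrix ι ι F) (forall_matrixSet.mpr fun y hy =>
      (hcomm x hx y hy).resolve_right (hcon y hy))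
    exact hxs (mem_scalars_of_eq_smul hc)
  have hsqs : ∀ x ∈ N, x * x = 1 ∨ ((x * x : GL ι F) : Matrix ι ι F) = -1 := by
    intro x hx
    have hxx : x * x ∈ scalars ι F := by
      obtain ⟨c, hc⟩ := habs.2 ((x * x : GL ι F) : Matrix ι ι F) (forall_matrixSet.mpr fun y hy => by
        rw [Units.val_mul]
        rcases hcomm x hx y hy with h | h
        · rw [mul_assoc, h, ← mul_assoc, h, mul_assoc]
        · rw [mul_assoc, h, mul_neg, ← mul_assoc, h, neg_mul, neg_neg, mul_assoc])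
      exact mem_scalars_of_eq_smul hc
    obtain ⟨c, hc, hcv⟩ := hsc _ (N.mul_mem hx hx) hxx
    rcases hc with rfl | rfl
    · exact Or.inl (Units.ext (by rw [hcv, one_smul, Units.val_one]))
    · exact Or.inr (by rw [hcv, neg_one_smul])
  suffices hinv : ∃ a ∈ N, a ∉ scalars ι F ∧ a * a = 1 by
    obtain ⟨a, ha, has, ha2⟩ := hinv
    obtain ⟨b, hb, hab⟩ := hnc a ha has
    exact ⟨a, ha, b, hb, ha2, hab⟩
  by_contra hcon
  push Not at hcon
  obtain ⟨x, hx, hxs⟩ := SetLike.not_le_iff_exists.mp hNs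
  obtain ⟨y, hy, hxy⟩ := hnc x hx hxs
  set C : Subgroup N := Subgroup.centralizer {(⟨x, hx⟩ : N)} with hC
  have hmemC : ∀ c : N, c ∈ C ↔
      (x : Matrix ι ι F) * ((c : GL ι F) : Matrix ι ι F) = ((c : GL ι F) : Matrix ι ι F) * (x : Matrix ι ι F) := by
    intro c
    rw [hC, Subgroup.mem_centralizer_iff]
    refine ⟨fun h => congrArg (fun w : N => ((w : GL ι F) : Matrix ι ι F)) (h _ rfl), ?_⟩
    rintro h _ rfl
    exact Subtype.ext (Units.ext h)
  have hcard : Nat.card N ≤ 2 * Nat.card C := by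
    have hsurj : Function.Surjective fun p : Bool × C => if p.1 then (⟨y, hy⟩ : N) * p.2.1 else p.2.1 := by
      intro w
      rcases hcomm x hx w.1 w.2 with h | h
      · exact ⟨(false, ⟨w, (hmemC w).mpr h⟩), rfl⟩
      · refine ⟨(true, ⟨(⟨y, hy⟩ : N)⁻¹ * w, (hmemC _).mpr ?_⟩), by simp⟩
        show (x : Matrix ι ι F) * (((y⁻¹ : GL ι F) : Matrix ι ι F) * (w.1 : Matrix ι ι F)) =
          ((y⁻¹ : GL ι F) : Matrix ι ι F) * (w.1 : Matrix ι ι F) * (x : Matrix ι ι F)
        have e : (x : Matrix ι ι F) * ((y⁻¹ : GL ι F) : Matrix ι ι F) =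
            -(((y⁻¹ : GL ι F) : Matrix ι ι F) * (x : Matrix ι ι F)) := by
          have := congrArg (fun M => ((y⁻¹ : GL ι F) : Matrix ι ι F) * M * ((y⁻¹ : GL ι F) : Matrix ι ι F)) hxy
          simp only [mul_neg, neg_mul, mul_assoc, Units.mul_inv, mul_one, Units.inv_mul_cancel_left] at this
          rw [this, neg_neg]
        rw [← mul_assoc, e, neg_mul, mul_assoc, h, mul_neg, neg_neg, mul_assoc]
    have := Nat.card_le_card_of_surjective _ hsurj
    rwa [Nat.card_prod, Nat.card_eq_fintype_card (α := Bool), Fintype.card_bool] at this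
  have hC5 : 4 < Nat.card C := by
    rw [hd.card] at hcard
    nlinarith
  have hsub : ∀ c : C, c.1.1 = 1 ∨ (c.1.1 : Matrix ι ι F) = -1 ∨ c.1.1 = x ∨
      (c.1.1 : Matrix ι ι F) = -(x : Matrix ι ι F) := by
    intro c
    have hcx := (hmemC c.1).mp c.2
    by_cases hcs : c.1.1 ∈ scalars ι F
    · obtain ⟨d, hd', hdv⟩ := hsc _ c.1.2 hcs
      rcases hd' with rfl | rfl
      · exact Or.inl (Units.ext (by rw [hdv, one_smul, Units.val_one]))
      · exact Or.inr (Or.inl (by rw [hdv, neg_one_smul]))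
    have hc2 := (hsqs _ c.1.2).resolve_left (hcon _ c.1.2 hcs)
    have hx2 := (hsqs _ hx).resolve_left (hcon _ hx hxs)
    rw [Units.val_mul] at hc2 hx2
    have hprod : (x * c.1.1) * (x * c.1.1) = 1 := by
      apply Units.ext
      rw [Units.val_mul, Units.val_mul, Units.val_one]
      calc _ = (x : Matrix ι ι F) * ((c.1.1 : Matrix ι ι F) * (x : Matrix ι ι F)) * (c.1.1 : Matrix ι ι F) := by
            simp only [mul_assoc]
        _ = ((x : Matrix ι ι F) * (x : Matrix ι ι F)) * ((c.1.1 : Matrix ι ι F) * (c.1.1 : Matrix ι ι F)) := by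
            rw [← hcx]; simp only [mul_assoc]
        _ = 1 := by rw [hx2, hc2, neg_mul, one_mul, neg_neg]
    by_cases hps : x * c.1.1 ∈ scalars ι F
    swap
    · exact absurd hprod (hcon _ (N.mul_mem hx c.1.2) hps)
    obtain ⟨d, hd', hdv⟩ := hsc _ (N.mul_mem hx c.1.2) hps
    rw [Units.val_mul] at hdv
    have hcv : (c.1.1 : Matrix ι ι F) = -(d • (x : Matrix ι ι F)) := by
      have h := congrArg ((x : Matrix ι ι F) * ·) hdv
      simp only [← mul_assoc, hx2, neg_mul, one_mul, mul_smul_comm, mul_one] at h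
      rw [← h, neg_neg]
    rcases hd' with rfl | rfl
    · exact Or.inr (Or.inr (Or.inr (by rw [hcv, one_smul])))
    · exact Or.inr (Or.inr (Or.inl (Units.ext (by rw [hcv, neg_one_smul, neg_neg]))))
  have hinj : Nat.card C ≤ 4 := by
    let S : Finset (Matrix ι ι F) := {1, -1, (x : Matrix ι ι F), -(x : Matrix ι ι F)}
    have hS : ∀ c : C, (c.1.1 : Matrix ι ι F) ∈ S := by
      intro c
      rcases hsub c with h | h | h | h <;> simp [S, h]
    have := Nat.card_le_card_of_injective (fun c : C => (⟨_, hS c⟩ : S))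
      fun a b hab => Subtype.ext (Subtype.ext (Units.ext (congrArg Subtype.val hab)))
    rw [Nat.card_eq_fintype_card (α := S), Fintype.card_coe] at this
    exact this.trans Finset.card_le_four
  omega

/-- An involution and an element anticommuting with it give plus type in doubly even dimension. -/
theorem plus_of_pair {Q : (ι → F) → F} (hQ : IsNondegenerateQuadraticForm Q) (h2 : (2 : F) ≠ 0) {j : ℕ}
    (hj : Fintype.card ι = 2 * (j + j)) {a b : GL ι F} (ha : ∀ v, Q ((a : Matrix ι ι F) *ᵥ v) = Q v)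
    (hb : ∀ v, Q ((b : Matrix ι ι F) *ᵥ v) = Q v) (haa : a * a = 1)
    (hab : (a : Matrix ι ι F) * (b : Matrix ι ι F) = -((b : Matrix ι ι F) * (a : Matrix ι ι F))) :
    IsPlusTypeOn Q ⊤ := by
  set U := LinearMap.ker (Matrix.toLin' ((a : Matrix ι ι F) - 1)) with hU
  set U' := LinearMap.ker (Matrix.toLin' ((a : Matrix ι ι F) + 1)) with hU'
  have hmU : ∀ v, v ∈ U ↔ (a : Matrix ι ι F) *ᵥ v = v := fun v => by
    rw [hU, LinearMap.mem_ker, Matrix.toLin'_apply, sub_mulVec, one_mulVec, sub_eq_zero]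
  have hmU' : ∀ v, v ∈ U' ↔ (a : Matrix ι ι F) *ᵥ v = -v := fun v => by
    rw [hU', LinearMap.mem_ker, Matrix.toLin'_apply, add_mulVec, one_mulVec, add_eq_zero_iff_eq_neg]
  have hpol : ∀ u v, QuadraticMap.polar Q ((a : Matrix ι ι F) *ᵥ u) ((a : Matrix ι ι F) *ᵥ v) = QuadraticMap.polar Q u v :=
    fun u v => by simp only [QuadraticMap.polar, ← mulVec_add, ha]
  have hperp : ∀ x ∈ U, ∀ y ∈ U', QuadraticMap.polar Q x y = 0 := by
    intro x hx y hy
    have h := hpol x y
    rw [(hmU x).mp hx, (hmU' y).mp hy, ← neg_one_smul F y, hQ.polar_bilinear.smul_right] at h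
    have h' : (2 : F) * QuadraticMap.polar Q x y = 0 := by linear_combination -h
    exact (mul_eq_zero.mp h').resolve_left h2
  have haa' : ∀ v, (a : Matrix ι ι F) *ᵥ ((a : Matrix ι ι F) *ᵥ v) = v := fun v => by
    rw [mulVec_mulVec, ← Units.val_mul, haa, Units.val_one, one_mulVec]
  have hsup : U ⊔ U' = ⊤ := by
    rw [eq_top_iff]
    intro v _
    have e : v = (2 : F)⁻¹ • (v + (a : Matrix ι ι F) *ᵥ v) + (2 : F)⁻¹ • (v - (a : Matrix ι ι F) *ᵥ v) := by
      rw [← smul_add, add_add_sub_cancel, ← two_smul F v, smul_smul, inv_mul_cancel₀ h2, one_smul]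
    rw [e]
    refine Submodule.add_mem_sup (U.smul_mem _ ((hmU _).mpr ?_)) (U'.smul_mem _ ((hmU' _).mpr ?_))
    · rw [mulVec_add, haa', add_comm]
    · rw [mulVec_sub, haa', neg_sub]
  have hdisj : U ⊓ U' = ⊥ := by
    rw [eq_bot_iff]
    intro v hv
    have h := ((hmU v).mp hv.1).symm.trans ((hmU' v).mp hv.2)
    have h' : (2 : F) • v = 0 := by rw [two_smul]; nth_rewrite 1 [h]; exact neg_add_cancel v
    exact (Submodule.mem_bot F).mpr ((smul_eq_zero.mp h').resolve_left h2)
  have hmap : ∀ v ∈ U, (b : Matrix ι ι F) *ᵥ v ∈ U' := fun v hv => by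
    rw [hmU', mulVec_mulVec, hab, neg_mulVec, ← mulVec_mulVec, (hmU v).mp hv]
  have hmap' : ∀ v ∈ U', (b : Matrix ι ι F) *ᵥ v ∈ U := fun v hv => by
    rw [hmU, mulVec_mulVec, hab, neg_mulVec, ← mulVec_mulVec, (hmU' v).mp hv, mulVec_neg, neg_neg]
  have hle : ∀ {A B : Submodule F (ι → F)}, (∀ v ∈ A, (b : Matrix ι ι F) *ᵥ v ∈ B) →
      Module.finrank F A ≤ Module.finrank F B := by
    intro A B h
    have h1 : A.map (Matrix.toLin' (b : Matrix ι ι F)) ≤ B := by
      rintro _ ⟨v, hv, rfl⟩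
      exact h v hv
    have := Submodule.finrank_mono h1
    rwa [← (Submodule.equivMapOfInjective _ (mulVec_injective_GL b) A).finrank_eq] at this
  have hsum := Submodule.finrank_sup_add_finrank_inf_eq U U'
  rw [hsup, hdisj, finrank_top, finrank_bot, Module.finrank_fintype_fun_eq_card] at hsum
  have h12 := hle hmap
  have h21 := hle hmap'
  have hnd : IsNondegenerateOn (QuadraticMap.polar Q) U := by
    intro w hw hw0
    obtain ⟨-, x, hx⟩ := hQ.nondegenerate w hw0
    obtain ⟨p, hp, q, hq, rfl⟩ := Submodule.mem_sup.mp (hsup ▸ Submodule.mem_top : x ∈ U ⊔ U')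
    rw [hQ.polar_bilinear.add_right, hperp w hw q hq, add_zero] at hx
    exact ⟨⟨p, hp, by rwa [polar_symm]⟩, p, hp, hx⟩
  obtain ⟨T, -, hT, hd⟩ := exists_ts_of_isometric hQ hnd (j := j) (by omega) hperp
    ((Matrix.toLin' (b : Matrix ι ι F)).comp U.subtype) (fun x => hmap x x.2) fun x => hb x
  exact plus_of_ts hT (by omega)

/-- The outcomes for an irreducible group of isometries of a symmetric form. -/
theorem irreducible_structure {ε : F} {f : (ι → F) → (ι → F) → F} (hf : IsRefl (RingEquiv.refl F) ε f)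
    (hn : 3 ≤ Fintype.card ι) {G : Subgroup (GL ι F)} (hfix : FixesForm (matrixSet G) f)
    (hirr : ActsIrreducibly (matrixSet G)) :
    HasFormDecomposition f G ∨ HasFormField hf G ∨
    (∃ (n₁ n₂ : ℕ) (e : ι ≃ Fin n₁ × Fin n₂) (P : GL ι F) (B : Matrix (Fin n₁) (Fin n₁) F)
        (C : Matrix (Fin n₂) (Fin n₂) F), IsTensorGram (RingEquiv.refl F) f G e P B C) ∨
    (∃ (t d : ℕ) (e : ι ≃ (Fin t → Fin d)) (P : GL ι F) (B : Matrix (Fin d) (Fin d) F) (c : F),
        2 ≤ t ∧ 2 ≤ d ∧ IsPowerGram (RingEquiv.refl F) f G e P B c ∧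
        ∃ K : Subgroup (GL (Fin d) F), K ≠ ⊥ ∧ ⁅K, K⁆ = K ∧
          ∀ g ∈ K, (g : Matrix (Fin d) (Fin d) F)ᵀ * B * (g : Matrix (Fin d) (Fin d) F).map (RingEquiv.refl F) = B) ∨
    (∃ N : Subgroup (GL ι F), NormSub G N ∧ ActsAbsolutelyIrreducibly (matrixSet N) ∧
      ((∃ F₀ : Subfield F, F₀ ≠ ⊤ ∧ RealisableOver F₀ (matrixSet N)) ∨
      ((2 : F) ≠ 0 ∧ (∃ m, Fintype.card ι = 2 ^ m) ∧ ∃ a ∈ N, ∃ b ∈ N, a * a = 1 ∧
        (a : Matrix ι ι F) * (b : Matrix ι ι F) = -((b : Matrix ι ι F) * (a : Matrix ι ι F))) ∨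
      IsResidualCore G N)) := by
  classical
  have : Nonempty ι := Fintype.card_pos_iff.mp (by omega)
  by_cases hclean : Clean G
  swap
  · unfold Clean at hclean
    push Not at hclean
    obtain ⟨N, hN, hNs, hna⟩ := hclean
    rcases hf.notClean_cases hfix hirr hN hNs hna with h | h | h
    · exact Or.inl h
    · exact Or.inr (Or.inl h)
    · exact Or.inr (Or.inr (Or.inl h))
  obtain ⟨N, hN, hNs, hmin⟩ := exists_minimal_normal (not_le_scalars_of_irreducible (by omega) hirr)
  by_cases hcl : ⁅N, N⁆ ≤ scalars ι F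
  · exact Or.inr (Or.inr (Or.inr (Or.inr
      ⟨N, hN, hclean _ hN hNs, Or.inr (Or.inl (classTwo_pair hf hn hfix hclean hN hNs hmin hcl))⟩)))
  rcases perfect_cases' hn hclean hN hmin hcl with ⟨-, -, t, d, e, P, hD⟩ | ⟨hperf, hsimp, hna, hcent, habs⟩
  · obtain ⟨P', B, c, hP, hK⟩ := hf.exists_powerGram hfix hN.1 hD
    exact Or.inr (Or.inr (Or.inr (Or.inl ⟨t, d, e, P', B, c, hD.two_le_count, hD.two_le_dim, hP, hK⟩)))
  refine Or.inr (Or.inr (Or.inr (Or.inr ⟨N, hN, habs, ?_⟩)))
  by_cases hre : ∃ F₀ : Subfield F, F₀ ≠ ⊤ ∧ RealisableOver F₀ (matrixSet N)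
  · exact Or.inl hre
  exact Or.inr (Or.inr ⟨hN.1, fun h hh x hx => hN.2 h hh x hx, hperf, hsimp, hna, hcent, habs,
    fun F₀ h0 h1 => hre ⟨F₀, h0, h1⟩⟩)

end OE

end CfsgLib.Aschbacher
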