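import Cfsg.Agent.Aschbacher.Form.OrthogonalOdd
import Cfsg.Agent.Aschbacher.Form.Members
import Cfsg.Agent.Aschbacher.OrthogonalPrime

/-!
Siegel elements lie in no decomposition stabiliser of blocks of dimension at least three, no field normaliser
of odd degree and no tensor square; frames refining blocks of dimension three over three elements.
-/
set_option autoImplicit false
set_option maxHeartbeats 1000000

namespace CfsgLib.Aschbacher

open Matrix Cfsg Cfsg.Geo CfsgLib.GeoClifford
open scoped MatrixGroups Kronecker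

variable {ι : Type} [Fintype ι] [DecidableEq ι] {F : Type*} [Field F]

/-- A map with small image fixes each block it permutes. -/
lemma block_fixed_of_small_image {t m : ℕ} {D : Fin t → Submodule F (ι → F)} (hD : IsMDecomposition m D)
    {g : GL ι F} {U : Submodule F (ι → F)} (hU : Module.finrank F U < m)
    (hg : ∀ v, (g : Matrix ι ι F) *ᵥ v - v ∈ U) {π : Equiv.Perm (Fin t)}
    (hπ : ∀ i, (D i).map (Matrix.toLin' (g : Matrix ι ι F)) = D (π i)) (i : Fin t) : π i = i := by
  by_contra hne
  let L : D i →ₗ[F] U :=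
    { toFun := fun v => ⟨(g : Matrix ι ι F) *ᵥ (v : ι → F) - v, hg _⟩
      map_add' := fun a b => Subtype.ext (by simp [mulVec_add]; abel)
      map_smul' := fun c a => Subtype.ext (by simp [mulVec_smul, smul_sub]) }
  have hinj : Function.Injective L := by
    refine (injective_iff_map_eq_zero L).mpr fun v hv => Subtype.ext ?_
    have h : (g : Matrix ι ι F) *ᵥ (v : ι → F) = v := sub_eq_zero.mp (congrArg Subtype.val hv)
    have h' : (v : ι → F) ∈ D (π i) := by
      rw [← hπ i]
      exact ⟨v, v.2, by rw [Matrix.toLin'_apply, h]⟩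
    exact (Submodule.mem_bot F).mp ((disjoint_iff.mp (hD.indep.pairwiseDisjoint hne)).le ⟨h', v.2⟩)
  have := LinearMap.finrank_le_finrank_of_injective hinj
  rw [hD.finrank_eq] at this
  omega

/-- A map with image of dimension at most two normalising a larger field is trivial. -/
lemma eq_one_of_small_image_field {r : ℕ} (hr : 3 ≤ r) (hn : 5 ≤ Fintype.card ι)
    {K : Subalgebra F (Matrix ι ι F)} (hK : IsFieldSubalgebra r K) {g : GL ι F} {U : Submodule F (ι → F)}
    (hU : Module.finrank F U ≤ 2) (hg : ∀ v, (g : Matrix ι ι F) *ᵥ v - v ∈ U)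
    (hmem : g ∈ subalgebraNormalizer K) : g = 1 := by
  let T : (ι → F) →ₗ[F] U :=
    { toFun := fun v => ⟨(g : Matrix ι ι F) *ᵥ v - v, hg v⟩
      map_add' := fun a b => Subtype.ext (by simp [mulVec_add]; abel)
      map_smul' := fun c a => Subtype.ext (by simp [mulVec_smul, smul_sub]) }
  have hfix : ∀ {w}, T w = 0 → (g : Matrix ι ι F) *ᵥ w = w := fun h => sub_eq_zero.mp (congrArg Subtype.val h)
  have hcomm : ∀ k ∈ K, (g : Matrix ι ι F) * k = k * (g : Matrix ι ι F) := by
    intro k hk
    set d : Matrix ι ι F := (g : Matrix ι ι F) * k * ((g⁻¹ : GL ι F) : Matrix ι ι F) - k with hd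
    have hdK : d ∈ K := K.sub_mem ((hmem k).mp hk) hk
    let L : (ι → F) →ₗ[F] U × U :=
      { toFun := fun v => (T v, T (k *ᵥ v))
        map_add' := fun a b => by simp only [mulVec_add, map_add, Prod.mk_add_mk]
        map_smul' := fun c a => by simp only [mulVec_smul, map_smul, RingHom.id_apply, Prod.smul_mk] }
    obtain ⟨v, hv, hv0⟩ := (LinearMap.ker L).ne_bot_iff.mp (fun h => by
      have := LinearMap.finrank_range_add_finrank_ker L
      have h2 := Submodule.finrank_le (LinearMap.range L)
      rw [h, finrank_bot, Module.finrank_fintype_fun_eq_card] at this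
      rw [Module.finrank_prod] at h2
      omega)
    rw [LinearMap.mem_ker] at hv
    have h1 : (g : Matrix ι ι F) *ᵥ v = v := hfix (congrArg Prod.fst hv)
    have h2 : (g : Matrix ι ι F) *ᵥ (k *ᵥ v) = k *ᵥ v := hfix (congrArg Prod.snd hv)
    have hdv : d *ᵥ v = 0 := by
      have h3 : ((g⁻¹ : GL ι F) : Matrix ι ι F) *ᵥ v = v := by
        conv_lhs => rw [← h1, mulVec_mulVec, Units.inv_mul, one_mulVec]
      rw [hd, sub_mulVec, ← mulVec_mulVec, ← mulVec_mulVec, h3, h2, sub_self]
    have hd0 : d = 0 := by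
      by_contra h
      obtain ⟨y, hy, hy1⟩ := hK.inv d hdK h
      apply hv0
      rw [← one_mulVec v, ← hy1, hK.comm d hdK y hy, ← mulVec_mulVec, hdv, mulVec_zero]
    rw [hd, sub_eq_zero] at hd0
    calc (g : Matrix ι ι F) * k = (g : Matrix ι ι F) * k * (((g⁻¹ : GL ι F) : Matrix ι ι F) * g) := by simp
      _ = k * g := by rw [← mul_assoc, hd0]
  by_contra hne
  obtain ⟨v, hv⟩ : ∃ v, (g : Matrix ι ι F) *ᵥ v - v ≠ 0 := by
    by_contra hcon
    push Not at hcon
    refine hne (Units.ext (Matrix.toLin'.injective (LinearMap.ext fun v => ?_)))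
    rw [Matrix.toLin'_apply, Units.val_one, Matrix.toLin'_one, LinearMap.id_apply]
    exact sub_eq_zero.mp (hcon v)
  set a := (g : Matrix ι ι F) *ᵥ v - v
  let M : K →ₗ[F] U :=
    { toFun := fun k => ⟨(k : Matrix ι ι F) *ᵥ a, by
        have h : (k : Matrix ι ι F) *ᵥ a = (g : Matrix ι ι F) *ᵥ ((k : Matrix ι ι F) *ᵥ v) - (k : Matrix ι ι F) *ᵥ v := by
          rw [mulVec_mulVec, hcomm _ k.2, ← mulVec_mulVec, ← mulVec_sub]
        rw [h]; exact hg _⟩
      map_add' := fun x y => Subtype.ext (by simp [add_mulVec])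
      map_smul' := fun c x => Subtype.ext (by simp [smul_mulVec]) }
  have hinj : Function.Injective M := by
    refine (injective_iff_map_eq_zero M).mpr fun k hk => ?_
    by_contra hk0
    have hk' : (k : Matrix ι ι F) ≠ 0 := fun h => hk0 (Subtype.ext h)
    obtain ⟨y, hy, hy1⟩ := hK.inv _ k.2 hk'
    apply hv
    rw [← one_mulVec a, ← hy1, hK.comm _ k.2 y hy, ← mulVec_mulVec,
      show (k : Matrix ι ι F) *ᵥ a = 0 from congrArg Subtype.val hk, mulVec_zero]
  have := LinearMap.finrank_le_finrank_of_injective hinj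
  rw [hK.finrank_eq] at this
  omega

/-- A map with small image has scalar second factor. -/
lemma second_factor_scalar {m n : ℕ} {A : Matrix (Fin m) (Fin m) F} {B : Matrix (Fin n) (Fin n) F}
    {U : Submodule F (Fin m × Fin n → F)} (hU : Module.finrank F U < m)
    (h : ∀ v, (A ⊗ₖ B) *ᵥ v - v ∈ U) (b : Fin n → F) : ∃ s : F, B *ᵥ b = s • b := by
  by_contra hcon
  push Not at hcon
  let p : (Fin m → F) → Fin m × Fin n → F := fun a z => a z.1 * b z.2
  have hp : ∀ a, (A ⊗ₖ B) *ᵥ p a = fun z => (A *ᵥ a) z.1 * (B *ᵥ b) z.2 := fun a => by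
    funext z
    simp only [mulVec, dotProduct, kroneckerMap_apply, p, Fintype.sum_prod_type, Finset.sum_mul_sum]
    exact Finset.sum_congr rfl fun i _ => Finset.sum_congr rfl fun j _ => by ring
  let L : (Fin m → F) →ₗ[F] U :=
    { toFun := fun a => ⟨(A ⊗ₖ B) *ᵥ p a - p a, h _⟩
      map_add' := fun a c => Subtype.ext (by
        have : p (a + c) = p a + p c := funext fun z => by simp [p, add_mul]
        simp only [this, mulVec_add, Submodule.coe_add]; abel)
      map_smul' := fun c a => Subtype.ext (by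
        have : p (c • a) = c • p a := funext fun z => by simp [p, mul_assoc]
        simp only [this, mulVec_smul, RingHom.id_apply, Submodule.coe_smul, smul_sub]) }
  have hinj : Function.Injective L := by
    refine (injective_iff_map_eq_zero L).mpr fun a ha => ?_
    by_contra ha0
    obtain ⟨i, hi⟩ := Function.ne_iff.mp ha0
    have h1 : (A ⊗ₖ B) *ᵥ p a = p a := sub_eq_zero.mp (congrArg Subtype.val ha)
    rw [hp] at h1
    have h2 : ∀ j, (A *ᵥ a) i * (B *ᵥ b) j = a i * b j := fun j => congrFun h1 (i, j)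
    by_cases hA : (A *ᵥ a) i = 0
    · exact hcon 0 (by
        have hb : b = 0 := funext fun j => by
          have := h2 j
          rw [hA, zero_mul] at this
          exact (mul_eq_zero.mp this.symm).resolve_left hi
        rw [hb, mulVec_zero, smul_zero])
    · exact hcon (a i / (A *ᵥ a) i) (funext fun j => by
        rw [Pi.smul_apply, smul_eq_mul, div_mul_eq_mul_div, eq_div_iff hA, ← h2 j, mul_comm])
  have := LinearMap.finrank_le_finrank_of_injective hinj
  rw [Module.finrank_fin_fun] at this
  omega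

/-- A matrix with every vector an eigenvector is scalar. -/
lemma scalar_of_all_eigen {κ : Type} [Fintype κ] [DecidableEq κ] [Nonempty κ] {B : Matrix κ κ F}
    (h : ∀ b, ∃ s : F, B *ᵥ b = s • b) : ∃ s : F, B = s • 1 := by
  choose s hs using fun i : κ => h (Pi.single i 1)
  have hent : ∀ i j, B i j = if i = j then s j else 0 := fun i j => by
    have := congrFun (hs j) i
    simpa [Pi.single_apply] using this
  refine ⟨s (Classical.arbitrary κ), ?_⟩
  ext i j
  rw [hent, Matrix.smul_apply, Matrix.one_apply]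
  by_cases hij : i = j
  · subst hij
    obtain ⟨t, ht⟩ := h (Pi.single i 1 + Pi.single (Classical.arbitrary κ) 1)
    set o := Classical.arbitrary κ
    rw [mulVec_add, hs, hs] at ht
    simp only [if_true, smul_eq_mul, mul_one]
    by_cases hio : i = o
    · rw [hio]
    have h1 := congrFun ht i
    have h2 := congrFun ht o
    simp [Pi.single_apply, hio, Ne.symm hio] at h1 h2
    rw [h1, h2]
  · simp [hij]

variable {Q : (ι → F) → F} (hQ : IsNondegenerateQuadraticForm Q)

lemma sieg_image {u x : ι → F} (hu : Q u = 0) (hx : QuadraticMap.polar Q u x = 0) (v : ι → F) :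
    (sieg hQ hu hx : Matrix ι ι F) *ᵥ v - v ∈ Submodule.span F {x, u} := by
  rw [sieg_mulVec hQ hu hx, add_assoc, add_sub_cancel_left]
  exact Submodule.mem_span_pair.mpr ⟨_, _, rfl⟩

lemma sieg_image_le {u x : ι → F} : Module.finrank F (Submodule.span F ({x, u} : Set (ι → F))) ≤ 2 := by
  classical
  have h := finrank_span_finset_le_card (R := F) ({x, u} : Finset (ι → F))
  rw [Set.finrank, Finset.coe_insert, Finset.coe_singleton] at h
  exact h.trans Finset.card_le_two

include hQ

variable [Fintype F]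

/-- Some Siegel element is nontrivial. -/
lemma exists_sieg (h2 : (2 : F) ≠ 0) (hn : 3 ≤ Fintype.card ι) :
    ∃ (u x : ι → F) (hu : Q u = 0) (hx : QuadraticMap.polar Q u x = 0), Q x ≠ 0 ∧ sieg hQ hu hx ≠ 1 := by
  obtain ⟨u, z, hu0, hu, hz⟩ := exists_isotropic_quad hQ h2 hn
  obtain ⟨x, hx, hQx⟩ := exists_quad_ne_zero_perp hQ h2 hn u
  refine ⟨u, x, hu, hx, hQx, fun h1 => ?_⟩
  have := sieg_mulVec hQ hu hx x
  rw [h1, Units.val_one, one_mulVec, polar_symm Q x u, hx, polar_self_eq hQ, zero_smul, add_zero, mul_zero, sub_zero,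
    left_eq_add, smul_eq_zero, neg_eq_zero] at this
  exact this.elim (mul_ne_zero h2 hQx) hu0

/-- `Ω` stabilises no decomposition into blocks of dimension at least three. -/
theorem omega_not_le_blocks (h2 : (2 : F) ≠ 0) {t m : ℕ} {D : Fin t → Submodule F (ι → F)}
    (hD : IsMDecomposition m D) (hm : 3 ≤ m) : ¬ omegaGL Q ≤ decompositionStabilizer D := by
  intro hle
  have ht := hD.two_le
  let i : Fin t := ⟨0, by omega⟩
  have hcard := decomposition_card hD
  have hn : 3 ≤ Fintype.card ι := by nlinarith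
  have h0 : D i ≠ ⊥ := fun h => by
    have := hD.finrank_eq i
    rw [h, finrank_bot] at this
    omega
  have h1 : D i ≠ ⊤ := fun h => by
    have := hD.finrank_eq i
    rw [h, finrank_top, Module.finrank_fintype_fun_eq_card, ← hcard] at this
    nlinarith
  refine siegel_not_stable hQ h2 hn h0 h1 fun u x hu hx hQx v hv => ?_
  obtain ⟨π, hπ⟩ := hle (sieg_mem_omega hQ h2 hu hx hQx)
  have := block_fixed_of_small_image hD (lt_of_le_of_lt sieg_image_le (show 2 < m by omega))
    (sieg_image hQ hu hx) hπ i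
  rw [← this, ← hπ i]
  exact ⟨v, hv, Matrix.toLin'_apply _ _⟩

/-- `Ω` normalises no field of degree at least three. -/
theorem omega_not_le_field (h2 : (2 : F) ≠ 0) (hn : 5 ≤ Fintype.card ι) {r : ℕ} (hr : 3 ≤ r)
    {K : Subalgebra F (Matrix ι ι F)} (hK : IsFieldSubalgebra r K) : ¬ omegaGL Q ≤ subalgebraNormalizer K := by
  intro hle
  obtain ⟨u, x, hu, hx, hQx, hne⟩ := exists_sieg hQ h2 (by omega)
  exact hne (eq_one_of_small_image_field hr hn hK sieg_image_le (sieg_image hQ hu hx)
    (hle (sieg_mem_omega hQ h2 hu hx hQx)))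

/-- `Ω` preserves no tensor square. -/
theorem omega_not_le_square (h2 : (2 : F) ≠ 0) {d : ℕ} (hd : 3 ≤ d) (e : ι ≃ (Fin 2 → Fin d)) (P : GL ι F) :
    ¬ omegaGL Q ≤ tensorWreathSubgroup d 2 e P := by
  intro hle
  have hn : 3 ≤ Fintype.card ι := by
    rw [Fintype.card_congr e, Fintype.card_fun, Fintype.card_fin, Fintype.card_fin]; nlinarith
  have : Nonempty (Fin d) := ⟨⟨0, by omega⟩⟩
  obtain ⟨u, x, hu, hx, hQx, hne⟩ := exists_sieg hQ h2 hn
  have hx' : QuadraticMap.polar Q u ((2 : F)⁻¹ • x) = 0 := by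
    rw [hQ.polar_bilinear.smul_right, hx, mul_zero]
  have hQx' : Q ((2 : F)⁻¹ • x) ≠ 0 := by
    rw [hQ.smul]; exact mul_ne_zero (pow_ne_zero _ (inv_ne_zero h2)) hQx
  set h := sieg hQ hu hx'
  have hsq : h * h = sieg hQ hu hx := by
    refine Units.ext (Matrix.toLin'.injective (LinearMap.ext fun v => ?_))
    rw [Units.val_mul, Matrix.toLin'_apply, Matrix.toLin'_apply, ← mulVec_mulVec]
    show LinearMap.toMatrix' (siegLin hQ u _) *ᵥ (LinearMap.toMatrix' (siegLin hQ u _) *ᵥ v) =
      LinearMap.toMatrix' (siegLin hQ u x) *ᵥ v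
    rw [LinearMap.toMatrix'_mulVec, LinearMap.toMatrix'_mulVec, LinearMap.toMatrix'_mulVec,
      siegLin_add hQ hu hx' hx', ← add_smul, ← two_mul, mul_inv_cancel₀ h2, one_smul]
  obtain ⟨_, ⟨X, hX, rfl⟩, hXh⟩ := hle (sieg_mem_omega hQ h2 hu hx' hQx')
  obtain ⟨a, σ, ha⟩ := exists_tens_perm hX
  set c : Fin 2 → Matrix (Fin d) (Fin d) F := fun i => (a i : Matrix _ _ F) * (a (σ.symm i) : Matrix _ _ F)
  have hσσ : σ * σ = 1 := (by decide : ∀ τ : Equiv.Perm (Fin 2), τ * τ = 1) σ
  have hXX : ((X * X : GL (Fin 2 → Fin d) F) : Matrix _ _ F) = tens c := by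
    rw [Units.val_mul, ha, mul_assoc, ← mul_assoc (permMat d σ), permMat_mul_tens, mul_assoc, ← mul_assoc,
      tens_mul]
    have : permMat d σ * permMat d σ = (1 : Matrix (Fin 2 → Fin d) (Fin 2 → Fin d) F) := by
      ext y z
      rw [permMat_mul_apply]
      have h1 : ∀ i, σ (σ i) = i := fun i => by rw [← Equiv.Perm.mul_apply, hσσ]; rfl
      simp [permMat, Matrix.one_apply, Function.comp_def, h1, eq_comm]
    rw [this, mul_one]
  let p := piFinTwoEquiv fun _ : Fin 2 => Fin d
  let e' : ι ≃ Fin d × Fin d := e.trans p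
  have hg : (sieg hQ hu hx : Matrix ι ι F) = (P : Matrix ι ι F) * (c 0 ⊗ₖ c 1).submatrix e' e' *
      ((P⁻¹ : GL ι F) : Matrix ι ι F) := by
    rw [← hsq, show h = MulAut.conj P ((glReindex e.symm).toMonoidHom X) from hXh.symm, ← map_mul, ← map_mul]
    show (P : Matrix ι ι F) * ((X * X : GL (Fin 2 → Fin d) F) : Matrix _ _ F).submatrix e e *
      ((P⁻¹ : GL ι F) : Matrix ι ι F) = _
    rw [hXX]
    congr 2
    ext i j
    simp [tens, e', p, Fin.prod_univ_two, piFinTwoEquiv]
  let T : (ι → F) →ₗ[F] (Fin d × Fin d → F) :=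
    (LinearMap.funLeft F F e'.symm).comp (Matrix.toLin' ((P⁻¹ : GL ι F) : Matrix ι ι F))
  set U := (Submodule.span F ({x, u} : Set (ι → F))).map T
  have hU : Module.finrank F U ≤ 2 := le_trans (Submodule.finrank_map_le _ _) sieg_image_le
  have hTU : ∀ v, (c 0 ⊗ₖ c 1) *ᵥ v - v ∈ U := by
    intro v
    refine ⟨_, sieg_image hQ hu hx ((P : Matrix ι ι F) *ᵥ (v ∘ e')), ?_⟩
    simp only [T, LinearMap.comp_apply, Matrix.toLin'_apply, mulVec_sub, mulVec_mulVec, hg, mul_assoc,
      Units.inv_mul, mul_one, one_mulVec]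
    rw [← mul_assoc, Units.inv_mul, one_mul]
    funext z
    simp [LinearMap.funLeft_apply, Matrix.submatrix_mulVec_equiv, Function.comp_assoc]
  obtain ⟨s, hs⟩ := scalar_of_all_eigen (second_factor_scalar (A := c 0) (lt_of_le_of_lt hU (by omega)) hTU)
  let sw : (Fin d × Fin d → F) →ₗ[F] (Fin d × Fin d → F) := LinearMap.funLeft F F Prod.swap
  obtain ⟨t, ht⟩ := scalar_of_all_eigen (second_factor_scalar (A := c 1) (B := c 0) (U := U.map sw)
    (lt_of_le_of_lt (le_trans (Submodule.finrank_map_le _ _) hU) (by omega)) fun v => by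
      refine ⟨_, hTU (v ∘ Prod.swap), ?_⟩
      funext z
      simp only [sw, LinearMap.funLeft_apply, Pi.sub_apply, Function.comp, Prod.swap_swap, mulVec, dotProduct,
        kroneckerMap_apply]
      congr 1
      refine Fintype.sum_equiv (Equiv.prodComm _ _) _ _ fun w => ?_
      obtain ⟨i, j⟩ := z
      obtain ⟨k, l⟩ := w
      simp [mul_comm])
  have hts : c 0 ⊗ₖ c 1 = (t * s) • (1 : Matrix (Fin d × Fin d) (Fin d × Fin d) F) := by
    rw [ht, hs, Matrix.smul_kronecker, Matrix.kronecker_smul, one_kronecker_one, smul_smul]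
  by_cases hts1 : t * s = 1
  · apply hne
    refine Units.ext ?_
    rw [hg, hts, hts1, one_smul, submatrix_one_equiv, mul_one, Units.mul_inv, Units.val_one]
  · have htop : U = ⊤ := eq_top_iff.mpr fun v _ => by
      have := hTU ((t * s - 1)⁻¹ • v)
      rwa [hts, smul_mulVec, one_mulVec, smul_smul, ← sub_smul, ← sub_one_mul,
        mul_inv_cancel₀ (sub_ne_zero.mpr hts1), one_smul] at this
    have := hU
    rw [htop, finrank_top, Module.finrank_fintype_fun_eq_card, Fintype.card_prod, Fintype.card_fin] at this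
    nlinarith

/-- Over three elements isometric blocks of dimension three refine to a frame. -/
theorem blocks_three_to_frame (hq : Fintype.card F = 3) {t : ℕ} {D : Fin t → Submodule F (ι → F)}
    (hD : IsOrthogonalMDecomposition Q 3 D) {G : Subgroup (GL ι F)} (hiso : G ≤ isometryGroup F Q)
    (hG : G ≤ decompositionStabilizer D) :
    ∃ D' : Fin (Fintype.card ι) → Submodule F (ι → F), IsOrthogonalMDecomposition Q 1 D' ∧
      G ≤ decompositionStabilizer D' := by
  classical
  have h2 : (2 : F) ≠ 0 := odd_card_iff_two_ne_zero.mp (by rw [hq]; decide)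
  have hDd := hD.decomp.decomp
  let i0 : Fin t := ⟨0, by have := hDd.two_le; omega⟩
  let b0 : Module.Basis (Fin 3) F (D i0) := (Module.finBasisOfFinrankEq F _ (hDd.finrank_eq i0))
  set B : Matrix (Fin 3) (Fin 3) F := Matrix.of fun a b => QuadraticMap.polar Q (b0 a : ι → F) (b0 b) with hB
  have hBt : Bᵀ = B := by ext a b; exact polar_symm Q _ _
  have hBu : IsUnit B := by
    rw [Matrix.isUnit_iff_isUnit_det, isUnit_iff_ne_zero]
    intro hdet
    obtain ⟨v, hv, hv0⟩ := Matrix.exists_mulVec_eq_zero_iff.mpr hdet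
    set w : D i0 := ∑ a, v a • b0 a with hw
    have hwne : w ≠ 0 := fun h => hv (funext fun a => Fintype.linearIndependent_iff.mp b0.linearIndependent v h a)
    obtain ⟨-, y, hy, hy0⟩ := hD.decomp.nondegenerate i0 w w.2 (fun h => hwne (Subtype.ext h))
    apply hy0
    let φ : D i0 →ₗ[F] F :=
      { toFun := fun z => QuadraticMap.polar Q (z : ι → F) w
        map_add' := fun a c => by simp only [Submodule.coe_add, hQ.polar_bilinear.add_left]
        map_smul' := fun c a => by simp only [Submodule.coe_smul, hQ.polar_bilinear.smul_left, RingHom.id_apply, smul_eq_mul] }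
    have hφ : φ = 0 := b0.ext fun a => by
      let ψ : D i0 →ₗ[F] F :=
        { toFun := fun z => QuadraticMap.polar Q (b0 a : ι → F) z
          map_add' := fun x c => by simp only [Submodule.coe_add, hQ.polar_bilinear.add_right]
          map_smul' := fun c x => by simp only [Submodule.coe_smul, hQ.polar_bilinear.smul_right, RingHom.id_apply, smul_eq_mul] }
      show ψ w = 0
      rw [hw, map_sum]
      have := congrFun hv0 a
      simp only [mulVec, dotProduct, Pi.zero_apply] at this
      rw [← this]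
      exact Finset.sum_congr rfl fun c _ => by rw [map_smul, smul_eq_mul, mul_comm]; rfl
    have h := LinearMap.congr_fun hφ ⟨y, hy⟩
    rw [polar_symm]
    exact h
  obtain ⟨X, s, hs, hX⟩ := exists_congr_scalar_one h2 (by decide : Odd 3) hBu hBt
  rw [map_refl] at hX
  set f : Fin 3 → D i0 := fun a => ∑ c, (X : Matrix (Fin 3) (Fin 3) F) c a • b0 c with hf
  have hfdot : ∀ a c, QuadraticMap.polar Q (f a : ι → F) (f c) = if a = c then s else 0 := by
    intro a c
    let ψ : D i0 →ₗ[F] D i0 →ₗ[F] F := LinearMap.mk₂ F (fun x y => QuadraticMap.polar Q (x : ι → F) y)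
      (fun x y z => by simp only [Submodule.coe_add, hQ.polar_bilinear.add_left])
      (fun r x y => by simp only [Submodule.coe_smul, hQ.polar_bilinear.smul_left, smul_eq_mul])
      (fun x y z => by simp only [Submodule.coe_add, hQ.polar_bilinear.add_right])
      (fun r x y => by simp only [Submodule.coe_smul, hQ.polar_bilinear.smul_right, smul_eq_mul])
    show ψ (f a) (f c) = _
    have e : ψ (f a) (f c) = ((X : Matrix (Fin 3) (Fin 3) F)ᵀ * B * (X : Matrix (Fin 3) (Fin 3) F)) a c := by
      simp only [hf, map_sum, map_smul, LinearMap.sum_apply, LinearMap.smul_apply, smul_eq_mul, Matrix.mul_apply,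
        transpose_apply, Finset.mul_sum, Finset.sum_mul]
      exact Finset.sum_congr rfl fun p _ => Finset.sum_congr rfl fun r _ => by
        simp only [hB, Matrix.of_apply, ψ, LinearMap.mk₂_apply]; ring
    rw [e, hX]
    simp [Matrix.one_apply]
  choose E hE using fun l => hD.isometric i0 l
  have hEpol : ∀ l (x y : D i0), QuadraticMap.polar Q (E l x : ι → F) (E l y) = QuadraticMap.polar Q (x : ι → F) y := by
    intro l x y
    simp only [QuadraticMap.polar, ← Submodule.coe_add, ← map_add, hE]
  let en : Fin t × Fin 3 ≃ ι := Fintype.equivOfCardEq (by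
    rw [Fintype.card_prod, Fintype.card_fin, Fintype.card_fin, decomposition_card hDd])
  set v : ι → ι → F := fun i => (E (en.symm i).1 (f (en.symm i).2) : ι → F) with hvdef
  have hven : ∀ l a, v (en (l, a)) = (E l (f a) : ι → F) := fun l a => by
    have key : ∀ p : Fin t × Fin 3, p = (l, a) → (E p.1 (f p.2) : ι → F) = E l (f a) := by rintro _ rfl; rfl
    exact key _ (en.symm_apply_apply _)
  have hvg : ∀ i j, QuadraticMap.polar Q (v i) (v j) = if i = j then s else 0 := by
    intro i j
    obtain ⟨⟨l, a⟩, rfl⟩ := en.surjective i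
    obtain ⟨⟨l', c⟩, rfl⟩ := en.surjective j
    simp only [hven, en.injective.eq_iff, Prod.mk.injEq]
    by_cases h : l = l'
    · subst h
      rw [hEpol, hfdot]; simp
    · rw [if_neg (fun hh => h hh.1)]
      exact hD.decomp.orthogonal l l' h _ (E l _).2 _ (E l' _).2
  have hpolsum : ∀ {κ : Type} [Fintype κ] (k : κ → F) (w : κ → ι → F) (y : ι → F),
      QuadraticMap.polar Q (∑ c, k c • w c) y = ∑ c, k c * QuadraticMap.polar Q (w c) y := by
    intro κ _ k w y
    let ψ : (ι → F) →ₗ[F] F :=
      { toFun := fun x => QuadraticMap.polar Q x y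
        map_add' := fun a b => hQ.polar_bilinear.add_left a b y
        map_smul' := fun c a => hQ.polar_bilinear.smul_left c a y }
    show ψ _ = _
    rw [map_sum]
    exact Finset.sum_congr rfl fun c _ => map_smul ψ _ _
  have hXu : IsUnit (Matrix.of fun r i => v i r : Matrix ι ι F) := by
    refine Matrix.linearIndependent_cols_iff_isUnit.mp (show LinearIndependent F v from ?_)
    refine Fintype.linearIndependent_iff.mpr fun k hk j => ?_
    have h := hpolsum k v (v j)
    rw [hk] at h
    simp only [hvg, mul_ite, mul_zero, Finset.sum_ite_eq', Finset.mem_univ, if_true] at h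
    rw [show QuadraticMap.polar Q 0 (v j) = 0 by simpa using hQ.polar_bilinear.smul_left 0 0 (v j)] at h
    exact (mul_eq_zero.mp h.symm).resolve_right hs
  have hcol : ∀ i, (hXu.unit : Matrix ι ι F) *ᵥ Pi.single i 1 = v i := by
    intro i; ext r; simp [IsUnit.unit_spec]
  obtain ⟨D', hD', hG', hspan⟩ := frame_decomposition_span hQ.polar_bilinear
    (by rw [← decomposition_card hDd]; have := hDd.two_le; omega) hs
    (X := hXu.unit) (G := G) (fun i j => by rw [hcol, hcol]; exact hvg i j) (by
      intro g hg j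
      obtain ⟨⟨l, a⟩, rfl⟩ := en.surjective j
      obtain ⟨π, hπ⟩ := hG hg
      have hmem : (g : Matrix ι ι F) *ᵥ v (en (l, a)) ∈ D (π l) := by
        rw [← hπ l]
        refine ⟨v (en (l, a)), ?_, Matrix.toLin'_apply _ _⟩
        rw [hven]
        exact (E l _).2
      have hli : LinearIndependent F fun c => v (en (π l, c)) := by
        refine Fintype.linearIndependent_iff.mpr fun k hk j => ?_
        have h := hpolsum k (fun c => v (en (π l, c))) (v (en (π l, j)))
        rw [hk] at h
        simp only [hvg, en.injective.eq_iff, Prod.mk.injEq, true_and, mul_ite, mul_zero, Finset.sum_ite_eq', Finset.mem_univ, if_true] at h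
        rw [show QuadraticMap.polar Q 0 (v (en (π l, j))) = 0 by simpa using hQ.polar_bilinear.smul_left 0 0 _] at h
        exact (mul_eq_zero.mp h.symm).resolve_right hs
      have hsp : Submodule.span F (Set.range fun c => v (en (π l, c))) = D (π l) := by
        refine Submodule.eq_of_le_of_finrank_le (Submodule.span_le.mpr ?_) ?_
        · rintro _ ⟨c, rfl⟩
          simp only [hven]
          exact (E (π l) _).2
        · rw [hDd.finrank_eq, finrank_span_eq_card hli, Fintype.card_fin]
      rw [← hsp, Submodule.mem_span_range_iff_exists_fun] at hmem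
      obtain ⟨k, hk⟩ := hmem
      have hnorm : ∑ c, k c * k c = 1 := by
        have hg' : QuadraticMap.polar Q ((g : Matrix ι ι F) *ᵥ v (en (l, a))) ((g : Matrix ι ι F) *ᵥ v (en (l, a))) = s := by
          have hi : ∀ w, Q ((g : Matrix ι ι F) *ᵥ w) = Q w := fun w => hiso hg w w
          rw [QuadraticMap.polar, ← mulVec_add, hi, hi]
          exact (hvg _ _).trans (if_pos rfl)
        have h : ∀ c, QuadraticMap.polar Q (v (en (π l, c))) (∑ c, k c • v (en (π l, c))) = k c * s := by
          intro c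
          rw [polar_symm, hpolsum]
          simp [hvg]
        rw [← hk, hpolsum] at hg'
        refine mul_right_cancel₀ hs ?_
        rw [Finset.sum_mul, one_mul]
        conv_rhs => rw [← hg']
        exact Finset.sum_congr rfl fun c _ => by rw [h, mul_assoc]
      obtain ⟨c, -, hc⟩ := weight_one_of_three hq hnorm
      refine ⟨en (π l, c), k c, ?_⟩
      rw [hcol, hcol, ← hk, Finset.sum_eq_single c (fun d _ hd => by rw [hc d hd, zero_smul]) (by simp)])
  refine ⟨D', ⟨hD', fun a b => ?_⟩, hG'⟩
  obtain ⟨i, hi⟩ := hspan a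
  obtain ⟨j, hj⟩ := hspan b
  rw [hcol] at hi hj
  have hne : ∀ i, v i ≠ 0 := fun i h0 => hs (by
    have := hvg i i
    rw [if_pos rfl, h0] at this
    rw [← this]; simpa using hQ.polar_bilinear.smul_left 0 0 0)
  refine ⟨(LinearEquiv.ofEq _ _ hi).trans (((LinearEquiv.toSpanNonzeroSingleton F _ (v i) (hne i)).symm.trans
    (LinearEquiv.toSpanNonzeroSingleton F _ (v j) (hne j))).trans (LinearEquiv.ofEq _ _ hj.symm)), fun w => ?_⟩
  obtain ⟨d, hd⟩ := Submodule.mem_span_singleton.mp (hi ▸ w.2 : (w : ι → F) ∈ Submodule.span F {v i})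
  have e : (LinearEquiv.ofEq _ _ hi) w = LinearEquiv.toSpanNonzeroSingleton F _ (v i) (hne i) d :=
    Subtype.ext (by simp [hd])
  rw [LinearEquiv.trans_apply, LinearEquiv.trans_apply, LinearEquiv.trans_apply, e, LinearEquiv.symm_apply_apply,
    LinearEquiv.coe_ofEq_apply, LinearEquiv.toSpanNonzeroSingleton_apply]
  rw [← hd, hQ.smul, hQ.smul]
  congr 1
  refine mul_left_cancel₀ h2 ?_
  rw [← polar_self_eq hQ, ← polar_self_eq hQ, hvg, hvg, if_pos rfl, if_pos rfl]

/-- Over three elements a stabiliser of a hyperbolic plane fixes a non-degenerate line. -/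
theorem plus_plane_line {G : Subgroup (GL ι F)} (hfixQ : ∀ g ∈ G, ∀ v, Q ((g : Matrix ι ι F) *ᵥ v) = Q v)
    (h2 : (2 : F) ≠ 0) {W : Submodule F (ι → F)} (hW : IsNondegenerateOn (QuadraticMap.polar Q) W)
    (h : G ≤ subspaceStabilizer W) (hbad : Fintype.card F = 3 ∧ Module.finrank F W = 2 ∧ IsPlusTypeOn Q W) :
    ∃ v1 : ι → F, v1 ≠ 0 ∧ IsNondegenerateOn (QuadraticMap.polar Q) (Submodule.span F {v1}) ∧
      G ≤ subspaceStabilizer (Submodule.span F {v1}) := by
  obtain ⟨hq3, hW2, U, hUW, hUs, hU2⟩ := hbad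
  obtain ⟨e, he, he0⟩ := U.ne_bot_iff.mp (fun h' => by rw [h', finrank_bot] at hU2; omega)
  obtain ⟨-, x, hx, hex⟩ := hW e (hUW he) he0
  set x' := (QuadraticMap.polar Q e x)⁻¹ • x with hx'
  have hex' : QuadraticMap.polar Q e x' = 1 := by
    rw [hx', hQ.polar_bilinear.smul_right, inv_mul_cancel₀ hex]
  have hxW : x' ∈ W := W.smul_mem _ hx
  clear_value x'
  set f' := x' + (-Q x') • e with hf'
  have hee : QuadraticMap.polar Q e e = 0 := by rw [polar_self_eq hQ, hUs e he, mul_zero]
  have hff : Q f' = 0 := by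
    rw [hf', quad_add hQ, hQ.smul, hUs e he, hQ.polar_bilinear.smul_right, polar_symm Q x' e, hex']; ring
  have hef : QuadraticMap.polar Q e f' = 1 := by
    rw [hf', hQ.polar_bilinear.add_right, hQ.polar_bilinear.smul_right, hex', hee, mul_zero, add_zero]
  have hfW : f' ∈ W := W.add_mem hxW (W.smul_mem _ (hUW he))
  have hli : LinearIndependent F ![e, f'] := by
    rw [LinearIndependent.pair_iff]
    intro s t hst
    have hz : QuadraticMap.polar Q e 0 = 0 := by simpa using hQ.polar_bilinear.smul_right 0 e 0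
    have ht : t = 0 := by
      have h' := congrArg (QuadraticMap.polar Q e) hst
      rw [hQ.polar_bilinear.add_right, hQ.polar_bilinear.smul_right, hQ.polar_bilinear.smul_right, hee, hef,
        hz] at h'
      simpa using h'
    rw [ht, zero_smul, add_zero] at hst
    exact ⟨(smul_eq_zero.mp hst).resolve_right he0, ht⟩
  have hspan : W = Submodule.span F (Set.range ![e, f']) := by
    refine (Submodule.eq_of_le_of_finrank_le (Submodule.span_le.mpr ?_) ?_).symm
    · rintro _ ⟨i, rfl⟩; fin_cases i
      · exact hUW he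
      · exact hfW
    · rw [finrank_span_eq_card hli, Fintype.card_fin, hW2]
  set v1 := e + f' with hv1
  have hv1Q : Q v1 = 1 := by rw [hv1, quad_add hQ, hUs e he, hff, hef]; ring
  have hfree : ∀ g ∈ G, (g : Matrix ι ι F) *ᵥ v1 ∈ F ∙ v1 := by
    intro g hg
    have hgW := CfsgLib.Geo.mem_subspaceStabilizer.mp (h hg) v1 (W.add_mem (hUW he) hfW)
    rw [hspan, Submodule.mem_span_range_iff_exists_fun] at hgW
    obtain ⟨c, hc⟩ := hgW
    rw [Fin.sum_univ_two] at hc
    simp only [Matrix.cons_val_zero, Matrix.cons_val_one] at hc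
    have hval : c 0 * c 1 = 1 := by
      have h' := hfixQ _ hg v1
      rw [← hc, quad_add hQ, hQ.smul, hQ.smul, hUs e he, hff, hQ.polar_bilinear.smul_left,
        hQ.polar_bilinear.smul_right, hef, hv1Q] at h'
      linear_combination h'
    have hc0 : c 0 ≠ 0 := left_ne_zero_of_mul_eq_one hval
    have hsq : c 0 ^ 2 = 1 := by
      have := FiniteField.pow_card_sub_one_eq_one (c 0) hc0
      rwa [hq3] at this
    have heq : c 1 = c 0 := mul_left_cancel₀ hc0 (hval.trans (by rw [← hsq, sq]))
    rw [← hc, heq, ← smul_add]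
    exact Submodule.smul_mem _ _ (Submodule.mem_span_singleton_self _)
  have hv10 : v1 ≠ 0 := by
    intro h'
    rw [h', show Q 0 = 0 by simpa using hQ.smul 0 0] at hv1Q
    exact zero_ne_one hv1Q
  have hL : IsNondegenerateOn (QuadraticMap.polar Q) (F ∙ v1) := by
    intro w hw hw0
    obtain ⟨c, rfl⟩ := Submodule.mem_span_singleton.mp hw
    have hc : c ≠ 0 := fun h' => hw0 (by rw [h', zero_smul])
    refine ⟨⟨v1, Submodule.mem_span_singleton_self _, ?_⟩, v1, Submodule.mem_span_singleton_self _, ?_⟩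
    · rw [hQ.polar_bilinear.smul_right, polar_self_eq hQ, hv1Q, mul_one]; exact mul_ne_zero hc h2
    · rw [hQ.polar_bilinear.smul_left, polar_self_eq hQ, hv1Q, mul_one]; exact mul_ne_zero hc h2
  have hLs : G ≤ subspaceStabilizer (F ∙ v1) := fun g hg => CfsgLib.Geo.mem_subspaceStabilizer.mpr fun w hw => by
    obtain ⟨c, rfl⟩ := Submodule.mem_span_singleton.mp hw
    rw [mulVec_smul]
    exact Submodule.smul_mem _ _ (hfree g hg)
  exact ⟨v1, hv10, hL, hLs⟩

end CfsgLib.Aschbacher
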