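import Cfsg.Agent.Aschbacher.Form.OrthEvenTensor
import Cfsg.Agent.Aschbacher.Form.OrthEvenRational
import Cfsg.Agent.Aschbacher.Form.OrthEvenStructure
import Cfsg.Agent.Aschbacher.Form.SiegelMember

/-!
Aschbacher's theorem for groups of isometries of a quadratic form of minus type in dimension eight.
-/
set_option autoImplicit false
set_option maxHeartbeats 1000000

namespace CfsgLib.Aschbacher

open Matrix Cfsg Cfsg.Geo CfsgLib.GeoClifford
open scoped MatrixGroups Kronecker

variable {ι : Type} [Fintype ι] [DecidableEq ι] {F : Type*} [Field F] [Fintype F] {Q : (ι → F) → F}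

namespace OE

omit [Fintype ι] [DecidableEq ι] [Fintype F] in
/-- The image of an injective linear map with singular values. -/
lemma ts_of_linear {k : ℕ} (L : (Fin k → F) →ₗ[F] (ι → F)) (hL : Function.Injective L) (h : ∀ w, Q (L w) = 0) :
    ∃ T : Submodule F (ι → F), IsTotallySingularQuad Q T ∧ Module.finrank F T = k :=
  ⟨LinearMap.range L, by rintro _ ⟨w, rfl⟩; exact h w, by
    rw [LinearMap.finrank_range_of_inj hL, Module.finrank_fin_fun]⟩

/-- Over two elements a stabiliser of a hyperbolic plane fixes its non-singular vector. -/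
theorem plus_plane_vector (hQ : IsNondegenerateQuadraticForm Q) {G : Subgroup (GL ι F)}
    (hfixQ : ∀ g ∈ G, ∀ v, Q ((g : Matrix ι ι F) *ᵥ v) = Q v) (hq : Fintype.card F = 2)
    {W : Submodule F (ι → F)} (hW : IsNondegenerateOn (QuadraticMap.polar Q) W) (hW2 : Module.finrank F W = 2)
    (hplus : IsPlusTypeOn Q W) (hG : G ≤ subspaceStabilizer W) :
    ∃ v : ι → F, Q v ≠ 0 ∧ G ≤ subspaceStabilizer (Submodule.span F {v}) := by
  obtain ⟨U, hUW, hUs, hU2⟩ := hplus
  obtain ⟨e, he, he0⟩ := U.ne_bot_iff.mp (fun h' => by rw [h', finrank_bot] at hU2; omega)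
  obtain ⟨-, x, hx, hex⟩ := hW e (hUW he) he0
  have h01 : ∀ a : F, a = 0 ∨ a = 1 := fun a => eq_zero_or_one_of_card_two hq a
  have h2 : (2 : F) = 0 := by
    by_contra h
    rcases h01 2 with h' | h'
    · exact h h'
    · exact one_ne_zero (α := F) (by linear_combination h')
  have hex1 : QuadraticMap.polar Q e x = 1 := (h01 _).resolve_left hex
  obtain ⟨v, hv, hQv, hev⟩ : ∃ v ∈ W, Q v = 1 ∧ QuadraticMap.polar Q e v = 1 := by
    rcases h01 (Q x) with h | h
    · exact ⟨e + x, W.add_mem (hUW he) hx, by rw [quad_add hQ, hUs e he, h, hex1, add_zero, zero_add],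
        by rw [hQ.polar_bilinear.add_right, polar_self_eq hQ, hUs e he, mul_zero, zero_add, hex1]⟩
    · exact ⟨x, hx, h, hex1⟩
  have hli : LinearIndependent F ![e, v] := by
    rw [LinearIndependent.pair_iff]
    intro s t hst
    have h' := congrArg (QuadraticMap.polar Q e) hst
    rw [hQ.polar_bilinear.add_right, hQ.polar_bilinear.smul_right, hQ.polar_bilinear.smul_right, hev,
      polar_self_eq hQ, hUs e he, mul_zero, mul_zero, zero_add, mul_one,
      show QuadraticMap.polar Q e 0 = 0 by simpa using hQ.polar_bilinear.smul_right 0 e 0] at h'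
    rw [h', zero_smul, add_zero] at hst
    exact ⟨(smul_eq_zero.mp hst).resolve_right he0, h'⟩
  have hspan : W = Submodule.span F (Set.range ![e, v]) := by
    refine (Submodule.eq_of_le_of_finrank_le (Submodule.span_le.mpr ?_) ?_).symm
    · rintro _ ⟨i, rfl⟩; fin_cases i
      · exact hUW he
      · exact hv
    · rw [finrank_span_eq_card hli, Fintype.card_fin, hW2]
  refine ⟨v, by rw [hQv]; exact one_ne_zero, fun g hg => CfsgLib.Geo.mem_subspaceStabilizer.mpr fun w hw => ?_⟩
  obtain ⟨c, rfl⟩ := Submodule.mem_span_singleton.mp hw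
  have hgv : (g : Matrix ι ι F) *ᵥ v = v := by
    have hgW := CfsgLib.Geo.mem_subspaceStabilizer.mp (hG hg) v hv
    rw [hspan, Submodule.mem_span_range_iff_exists_fun] at hgW
    obtain ⟨d, hd⟩ := hgW
    rw [Fin.sum_univ_two] at hd
    simp only [Matrix.cons_val_zero, Matrix.cons_val_one] at hd
    have h := hfixQ g hg v
    rw [← hd, quad_add hQ, hQ.smul, hQ.smul, hUs e he, hQv, hQ.polar_bilinear.smul_left,
      hQ.polar_bilinear.smul_right, hev] at h
    rcases h01 (d 0) with h0 | h0 <;> rcases h01 (d 1) with h1 | h1 <;> rw [h0, h1] at h hd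
    · simp at h
    · rw [← hd, zero_smul, zero_add, one_smul]
    · simp at h
    · exact absurd (show (1 : F) = 0 by linear_combination h) one_ne_zero
  rw [mulVec_smul, hgv]
  exact Submodule.smul_mem _ _ (Submodule.mem_span_singleton_self v)

/-- Isometries of determinant one of a symmetric binary form commute. -/
lemma comm_of_orth_two (h2 : (2 : F) ≠ 0) {B g g' : Matrix (Fin 2) (Fin 2) F} (hB : IsUnit B) (hBt : Bᵀ = B) (hd : g.det = 1)
    (hd' : g'.det = 1) (hg : gᵀ * B * g = B) (hg' : g'ᵀ * B * g' = B) : g * g' = g' * g := by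
  have hB0 : B 0 0 * B 1 1 - B 0 1 * B 0 1 ≠ 0 := by
    have h := ((Matrix.isUnit_iff_isUnit_det _).mp hB).ne_zero
    rw [Matrix.det_fin_two, show B 1 0 = B 0 1 from congrFun (congrFun hBt 0) 1] at h
    exact h
  have key : ∀ {h : Matrix (Fin 2) (Fin 2) F}, h.det = 1 → hᵀ * B * h = B →
      B 0 0 * h 0 1 + B 1 1 * h 1 0 = 0 ∧ B 0 0 * (h 1 1 - h 0 0) = 2 * B 0 1 * h 1 0 ∧
      B 1 1 * (h 1 1 - h 0 0) = -(2 * B 0 1 * h 0 1) := by
    intro h hh1 hh2
    have hadj : B * h = (Matrix.adjugate h)ᵀ * B := by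
      have e : (Matrix.adjugate h)ᵀ * hᵀ = 1 := by
        rw [← transpose_mul, Matrix.mul_adjugate, hh1, one_smul, transpose_one]
      calc B * h = ((Matrix.adjugate h)ᵀ * hᵀ) * (B * h) := by rw [e, one_mul]
        _ = (Matrix.adjugate h)ᵀ * B := by rw [mul_assoc, ← mul_assoc hᵀ, hh2]
    have e00 := congrFun (congrFun hadj 0) 0
    have e01 := congrFun (congrFun hadj 0) 1
    have e11 := congrFun (congrFun hadj 1) 1
    simp [Matrix.mul_apply, Fin.sum_univ_two, Matrix.adjugate_fin_two,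
      show B 1 0 = B 0 1 from congrFun (congrFun hBt 0) 1] at e00 e01 e11
    exact ⟨by linear_combination e01, by linear_combination -e00, by linear_combination e11⟩
  obtain ⟨a1, b1, c1⟩ := key hd hg
  obtain ⟨a2, b2, c2⟩ := key hd' hg'
  have cross : g 0 1 * g' 1 0 = g' 0 1 * g 1 0 ∧ g 0 1 * (g' 1 1 - g' 0 0) = g' 0 1 * (g 1 1 - g 0 0) ∧
      g 1 0 * (g' 1 1 - g' 0 0) = g' 1 0 * (g 1 1 - g 0 0) := by
    by_cases h : B 0 0 = 0
    · have hb : B 0 1 ≠ 0 := fun hb => hB0 (by rw [h, hb]; ring)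
      have h2b : (2 : F) * B 0 1 ≠ 0 := mul_ne_zero h2 hb
      have e1 : g 1 0 = 0 := by
        rw [h, zero_mul] at b1
        exact (mul_eq_zero.mp b1.symm).resolve_left h2b
      have e2 : g' 1 0 = 0 := by
        rw [h, zero_mul] at b2
        exact (mul_eq_zero.mp b2.symm).resolve_left h2b
      refine ⟨by rw [e1, e2]; ring, mul_left_cancel₀ h2b ?_, by rw [e1, e2]; ring⟩
      linear_combination (g' 1 1 - g' 0 0) * c1 - (g 1 1 - g 0 0) * c2
    · refine ⟨mul_left_cancel₀ h ?_, mul_left_cancel₀ (mul_ne_zero h h) ?_, mul_left_cancel₀ h ?_⟩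
      · linear_combination g' 1 0 * a1 - g 1 0 * a2
      · linear_combination (B 0 0 * (g' 1 1 - g' 0 0)) * a1 - B 1 1 * g 1 0 * b2 -
          (B 0 0 * (g 1 1 - g 0 0)) * a2 + B 1 1 * g' 1 0 * b1
      · linear_combination g 1 0 * b2 - g' 1 0 * b1
  obtain ⟨x1, x2, x3⟩ := cross
  ext i j
  fin_cases i <;> fin_cases j <;> simp [Matrix.mul_apply, Fin.sum_univ_two]
  · linear_combination x1
  · linear_combination x2
  · linear_combination -x3
  · linear_combination -x1

/-- The outcomes for groups of isometries of a form of minus type in dimension eight. -/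
def EightOutcome (Q : (ι → F) → F) (G : Subgroup (GL ι F)) : Prop :=
  (∃ W : Submodule F (ι → F), W ≠ ⊥ ∧ IsTotallySingularQuad Q W ∧ G ≤ subspaceStabilizer W) ∨
  (Odd (Fintype.card F) ∧ ∃ W : Submodule F (ι → F), W ≠ ⊥ ∧ W ≠ ⊤ ∧ Odd (Module.finrank F W) ∧
    IsNondegenerateOn (QuadraticMap.polar Q) W ∧ G ≤ subspaceStabilizer W) ∨
  (∃ W : Submodule F (ι → F), Module.finrank F W = 2 ∧ IsNondegenerateOn (QuadraticMap.polar Q) W ∧
    ¬ IsPlusTypeOn Q W ∧ G ≤ subspaceStabilizer W) ∨
  (4 ≤ Fintype.card F ∧ ∃ W : Submodule F (ι → F), Module.finrank F W = 2 ∧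
    IsNondegenerateOn (QuadraticMap.polar Q) W ∧ IsPlusTypeOn Q W ∧ G ≤ subspaceStabilizer W) ∨
  (∃ W : Submodule F (ι → F), Module.finrank F W = 4 ∧ IsNondegenerateOn (QuadraticMap.polar Q) W ∧
    G ≤ subspaceStabilizer W) ∨
  (¬ Odd (Fintype.card F) ∧ ∃ v : ι → F, Q v ≠ 0 ∧ G ≤ subspaceStabilizer (Submodule.span F {v})) ∨
  (∃ K : Subalgebra F (Matrix ι ι F), IsFieldSubalgebra 2 K ∧ G ≤ subalgebraNormalizer K) ∨
  (∃ (F₀ : Subfield F) (r : ℕ) (P : GL ι F) (ζ : F), r.Prime ∧ Odd r ∧ Fintype.card F = Nat.card F₀ ^ r ∧ ζ ≠ 0 ∧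
    IsQuadFormRationalStructure (fun v => ζ * Q v) F₀ P ∧ G ≤ subfieldSubgroup F₀ P) ∨
  InOrthogonalResidualClass G

/-- A non-degenerate invariant subspace of dimension at most four. -/
theorem eight_nondeg (hQ : IsNondegenerateQuadraticForm Q) (h8 : Fintype.card ι = 8) {G : Subgroup (GL ι F)}
    (hfixQ : ∀ g ∈ G, ∀ v, Q ((g : Matrix ι ι F) *ᵥ v) = Q v) {W : Submodule F (ι → F)} (h0 : W ≠ ⊥) (h1 : W ≠ ⊤)
    (hle : 2 * Module.finrank F W ≤ Fintype.card ι) (hW : IsNondegenerateOn (QuadraticMap.polar Q) W)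
    (hG : G ≤ subspaceStabilizer W) : EightOutcome Q G := by
  have hpos : 0 < Module.finrank F W := Nat.pos_of_ne_zero fun h => h0 (Submodule.finrank_eq_zero.mp h)
  by_cases hodd : Odd (Module.finrank F W)
  · refine Or.inr (Or.inl ⟨?_, W, h0, h1, hodd, hW, hG⟩)
    refine odd_card_iff_two_ne_zero.mpr fun h2 => ?_
    have hs := isSymplectic_polar h2 hQ
    exact (Nat.not_even_iff_odd.mpr hodd) (even_finrank_of_alternating hs.bilinear (fun v => hs.alternating v) W hW)
  by_cases h2 : Module.finrank F W = 2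
  · by_cases hp : IsPlusTypeOn Q W
    swap
    · exact Or.inr (Or.inr (Or.inl ⟨W, h2, hW, hp, hG⟩))
    by_cases h4 : 4 ≤ Fintype.card F
    · exact Or.inr (Or.inr (Or.inr (Or.inl ⟨h4, W, h2, hW, hp, hG⟩)))
    have hq := Fintype.one_lt_card (α := F)
    rcases (show Fintype.card F = 2 ∨ Fintype.card F = 3 by omega) with h | h
    · obtain ⟨v, hv, hvs⟩ := plus_plane_vector hQ hfixQ h hW h2 hp hG
      exact Or.inr (Or.inr (Or.inr (Or.inr (Or.inr (Or.inl ⟨by rw [h]; decide, v, hv, hvs⟩)))))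
    · have h2' : (2 : F) ≠ 0 := odd_card_iff_two_ne_zero.mp (by rw [h]; decide)
      obtain ⟨v, hv, hvn, hvs⟩ := plus_plane_line hQ hfixQ h2' hW hG ⟨h, h2, hp⟩
      refine Or.inr (Or.inl ⟨by rw [h]; decide, _, fun h' => hv (Submodule.span_singleton_eq_bot.mp h'), fun h' => ?_,
        by rw [finrank_span_singleton hv]; decide, hvn, hvs⟩)
      have := congrArg (fun S : Submodule F (ι → F) => Module.finrank F S) h'
      simp only [finrank_span_singleton hv, finrank_top, Module.finrank_fintype_fun_eq_card, h8] at this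
      omega
  refine Or.inr (Or.inr (Or.inr (Or.inr (Or.inl ⟨W, ?_, hW, hG⟩))))
  rw [h8] at hle
  rw [Nat.not_odd_iff_even, Nat.even_iff] at hodd
  omega

/-- A tensor decomposition in dimension eight gives a commutative algebra or plus type. -/
theorem eight_tensor (hQ : IsNondegenerateQuadraticForm Q) (h8 : Fintype.card ι = 8) [Nonempty ι]
    (hR : IsRefl (RingEquiv.refl F) (1 : F) (QuadraticMap.polar Q)) {G : Subgroup (GL ι F)}
    (hfixQ : ∀ g ∈ G, ∀ v, Q ((g : Matrix ι ι F) *ᵥ v) = Q v) (hirr : ActsIrreducibly (matrixSet G))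
    {n₁ n₂ : ℕ} {e : ι ≃ Fin n₁ × Fin n₂} {P : GL ι F} {B : Matrix (Fin n₁) (Fin n₁) F}
    {C : Matrix (Fin n₂) (Fin n₂) F} (hT : IsTensorGram (RingEquiv.refl F) (QuadraticMap.polar Q) G e P B C) :
    IsPlusTypeOn Q ⊤ ∨ HasFormDecomposition (QuadraticMap.polar Q) G ∨ HasFormField hR G := by
  classical
  have hfix := fixes_polar hfixQ
  have hcard := hT.card_eq
  have h12 : (n₁ = 2 ∧ n₂ = 4) ∨ (n₁ = 4 ∧ n₂ = 2) := by
    have := hT.two_le_left
    have := hT.two_le_right
    rw [h8] at hcard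
    have : n₁ ≤ 4 := by nlinarith
    interval_cases n₁ <;> omega
  obtain ⟨a, ha, hB, hC⟩ := hR.tensor_sym hT
  rw [RingEquiv.refl_apply] at ha
  rw [map_refl] at hB hC
  rw [one_smul] at hC
  -- the subspace of pure tensors with fixed first factor
  have key : ∀ {n n' : ℕ} {e : ι ≃ Fin n × Fin n'} (i : Fin n),
      n' = 4 → (∀ y : Fin n' → F, Q ((P : Matrix ι ι F) *ᵥ
        ((fun p => (Pi.single i 1 : Fin n → F) p.1 * y p.2) ∘ e)) = 0) → IsPlusTypeOn Q ⊤ := by
    intro n n' e i hn' h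
    let L : (Fin n' → F) →ₗ[F] (ι → F) :=
      { toFun := fun y => (P : Matrix ι ι F) *ᵥ ((fun p => (Pi.single i 1 : Fin n → F) p.1 * y p.2) ∘ e)
        map_add' := fun y y' => by rw [← mulVec_add]; congr 1; funext l; simp [mul_add]
        map_smul' := fun c y => by rw [RingHom.id_apply, ← mulVec_smul]; congr 1; funext l; simp [mul_left_comm] }
    obtain ⟨T, hTs, hTd⟩ := ts_of_linear L (fun y y' hy => by
      funext l
      simp only [L, LinearMap.coe_mk, AddHom.coe_mk] at hy
      have := congrFun (mulVec_injective_GL P hy) (e.symm (i, l))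
      simpa using this) h
    exact plus_of_ts hTs (by rw [hTd, hn', h8])
  by_cases h2 : (2 : F) = 0
  · left
    have ha1 : a = 1 := by
      have : (a - 1) * (a - 1) = 0 := by linear_combination ha + (1 - a) * h2
      exact sub_eq_zero.mp (mul_self_eq_zero.mp this)
    rw [ha1, one_smul] at hB hC
    have hdiag : ∀ i j, B i i * C j j = 0 := by
      intro i j
      have h1 := form_of_gram hR.sesq e (P : Matrix ι ι F) _ 1 (by rw [one_smul]; exact hT.gram)
        (Pi.single (i, j) 1) (Pi.single (i, j) 1)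
      rw [(isSymplectic_polar h2 hQ).alternating, one_mul, formOfGram_eq,
        show (RingEquiv.refl F) ∘ (Pi.single (i, j) 1 : Fin n₁ × Fin n₂ → F) = Pi.single (i, j) 1 from rfl] at h1
      simpa using h1.symm
    obtain ⟨hall, hall'⟩ : (∀ (x : Fin n₁ → F) (y : Fin n₂ → F), Q ((P : Matrix ι ι F) *ᵥ ((fun p => x p.1 * y p.2) ∘ e)) = 0) ∧
        (∀ (x : Fin n₂ → F) (y : Fin n₁ → F), Q ((P : Matrix ι ι F) *ᵥ ((fun p => x p.1 * y p.2) ∘ (e.trans (Equiv.prodComm _ _)))) = 0) := by
      have hsw : ∀ (x : Fin n₂ → F) (y : Fin n₁ → F),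
          ((fun p : Fin n₂ × Fin n₁ => x p.1 * y p.2) ∘ (e.trans (Equiv.prodComm _ _))) =
            ((fun p : Fin n₁ × Fin n₂ => y p.1 * x p.2) ∘ e) := fun x y => funext fun l => mul_comm _ _
      by_cases hBd : ∀ i, B i i = 0
      · have h := tensor_pure_singular h2 hQ hfixQ hirr hT hB hC hBd
        exact ⟨h, fun x y => by rw [hsw]; exact h y x⟩
      · push Not at hBd
        obtain ⟨i, hi⟩ := hBd
        have h := tensor_pure_singular h2 hQ hfixQ hirr hT.swap hC hB
          fun j => (mul_eq_zero.mp (hdiag i j)).resolve_left hi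
        exact ⟨fun x y => by rw [← hsw]; exact h y x, h⟩
    rcases h12 with ⟨h1', h2'⟩ | ⟨h1', h2'⟩
    · exact key (e := e) (⟨0, lt_of_lt_of_le two_pos hT.two_le_left⟩ : Fin n₁) h2' fun y => hall _ y
    · exact key (e := e.trans (Equiv.prodComm _ _)) (⟨0, lt_of_lt_of_le two_pos hT.two_le_right⟩ : Fin n₂) h1' fun y => hall' _ y
  rcases mul_self_eq_one_iff.mp ha with h1 | h1
  · rw [h1, one_smul] at hB hC
    right
    have alg : ∀ {n n' : ℕ} {e : ι ≃ Fin n × Fin n'} {B : Matrix (Fin n) (Fin n) F} {C : Matrix (Fin n') (Fin n') F},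
        IsTensorGram (RingEquiv.refl F) (QuadraticMap.polar Q) G e P B C → Cᵀ = C → n' = 2 →
        HasFormDecomposition (QuadraticMap.polar Q) G ∨ HasFormField hR G := by
      intro n n' e B C hT hC hn'
      subst hn'
      obtain ⟨R, hcomm, hst, hadj, hR0⟩ := two_algebra_refl hR h2 hfix hT hC
      exact hR.commutative_cases' hfix hirr hcomm hst hadj hR0
    rcases h12 with ⟨h1', h2'⟩ | ⟨h1', h2'⟩
    · exact alg hT.swap hB h1'
    · exact alg hT hC h2'
  left
  rw [h1, neg_one_smul] at hB hC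
  have hC' : Cᵀ = -C := neg_eq_iff_eq_neg.mp hC
  have skewkey : ∀ {n n' : ℕ} {e : ι ≃ Fin n × Fin n'} {B : Matrix (Fin n) (Fin n) F}
      {C : Matrix (Fin n') (Fin n') F}, IsTensorGram (RingEquiv.refl F) (QuadraticMap.polar Q) G e P B C →
      Bᵀ = -B → n' = 4 → IsPlusTypeOn Q ⊤ := by
    intro n n' e B C hT hB hn'
    refine key (e := e) ⟨0, lt_of_lt_of_le two_pos hT.two_le_left⟩ hn' fun y => ?_
    set i0 : Fin n := ⟨0, lt_of_lt_of_le two_pos hT.two_le_left⟩
    set v : ι → F := (P : Matrix ι ι F) *ᵥ ((fun p => (Pi.single i0 1 : Fin n → F) p.1 * y p.2) ∘ e)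
    have h1 := form_of_gram hR.sesq e (P : Matrix ι ι F) _ 1 (by rw [one_smul]; exact hT.gram)
      (fun p => (Pi.single i0 1 : Fin n → F) p.1 * y p.2) (fun p => (Pi.single i0 1 : Fin n → F) p.1 * y p.2)
    have hB0 : B i0 i0 = 0 := by simpa using self_eq_zero_of_skew h2 hB (Pi.single i0 1)
    rw [formOfGram_eq] at h1
    have h3 : QuadraticMap.polar Q v v = 0 := by
      refine h1.trans ?_
      simp [dotProduct, mulVec, Fintype.sum_prod_type, kroneckerMap_apply, Pi.single_apply, hB0]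
    rw [polar_self_eq hQ] at h3
    exact (mul_eq_zero.mp h3).resolve_left h2
  rcases h12 with ⟨h1', h2'⟩ | ⟨h1', h2'⟩
  · exact skewkey hT hB h2'
  · exact skewkey hT.swap hC' h1'

/-- A tensor power in dimension eight gives plus type. -/
theorem eight_power (hQ : IsNondegenerateQuadraticForm Q) (h8 : Fintype.card ι = 8)
    (hR : IsRefl (RingEquiv.refl F) (1 : F) (QuadraticMap.polar Q)) {G : Subgroup (GL ι F)}
    (hfixQ : ∀ g ∈ G, ∀ v, Q ((g : Matrix ι ι F) *ᵥ v) = Q v) (hirr : ActsIrreducibly (matrixSet G))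
    {t d : ℕ} {e : ι ≃ (Fin t → Fin d)} {P : GL ι F} {B : Matrix (Fin d) (Fin d) F} {c : F} (ht : 2 ≤ t) (hd : 2 ≤ d)
    (hP : IsPowerGram (RingEquiv.refl F) (QuadraticMap.polar Q) G e P B c) {K : Subgroup (GL (Fin d) F)} (hK0 : K ≠ ⊥)
    (hKp : ⁅K, K⁆ = K)
    (hKf : ∀ g ∈ K, (g : Matrix (Fin d) (Fin d) F)ᵀ * B * (g : Matrix (Fin d) (Fin d) F).map (RingEquiv.refl F) = B) :
    IsPlusTypeOn Q ⊤ := by
  classical
  set f := QuadraticMap.polar Q with hfdef
  have hfix : FixesForm (matrixSet G) f := fixes_polar hfixQ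
  have hcard : d ^ t = 8 := by
    rw [← h8, Fintype.card_congr e, Fintype.card_fun, Fintype.card_fin, Fintype.card_fin]
  obtain ⟨rfl, rfl⟩ : d = 2 ∧ t = 3 := by
    have ht3 : t ≤ 3 := by
      by_contra h
      have h1 : 2 ^ 4 ≤ d ^ t :=
        le_trans (Nat.pow_le_pow_left hd 4) (Nat.pow_le_pow_right (by omega) (by omega))
      omega
    interval_cases t
    · exfalso
      have : d ≤ 2 := by nlinarith
      interval_cases d
      omega
    · refine ⟨?_, rfl⟩
      have : d ≤ 2 := by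
        by_contra h
        have := Nat.pow_le_pow_left (show 3 ≤ d by omega) 3
        omega
      omega
  obtain ⟨a, ha, hB, hct⟩ := hP.sym hR (by omega) (by omega)
  rw [RingEquiv.refl_apply] at ha hct
  rw [map_refl] at hB
  by_cases h2 : (2 : F) = 0
  · have ha1 : a = 1 := by
      have : (a - 1) * (a - 1) = 0 := by linear_combination ha + (1 - a) * h2
      exact sub_eq_zero.mp (mul_self_eq_zero.mp this)
    rw [ha1, one_smul] at hB
    have hf : IsSymplecticForm f := isSymplectic_polar h2 hQ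
    have hval : ∀ x y : Fin 3 → Fin 2 → F,
        f ((P : Matrix ι ι F) *ᵥ (pureTensor x ∘ e)) ((P : Matrix ι ι F) *ᵥ (pureTensor y ∘ e)) =
          c * ∏ i, x i ⬝ᵥ (B *ᵥ y i) := fun x y => by
      rw [form_of_gram hR.sesq e (P : Matrix ι ι F) _ c hP.gram, formOfGram_eq, ← tens_pure]
      rfl
    have hB0 : ∀ x, x ⬝ᵥ (B *ᵥ x) = 0 := by
      refine alt_of_diag h2 hB fun i => ?_
      have h1 := hval (fun _ => Pi.single i 1) (fun _ => Pi.single i 1)
      rw [hf.alternating] at h1
      have h3 := (mul_eq_zero.mp h1.symm).resolve_left hP.ne_zero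
      obtain ⟨k, -, hk⟩ := Finset.prod_eq_zero_iff.mp h3
      simpa using hk
    obtain ⟨Q₀, hQ₀, hQf, hQb⟩ := exists_quad_of_basis h2 hf P
    have hz : ∀ (S : Finset (Fin 3)) (x : Fin 3 → Fin 2 → F), (∀ i ∉ S, ∃ p, x i = Pi.single p 1) →
        Q₀ ((P : Matrix ι ι F) *ᵥ (pureTensor x ∘ e)) = 0 := by
      intro S
      induction S using Finset.induction_on with
      | empty =>
        intro x hx
        choose p hp using fun i => hx i (Finset.notMem_empty i)
        rw [show x = fun i => Pi.single (p i) 1 from funext hp, pureTensor_single]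
        convert hQb (e.symm p)
        funext i
        simp [Pi.single_apply, Equiv.eq_symm_apply]
      | insert k S hk ih =>
        intro x hx
        obtain ⟨k', hk'⟩ : ∃ k', k' ≠ k := by
          have : Nontrivial (Fin 3) := Fin.nontrivial_iff_two_le.mpr ht
          exact exists_ne k
        have hsum : pureTensor x ∘ e = ∑ p, x k p • (pureTensor (Function.update x k (Pi.single p 1)) ∘ e) := by
          funext i
          rw [Function.comp_apply, pureTensor_update x k, Finset.sum_apply, Finset.sum_apply]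
          rfl
        rw [hsum, mulVec_sum]
        simp only [mulVec_smul]
        refine quad_sum_eq_zero hQ₀ _ _ _ (fun p _ q _ => ?_) fun p _ => ih _ fun i hi => ?_
        · rw [hQf, hval, Finset.prod_eq_zero (Finset.mem_univ k'), mul_zero]
          rw [Function.update_of_ne hk', Function.update_of_ne hk']
          exact hB0 _
        · by_cases hik : i = k
          · subst hik; exact ⟨p, Function.update_self _ _ _⟩
          · obtain ⟨p', hp'⟩ := hx i (by simp [hik, hi])
            exact ⟨p', by rw [Function.update_of_ne hik, hp']⟩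
    suffices hQQ : Q = Q₀ by
      have hQe : ∀ a, Q ((P : Matrix ι ι F) *ᵥ Pi.single a 1) = 0 := fun a => by rw [hQQ]; exact hQb a
      have hB00 : B 0 0 = 0 := by simpa using hB0 (Pi.single 0 1)
      have hvli : LinearIndependent F fun a : {a : Fin 3 → Fin 2 // a 0 = 0} =>
          (P : Matrix ι ι F) *ᵥ (Pi.single (e.symm a.1) 1 : ι → F) :=
        ((Pi.linearIndependent_single_one ι F).comp (fun a : {a : Fin 3 → Fin 2 // a 0 = 0} => e.symm a.1)
          (e.symm.injective.comp Subtype.val_injective)).map'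
            (Matrix.toLin' (P : Matrix ι ι F)) (LinearMap.ker_eq_bot.mpr (mulVec_injective_GL P))
      refine plus_of_ts (T := Submodule.span F (Set.range fun a : {a : Fin 3 → Fin 2 // a 0 = 0} =>
          (P : Matrix ι ι F) *ᵥ (Pi.single (e.symm a.1) 1 : ι → F))) (fun w hw => ?_) ?_
      · obtain ⟨co, rfl⟩ := (Submodule.mem_span_range_iff_exists_fun F).mp hw
        refine quad_sum_eq_zero hQ _ _ _ (fun p _ q _ => ?_) fun p _ => hQe _
        have hps : ∀ a : Fin 3 → Fin 2,
            (Pi.single (e.symm a) 1 : ι → F) = pureTensor (fun i => (Pi.single (a i) 1 : Fin 2 → F)) ∘ e := by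
          intro a
          rw [pureTensor_single]
          funext i
          simp [Pi.single_apply, Equiv.eq_symm_apply]
        rw [hps, hps]
        change f _ _ = 0
        rw [hval, Finset.prod_eq_zero (Finset.mem_univ 0), mul_zero]
        simp [p.2, q.2, hB00]
      · rw [finrank_span_eq_card hvli, h8]
        decide
    refine quad_eq_of_polar_eq (by omega) hirr hQ.smul hQ₀.smul (fun u v => (hQf u v).symm)
      (forall_matrixSet.mpr hfixQ) (forall_matrixSet.mpr fun g hg v => ?_)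
    refine quad_eq_of_cols h2 hQ₀ (fun u v => by rw [hQf, hQf]; exact hfix _ (coe_mem_matrixSet hg) u v) hQb
      (fun b => ?_) v
    obtain ⟨gs, π, s, hs0, hg'⟩ := hP.form g hg
    have e1 : (g : Matrix ι ι F) * (P : Matrix ι ι F) = (P : Matrix ι ι F) *
        (s • (tens (fun i => (gs i : Matrix (Fin 2) (Fin 2) F)) * permMat 2 π).submatrix e e) := by
      rw [← hg']; simp [← mul_assoc]
    rw [mulVec_mulVec, e1, ← mulVec_mulVec]
    have e2 : (s • (tens (fun i => (gs i : Matrix (Fin 2) (Fin 2) F)) * permMat 2 π).submatrix e e) *ᵥ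
        Pi.single b 1 = s • (pureTensor (fun i p => (gs i : Matrix (Fin 2) (Fin 2) F) p (e b (π.symm i))) ∘ e) := by
      funext i
      simp only [mulVec_single_one, Pi.smul_apply, Matrix.col_apply, Matrix.smul_apply, submatrix_apply]
      rw [mul_permMat_apply]
      rfl
    rw [e2, mulVec_smul, hQ₀.smul, hz Finset.univ _ (fun i hi => absurd (Finset.mem_univ i) hi), mul_zero]
  have ha1 : a = 1 := by
    rcases mul_self_eq_one_iff.mp ha with h | h
    · exact h
    · exfalso
      rw [h] at hct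
      exact mul_ne_zero h2 hP.ne_zero (by linear_combination -hct)
  rw [ha1, one_smul] at hB
  exfalso
  have hdet : ∀ k ∈ K, (k : Matrix (Fin 2) (Fin 2) F).det = 1 := by
    intro k hk
    have hle : K ≤ (Matrix.GeneralLinearGroup.det : GL (Fin 2) F →* Fˣ).ker := by
      rw [← hKp, Subgroup.commutator_le]
      intro x _ y _
      rw [MonoidHom.mem_ker, map_commutatorElement, commutatorElement_eq_one_iff_mul_comm, mul_comm]
    have := congrArg Units.val (MonoidHom.mem_ker.mp (hle hk))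
    simpa using this
  apply hK0
  rw [← hKp, Subgroup.eq_bot_iff_forall]
  intro k hk
  refine (Subgroup.mem_bot.mp ((Subgroup.commutator_le.mpr fun x hx y hy => ?_) hk))
  rw [Subgroup.mem_bot, commutatorElement_eq_one_iff_mul_comm]
  have hx' := hKf x hx
  have hy' := hKf y hy
  rw [map_refl] at hx' hy'
  exact Units.ext (comm_of_orth_two h2 hP.unit hB (hdet x hx) (hdet y hy) hx' hy')

/-- Groups of isometries of a quadratic form of minus type in dimension eight. -/
theorem eight_minus_structure (hQ : IsNondegenerateQuadraticForm Q) (h8 : Fintype.card ι = 8)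
    (hminus : ¬ IsPlusTypeOn Q ⊤) {G : Subgroup (GL ι F)}
    (hfixQ : ∀ g ∈ G, ∀ v, Q ((g : Matrix ι ι F) *ᵥ v) = Q v) : EightOutcome Q G := by
  classical
  have : Nonempty ι := Fintype.card_pos_iff.mp (by omega)
  have hfix := fixes_polar hfixQ
  by_cases hirr : ActsIrreducibly (matrixSet G)
  swap
  · rcases reducible hQ hfix hirr with ⟨W, h0, hW, hG⟩ | ⟨W, h0, h1, hle, hW, hG⟩
    · rcases singular_or_vector hQ hfixQ h0 hW hG with h | h
      · exact Or.inl h
      · exact Or.inr (Or.inr (Or.inr (Or.inr (Or.inr (Or.inl h)))))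
    · exact eight_nondeg hQ h8 hfixQ h0 h1 hle hW hG
  have hR : IsRefl (RingEquiv.refl F) (1 : F) (QuadraticMap.polar Q) :=
    isRefl_of_symmetric ⟨hQ.polar_bilinear, polar_symm Q, hQ.nondegenerate⟩
  have hdec : HasFormDecomposition (QuadraticMap.polar Q) G → EightOutcome Q G := by
    rintro (⟨t, m, D, hD, hG⟩ | ⟨m, D, hm, hD, hts, hG⟩)
    · exact absurd (plus_of_decomposition_eight hQ h8 (isometric_of_transitive hfixQ hirr hD hG)) hminus
    · exact absurd (plus_of_halves hQ hfixQ hirr (by omega) hm hD hts hG) hminus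
  have hfield : HasFormField hR G → EightOutcome Q G := by
    rintro ⟨r, K, hK, hK0, hst, hadj⟩
    refine Or.inr (Or.inr (Or.inr (Or.inr (Or.inr (Or.inr (Or.inl ?_))))))
    rcases hR.bilinear_field rfl hfix hK hK0 hst hadj with ⟨s, L, hs, hL, -, hG⟩ | ⟨rfl, -⟩
    · have hd := fieldSubalgebra_dvd hL
      rw [h8, show (8 : ℕ) = 2 ^ 3 from rfl] at hd
      obtain rfl := (Nat.prime_dvd_prime_iff_eq hs Nat.prime_two).mp (hs.dvd_of_dvd_pow hd)
      exact ⟨L, hL, hG⟩
    · exact ⟨K, hK, le_subalgebraNormalizer hst⟩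
  have hsub : ∀ (N : Subgroup (GL ι F)), NormSub G N → ActsAbsolutelyIrreducibly (matrixSet N) →
      ∀ F₀ : Subfield F, F₀ ≠ ⊤ → RealisableOver F₀ (matrixSet N) → EightOutcome Q G := by
    intro N hN habs F₀ h0 hre
    obtain ⟨F₁, r, P, ζ, hr, hc, hζ, hP, hG⟩ := exists_quadRational_scaled (by omega) hQ hfixQ habs hN h0 hre
    rcases hr.eq_two_or_odd' with rfl | hodd
    · exact absurd (plus_of_index_two_eight hQ h8 hc hζ hP) hminus
    · exact Or.inr (Or.inr (Or.inr (Or.inr (Or.inr (Or.inr (Or.inr (Or.inl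
        ⟨F₁, r, P, ζ, hr, hodd, hc, hζ, hP, hG⟩)))))))
  rcases irreducible_structure hR (by omega) hfix hirr with h | h | ⟨n₁, n₂, e, P, B, C, hT⟩ |
    ⟨t, d, e, P, B, c, ht, hd, hP, K, hK0, hKp, hKf⟩ | ⟨N, hN, habs, h⟩
  · exact hdec h
  · exact hfield h
  · rcases eight_tensor hQ h8 hR hfixQ hirr hT with h | h | h
    · exact absurd h hminus
    · exact hdec h
    · exact hfield h
  · exact absurd (eight_power hQ h8 hR hfixQ hirr ht hd hP hK0 hKp hKf) hminus
  rcases h with ⟨F₀, h0, hre⟩ | ⟨h2, -, a, ha, b, hb, haa, hab⟩ | hcore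
  · exact hsub N hN habs F₀ h0 hre
  · exact absurd (plus_of_pair hQ h2 (j := 2) (by omega) (fun v => hfixQ a (hN.1 ha) v)
      (fun v => hfixQ b (hN.1 hb) v) haa hab) hminus
  by_cases hU : ∃ (σ : F ≃+* F) (g : (ι → F) → (ι → F) → F), IsUnitaryForm σ g ∧ FixesForm (matrixSet N) g
  · obtain ⟨σ, g, hg, hgfix⟩ := hU
    exact hsub N hN habs (fixSubfield σ) (fixSubfield_ne_top hg.ne_refl)
      (realisable_of_two_forms habs hg hgfix hQ.polar_bilinear hQ.nondegenerate
        (forall_matrixSet.mpr fun g hg => forall_matrixSet.mp hfix g (hN.1 hg)))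
  exact Or.inr (Or.inr (Or.inr (Or.inr (Or.inr (Or.inr (Or.inr (Or.inr ⟨N, hcore, hU⟩)))))))

end OE

end CfsgLib.Aschbacher
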