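import Cfsg.Agent.Aschbacher.Form.OrthEvenProper
import Cfsg.Agent.Geo.Basic

/-!
The commutator subgroup of an orthogonal group in dimension at least five stabilises no decomposition into
non-degenerate subspaces, in any characteristic.
-/
set_option autoImplicit false
set_option maxHeartbeats 800000

namespace CfsgLib.Aschbacher

open Matrix Cfsg Cfsg.Geo
open scoped MatrixGroups

namespace OE

variable {ι : Type} [Fintype ι] [DecidableEq ι] {F : Type*} [Field F] [Fintype F]
  {Q : (ι → F) → F} (hQ : IsNondegenerateQuadraticForm Q) (hn : 5 ≤ Fintype.card ι)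

include hQ hn

/-- `Ω` stabilises no decomposition into non-degenerate subspaces. -/
theorem not_le_decomposition {t m : ℕ} {D : Fin t → Submodule F (ι → F)}
    (hD : IsNondegenerateMDecomposition (QuadraticMap.polar Q) m D) :
    ¬ omegaGL Q ≤ decompositionStabilizer D := by
  classical
  intro hle
  obtain ⟨Q', rfl, hQ'⟩ := CfsgLib.Geo.OS.exists_quadraticForm hQ
  have hn' : 5 ≤ Module.finrank F (ι → F) := by rwa [Module.finrank_fintype_fun_eq_card]
  set C := commutator (CfsgLib.Quad.oGroup Q') with hC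
  set ψ : CfsgLib.Quad.oGroup Q' →* GL ι F :=
    (isometryGroup F ⇑Q').subtype.comp (CfsgLib.Quad.isoGroupEquiv Q').symm.toMonoidHom with hψ
  have hψv : ∀ g x, (ψ g : Matrix ι ι F) *ᵥ x = g.1 x := fun g x => by
    obtain ⟨y, rfl⟩ := (CfsgLib.Quad.isoGroupEquiv Q').surjective g
    rw [hψ, MonoidHom.comp_apply, MulEquiv.coe_toMonoidHom, MulEquiv.symm_apply_apply]
    rfl
  have hψC : C.map ψ = omegaGL ⇑Q' := by
    rw [hψ, ← Subgroup.map_map, hC, commutator_def, Subgroup.map_commutator,
      Subgroup.map_top_of_surjective _ (CfsgLib.Quad.isoGroupEquiv Q').symm.surjective]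
    rfl
  have hdisj : ∀ {i j : Fin t}, i ≠ j → ∀ w, w ∈ D i → w ∈ D j → w = 0 := fun h w h1 h2 =>
    (Submodule.mem_bot F).mp ((disjoint_iff.mp (hD.decomp.indep.pairwiseDisjoint h)).le ⟨h1, h2⟩)
  have hex : ∀ i, ∃ w ∈ D i, w ≠ 0 := fun i => (D i).ne_bot_iff.mp fun h => by
    have := hD.decomp.finrank_eq i
    rw [h, finrank_bot] at this
    have := hD.decomp.pos
    omega
  -- the permutation action
  have hperm : ∀ c : C, ∃ π : Equiv.Perm (Fin t), ∀ i, ∀ x ∈ D i, c.1.1 x ∈ D (π i) := by
    intro c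
    obtain ⟨π, hπ⟩ := hle (hψC ▸ ⟨c.1, c.2, rfl⟩ : ψ c.1 ∈ omegaGL ⇑Q')
    exact ⟨π, fun i x hx => by rw [← hψv, ← hπ i]; exact ⟨x, hx, Matrix.toLin'_apply _ _⟩⟩
  choose π hπ using hperm
  have huniq : ∀ (c : C) (σ : Fin t → Fin t), (∀ i, ∀ x ∈ D i, c.1.1 x ∈ D (σ i)) → ∀ i, π c i = σ i := by
    intro c σ hσ i
    by_contra h
    obtain ⟨w, hw, hw0⟩ := hex i
    exact hw0 (c.1.1.map_eq_zero_iff.mp (hdisj h _ (hπ c i w hw) (hσ i w hw)))
  let Φ : C →* Equiv.Perm (Fin t) :=
    { toFun := π
      map_one' := Equiv.ext fun i => huniq 1 id (fun i x hx => hx) i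
      map_mul' := fun a b => Equiv.ext fun i =>
        huniq (a * b) (fun i => π a (π b i)) (fun i x hx => hπ a _ _ (hπ b i x hx)) i }
  have hperf := CfsgLib.Quad.commutator_commutator_eq_top hQ' hn'
  have hsign : ∀ c, Equiv.Perm.sign (Φ c) = 1 := fun c => by
    have h : (⊤ : Subgroup C) ≤ (Equiv.Perm.sign.comp Φ).ker := by
      rw [← hperf, commutator_def, Subgroup.commutator_le]
      intro a _ b _
      rw [MonoidHom.mem_ker, map_commutatorElement, commutatorElement_eq_one_iff_mul_comm, mul_comm]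
    exact MonoidHom.mem_ker.mp (h (Subgroup.mem_top c))
  -- a quadratic element
  obtain ⟨e, -, he0, he⟩ := CfsgLib.Quad.exists_singular_of_three (Q := Q') (⊤ : Submodule F (ι → F))
    (by rw [finrank_top]; omega)
  set E := Submodule.span F {e}
  have hE : Module.finrank F E = 1 := finrank_span_singleton he0
  obtain ⟨a, haP, hQa, hae⟩ := CfsgLib.Geo.OS.exists_singular_outside hQ' (CfsgLib.Quad.perpS Q' E) E (by
    have := CfsgLib.Quad.finrank_perpS hQ' E; omega)
  have hea : QuadraticMap.polar Q' e a = 0 := haP e (Submodule.mem_span_singleton_self e)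
  set s : C := ⟨CfsgLib.Quad.siegel Q' e a, CfsgLib.Quad.siegel_mem_commutator hQ' hn' he hea⟩ with hs
  set U := Submodule.span F (Set.range ![e, a]) with hU
  have hU2 : Module.finrank F U ≤ 2 := (finrank_range_le_card _).trans (by simp)
  have hsx : ∀ x, s.1.1 x = x + QuadraticMap.polar Q' x e • a - QuadraticMap.polar Q' x a • e := fun x => by
    show (CfsgLib.Quad.siegel Q' e a).1 x = _
    rw [CfsgLib.Quad.siegel_apply he hea, hQa, zero_mul, add_zero]
  have hsU : ∀ x, s.1.1 x - x ∈ U := fun x => by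
    rw [hsx, add_sub_assoc, add_sub_cancel_left]
    exact U.sub_mem (U.smul_mem _ (Submodule.subset_span ⟨1, rfl⟩)) (U.smul_mem _ (Submodule.subset_span ⟨0, rfl⟩))
  have hse : s.1.1 e = e := by
    rw [hsx, hea, polar_self_eq hQ, he, mul_zero]
    simp
  have hsa : s.1.1 a = a := by
    rw [hsx, polar_self_eq hQ, hQa, mul_zero, QuadraticMap.polar_comm, hea]
    simp
  have hss : ∀ x, s.1.1 (s.1.1 x) = (2 : F) • s.1.1 x - x := fun x => by
    conv_lhs => rw [hsx x, map_sub, map_add, map_smul, map_smul, hse, hsa]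
    rw [two_smul, hsx x]
    abel
  set σ := π s with hσ
  have hfixed : σ = 1 := by
    have hinv : ∀ i, σ i ≠ i → σ (σ i) = i ∧ (2 : F) = 0 := by
      intro i hi
      obtain ⟨v, hv, hv0⟩ := hex i
      have h1 := hπ s i v hv
      have h2 := hπ s _ _ h1
      rw [hss] at h2
      rcases eq_or_ne (σ (σ i)) i with h | h
      · refine ⟨h, by_contra fun h2' => hv0 ?_⟩
        rw [h] at h2
        have h3 : (2 : F) • s.1.1 v ∈ D i := by simpa using (D i).add_mem h2 hv
        have h4 := hdisj hi _ h1 ((Submodule.smul_mem_iff _ h2').mp h3)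
        exact s.1.1.map_eq_zero_iff.mp h4
      · exfalso
        apply hv0
        refine Submodule.disjoint_def.mp (hD.decomp.indep i) v hv ?_
        have : v = (2 : F) • s.1.1 v - ((2 : F) • s.1.1 v - v) := by abel
        rw [this]
        exact Submodule.sub_mem _
          (Submodule.smul_mem _ _ (Submodule.mem_iSup_of_mem (σ i) (Submodule.mem_iSup_of_mem hi h1)))
          (Submodule.mem_iSup_of_mem (σ (σ i)) (Submodule.mem_iSup_of_mem h h2))
    by_contra hne
    obtain ⟨i, hi⟩ : ∃ i, σ i ≠ i := by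
      by_contra h
      push Not at h
      exact hne (Equiv.ext h)
    obtain ⟨hii, h2⟩ := hinv i hi
    have hm : 2 ≤ m := by
      by_contra h
      obtain ⟨v, hv, hv0⟩ := hex i
      obtain ⟨-, x, hx, hvx⟩ := hD.nondegenerate i v hv hv0
      have hspan : Submodule.span F {v} = D i :=
        Submodule.eq_of_le_of_finrank_le ((Submodule.span_singleton_le_iff_mem _ _).mpr hv)
          (by rw [hD.decomp.finrank_eq, finrank_span_singleton hv0]; omega)
      rw [← hspan] at hx
      obtain ⟨c, rfl⟩ := Submodule.mem_span_singleton.mp hx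
      apply hvx
      rw [hQ.polar_bilinear.smul_right, polar_self_eq hQ, h2, zero_mul, mul_zero]
    have himg : ∀ i, σ i ≠ i → U ≤ D i ⊔ D (σ i) := by
      intro i hi
      let L : D i →ₗ[F] (U ⊓ (D i ⊔ D (σ i)) : Submodule F (ι → F)) :=
        { toFun := fun v => ⟨s.1.1 v - v, hsU _,
            Submodule.sub_mem _ (Submodule.mem_sup_right (hπ s i v v.2)) (Submodule.mem_sup_left v.2)⟩
          map_add' := fun x y => Subtype.ext (by simp; abel)
          map_smul' := fun c x => Subtype.ext (by simp [smul_sub]) }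
      have hL : Function.Injective L := (injective_iff_map_eq_zero L).mpr fun v hv => Subtype.ext (by
        have h : s.1.1 (v : ι → F) = v := sub_eq_zero.mp (congrArg Subtype.val hv)
        have h1 := hπ s i v v.2
        rw [h] at h1
        exact hdisj (Ne.symm hi) _ v.2 h1)
      have h1 := LinearMap.finrank_le_finrank_of_injective hL
      rw [hD.decomp.finrank_eq] at h1
      exact inf_eq_left.mp (Submodule.eq_of_le_of_finrank_le inf_le_left (by omega))
    have hswap : σ = Equiv.swap i (σ i) := by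
      ext k
      rcases eq_or_ne k i with rfl | hki
      · rw [Equiv.swap_apply_left]
      rcases eq_or_ne k (σ i) with rfl | hkj
      · rw [Equiv.swap_apply_right, hii]
      rw [Equiv.swap_apply_of_ne_of_ne hki hkj]
      by_contra hk
      have hk' : σ k ≠ k := fun h => hk (by rw [h])
      have hnotmem : ∀ x ∈ D i ⊔ D (σ i), x ∈ D k ⊔ D (σ k) → x = 0 := by
        have hd := hD.decomp.indep.disjoint_biSup_biSup (s := ({i, σ i} : Set (Fin t))) (t := {k, σ k}) (by
          have e1 : σ k ≠ i := fun h => hkj (σ.injective (by rw [h, hii]))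
          have e2 : σ k ≠ σ i := fun h => hki (σ.injective h)
          simp [Set.disjoint_insert_left, Ne.symm hki, Ne.symm hkj, Ne.symm e1, Ne.symm e2, hki, hkj, e1, e2])
        rw [iSup_pair, iSup_pair] at hd
        exact fun x h1 h2 => Submodule.disjoint_def.mp hd x h1 h2
      exact he0 (hnotmem e (himg i hi (Submodule.subset_span ⟨0, rfl⟩)) (himg k hk' (Submodule.subset_span ⟨0, rfl⟩)))
    have h1 := hsign s
    rw [show Φ s = σ from rfl, hswap, Equiv.Perm.sign_swap (Ne.symm hi)] at h1
    exact absurd h1 (by decide)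
  -- the kernel is everything
  have hsZ : s ∉ Subgroup.center C := by
    intro h
    obtain ⟨c, -, hc⟩ := (CfsgLib.Quad.center_iff hQ' hn' s).mp h
    have hc1 : c = 1 := smul_left_injective F he0 (show c • e = (1 : F) • e by rw [← hc, hse, one_smul])
    obtain ⟨x, hx⟩ := CfsgLib.Quad.exists_polar_ne hQ' he0
    refine hae (Submodule.mem_span_singleton.mpr ⟨(QuadraticMap.polar Q' x e)⁻¹ * QuadraticMap.polar Q' x a, ?_⟩)
    have h1 := hc x
    rw [hsx, hc1, one_smul, add_sub_assoc, add_eq_left, sub_eq_zero] at h1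
    rw [← smul_smul, ← h1, smul_smul, inv_mul_cancel₀ (by rwa [QuadraticMap.polar_comm]), one_smul]
  have hsimp := CfsgLib.Quad.isSimpleGroup_omega hQ' hn'
  have htop : Φ.ker ⊔ Subgroup.center C = ⊤ := by
    rcases hsimp.eq_bot_or_eq_top_of_normal (Φ.ker.map (QuotientGroup.mk' (Subgroup.center C)))
        (Subgroup.Normal.map inferInstance _ (QuotientGroup.mk'_surjective _)) with h | h
    · rw [Subgroup.map_eq_bot_iff, QuotientGroup.ker_mk'] at h
      exact absurd (h (MonoidHom.mem_ker.mpr hfixed)) hsZ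
    · have h' := congrArg (Subgroup.comap (QuotientGroup.mk' (Subgroup.center C))) h
      rwa [Subgroup.comap_map_eq, QuotientGroup.ker_mk', Subgroup.comap_top] at h'
  have hall : ∀ (c : C) i, ∀ x ∈ D i, c.1.1 x ∈ D i := by
    intro c i x hx
    obtain ⟨k, hk, z, hz, rfl⟩ := Subgroup.mem_sup_of_normal_right.mp (htop ▸ Subgroup.mem_top c : c ∈ Φ.ker ⊔ Subgroup.center C)
    obtain ⟨b, -, hb⟩ := (CfsgLib.Quad.center_iff hQ' hn' z).mp hz
    have h1 := hπ k i _ ((D i).smul_mem b hx)
    rw [← hb, show π k = 1 from MonoidHom.mem_ker.mp hk] at h1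
    exact h1
  let i0 : Fin t := ⟨0, by have := hD.decomp.two_le; omega⟩
  let i1 : Fin t := ⟨1, by have := hD.decomp.two_le; omega⟩
  obtain ⟨w, hw, hw0⟩ := hex i0
  refine not_le_subspace hQ hn (W := D i0) (fun h => hw0 (by rwa [h, Submodule.mem_bot] at hw)) (fun h => ?_) ?_
  · obtain ⟨v, hv, hv0⟩ := hex i1
    exact hv0 (hdisj (show i1 ≠ i0 by simp [i0, i1]) v hv (h ▸ Submodule.mem_top))
  · rw [← hψC]
    rintro _ ⟨c, hc, rfl⟩
    exact CfsgLib.Geo.mem_subspaceStabilizer.mpr fun x hx => by rw [hψv]; exact hall ⟨c, hc⟩ i0 x hx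

end OE

end CfsgLib.Aschbacher
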