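import Cfsg.Agent.Aschbacher.General.Member
import Cfsg.Agent.Aschbacher.OrthogonalPrime
import Cfsg.Agent.Aschbacher.OrthogonalMember
import Cfsg.Agent.Geo.OrthSiegel

/-!
The commutator subgroup of an orthogonal group in dimension at least five and any characteristic acts absolutely
irreducibly and lies in no field normaliser and in no subfield group.
-/
set_option autoImplicit false
set_option maxHeartbeats 800000

namespace CfsgLib.Aschbacher

open Matrix Cfsg Cfsg.Geo CfsgLib.GeoClifford
open scoped MatrixGroups commutatorElement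

namespace OE

variable {ι : Type} [Fintype ι] [DecidableEq ι] {F : Type*} [Field F] [Fintype F]
  {Q : (ι → F) → F} (hQ : IsNondegenerateQuadraticForm Q) (hn : 5 ≤ Fintype.card ι)

include hQ hn

lemma exists_siegel_omega {e a : ι → F} (he : Q e = 0) (hea : QuadraticMap.polar Q e a = 0) :
    ∃ g ∈ omegaGL Q, ∀ x : ι → F, (g : Matrix ι ι F) *ᵥ x = x + QuadraticMap.polar Q x e • a -
      (QuadraticMap.polar Q x a + Q a * QuadraticMap.polar Q x e) • e := by
  obtain ⟨Q', rfl, hQ'⟩ := CfsgLib.Geo.OS.exists_quadraticForm hQ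
  have hn' : 5 ≤ Module.finrank F (ι → F) := by rwa [Module.finrank_fintype_fun_eq_card]
  set s := CfsgLib.Quad.siegel Q' e a with hs
  have hmem : s ∈ commutator (CfsgLib.Quad.oGroup Q') := CfsgLib.Quad.siegel_mem_commutator hQ' hn' he hea
  obtain ⟨y, hy⟩ := (CfsgLib.Quad.isoGroupEquiv Q').surjective s
  refine ⟨y.1, ⟨y, ?_, rfl⟩, fun x => ?_⟩
  · have h : (commutator (isometryGroup F ⇑Q')).map (CfsgLib.Quad.isoGroupEquiv Q').toMonoidHom =
        commutator (CfsgLib.Quad.oGroup Q') := by
      rw [commutator_def, Subgroup.map_commutator,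
        Subgroup.map_top_of_surjective _ (CfsgLib.Quad.isoGroupEquiv Q').surjective, commutator_def]
    rw [← hy, ← h, Subgroup.mem_map_equiv, MulEquiv.symm_apply_apply] at hmem
    exact hmem
  · rw [← CfsgLib.Quad.isoGroupEquiv_apply, hy, hs, CfsgLib.Quad.siegel_apply he hea]

lemma exists_singular : ∃ e : ι → F, e ≠ 0 ∧ Q e = 0 := by
  obtain ⟨Q', rfl, hQ'⟩ := CfsgLib.Geo.OS.exists_quadraticForm hQ
  obtain ⟨z, -, hz0, hz⟩ := CfsgLib.Quad.exists_singular_of_three (Q := Q') (⊤ : Submodule F (ι → F))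
    (by rw [finrank_top, Module.finrank_fintype_fun_eq_card]; omega)
  exact ⟨z, hz0, hz⟩

/-- A subspace stable under `Ω` is trivial. -/
theorem subspace_trivial {W : Submodule F (ι → F)} (hW : omegaGL Q ≤ subspaceStabilizer W) (h0 : W ≠ ⊥) : W = ⊤ := by
  obtain ⟨Q', rfl, hQ'⟩ := CfsgLib.Geo.OS.exists_quadraticForm hQ
  have hn' : 5 ≤ Module.finrank F (ι → F) := by rwa [Module.finrank_fintype_fun_eq_card]
  have hstab : ∀ {e a : ι → F}, Q' e = 0 → QuadraticMap.polar Q' e a = 0 → ∀ w ∈ W,
      w + QuadraticMap.polar Q' w e • a - (QuadraticMap.polar Q' w a + Q' a * QuadraticMap.polar Q' w e) • e ∈ W := by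
    intro e a he hea w hw
    obtain ⟨g, hg, hgx⟩ := exists_siegel_omega hQ hn he hea
    rw [← hgx]
    exact CfsgLib.Geo.mem_subspaceStabilizer.mp (hW hg) w hw
  have hspan := CfsgLib.Quad.span_singular_top hQ' hn'
  by_cases hsing : ∃ w ∈ W, w ≠ 0 ∧ Q' w = 0
  · obtain ⟨w, hw, hw0, hQw⟩ := hsing
    rw [eq_top_iff, ← hspan, Submodule.span_le]
    intro v hv
    rcases eq_or_ne v 0 with rfl | hv0
    · exact W.zero_mem
    obtain ⟨x, hx, hwx, hvx⟩ := CfsgLib.Quad.exists_common_nonorth hQ' hn' hw0 hv0 hQw hv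
    obtain ⟨s, -, b, hb⟩ := CfsgLib.Quad.exists_move hQ' hn' hx hQw hv (by rwa [QuadraticMap.polar_comm]) (by rwa [QuadraticMap.polar_comm])
    obtain ⟨y, hy⟩ := (CfsgLib.Quad.isoGroupEquiv Q').surjective s.1
    have hy' : y.1 ∈ omegaGL ⇑Q' := by
      refine ⟨y, ?_, rfl⟩
      have h : (commutator (isometryGroup F ⇑Q')).map (CfsgLib.Quad.isoGroupEquiv Q').toMonoidHom =
          commutator (CfsgLib.Quad.oGroup Q') := by
        rw [commutator_def, Subgroup.map_commutator,
          Subgroup.map_top_of_surjective _ (CfsgLib.Quad.isoGroupEquiv Q').surjective, commutator_def]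
      have hs := s.2
      rw [← hy, ← h, Subgroup.mem_map_equiv, MulEquiv.symm_apply_apply] at hs
      exact hs
    have hmem := CfsgLib.Geo.mem_subspaceStabilizer.mp (hW hy') w hw
    rw [← CfsgLib.Quad.isoGroupEquiv_apply, hy, hb] at hmem
    have hb0 : b ≠ 0 := by
      rintro rfl
      rw [zero_smul] at hb
      exact hw0 (s.1.1.map_eq_zero_iff.mp hb)
    exact (W.smul_mem_iff hb0).mp hmem
  exfalso
  push Not at hsing
  have hW2 : Module.finrank F W ≤ 2 := by
    by_contra h
    obtain ⟨z, hz, hz0, hQz⟩ := CfsgLib.Quad.exists_singular_of_three (Q := Q') W (by omega)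
    exact hsing z hz hz0 hQz
  obtain ⟨w, hw, hw0⟩ := W.ne_bot_iff.mp h0
  obtain ⟨e, he, hwe⟩ : ∃ e, Q' e = 0 ∧ QuadraticMap.polar Q' w e ≠ 0 := by
    by_contra h
    push Not at h
    refine hw0 (hQ'.1 w fun x => ?_)
    have hx : x ∈ Submodule.span F {x | Q' x = 0} := by rw [hspan]; trivial
    induction hx using Submodule.span_induction with
    | mem x hx => exact h x hx
    | zero => exact map_zero _
    | add a b _ _ ha hb => rw [map_add, ha, hb, add_zero]
    | smul t a _ ha => rw [map_smul, ha, smul_zero]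
  set S := CfsgLib.Quad.perpS Q' (Submodule.span F {e})
  have hle : S ≤ W ⊔ Submodule.span F {e} := by
    intro a ha
    have hea : QuadraticMap.polar Q' e a = 0 := ha e (Submodule.mem_span_singleton_self e)
    have h := W.sub_mem (hstab he hea w hw) hw
    rw [add_sub_assoc, add_sub_cancel_left] at h
    have h' : QuadraticMap.polar Q' w e • a ∈ W ⊔ Submodule.span F {e} := by
      have := Submodule.add_mem_sup h (Submodule.smul_mem _
        (QuadraticMap.polar Q' w a + Q' a * QuadraticMap.polar Q' w e) (Submodule.mem_span_singleton_self (R := F) e))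
      rwa [sub_add_cancel] at this
    exact (Submodule.smul_mem_iff _ hwe).mp h'
  have h1 := CfsgLib.Quad.finrank_perpS hQ' (Submodule.span F {e})
  have h2 : Module.finrank F (Submodule.span F {e}) ≤ 1 := (finrank_span_le_card ({e} : Set (ι → F))).trans (by simp)
  have h3 := Submodule.finrank_mono hle
  have h4 := Submodule.finrank_sup_add_finrank_inf_eq W (Submodule.span F {e})
  rw [Module.finrank_fintype_fun_eq_card] at h1
  change Module.finrank F (Submodule.span F {e}) + Module.finrank F S = _ at h1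
  omega

theorem omega_irreducible : ActsIrreducibly (matrixSet (omegaGL Q)) := by
  intro W hW
  by_cases h0 : W = ⊥
  · exact Or.inl h0
  refine Or.inr (subspace_trivial hQ hn (fun g hg => CfsgLib.Geo.mem_subspaceStabilizer.mpr fun v hv => ?_) h0)
  have := hW _ (coe_mem_matrixSet hg) (Submodule.mem_map_of_mem hv)
  simpa using this

theorem not_le_subspace {W : Submodule F (ι → F)} (h0 : W ≠ ⊥) (h1 : W ≠ ⊤) :
    ¬ omegaGL Q ≤ subspaceStabilizer W := fun h => h1 (subspace_trivial hQ hn h h0)

/-- The commutant of `Ω` is the scalars. -/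
theorem commutant_scalar {k : Matrix ι ι F} (hk : ∀ g ∈ omegaGL Q, (g : Matrix ι ι F) * k = k * g) :
    ∃ c : F, k = c • (1 : Matrix ι ι F) := by
  have : Nonempty ι := Fintype.card_pos_iff.mp (by omega)
  obtain ⟨Q', rfl, hQ'⟩ := CfsgLib.Geo.OS.exists_quadraticForm hQ
  have hn' : 5 ≤ Module.finrank F (ι → F) := by rwa [Module.finrank_fintype_fun_eq_card]
  obtain ⟨e, he0, he⟩ := exists_singular hQ hn
  set E := Submodule.span F {e}
  have hE : Module.finrank F E = 1 := finrank_span_singleton he0
  have hP := CfsgLib.Quad.finrank_perpS hQ' E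
  rw [hE, Module.finrank_fintype_fun_eq_card] at hP
  have hmem : ∀ a, QuadraticMap.polar Q' e a = 0 → a ∉ E → k *ᵥ e ∈ Submodule.span F {a, e} := by
    intro a hea haE
    obtain ⟨g, hg, hgx⟩ := exists_siegel_omega hQ hn he hea
    obtain ⟨x, hxe, hxa⟩ : ∃ x, QuadraticMap.polar Q' x e = 0 ∧ QuadraticMap.polar Q' x a ≠ 0 := by
      by_contra h
      push Not at h
      apply haE
      rw [← CfsgLib.Quad.perpS_perpS hQ' E]
      intro y hy
      exact h y (by rw [QuadraticMap.polar_comm]; exact hy e (Submodule.mem_span_singleton_self e))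
    have h1 : (g : Matrix ι ι F) *ᵥ (k *ᵥ x) = k *ᵥ x - QuadraticMap.polar Q' x a • (k *ᵥ e) := by
      rw [mulVec_mulVec, hk g hg, ← mulVec_mulVec, hgx, hxe, zero_smul, add_zero, mul_zero, add_zero, mulVec_sub,
        mulVec_smul]
    rw [hgx] at h1
    have h2 : QuadraticMap.polar Q' x a • (k *ᵥ e) ∈ Submodule.span F {a, e} := by
      rw [Submodule.mem_span_pair]
      refine ⟨-QuadraticMap.polar Q' (k *ᵥ x) e,
        QuadraticMap.polar Q' (k *ᵥ x) a + Q' a * QuadraticMap.polar Q' (k *ᵥ x) e, ?_⟩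
      linear_combination (norm := module) -h1
    exact (Submodule.smul_mem_iff _ hxa).mp h2
  obtain ⟨a, ha, haE⟩ := SetLike.not_le_iff_exists.mp (fun h : CfsgLib.Quad.perpS Q' E ≤ E => by
    have := Submodule.finrank_mono h
    omega)
  set A := E ⊔ Submodule.span F {a}
  have hA : Module.finrank F A ≤ 2 := by
    have h4 := Submodule.finrank_sup_add_finrank_inf_eq E (Submodule.span F {a})
    have h2 : Module.finrank F (Submodule.span F {a}) ≤ 1 := (finrank_span_le_card ({a} : Set (ι → F))).trans (by simp)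
    change Module.finrank F A + _ = _ at h4
    omega
  obtain ⟨b, hb, hbA⟩ := SetLike.not_le_iff_exists.mp (fun h : CfsgLib.Quad.perpS Q' E ≤ A => by
    have := Submodule.finrank_mono h
    omega)
  have hke := hmem a (ha e (Submodule.mem_span_singleton_self e)) haE
  have hkb := hmem b (hb e (Submodule.mem_span_singleton_self e)) (fun h => hbA (Submodule.mem_sup_left h))
  obtain ⟨s, t, hst⟩ := Submodule.mem_span_pair.mp hke
  obtain ⟨s', t', hst'⟩ := Submodule.mem_span_pair.mp hkb
  have hs' : s' = 0 := by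
    by_contra hne
    apply hbA
    refine (Submodule.smul_mem_iff _ hne).mp ?_
    rw [show s' • b = (t - t') • e + s • a by linear_combination (norm := module) hst' - hst]
    exact Submodule.add_mem_sup (Submodule.smul_mem _ _ (Submodule.mem_span_singleton_self (R := F) e))
      (Submodule.smul_mem _ _ (Submodule.mem_span_singleton_self (R := F) a))
  rw [hs', zero_smul, zero_add] at hst'
  refine ⟨t', ?_⟩
  set W := LinearMap.ker (Matrix.toLin' (k - t' • (1 : Matrix ι ι F))) with hWdef
  have heW : e ∈ W := by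
    rw [hWdef, LinearMap.mem_ker, Matrix.toLin'_apply, sub_mulVec, smul_mulVec, one_mulVec, hst', sub_self]
  have htop := eq_top_of_invariant (omega_irreducible hQ hn) W (W.ne_bot_iff.mpr ⟨e, heW, he0⟩) fun g hg v hv => by
    rw [hWdef, LinearMap.mem_ker, Matrix.toLin'_apply] at hv ⊢
    rw [mulVec_mulVec, show (k - t' • (1 : Matrix ι ι F)) * (g : Matrix ι ι F) = (g : Matrix ι ι F) * (k - t' • 1) by
      rw [sub_mul, mul_sub, hk g hg, smul_mul_assoc, one_mul, mul_smul_comm, mul_one], ← mulVec_mulVec, hv,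
      mulVec_zero]
  rw [hWdef, LinearMap.ker_eq_top] at htop
  exact sub_eq_zero.mp ((Matrix.toLin').map_eq_zero_iff.mp htop)

/-- `Ω` is perfect. -/
theorem omega_perfect : ⁅omegaGL Q, omegaGL Q⁆ = omegaGL Q := by
  obtain ⟨Q', rfl, hQ'⟩ := CfsgLib.Geo.OS.exists_quadraticForm hQ
  have hn' : 5 ≤ Module.finrank F (ι → F) := by rwa [Module.finrank_fintype_fun_eq_card]
  set ψ : CfsgLib.Quad.oGroup Q' →* GL ι F :=
    (isometryGroup F ⇑Q').subtype.comp (CfsgLib.Quad.isoGroupEquiv Q').symm.toMonoidHom with hψ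
  have hK : (commutator (CfsgLib.Quad.oGroup Q')).map ψ = omegaGL ⇑Q' := by
    rw [hψ, ← Subgroup.map_map, commutator_def, Subgroup.map_commutator,
      Subgroup.map_top_of_surjective _ (CfsgLib.Quad.isoGroupEquiv Q').symm.surjective]
    rfl
  set C := commutator (CfsgLib.Quad.oGroup Q') with hC
  have h := congrArg (Subgroup.map C.subtype) (CfsgLib.Quad.commutator_commutator_eq_top hQ' hn')
  rw [show commutator ↥C = ⁅(⊤ : Subgroup C), ⊤⁆ from commutator_def _, Subgroup.map_commutator,
    ← MonoidHom.range_eq_map, Subgroup.range_subtype] at h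
  rw [← hK, ← Subgroup.map_commutator, h]

/-- `Ω` normalises no extension field. -/
theorem not_le_field {r : ℕ} (hr : 2 ≤ r) {K : Subalgebra F (Matrix ι ι F)} (hK : IsFieldSubalgebra r K) :
    ¬ omegaGL Q ≤ subalgebraNormalizer K := by
  intro hG
  have : Nonempty ι := Fintype.card_pos_iff.mp (by omega)
  have hfield : IsField K :=
    { exists_pair_ne := ⟨0, 1, fun h => by
        have h' := congrArg Subtype.val h
        simp at h'⟩
      mul_comm := fun a b => Subtype.ext (hK.comm a.1 a.2 b.1 b.2)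
      mul_inv_cancel := fun {a} ha => by
        obtain ⟨y, hy, hy1⟩ := hK.inv a.1 a.2 (fun h => ha (Subtype.ext h))
        exact ⟨⟨y, hy⟩, Subtype.ext hy1⟩ }
  letI : Field K := hfield.toField
  have : Finite K := inferInstance
  let cj : omegaGL Q →* (K ≃ₐ[F] K) :=
    { toFun := fun g =>
        { toFun := fun x => ⟨_, (hG g.2 x.1).mp x.2⟩
          invFun := fun x => ⟨_, (hG ((omegaGL Q).inv_mem g.2) x.1).mp x.2⟩
          left_inv := fun x => Subtype.ext (by simp [mul_assoc])
          right_inv := fun x => Subtype.ext (by simp [mul_assoc])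
          map_mul' := fun x y => Subtype.ext (by simp [mul_assoc])
          map_add' := fun x y => Subtype.ext (by simp [mul_add, add_mul])
          commutes' := fun c => Subtype.ext (by
            show ((g : GL ι F) : Matrix ι ι F) * algebraMap F (Matrix ι ι F) c * _ = algebraMap F (Matrix ι ι F) c
            rw [← Algebra.commutes, mul_assoc, Units.mul_inv, mul_one]) }
      map_one' := AlgEquiv.ext fun x => Subtype.ext (by simp)
      map_mul' := fun a b => AlgEquiv.ext fun x => Subtype.ext (by simp [mul_assoc]) }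
  have hgal : ∀ u v : K ≃ₐ[F] K, u * v = v * u := fun u v => IsCyclic.isMulCommutative.is_comm.comm u v
  have hker : (omegaGL Q : Subgroup (GL ι F)) ≤ cj.ker.map (omegaGL Q).subtype := by
    conv_lhs => rw [← omega_perfect hQ hn]
    rw [Subgroup.commutator_le]
    intro a ha b hb
    refine ⟨⁅(⟨a, ha⟩ : omegaGL Q), ⟨b, hb⟩⁆, ?_, by rw [map_commutatorElement]; rfl⟩
    rw [SetLike.mem_coe, MonoidHom.mem_ker, map_commutatorElement, commutatorElement_eq_one_iff_mul_comm]
    exact hgal _ _
  have hscal : ∀ x ∈ K, ∃ c : F, x = c • (1 : Matrix ι ι F) := by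
    intro x hx
    refine commutant_scalar hQ hn fun g hg => ?_
    obtain ⟨z, hz, rfl⟩ := hker hg
    have h : ((z : GL ι F) : Matrix ι ι F) * x * (((z : GL ι F)⁻¹ : GL ι F) : Matrix ι ι F) = x :=
      congrArg Subtype.val (AlgEquiv.ext_iff.mp (MonoidHom.mem_ker.mp hz) ⟨x, hx⟩)
    calc ((z : GL ι F) : Matrix ι ι F) * x = ((z : GL ι F) : Matrix ι ι F) * x *
          ((((z : GL ι F)⁻¹ : GL ι F) : Matrix ι ι F) * ((z : GL ι F) : Matrix ι ι F)) := by
          rw [Units.inv_mul, mul_one]
      _ = x * ((z : GL ι F) : Matrix ι ι F) := by rw [← mul_assoc, h]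
  have hbot : K = ⊥ := eq_bot_iff_scalar.mpr hscal
  have := hK.finrank_eq
  rw [hbot, Subalgebra.finrank_bot] at this
  omega

/-- `Ω` lies in no subfield group. -/
theorem not_le_subfield {F₁ : Subfield F} (hF₁ : F₁ ≠ ⊤) (P : GL ι F) : ¬ omegaGL Q ≤ subfieldSubgroup F₁ P := by
  intro hle
  have : Nonempty ι := Fintype.card_pos_iff.mp (by omega)
  obtain ⟨Q', rfl, hQ'⟩ := CfsgLib.Geo.OS.exists_quadraticForm hQ
  have hn' : 5 ≤ Module.finrank F (ι → F) := by rwa [Module.finrank_fintype_fun_eq_card]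
  obtain ⟨e, he0, he⟩ := exists_singular hQ hn
  set E := Submodule.span F {e}
  have hE : Module.finrank F E = 1 := finrank_span_singleton he0
  have hP := CfsgLib.Quad.finrank_perpS hQ' E
  rw [hE, Module.finrank_fintype_fun_eq_card] at hP
  obtain ⟨a, ha', hQa, haE⟩ := CfsgLib.Geo.OS.exists_singular_outside hQ' (CfsgLib.Quad.perpS Q' E) E (by omega)
  have hea : QuadraticMap.polar Q' e a = 0 := ha' e (Submodule.mem_span_singleton_self e)
  obtain ⟨x, hxe, hxa⟩ : ∃ x, QuadraticMap.polar Q' x e = 0 ∧ QuadraticMap.polar Q' x a ≠ 0 := by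
    by_contra h
    push Not at h
    apply haE
    rw [← CfsgLib.Quad.perpS_perpS hQ' E]
    intro y hy
    exact h y (by rw [QuadraticMap.polar_comm]; exact hy e (Submodule.mem_span_singleton_self e))
  let L : (ι → F) →ₗ[F] (ι → F) :=
    { toFun := fun v => QuadraticMap.polar Q' v e • a - QuadraticMap.polar Q' v a • e
      map_add' := fun u v => by simp only [hQ.polar_bilinear.add_left]; module
      map_smul' := fun c u => by simp only [hQ.polar_bilinear.smul_left, RingHom.id_apply]; module }
  set M := LinearMap.toMatrix' L with hM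
  have hMv : ∀ v, M *ᵥ v = QuadraticMap.polar Q' v e • a - QuadraticMap.polar Q' v a • e := fun v => by
    rw [hM, LinearMap.toMatrix'_mulVec]; rfl
  set N := ((P⁻¹ : GL ι F) : Matrix ι ι F) * M * (P : Matrix ι ι F) with hN
  have hee : QuadraticMap.polar Q' e e = 0 := by rw [QuadraticMap.polar_self, he, smul_zero]
  have haa : QuadraticMap.polar Q' a a = 0 := by rw [QuadraticMap.polar_self, hQa, smul_zero]
  have hae : QuadraticMap.polar Q' a e = 0 := by rw [QuadraticMap.polar_comm, hea]
  have hM2 : M * M = 0 := Matrix.toLin'.injective (LinearMap.ext fun v => by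
    rw [Matrix.toLin'_apply, ← mulVec_mulVec, hMv, hMv]
    simp [hQ.polar_bilinear.smul_left, QuadraticMap.polar_sub_left, QuadraticMap.polar_smul_left, hee, haa, hae,
      hea])
  have hkey : ∀ t : F, ∀ i j, t * N i j ∈ F₁ := by
    intro t i j
    obtain ⟨g, hg, hgx⟩ := exists_siegel_omega hQ hn he (a := t • a)
      (by rw [hQ.polar_bilinear.smul_right, hea, mul_zero])
    have hg1 : (g : Matrix ι ι F) - 1 = t • M := Matrix.toLin'.injective (LinearMap.ext fun v => by
      rw [Matrix.toLin'_apply, Matrix.toLin'_apply, sub_mulVec, one_mulVec, smul_mulVec, hMv, hgx,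
        hQ.polar_bilinear.smul_right, hQ.smul, hQa]
      module)
    have h := unipotent_rational (F₁ := F₁) (P := P) ⟨2, by rw [hg1, smul_pow, pow_two M, hM2, smul_zero]⟩ (hle hg) i j
    rwa [hg1, mul_smul_comm, smul_mul_assoc, ← hN, Matrix.smul_apply, smul_eq_mul] at h
  obtain ⟨i, j, hij⟩ : ∃ i j, N i j ≠ 0 := by
    by_contra h
    push Not at h
    have hM0 : M = 0 := by
      have e' : (P : Matrix ι ι F) * N * ((P⁻¹ : GL ι F) : Matrix ι ι F) = M := by simp [hN, ← mul_assoc]
      rw [← e', Matrix.ext (N := 0) h, mul_zero, zero_mul]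
    have h3 := hMv x
    rw [hM0, zero_mulVec, hxe, zero_smul, zero_sub, eq_comm, neg_eq_zero, smul_eq_zero] at h3
    exact h3.elim hxa he0
  refine hF₁ (eq_top_iff.mpr fun t _ => ?_)
  have h := F₁.div_mem (hkey t i j) (hkey 1 i j)
  rwa [one_mul, mul_div_cancel_right₀ _ hij] at h

end OE

end CfsgLib.Aschbacher
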