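import Cfsg.Agent.Aschbacher.Form.Common
import Cfsg.Agent.Char.Burnside

/-!
Aschbacher's theorem for groups of isometries of a symplectic form.
-/
set_option autoImplicit false
set_option maxHeartbeats 1000000

namespace CfsgLib.Aschbacher

open Matrix Cfsg.Geo CfsgLib.GeoClifford
open scoped MatrixGroups Kronecker commutatorElement

variable {ι : Type} [Fintype ι] [DecidableEq ι] {F : Type*} [Field F] [Fintype F]

/-- The group lies in the orthogonal group of a quadratic form with the given polar form, in characteristic two. -/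
def HasQuadOvergroup (f : (ι → F) → (ι → F) → F) (G : Subgroup (GL ι F)) : Prop :=
  ¬ Odd (Fintype.card F) ∧ ∃ Q : (ι → F) → F, IsNondegenerateQuadraticForm Q ∧
    (∀ u v, QuadraticMap.polar Q u v = f u v) ∧ G ≤ quadSimilarityGroup Q

/-- The outcomes of Aschbacher's theorem for a symplectic form. -/
def SymplecticOutcome (f : (ι → F) → (ι → F) → F) (G : Subgroup (GL ι F)) : Prop :=
  (∃ W : Submodule F (ι → F), W ≠ ⊥ ∧ IsTotallySingularFor f W ∧ G ≤ subspaceStabilizer W) ∨
  (∃ W : Submodule F (ι → F), W ≠ ⊥ ∧ IsNondegenerateOn f W ∧ 2 * Module.finrank F W < Fintype.card ι ∧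
    G ≤ subspaceStabilizer W) ∨
  (∃ (t m : ℕ) (D : Fin t → Submodule F (ι → F)), IsNondegenerateMDecomposition f m D ∧
    G ≤ decompositionStabilizer D) ∨
  (∃ (m : ℕ) (D : Fin 2 → Submodule F (ι → F)), Odd (Fintype.card F) ∧ 2 * m = Fintype.card ι ∧ IsMDecomposition m D ∧
    (∀ i, IsTotallySingularFor f (D i)) ∧ G ≤ decompositionStabilizer D) ∨
  (∃ (r : ℕ) (K : Subalgebra F (Matrix ι ι F)), r.Prime ∧ IsFieldSubalgebra r K ∧ IsSelfAdjointFor f K ∧
    (∀ k ∈ K, ∀ v, f (k *ᵥ v) v = 0) ∧ G ≤ subalgebraNormalizer K) ∨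
  (∃ K : Subalgebra F (Matrix ι ι F), Odd (Fintype.card F) ∧ IsFieldSubalgebra 2 K ∧ IsAdjointClosedFor f K ∧
    ¬ IsSelfAdjointFor f K ∧ G ≤ subalgebraNormalizer K) ∨
  (∃ (n₁ n₂ : ℕ) (e : ι ≃ Fin n₁ × Fin n₂) (P : GL ι F) (f₁ : (Fin n₁ → F) → (Fin n₁ → F) → F)
      (f₂ : (Fin n₂ → F) → (Fin n₂ → F) → F), Odd (Fintype.card F) ∧ 2 ≤ n₁ ∧ 3 ≤ n₂ ∧ IsSymplecticForm f₁ ∧
      IsSymmetricForm f₂ ∧ IsTensorFormStructure id f f₁ f₂ e P ∧ G ≤ tensorProductSubgroup n₁ n₂ e P) ∨
  (∃ (F₀ : Subfield F) (r : ℕ) (P : GL ι F) (ζ : F), r.Prime ∧ Fintype.card F = Nat.card F₀ ^ r ∧ ζ ≠ 0 ∧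
      IsFormRationalStructure f F₀ ζ P ∧ G ≤ subfieldSubgroup F₀ P) ∨
  (∃ (R : Subgroup (GL ι F)) (p k : ℕ), IsSymplecticTypeGroup 2 R ∧ ActsAbsolutelyIrreducibly (matrixSet R) ∧
      R ≤ similarityGroup f ∧ p.Prime ∧ Odd p ∧ Fintype.card F = p ∧ Nat.card R = 2 ^ (1 + 2 * k) ∧
      Nat.card (Subgroup.center R) = 2 ∧ IsOfMinusType k R ∧ ⁅R, R⁆ ≤ scalars ι F ∧ Fintype.card ι = 2 ^ k ∧
      G ≤ subgroupNormalizer R) ∨
  (∃ (k t : ℕ) (e : ι ≃ (Fin t → Fin k)) (P : GL ι F) (f₁ : (Fin k → F) → (Fin k → F) → F),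
      Odd (Fintype.card F) ∧ Odd t ∧ 3 ≤ t ∧ 2 ≤ k ∧ ¬ (Fintype.card F = 3 ∧ k = 2) ∧ IsSymplecticForm f₁ ∧
      IsTensorPowerFormStructure id f f₁ e P ∧ G ≤ tensorWreathSubgroup k t e P) ∨
  HasQuadOvergroup f G ∨
  InSymplecticResidualClass G

section Char2

variable {f : (ι → F) → (ι → F) → F}

omit [DecidableEq ι] in
lemma symm_of_two (h2 : (2 : F) = 0) (hf : IsSymplecticForm f) (u v : ι → F) : f u v = f v u := by
  have h := hf.skew u v
  linear_combination h - f v u * h2

/-- A pair of totally singular halves in characteristic two is inside an orthogonal group. -/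
lemma quadOvergroup_of_halves (h2 : (2 : F) = 0) (hf : IsSymplecticForm f) {G : Subgroup (GL ι F)}
    (hfix : FixesForm (matrixSet G) f) {m : ℕ} {D : Fin 2 → Submodule F (ι → F)} (hD : IsMDecomposition m D)
    (hts : ∀ i, IsTotallySingularFor f (D i)) (hG : G ≤ decompositionStabilizer D) : HasQuadOvergroup f G := by
  classical
  have hsup : D 0 ⊔ D 1 = ⊤ := by
    rw [eq_top_iff, ← hD.iSup_eq_top]
    exact iSup_le fun i => by fin_cases i <;> [exact le_sup_left; exact le_sup_right]
  have hinf : Disjoint (D 0) (D 1) := (hD.indep.pairwiseDisjoint (show (0 : Fin 2) ≠ 1 by decide))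
  have hcompl : IsCompl (D 0) (D 1) := ⟨hinf, codisjoint_iff.mpr hsup⟩
  let p := (D 0).projection (D 1) hcompl
  have hval : ∀ (v : ι → F), p v ∈ D 0 ∧ v - p v ∈ D 1 := fun v => ⟨Submodule.projection_apply_mem hcompl v, by
    have h := Submodule.projection_add_projection_eq_self hcompl v
    rw [eq_sub_of_add_eq' h |>.symm]
    exact Submodule.projection_apply_mem hcompl.symm v⟩
  have huniq : ∀ v a b, a ∈ D 0 → b ∈ D 1 → a + b = v → p v = a := by
    intro v a b ha hb h
    have h1 : p v - a ∈ D 0 := (D 0).sub_mem (hval v).1 ha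
    have h2' : p v - a ∈ D 1 := by
      rw [show p v - a = b - (v - p v) by rw [← h]; abel]
      exact (D 1).sub_mem hb (hval v).2
    exact sub_eq_zero.mp (Submodule.disjoint_def.mp hinf _ h1 h2')
  set Q : (ι → F) → F := fun v => f (p v) (v - p v) with hQ
  have hs := isSesq_of_bilinear hf.bilinear
  have hpolar : QuadraticMap.polar Q = f := by
    funext u v
    have h0 : f (p u) (p v) = 0 := hts 0 _ (hval u).1 _ (hval v).1
    have h1 : f (u - p u) (v - p v) = 0 := hts 1 _ (hval u).2 _ (hval v).2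
    have hsv := symm_of_two h2 hf (p v) (u - p u)
    have e : f u v = f (p u) (p v) + f (p u) (v - p v) + (f (u - p u) (p v) + f (u - p u) (v - p v)) := by
      rw [← hf.bilinear.add_right, ← hf.bilinear.add_right, ← hf.bilinear.add_left]; simp
    rw [h0, h1] at e
    rw [QuadraticMap.polar, hQ]
    simp only [map_add]
    rw [show u + v - (p u + p v) = (u - p u) + (v - p v) by abel, hf.bilinear.add_left, hf.bilinear.add_right,
      hf.bilinear.add_right, e, hsv]
    ring
  refine ⟨fun ho => odd_card_iff_two_ne_zero.mp ho h2, Q, ⟨fun c v => ?_, hpolar ▸ hf.bilinear,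
    hpolar ▸ hf.nondegenerate⟩, fun u v => by rw [hpolar], fun g hg => ⟨1, fun v => ?_⟩⟩
  · simp only [hQ, map_smul, ← smul_sub, hf.bilinear.smul_left, hf.bilinear.smul_right]
    ring
  obtain ⟨π, hπ⟩ := hG hg
  have hmap : ∀ i x, x ∈ D i → (g : Matrix ι ι F) *ᵥ x ∈ D (π i) := fun i x hx => by
    rw [← hπ i]
    exact ⟨x, hx, Matrix.toLin'_apply _ _⟩
  have hgfix := fun a b => hfix _ (coe_mem_matrixSet hg) a b
  show Q _ = _
  rw [Units.val_one, one_mul]
  have hsum : (g : Matrix ι ι F) *ᵥ p v + (g : Matrix ι ι F) *ᵥ (v - p v) = (g : Matrix ι ι F) *ᵥ v := by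
    rw [← mulVec_add]; simp
  have hd : (π 0 = 0 ∧ π 1 = 1) ∨ (π 0 = 1 ∧ π 1 = 0) := by
    have h01 : π 0 ≠ π 1 := π.injective.ne (by decide)
    revert h01
    generalize π 0 = a, π 1 = b
    revert a b
    decide
  have ha := hmap 0 _ (hval v).1
  have hb := hmap 1 _ (hval v).2
  rcases hd with ⟨h0, h1⟩ | ⟨h0, h1⟩
  · rw [h0] at ha
    rw [h1] at hb
    simp only [hQ]
    rw [huniq _ _ _ ha hb hsum, ← hsum, add_sub_cancel_left, hgfix]
  · rw [h0] at ha
    rw [h1] at hb
    simp only [hQ]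
    rw [huniq _ _ _ hb ha (by rw [add_comm]; exact hsum), ← hsum, add_sub_cancel_right, hgfix, symm_of_two h2 hf]

/-- A field of degree two that is not self-adjoint gives a quadratic form in characteristic two. -/
lemma quadOvergroup_of_field (h2 : (2 : F) = 0) (hf : IsSymplecticForm f) [Nonempty ι] {G : Subgroup (GL ι F)}
    (hfix : FixesForm (matrixSet G) f) {K : Subalgebra F (Matrix ι ι F)} (hK : IsFieldSubalgebra 2 K)
    (hstab : ConjStable G K) (hadj : ∀ x ∈ K, (isRefl_of_symplectic hf).adj x ∈ K) {x : Matrix ι ι F} (hx : x ∈ K)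
    (hne : (isRefl_of_symplectic hf).adj x ≠ x) : HasQuadOvergroup f G := by
  classical
  set hR := isRefl_of_symplectic hf
  have hneg : ∀ M : Matrix ι ι F, -M = M := fun M => by
    ext i j
    rw [Matrix.neg_apply]
    linear_combination (-M i j) * h2
  -- scalars are exactly the self-adjoint elements
  have hscal : ∀ y ∈ K, hR.adj y = y → ∃ c : F, y = c • (1 : Matrix ι ι F) := by
    intro y hy hya
    by_contra hcon
    push Not at hcon
    have hli : LinearIndependent F ![(⟨1, K.one_mem⟩ : K), ⟨y, hy⟩] := by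
      rw [LinearIndependent.pair_iff]
      intro s u hsu
      have h := congrArg Subtype.val hsu
      simp at h
      by_cases hu : u = 0
      · subst hu
        simp at h
        exact ⟨h, rfl⟩
      · exfalso
        refine hcon (-s / u) ?_
        have h1 : u • y = (-s) • (1 : Matrix ι ι F) := by rw [neg_smul]; exact eq_neg_of_add_eq_zero_right h
        rw [div_eq_inv_mul, mul_smul, ← h1, smul_smul, inv_mul_cancel₀ hu, one_smul]
    have htop := hli.span_eq_top_of_card_eq_finrank (by rw [hK.finrank_eq]; rfl)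
    have hxm : (⟨x, hx⟩ : K) ∈ Submodule.span F (Set.range ![(⟨1, K.one_mem⟩ : K), ⟨y, hy⟩]) := by
      rw [htop]; trivial
    rw [Matrix.range_cons, Matrix.range_cons, Matrix.range_empty, Set.union_empty, Set.singleton_union,
      Submodule.mem_span_pair] at hxm
    obtain ⟨a, b, hab⟩ := hxm
    have h := congrArg Subtype.val hab
    simp at h
    apply hne
    rw [← h, hR.adj_add, hR.adj_smul, hR.adj_smul, hR.adj_one, hya]
    rfl
  obtain ⟨s, hs⟩ := hscal (x + hR.adj x) (K.add_mem hx (hadj x hx)) (by rw [hR.adj_add, hR.adj_adj, add_comm])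
  have hs0 : s ≠ 0 := by
    intro h0
    rw [h0, zero_smul, add_eq_zero_iff_eq_neg, hneg] at hs
    exact hne hs.symm
  set k := s⁻¹ • x with hk
  have hkK : k ∈ K := Subalgebra.smul_mem _ hx _
  have hkk : k + hR.adj k = 1 := by
    rw [hk, hR.adj_smul, RingEquiv.refl_apply, ← smul_add, hs, smul_smul, inv_mul_cancel₀ hs0, one_smul]
  have hka : hR.adj k = k + 1 := by
    have h := eq_sub_of_add_eq' hkk
    rw [h, sub_eq_add_neg, hneg, add_comm]
  obtain ⟨N, hN⟩ := hscal (k * hR.adj k) (K.mul_mem hkK (hadj k hkK)) (by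
    rw [hR.adj_mul, hR.adj_adj])
  rw [hka, mul_add, mul_one] at hN
  set Q : (ι → F) → F := fun v => f (k *ᵥ v) v with hQ
  have hpolar : QuadraticMap.polar Q = f := by
    funext u v
    rw [QuadraticMap.polar, hQ]
    simp only [mulVec_add, hf.bilinear.add_left, hf.bilinear.add_right]
    have e1 : f (k *ᵥ v) u = f u (k *ᵥ v) := symm_of_two h2 hf _ _
    have e2 : f (k *ᵥ u) v = f u (hR.adj k *ᵥ v) := hR.adj_spec k u v
    rw [e1, e2, hka, add_mulVec, one_mulVec, hf.bilinear.add_right]
    linear_combination f u (k *ᵥ v) * h2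
  refine ⟨fun ho => odd_card_iff_two_ne_zero.mp ho h2, Q, ⟨fun c v => ?_, hpolar ▸ hf.bilinear,
    hpolar ▸ hf.nondegenerate⟩, fun u v => by rw [hpolar], fun g hg => ⟨1, fun v => ?_⟩⟩
  · simp only [hQ, mulVec_smul, hf.bilinear.smul_left, hf.bilinear.smul_right]
    ring
  show Q _ = _
  rw [Units.val_one, one_mul]
  set y : Matrix ι ι F := ((g⁻¹ : GL ι F) : Matrix ι ι F) * k * (g : Matrix ι ι F) with hy
  have hyK : y ∈ K := by
    have := hstab g⁻¹ (G.inv_mem hg) k hkK
    rwa [inv_inv] at this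
  have hyN : y * y + y = N • (1 : Matrix ι ι F) := by
    calc y * y + y = ((g⁻¹ : GL ι F) : Matrix ι ι F) * (k * k + k) * (g : Matrix ι ι F) := by
          simp [hy, mul_assoc, mul_add, add_mul]
      _ = _ := by rw [hN, mul_smul_comm, mul_one, smul_mul_assoc, Units.inv_mul]
  have hzero : (y + k) * (y + k + 1) = 0 := by
    have hc := hK.comm k hkK y hyK
    calc (y + k) * (y + k + 1) = (y * y + y) + (k * k + k) + (y * k + k * y) := by
          simp only [mul_add, add_mul, mul_one]; abel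
      _ = N • (1 : Matrix ι ι F) + N • (1 : Matrix ι ι F) + (y * k + y * k) := by rw [hyN, hN, hc]
      _ = 0 := by
        have h0 : ∀ M : Matrix ι ι F, M + M = 0 := fun M => by
          nth_rewrite 1 [← hneg M]; rw [neg_add_cancel]
        rw [h0, h0, add_zero]
  have hcases : y = k ∨ y = k + 1 := by
    by_cases h0 : y + k = 0
    · left
      rw [add_eq_zero_iff_eq_neg, hneg] at h0
      exact h0
    · right
      obtain ⟨z, -, hz⟩ := hK.inv _ (K.add_mem hyK hkK) h0
      have hzl : z * (y + k) = 1 := mul_eq_one_comm.mp hz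
      have h1 : y + k + 1 = 0 := by
        calc y + k + 1 = z * (y + k) * (y + k + 1) := by rw [hzl, one_mul]
          _ = 0 := by rw [mul_assoc, hzero, mul_zero]
      rw [add_assoc, add_eq_zero_iff_eq_neg, hneg] at h1
      exact h1
  have hgy : k * (g : Matrix ι ι F) = (g : Matrix ι ι F) * y := by simp [hy, ← mul_assoc]
  simp only [hQ]
  rw [mulVec_mulVec, hgy, ← mulVec_mulVec, hfix _ (coe_mem_matrixSet hg)]
  rcases hcases with h | h
  · rw [h]
  · rw [h, add_mulVec, one_mulVec, hf.bilinear.add_left, hf.alternating, add_zero]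

omit [DecidableEq ι] in
lemma alt_of_diag (h2 : (2 : F) = 0) {A : Matrix ι ι F} (hA : Aᵀ = A) (hd : ∀ i, A i i = 0) (x : ι → F) :
    x ⬝ᵥ (A *ᵥ x) = 0 := by
  rw [dot_mulVec_self_of_two h2 hA]
  simp [hd]

end Char2

/-- A symmetric matrix in characteristic two with a non-zero diagonal has a proper subspace of isotropic vectors. -/
lemma exists_isotropic_hyperplane (h2 : (2 : F) = 0) {n : ℕ} (hn : 2 ≤ n) {C : Matrix (Fin n) (Fin n) F}
    (hC : Cᵀ = C) {j0 : Fin n} (hj : C j0 j0 ≠ 0) :
    ∃ K : Submodule F (Fin n → F), K ≠ ⊥ ∧ (Pi.single j0 1 : Fin n → F) ∉ K ∧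
      ∀ y, y ∈ K ↔ y ⬝ᵥ (C *ᵥ y) = 0 := by
  classical
  have hc : CharP F 2 := char_two_of_even fun ho => odd_card_iff_two_ne_zero.mp ho h2
  have hsymm : ∀ a b : Fin n → F, a ⬝ᵥ (C *ᵥ b) = b ⬝ᵥ (C *ᵥ a) := fun a b => by
    rw [dotProduct_mulVec, ← mulVec_transpose, hC, dotProduct_comm]
  let q : (Fin n → F) → F := fun v => v ⬝ᵥ (C *ᵥ v)
  have hadd : ∀ a b, q (a + b) = q a + q b := fun a b => by
    simp only [q, mulVec_add, dotProduct_add, add_dotProduct, hsymm b a]
    linear_combination (a ⬝ᵥ (C *ᵥ b)) * h2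
  have hsmul : ∀ (c : F) a, q (c • a) = c ^ 2 * q a := fun c a => by
    simp only [q, mulVec_smul, dotProduct_smul, smul_dotProduct, smul_eq_mul]; ring
  let K : Submodule F (Fin n → F) :=
    { carrier := {v | q v = 0}
      add_mem' := fun {a b} ha hb => by
        show q (a + b) = 0
        rw [hadd, ha, hb, add_zero]
      zero_mem' := by simp [q]
      smul_mem' := fun c a ha => by
        show q (c • a) = 0
        rw [hsmul, ha, mul_zero] }
  have hq : q (Pi.single j0 1) = C j0 j0 := by simp [q]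
  refine ⟨K, ?_, fun h => hj (hq ▸ h), fun y => Iff.rfl⟩
  obtain ⟨a, ha⟩ : ∃ a, a ≠ j0 := by
    have : Nontrivial (Fin n) := Fin.nontrivial_iff_two_le.mpr hn
    exact exists_ne j0
  intro h0
  obtain ⟨s, hs⟩ := (Finite.injective_iff_surjective.mp (frobenius_inj F 2)) (q (Pi.single a 1) / q (Pi.single j0 1))
  rw [frobenius_def] at hs
  have hmem : (Pi.single a (1 : F) + s • Pi.single j0 1 : Fin n → F) ∈ K := by
    show q _ = 0
    rw [hadd, hsmul, hs, div_mul_cancel₀ _ (hq ▸ hj)]
    linear_combination q (Pi.single a 1) * h2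
  rw [h0, Submodule.mem_bot] at hmem
  simpa [Pi.single_apply, ha] using congrFun hmem a

section Tensor

variable {f : (ι → F) → (ι → F) → F} {n₁ n₂ : ℕ} {e : ι ≃ Fin n₁ × Fin n₂} {P : GL ι F}
  {B : Matrix (Fin n₁) (Fin n₁) F} {C : Matrix (Fin n₂) (Fin n₂) F}

/-- A tensor decomposition with an alternating factor in characteristic two. -/
lemma quadOvergroup_of_tensor (h2 : (2 : F) = 0) (hf : IsSymplecticForm f) {G : Subgroup (GL ι F)}
    (hfix : FixesForm (matrixSet G) f) (hirr : ActsIrreducibly (matrixSet G))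
    (h : IsTensorGram (RingEquiv.refl F) f G e P B C) (hBt : Bᵀ = B) (hCt : Cᵀ = C) (hB : ∀ i, B i i = 0) :
    HasQuadOvergroup f G := by
  classical
  have hs := isSesq_of_bilinear hf.bilinear
  have hval : ∀ x y : Fin n₁ × Fin n₂ → F, f ((P : Matrix ι ι F) *ᵥ (x ∘ e)) ((P : Matrix ι ι F) *ᵥ (y ∘ e)) =
      x ⬝ᵥ ((B ⊗ₖ C) *ᵥ y) := fun x y => by
    rw [form_of_gram hs e (P : Matrix ι ι F) _ 1 (by rw [one_smul]; exact h.gram) x y, one_mul, formOfGram_eq]
    rfl
  let v2 : (Fin n₁ → F) → (Fin n₂ → F) → Fin n₁ × Fin n₂ → F := fun x y p => x p.1 * y p.2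
  have hv2 : ∀ x x' y y', f ((P : Matrix ι ι F) *ᵥ (v2 x y ∘ e)) ((P : Matrix ι ι F) *ᵥ (v2 x' y' ∘ e)) =
      (x ⬝ᵥ (B *ᵥ x')) * (y ⬝ᵥ (C *ᵥ y')) := by
    intro x x' y y'
    rw [hval]
    simp only [v2, dotProduct, mulVec, Fintype.sum_prod_type, kroneckerMap_apply]
    rw [Finset.sum_mul_sum]
    refine Finset.sum_congr rfl fun a _ => Finset.sum_congr rfl fun b _ => ?_
    rw [mul_mul_mul_comm, Finset.sum_mul_sum]
    congr 1
    refine Finset.sum_congr rfl fun a' _ => Finset.sum_congr rfl fun b' _ => ?_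
    ring
  by_cases hC : ∀ j, C j j = 0
  · obtain ⟨Q, hQ, hQf, hQb⟩ := exists_quad_of_basis h2 hf P
    have hz : ∀ x y, Q ((P : Matrix ι ι F) *ᵥ (v2 x y ∘ e)) = 0 := by
      have h1 : ∀ x j, Q ((P : Matrix ι ι F) *ᵥ (v2 x (Pi.single j 1) ∘ e)) = 0 := by
        intro x j
        have hsum : v2 x (Pi.single j 1) ∘ e = ∑ i, x i • (Pi.single (e.symm (i, j)) 1 : ι → F) := by
          funext a
          obtain ⟨⟨i, j'⟩, rfl⟩ := e.symm.surjective a
          simp [v2, Pi.single_apply, Finset.sum_apply]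
          by_cases hjj : j' = j
          · subst hjj; simp
          · simp [hjj]
        rw [hsum, mulVec_sum]
        simp only [mulVec_smul]
        refine quad_sum_eq_zero hQ _ _ _ (fun i _ i' _ => ?_) fun i _ => hQb _
        have e1 : ∀ i, (Pi.single (e.symm (i, j)) 1 : ι → F) = v2 (Pi.single i 1) (Pi.single j 1) ∘ e := fun i => by
          funext a
          obtain ⟨⟨p, q⟩, rfl⟩ := e.symm.surjective a
          by_cases hp : p = i <;> by_cases hq : q = j <;> simp [v2, Pi.single_apply, hp, hq]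
        rw [hQf, e1, e1, hv2]
        simp [hC j]
      intro x y
      have hsum : v2 x y ∘ e = ∑ j, y j • (v2 x (Pi.single j 1) ∘ e) := by
        funext a
        simp [v2, Finset.sum_apply, Pi.single_apply, mul_comm]
      rw [hsum, mulVec_sum]
      simp only [mulVec_smul]
      refine quad_sum_eq_zero hQ _ _ _ (fun j _ j' _ => ?_) fun j _ => h1 x j
      rw [hQf, hv2, alt_of_diag h2 hBt hB, zero_mul]
    refine ⟨fun ho => odd_card_iff_two_ne_zero.mp ho h2, Q, hQ, hQf, fun g hg => ⟨1, fun v => ?_⟩⟩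
    rw [Units.val_one, one_mul]
    refine quad_eq_of_cols h2 hQ (fun u v => by rw [hQf, hQf]; exact hfix _ (coe_mem_matrixSet hg) u v) hQb
      (fun a => ?_) v
    obtain ⟨x, y, hxy⟩ := h.kron g hg
    have e1 : (g : Matrix ι ι F) * (P : Matrix ι ι F) =
        (P : Matrix ι ι F) * ((x : Matrix (Fin n₁) (Fin n₁) F) ⊗ₖ (y : Matrix (Fin n₂) (Fin n₂) F)).submatrix e e := by
      rw [← hxy]; simp [← mul_assoc]
    rw [mulVec_mulVec, e1, ← mulVec_mulVec]
    have e3 : ((x : Matrix (Fin n₁) (Fin n₁) F) ⊗ₖ (y : Matrix (Fin n₂) (Fin n₂) F)).submatrix e e *ᵥ Pi.single a 1 =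
        v2 (fun i => (x : Matrix (Fin n₁) (Fin n₁) F) i (e a).1) (fun j => (y : Matrix (Fin n₂) (Fin n₂) F) j (e a).2) ∘ e := by
      ext i
      simp [v2]
    rw [e3]
    exact hz (fun i => (x : Matrix (Fin n₁) (Fin n₁) F) i (e a).1)
      (fun j => (y : Matrix (Fin n₂) (Fin n₂) F) j (e a).2)
  push Not at hC
  obtain ⟨j0, hj0⟩ := hC
  exfalso
  obtain ⟨K, hK0, hKj, hK⟩ := exists_isotropic_hyperplane h2 h.two_le_right hCt hj0
  set R : Matrix ι ι F := ((P⁻¹ : GL ι F) : Matrix ι ι F) with hR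
  let rowOf : (ι → F) → Fin n₁ → Fin n₂ → F := fun v i j => (R *ᵥ v) (e.symm (i, j))
  let W : Submodule F (ι → F) :=
    { carrier := {v | ∀ i, rowOf v i ∈ K}
      add_mem' := fun {a b} ha hb i => by
        have : rowOf (a + b) i = rowOf a i + rowOf b i := by funext j; simp [rowOf, mulVec_add]
        rw [this]; exact K.add_mem (ha i) (hb i)
      zero_mem' := fun i => by
        have : rowOf 0 i = 0 := by funext j; simp [rowOf]
        rw [this]; exact K.zero_mem
      smul_mem' := fun c a ha i => by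
        have : rowOf (c • a) i = c • rowOf a i := by funext j; simp [rowOf, mulVec_smul]
        rw [this]; exact K.smul_mem c (ha i) }
  have hrow : ∀ w i, rowOf ((P : Matrix ι ι F) *ᵥ w) i = fun j => w (e.symm (i, j)) := fun w i => by
    funext j; simp [rowOf, hR, mulVec_mulVec]
  obtain ⟨y, hy, hy0⟩ := K.ne_bot_iff.mp hK0
  have i0 : Fin n₁ := ⟨0, by have := h.two_le_left; omega⟩
  have htop : W = ⊤ := by
    refine eq_top_of_invariant hirr W ?_ fun g hg v hv i => ?_
    · refine W.ne_bot_iff.mpr ⟨(P : Matrix ι ι F) *ᵥ fun a => y (e a).2, fun i => ?_, fun h0 => hy0 ?_⟩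
      · rw [hrow]; simpa using hy
      · funext j
        have := congrFun (congrArg (R *ᵥ ·) h0) (e.symm (i0, j))
        simpa [hR, mulVec_mulVec] using this
    · obtain ⟨x, z, hxz⟩ := h.kron g hg
      obtain ⟨s, -, hs', -⟩ := h.factor hs hfix hg hxz
      rw [show ((z : Matrix (Fin n₂) (Fin n₂) F)).map (RingEquiv.refl F) = (z : Matrix (Fin n₂) (Fin n₂) F) by
        ext a b; rfl] at hs'
      have e1 : R * (g : Matrix ι ι F) =
          ((x : Matrix (Fin n₁) (Fin n₁) F) ⊗ₖ (z : Matrix (Fin n₂) (Fin n₂) F)).submatrix e e * R := by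
        rw [← hxz, hR]; simp [mul_assoc]
      have e2 : rowOf ((g : Matrix ι ι F) *ᵥ v) i =
          ∑ l, (x : Matrix (Fin n₁) (Fin n₁) F) i l • ((z : Matrix (Fin n₂) (Fin n₂) F) *ᵥ rowOf v l) := by
        funext j
        simp only [rowOf, mulVec_mulVec v R, e1, ← mulVec_mulVec v _ R, submatrix_mulVec_equiv, Function.comp_apply,
          Equiv.apply_symm_apply, Finset.sum_apply, Pi.smul_apply, smul_eq_mul]
        simp only [mulVec, dotProduct, Fintype.sum_prod_type, kroneckerMap_apply, Function.comp_apply,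
          Finset.mul_sum, mul_assoc]
      rw [e2]
      refine Submodule.sum_mem _ fun l _ => K.smul_mem _ ((hK _).mpr ?_)
      rw [mulVec_mulVec, ← vecMul_transpose (z : Matrix (Fin n₂) (Fin n₂) F), ← dotProduct_mulVec, mulVec_mulVec,
        ← mul_assoc, hs', smul_mulVec, dotProduct_smul, (hK _).mp (hv l), smul_zero]
  apply hKj
  have hmem : (P : Matrix ι ι F) *ᵥ Pi.single (e.symm (i0, j0)) 1 ∈ W := htop ▸ Submodule.mem_top
  have h1 := hmem i0
  rw [hrow] at h1
  have e1 : (fun j => (Pi.single (e.symm (i0, j0)) 1 : ι → F) (e.symm (i0, j))) = (Pi.single j0 1 : Fin n₂ → F) := by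
    ext j
    by_cases hj : j = j0
    · subst hj; simp
    · simp [hj]
  rwa [e1] at h1

/-- A two-dimensional symmetric factor gives a commutative algebra. -/
lemma orth_two_algebra (hf : IsSymplecticForm f) (h2 : (2 : F) ≠ 0) {G : Subgroup (GL ι F)}
    (hfix : FixesForm (matrixSet G) f) {e : ι ≃ Fin n₁ × Fin 2} {C : Matrix (Fin 2) (Fin 2) F}
    (h : IsTensorGram (RingEquiv.refl F) f G e P B C) (hCt : Cᵀ = C) :
    ∃ R : Subalgebra F (Matrix ι ι F), (∀ x ∈ R, ∀ y ∈ R, x * y = y * x) ∧ ConjStable G R ∧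
      (∀ x ∈ R, (isRefl_of_symplectic hf).adj x ∈ R) ∧ R ≠ ⊥ := by
  classical
  set hR := isRefl_of_symplectic hf
  set J : Matrix (Fin 2) (Fin 2) F := !![0, 1; -1, 0] with hJ
  have hJg : ∀ g : Matrix (Fin 2) (Fin 2) F, gᵀ * J * g = g.det • J := by
    intro g
    ext a b
    fin_cases a <;> fin_cases b <;>
      simp [hJ, Matrix.mul_apply, Fin.sum_univ_two, Matrix.det_fin_two] <;> ring
  obtain ⟨C', hC'⟩ := h.unit_right.exists_left_inv
  have hCC' : C * C' = 1 := mul_eq_one_comm.mp hC'
  have hCmap : ∀ M : Matrix ι ι F, M.map (RingEquiv.refl F) = M := fun M => by ext i j; rfl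
  set M : Matrix (Fin 2) (Fin 2) F := C' * J with hM
  set Q : Matrix ι ι F := ((P⁻¹ : GL ι F) : Matrix ι ι F) with hQ
  set X : Matrix ι ι F := (P : Matrix ι ι F) * ((1 : Matrix (Fin n₁) (Fin n₁) F) ⊗ₖ M).submatrix e e * Q with hX
  have hgram : gramMatrix f = Qᵀ * (B ⊗ₖ C).submatrix e e * Q := by
    rw [← h.gram, hCmap, hQ]
    simp only [← mul_assoc]
    rw [← transpose_mul, Units.mul_inv, transpose_one, one_mul, mul_assoc, Units.mul_inv, mul_one]
  have hMC : Mᵀ * C = C * (-M) := by
    have hJt : Jᵀ = -J := by ext a b; fin_cases a <;> fin_cases b <;> simp [hJ]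
    have hC't : C'ᵀ * C = 1 := by rw [← hCt, ← transpose_mul, hCC', transpose_one]
    rw [hM, transpose_mul, mul_assoc, hC't, mul_one, mul_neg, ← mul_assoc, hCC', one_mul, hJt]
  have hXadj : hR.adj X = -X := by
    have h1 : Xᵀ * gramMatrix f = gramMatrix f * (-X).map (RingEquiv.refl F) := by
      rw [hCmap, hgram, hX]
      calc _ = Qᵀ * (((1 : Matrix (Fin n₁) (Fin n₁) F) ⊗ₖ M).submatrix e e)ᵀ *
            ((Q * (P : Matrix ι ι F))ᵀ * (B ⊗ₖ C).submatrix e e) * Q := by
            simp only [transpose_mul, mul_assoc]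
        _ = Qᵀ * ((B ⊗ₖ C).submatrix e e * ((1 : Matrix (Fin n₁) (Fin n₁) F) ⊗ₖ (-M)).submatrix e e) * Q := by
            rw [hQ, Units.inv_mul, transpose_one, one_mul, mul_assoc (Qᵀ), transpose_submatrix,
              ← Matrix.kroneckerMap_transpose, coords_mul, coords_mul, transpose_one, one_mul, mul_one, hMC]
        _ = _ := by
            have e2 : ((1 : Matrix (Fin n₁) (Fin n₁) F) ⊗ₖ (-M)).submatrix e e =
                -((1 : Matrix (Fin n₁) (Fin n₁) F) ⊗ₖ M).submatrix e e := by
              ext i j; simp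
            rw [e2]
            simp only [mul_assoc, mul_neg, neg_mul, hQ, Units.inv_mul_cancel_left]
    have h2' := hR.gram_adj X
    rw [h1] at h2'
    have h3 := (gram_isUnit hR.sesq hR.nd).mul_left_cancel h2'
    rw [hCmap, hCmap] at h3
    exact h3.symm
  refine ⟨Algebra.adjoin F {X}, fun x hx y hy => ?_, fun g hg x hx => ?_, fun x hx => ?_, fun hbot => ?_⟩
  · exact (Algebra.commute_of_mem_adjoin_singleton_of_commute hy
      ((Algebra.commute_of_mem_adjoin_singleton_of_commute hx (Commute.refl X)).symm)).eq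
  · have hgX : ∃ c : F, (g : Matrix ι ι F) * X * ((g⁻¹ : GL ι F) : Matrix ι ι F) = c • X := by
      obtain ⟨a, b, hab⟩ := h.kron g hg
      obtain ⟨s, hs0, hs, -⟩ := h.factor hR.sesq hfix hg hab
      rw [show ((b : Matrix (Fin 2) (Fin 2) F)).map (RingEquiv.refl F) = (b : Matrix (Fin 2) (Fin 2) F) by
        ext i j; rfl] at hs
      set d := (b : Matrix (Fin 2) (Fin 2) F).det
      have hd : d ≠ 0 := (Matrix.GeneralLinearGroup.det b).ne_zero
      have hbM : (b : Matrix (Fin 2) (Fin 2) F) * M = (s / d) • (M * (b : Matrix (Fin 2) (Fin 2) F)) := by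
        have e1 : (b : Matrix (Fin 2) (Fin 2) F)ᵀ * C * ((b : Matrix (Fin 2) (Fin 2) F) * M) =
            (b : Matrix (Fin 2) (Fin 2) F)ᵀ * C * ((s / d) • (M * (b : Matrix (Fin 2) (Fin 2) F))) := by
          rw [← mul_assoc, hs, smul_mul_assoc, hM, ← mul_assoc C, hCC', one_mul, mul_smul_comm, mul_assoc _ C,
            ← mul_assoc C, ← mul_assoc C, hCC', one_mul, ← mul_assoc, hJg, smul_smul, div_mul_cancel₀ _ hd]
        exact (((Matrix.isUnit_transpose _).mpr b.isUnit).mul h.unit_right).mul_left_cancel e1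
      refine ⟨s / d, ?_⟩
      have h1 : (g : Matrix ι ι F) * (P : Matrix ι ι F) =
          (P : Matrix ι ι F) * ((a : Matrix (Fin n₁) (Fin n₁) F) ⊗ₖ (b : Matrix (Fin 2) (Fin 2) F)).submatrix e e := by
        rw [← hab]; simp [← mul_assoc]
      have h4 : ((a : Matrix (Fin n₁) (Fin n₁) F) ⊗ₖ (b : Matrix (Fin 2) (Fin 2) F)).submatrix e e * Q =
          Q * (g : Matrix ι ι F) := by
        rw [← hab, hQ]; simp [mul_assoc]
      calc _ = (g : Matrix ι ι F) * (P : Matrix ι ι F) * ((1 : Matrix (Fin n₁) (Fin n₁) F) ⊗ₖ M).submatrix e e * Q *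
            ((g⁻¹ : GL ι F) : Matrix ι ι F) := by rw [hX]; simp only [mul_assoc]
        _ = (s / d) • ((P : Matrix ι ι F) * ((1 : Matrix (Fin n₁) (Fin n₁) F) ⊗ₖ M).submatrix e e *
            (((a : Matrix (Fin n₁) (Fin n₁) F) ⊗ₖ (b : Matrix (Fin 2) (Fin 2) F)).submatrix e e * Q) *
            ((g⁻¹ : GL ι F) : Matrix ι ι F)) := by
          rw [h1]
          have h5 : ((a : Matrix (Fin n₁) (Fin n₁) F) ⊗ₖ (b : Matrix (Fin 2) (Fin 2) F)).submatrix e e *
              ((1 : Matrix (Fin n₁) (Fin n₁) F) ⊗ₖ M).submatrix e e = (s / d) •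
              (((1 : Matrix (Fin n₁) (Fin n₁) F) ⊗ₖ M).submatrix e e *
              ((a : Matrix (Fin n₁) (Fin n₁) F) ⊗ₖ (b : Matrix (Fin 2) (Fin 2) F)).submatrix e e) := by
            rw [coords_mul, coords_mul, one_mul, mul_one, hbM, Matrix.kronecker_smul]
            rfl
          rw [mul_assoc (P : Matrix ι ι F), h5, mul_smul_comm, smul_mul_assoc, smul_mul_assoc]
          simp only [mul_assoc]
        _ = _ := by rw [h4, hX]; simp only [mul_assoc, Units.mul_inv, mul_one]
    obtain ⟨c, hc⟩ := hgX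
    induction hx using Algebra.adjoin_induction with
    | mem y hy =>
      obtain rfl := Set.mem_singleton_iff.mp hy
      rw [hc]
      exact Subalgebra.smul_mem _ (Algebra.subset_adjoin (Set.mem_singleton X)) _
    | algebraMap r =>
      have : (g : Matrix ι ι F) * algebraMap F (Matrix ι ι F) r * ((g⁻¹ : GL ι F) : Matrix ι ι F)
          = algebraMap F (Matrix ι ι F) r := by
        rw [← Algebra.commutes, mul_assoc, ← Units.val_mul, mul_inv_cancel, Units.val_one, mul_one]
      rw [this]; exact Subalgebra.algebraMap_mem _ r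
    | add u v _ _ hu hv => rw [mul_add, add_mul]; exact Subalgebra.add_mem _ hu hv
    | mul u v _ _ hu hv =>
      have := Subalgebra.mul_mem _ hu hv
      simpa [mul_assoc] using this
  · induction hx using Algebra.adjoin_induction with
    | mem y hy =>
      obtain rfl := Set.mem_singleton_iff.mp hy
      rw [hXadj]
      exact Subalgebra.neg_mem _ (Algebra.subset_adjoin (Set.mem_singleton X))
    | algebraMap r =>
      rw [Algebra.algebraMap_eq_smul_one, hR.adj_smul, hR.adj_one]
      exact Subalgebra.smul_mem _ (Subalgebra.one_mem _) _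
    | add u v _ _ hu hv => rw [hR.adj_add]; exact Subalgebra.add_mem _ hu hv
    | mul u v _ _ hu hv => rw [hR.adj_mul]; exact Subalgebra.mul_mem _ hv hu
  · obtain ⟨c, hc⟩ := eq_bot_iff_scalar.mp hbot X (Algebra.subset_adjoin (Set.mem_singleton X))
    have h3 : ((1 : Matrix (Fin n₁) (Fin n₁) F) ⊗ₖ M).submatrix e e = c • (1 : Matrix ι ι F) := by
      have := congrArg (fun Y => Q * Y * (P : Matrix ι ι F)) hc
      simpa [hX, hQ, mul_assoc] using this
    have i0 : Fin n₁ := ⟨0, by have := h.two_le_left; omega⟩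
    have hMc : M = c • (1 : Matrix (Fin 2) (Fin 2) F) := by
      ext a b
      have := congrFun (congrFun h3 (e.symm (i0, a))) (e.symm (i0, b))
      by_cases hab : a = b
      · subst hab; simpa using this
      · have hne : e.symm (i0, a) ≠ e.symm (i0, b) := by simp [hab]
        simpa [Matrix.one_apply_ne hne, Matrix.one_apply_ne hab] using this
    have hJC : J = c • C := by
      calc J = C * M := by rw [hM, ← mul_assoc, hCC', one_mul]
        _ = _ := by rw [hMc, mul_smul_comm, mul_one]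
    have hJ01 := congrFun (congrFun hJC 0) 1
    have hJ10 := congrFun (congrFun hJC 1) 0
    have hC10 : C 1 0 = C 0 1 := congrFun (congrFun hCt 0) 1
    rw [Matrix.smul_apply, hC10] at hJ10
    rw [Matrix.smul_apply, ← hJ10] at hJ01
    simp [hJ] at hJ01
    exact h2 (by linear_combination hJ01)

end Tensor

/-- A perfect subgroup of a group of order `48` is trivial. -/
lemma perfect_eq_bot_of_GL_two_three (hq : Fintype.card F = 3) {K : Subgroup (GL (Fin 2) F)} (hK : ⁅K, K⁆ = K) :
    K = ⊥ := by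
  have : Fact (Nat.Prime 2) := ⟨Nat.prime_two⟩
  have hcard : Nat.card (GL (Fin 2) F) = 2 ^ 4 * 3 ^ 1 := by
    rw [Matrix.card_GL_field]
    simp [hq, Fin.prod_univ_two]
  have hsol : Group.IsSolvable (GL (Fin 2) F) :=
    CfsgLib.Char.isSolvable_of_card_eq 2 3 4 1 Nat.prime_two Nat.prime_three hcard
  by_contra hne
  have : Nontrivial K := (Subgroup.nontrivial_iff_ne_bot K).mpr hne
  have hsolK : Group.IsSolvable K := inferInstance
  have hlt := Group.IsSolvable.commutator_lt_top_of_nontrivial (G := K)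
  apply hlt.ne
  apply Subgroup.map_injective K.subtype_injective
  rw [commutator_def, Subgroup.map_commutator, ← MonoidHom.range_eq_map, Subgroup.range_subtype, hK]

/-- Aschbacher's theorem for groups of isometries of a symplectic form. -/
theorem symplectic_structure {f : (ι → F) → (ι → F) → F} (hf : IsSymplecticForm f) (hn : 3 ≤ Fintype.card ι)
    {G : Subgroup (GL ι F)} (hfix : FixesForm (matrixSet G) f) : SymplecticOutcome f G := by
  classical
  have : Nonempty ι := Fintype.card_pos_iff.mp (by omega)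
  have hR := isRefl_of_symplectic hf
  have hfixN : ∀ {N : Subgroup (GL ι F)}, N ≤ G → FixesForm (matrixSet N) f := fun hN s hs => by
    obtain ⟨x, hx, rfl⟩ := hs
    exact hfix _ (coe_mem_matrixSet (hN hx))
  have hdecomp : HasFormDecomposition f G → SymplecticOutcome f G := by
    rintro (⟨t, m, D, hD, hG⟩ | ⟨m, D, hm, hD, hts, hG⟩)
    · exact Or.inr (Or.inr (Or.inl ⟨t, m, D, hD, hG⟩))
    · by_cases h2 : (2 : F) = 0
      · exact Or.inr (Or.inr (Or.inr (Or.inr (Or.inr (Or.inr (Or.inr (Or.inr (Or.inr (Or.inr (Or.inl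
          (quadOvergroup_of_halves h2 hf hfix hD hts hG)))))))))))
      · exact Or.inr (Or.inr (Or.inr (Or.inl ⟨m, D, odd_card_iff_two_ne_zero.mpr h2, hm, hD, hts, hG⟩)))
  have hquad : HasQuadOvergroup f G → SymplecticOutcome f G := fun h =>
    Or.inr (Or.inr (Or.inr (Or.inr (Or.inr (Or.inr (Or.inr (Or.inr (Or.inr (Or.inr (Or.inl h))))))))))
  have hsubfield : ∀ N, NormSub G N → ActsAbsolutelyIrreducibly (matrixSet N) → ∀ F₀ : Subfield F, F₀ ≠ ⊤ →
      RealisableOver F₀ (matrixSet N) → SymplecticOutcome f G := fun N hN habs F₀ h0 hre =>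
    Or.inr (Or.inr (Or.inr (Or.inr (Or.inr (Or.inr (Or.inr (Or.inl
      (exists_formRational_symplectic hf (hfixN hN.1) habs hN h0 hre))))))))
  have hfield : HasFormField hR G → SymplecticOutcome f G := by
    rintro ⟨r, K, hK, hK0, hst, hadj⟩
    rcases hR.bilinear_field rfl hfix hK hK0 hst hadj with ⟨s, L, hs, hL, hself, hG⟩ | ⟨rfl, x, hx, hne⟩
    · refine Or.inr (Or.inr (Or.inr (Or.inr (Or.inl ⟨s, L, hs, hL, hR.isSelfAdjointFor hself, fun k hk v => ?_, hG⟩))))
      by_cases h2 : (2 : F) = 0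
      · have hc : CharP F 2 := char_two_of_even fun ho => odd_card_iff_two_ne_zero.mp ho h2
        obtain ⟨l, hl, rfl⟩ : ∃ l ∈ L, k = l * l := by
          letI : Fintype L := Fintype.ofFinite L
          have hinj : Function.Injective fun l : L => l * l := by
            intro a b hab
            have hc' : (a.1 + b.1) * (a.1 + b.1) = 0 := by
              have e := congrArg Subtype.val hab
              simp only [MulMemClass.coe_mul] at e
              rw [add_mul, mul_add, mul_add, e, hL.comm b.1 b.2 a.1 a.2]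
              ext i j
              simp only [Matrix.add_apply, Matrix.zero_apply]
              linear_combination ((b.1 * b.1) i j + (a.1 * b.1) i j) * h2
            by_contra hne'
            have hs0 : a.1 + b.1 ≠ 0 := fun h => hne' (Subtype.ext (by
              ext i j
              have := congrFun (congrFun h i) j
              simp only [Matrix.add_apply, Matrix.zero_apply] at this
              linear_combination this - b.1 i j * h2))
            obtain ⟨z, -, hz⟩ := hL.inv _ (L.add_mem a.2 b.2) hs0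
            apply hs0
            rw [← one_mul (a.1 + b.1), ← mul_eq_one_comm.mp hz, mul_assoc, hc', mul_zero]
          obtain ⟨l, hl⟩ := (Finite.injective_iff_surjective.mp hinj) ⟨k, hk⟩
          exact ⟨l.1, l.2, (congrArg Subtype.val hl).symm⟩
        rw [← mulVec_mulVec, hR.adj_spec, hself l hl, hf.alternating]
      · have h1 : f (k *ᵥ v) v = -f (k *ᵥ v) v := by
          nth_rewrite 1 [hR.adj_spec]
          rw [hself k hk]
          exact hf.skew _ _
        have : (2 : F) * f (k *ᵥ v) v = 0 := by linear_combination h1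
        exact (mul_eq_zero.mp this).resolve_left h2
    · by_cases h2 : (2 : F) = 0
      · exact hquad (quadOvergroup_of_field h2 hf hfix hK hst hadj hx hne)
      · refine Or.inr (Or.inr (Or.inr (Or.inr (Or.inr (Or.inl ⟨K, odd_card_iff_two_ne_zero.mpr h2, hK,
          hR.isAdjointClosedFor hadj, fun hsa => hne ?_, le_subalgebraNormalizer hst⟩)))))
        exact hR.adj_eq (hsa x hx)
  have hmap : ∀ {n : ℕ} (M : Matrix (Fin n) (Fin n) F), M.map (RingEquiv.refl F) = M := fun M => by ext i j; rfl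
  rcases hR.form_structure hn hfix (Or.inr (Or.inl rfl)) with
    (⟨W, h0, hW, hGW⟩ | ⟨W, h0, hW, hd, hGW⟩) | ⟨hD, -⟩ | ⟨hirr, h⟩
  · exact Or.inl ⟨W, h0, hW, hGW⟩
  · exact Or.inr (Or.inl ⟨W, h0, hW, hd, hGW⟩)
  · exact hdecomp hD
  rcases h with h | ⟨n₁, n₂, e, P, B, C, hT⟩ | ⟨t, d, e, P, B, c, ht, hd, hP, K, hK0, hKp, hKf⟩ | ⟨N, hN, habs, h⟩
  · exact hfield h
  · obtain ⟨a, ha, hB, hC⟩ := hR.tensor_sym hT
    rw [RingEquiv.refl_apply] at ha
    rw [hmap] at hB hC
    by_cases h2 : (2 : F) = 0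
    · have hm1 : (-1 : F) = 1 := by linear_combination -h2
      have ha1 : a = 1 := by
        have : (a - 1) * (a - 1) = 0 := by linear_combination ha + (1 - a) * h2
        exact sub_eq_zero.mp (mul_self_eq_zero.mp this)
      rw [ha1, one_smul] at hB hC
      rw [hm1, one_smul] at hC
      have hdiag : ∀ i j, B i i * C j j = 0 := by
        intro i j
        have h1 := form_of_gram hR.sesq e (P : Matrix ι ι F) _ 1 (by rw [one_smul]; exact hT.gram)
          (Pi.single (i, j) 1) (Pi.single (i, j) 1)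
        rw [hf.alternating, one_mul, formOfGram_eq,
          show (RingEquiv.refl F) ∘ (Pi.single (i, j) 1 : Fin n₁ × Fin n₂ → F) = Pi.single (i, j) 1 from rfl] at h1
        simpa using h1.symm
      by_cases hBd : ∀ i, B i i = 0
      · exact hquad (quadOvergroup_of_tensor h2 hf hfix hirr hT hB hC hBd)
      · push Not at hBd
        obtain ⟨i, hi⟩ := hBd
        exact hquad (quadOvergroup_of_tensor h2 hf hfix hirr hT.swap hC hB
          fun j => (mul_eq_zero.mp (hdiag i j)).resolve_left hi)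
    have hodd := odd_card_iff_two_ne_zero.mpr h2
    have key : ∀ {n₁ n₂ : ℕ} {e : ι ≃ Fin n₁ × Fin n₂} {B : Matrix (Fin n₁) (Fin n₁) F}
        {C : Matrix (Fin n₂) (Fin n₂) F}, IsTensorGram (RingEquiv.refl F) f G e P B C → Bᵀ = -B → Cᵀ = C →
        SymplecticOutcome f G := by
      intro n₁ n₂ e B C hT hB hC
      by_cases h3 : 3 ≤ n₂
      · exact Or.inr (Or.inr (Or.inr (Or.inr (Or.inr (Or.inr (Or.inl ⟨n₁, n₂, e, P, _, _, hodd, hT.two_le_left, h3,
          isSymplecticForm_formOf hT.unit_left hB (self_eq_zero_of_skew h2 hB),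
          isSymmetricForm_formOf hT.unit_right hC, hT.structure_eq hR.sesq, hT.le_tensorProductSubgroup⟩))))))
      obtain rfl : n₂ = 2 := by have := hT.two_le_right; omega
      obtain ⟨R, hcomm, hst, hadj, hR0⟩ := orth_two_algebra hf h2 hfix hT hC
      exact (hR.commutative_cases' hfix hirr hcomm hst hadj hR0).elim hdecomp hfield
    rcases mul_self_eq_one_iff.mp ha with h1 | h1
    · rw [h1, one_smul] at hB hC
      rw [neg_one_smul] at hC
      exact key hT.swap hC hB
    · rw [h1, neg_one_smul] at hB hC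
      rw [neg_one_smul] at hC
      exact key hT hB (neg_injective hC)
  · obtain ⟨a, ha, hB, hct⟩ := hP.sym hR (by omega) (by omega)
    rw [RingEquiv.refl_apply] at ha hct
    rw [hmap] at hB
    by_cases h2 : (2 : F) = 0
    · have ha1 : a = 1 := by
        have : (a - 1) * (a - 1) = 0 := by linear_combination ha + (1 - a) * h2
        exact sub_eq_zero.mp (mul_self_eq_zero.mp this)
      rw [ha1, one_smul] at hB
      have hval : ∀ x y : Fin t → Fin d → F,
          f ((P : Matrix ι ι F) *ᵥ (pureTensor x ∘ e)) ((P : Matrix ι ι F) *ᵥ (pureTensor y ∘ e)) =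
            c * ∏ i, x i ⬝ᵥ (B *ᵥ y i) := fun x y => by
        rw [form_of_gram hR.sesq e (P : Matrix ι ι F) _ c hP.gram, formOfGram_eq, ← tens_pure]
        rfl
      have hB0 : ∀ x, x ⬝ᵥ (B *ᵥ x) = 0 := by
        refine alt_of_diag h2 hB fun i => ?_
        have h1 := hval (fun _ => Pi.single i 1) (fun _ => Pi.single i 1)
        rw [hf.alternating] at h1
        have h3 := (mul_eq_zero.mp h1.symm).resolve_left hP.ne_zero
        obtain ⟨k, -, hk⟩ := Finset.prod_eq_zero_iff.mp h3
        simpa using hk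
      obtain ⟨Q, hQ, hQf, hQb⟩ := exists_quad_of_basis h2 hf P
      have hz : ∀ (S : Finset (Fin t)) (x : Fin t → Fin d → F), (∀ i ∉ S, ∃ p, x i = Pi.single p 1) →
          Q ((P : Matrix ι ι F) *ᵥ (pureTensor x ∘ e)) = 0 := by
        intro S
        induction S using Finset.induction_on with
        | empty =>
          intro x hx
          choose p hp using fun i => hx i (Finset.notMem_empty i)
          rw [show x = fun i => Pi.single (p i) 1 from funext hp, pureTensor_single]
          convert hQb (e.symm p)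
          funext i
          simp [Pi.single_apply, Equiv.eq_symm_apply]
        | insert k S hk ih =>
          intro x hx
          obtain ⟨k', hk'⟩ : ∃ k', k' ≠ k := by
            have : Nontrivial (Fin t) := Fin.nontrivial_iff_two_le.mpr ht
            exact exists_ne k
          have hsum : pureTensor x ∘ e = ∑ p, x k p • (pureTensor (Function.update x k (Pi.single p 1)) ∘ e) := by
            funext i
            rw [Function.comp_apply, pureTensor_update x k, Finset.sum_apply, Finset.sum_apply]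
            rfl
          rw [hsum, mulVec_sum]
          simp only [mulVec_smul]
          refine quad_sum_eq_zero hQ _ _ _ (fun p _ q _ => ?_) fun p _ => ih _ fun i hi => ?_
          · rw [hQf, hval, Finset.prod_eq_zero (Finset.mem_univ k'), mul_zero]
            rw [Function.update_of_ne hk', Function.update_of_ne hk']
            exact hB0 _
          · by_cases hik : i = k
            · subst hik; exact ⟨p, Function.update_self _ _ _⟩
            · obtain ⟨p', hp'⟩ := hx i (by simp [hik, hi])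
              exact ⟨p', by rw [Function.update_of_ne hik, hp']⟩
      refine hquad ⟨fun ho => odd_card_iff_two_ne_zero.mp ho h2, Q, hQ, hQf, fun g hg => ⟨1, fun v => ?_⟩⟩
      rw [Units.val_one, one_mul]
      refine quad_eq_of_cols h2 hQ (fun u v => by rw [hQf, hQf]; exact hfix _ (coe_mem_matrixSet hg) u v) hQb
        (fun b => ?_) v
      obtain ⟨gs, π, s, hs0, hg'⟩ := hP.form g hg
      have e1 : (g : Matrix ι ι F) * (P : Matrix ι ι F) = (P : Matrix ι ι F) *
          (s • (tens (fun i => (gs i : Matrix (Fin d) (Fin d) F)) * permMat d π).submatrix e e) := by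
        rw [← hg']; simp [← mul_assoc]
      rw [mulVec_mulVec, e1, ← mulVec_mulVec]
      have e2 : (s • (tens (fun i => (gs i : Matrix (Fin d) (Fin d) F)) * permMat d π).submatrix e e) *ᵥ
          Pi.single b 1 = s • (pureTensor (fun i p => (gs i : Matrix (Fin d) (Fin d) F) p (e b (π.symm i))) ∘ e) := by
        funext i
        simp only [mulVec_single_one, Pi.smul_apply, Matrix.col_apply, Matrix.smul_apply, submatrix_apply]
        rw [mul_permMat_apply]
        rfl
      rw [e2, mulVec_smul, hQ.smul, hz Finset.univ _ (fun i hi => absurd (Finset.mem_univ i) hi), mul_zero]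
    have hodd := odd_card_iff_two_ne_zero.mpr h2
    have ha' : a ^ t = -1 := by
      refine mul_left_cancel₀ hP.ne_zero ?_
      rw [hct, mul_comm]
    have ha1 : a = -1 := (mul_self_eq_one_iff.mp ha).resolve_left fun h1 => h2 (by
      rw [h1, one_pow] at ha'
      linear_combination ha')
    rw [ha1] at ha' hB
    rw [neg_one_smul] at hB
    have htodd : Odd t := by
      by_contra hev
      rw [(Nat.not_odd_iff_even.mp hev).neg_one_pow] at ha'
      exact h2 (by linear_combination ha')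
    refine Or.inr (Or.inr (Or.inr (Or.inr (Or.inr (Or.inr (Or.inr (Or.inr (Or.inr (Or.inl
      ⟨d, t, e, P, _, hodd, htodd, ?_, hd, ?_, isSymplecticForm_formOf hP.unit hB (self_eq_zero_of_skew h2 hB),
        hP.structure_eq hR.sesq, hP.le_wreath (by omega)⟩)))))))))
    · rcases htodd with ⟨k, rfl⟩; omega
    · rintro ⟨hq, rfl⟩
      exact hK0 (perfect_eq_bot_of_GL_two_three hq hKp)
  rcases h with ⟨F₀, h0, hre⟩ | ⟨-, -, p, k, hp, hpo, hF, hS, hcard, hcen, hminus, hcl, hdim⟩ | ⟨hσ, -⟩ | hcore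
  · exact hsubfield N hN habs F₀ h0 hre
  · exact Or.inr (Or.inr (Or.inr (Or.inr (Or.inr (Or.inr (Or.inr (Or.inr (Or.inl ⟨N, p, k, hS, habs,
      fun g hg => ⟨1, fun u v => by rw [Units.val_one, one_mul]; exact hfixN hN.1 _ (coe_mem_matrixSet hg) u v⟩,
      hp, hpo, hF, hcard, hcen, hminus, hcl, hdim, subgroupNormalizer_of_normSub hN⟩))))))))
  · exact absurd rfl hσ
  by_cases hU : ∃ (σ : F ≃+* F) (g : (ι → F) → (ι → F) → F), IsUnitaryForm σ g ∧ FixesForm (matrixSet N) g
  · obtain ⟨σ, g, hg, hgfix⟩ := hU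
    exact hsubfield N hN habs (fixSubfield σ) (fixSubfield_ne_top hg.ne_refl)
      (realisable_of_two_forms habs hg hgfix hf.bilinear hf.nondegenerate (hfixN hN.1))
  by_cases hQ : ∃ Q : (ι → F) → F, IsNondegenerateQuadraticForm Q ∧ FixesQuadForm (matrixSet N) Q
  · obtain ⟨Q, hQ, hQfix⟩ := hQ
    have hrefl : ∀ M : Matrix ι ι F, M.map (RingEquiv.refl F) = M := fun M => by ext i j; rfl
    obtain ⟨a, ha⟩ := gram_unique (σ := RingEquiv.refl F) (B := gramMatrix (QuadraticMap.polar Q)) habs
      (gram_isUnit hR.sesq hR.nd)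
      (forall_matrixSet.mpr fun x hx => (fixes_iff hR.sesq _).mp (fun u v => hfixN hN.1 _ (coe_mem_matrixSet hx) u v))
      (forall_matrixSet.mpr fun x hx => (fixes_iff (isSesq_of_bilinear hQ.polar_bilinear) _).mp fun u v => by
        simp only [QuadraticMap.polar, ← mulVec_add, hQfix _ (coe_mem_matrixSet hx)])
    have hpa : ∀ u v, QuadraticMap.polar Q u v = a * f u v := fun u v => by
      rw [(isSesq_of_bilinear hQ.polar_bilinear).eq_gram, hR.sesq.eq_gram, ha, smul_mulVec, dotProduct_smul]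
      rfl
    have ha0 : a ≠ 0 := fun h0 => by
      rw [h0, zero_smul] at ha
      exact (gram_isUnit (isSesq_of_bilinear hQ.polar_bilinear) hQ.nondegenerate).ne_zero ha
    by_cases h2 : (2 : F) = 0
    swap
    · exfalso
      obtain ⟨i⟩ := ‹Nonempty ι›
      obtain ⟨⟨x, hx⟩, -⟩ := hf.nondegenerate (Pi.single i 1) (fun h => one_ne_zero (α := F) (by simpa using congrFun h i))
      have h1 := hpa x (Pi.single i 1)
      rw [polar_symm, hpa, hf.skew] at h1
      exact mul_ne_zero (mul_ne_zero h2 ha0) hx (by linear_combination -h1)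
    have hpQ : QuadraticMap.polar (fun v => a⁻¹ * Q v) = f := by
      funext u v
      have h1 := hpa u v
      simp only [QuadraticMap.polar] at h1 ⊢
      rw [← mul_sub, ← mul_sub, h1, ← mul_assoc, inv_mul_cancel₀ ha0, one_mul]
    have hQ' : IsNondegenerateQuadraticForm (fun v => a⁻¹ * Q v) :=
      ⟨fun x v => by simp only [hQ.smul]; ring, hpQ ▸ hf.bilinear, hpQ ▸ hf.nondegenerate⟩
    exact hquad ⟨fun ho => odd_card_iff_two_ne_zero.mp ho h2, _, hQ', fun u v => by rw [hpQ],
      le_quadSimilarityGroup (by omega) hQ' habs hN fun s hs v => congrArg (a⁻¹ * ·) (hQfix s hs v)⟩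
  exact Or.inr (Or.inr (Or.inr (Or.inr (Or.inr (Or.inr (Or.inr (Or.inr (Or.inr (Or.inr (Or.inr
    ⟨N, hcore, hQ, hU⟩))))))))))

end CfsgLib.Aschbacher
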