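import Cfsg.Agent.Aschbacher.Form.OrthEvenTools
import Cfsg.Agent.Aschbacher.Form.Symplectic

/-!
Tensor decompositions and tensor powers of the polar form of a quadratic form with a two-dimensional factor:
a commutative algebra, or a totally singular subspace of half the dimension.
-/
set_option autoImplicit false
set_option maxHeartbeats 1000000

namespace CfsgLib.Aschbacher

open Matrix Cfsg Cfsg.Geo CfsgLib.GeoClifford
open scoped MatrixGroups Kronecker

variable {ι : Type} [Fintype ι] [DecidableEq ι] {F : Type*} [Field F] [Fintype F]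

namespace OE

lemma fixes_polar {Q : (ι → F) → F} {G : Subgroup (GL ι F)}
    (hfix : ∀ g ∈ G, ∀ v, Q ((g : Matrix ι ι F) *ᵥ v) = Q v) : FixesForm (matrixSet G) (QuadraticMap.polar Q) :=
  forall_matrixSet.mpr fun g hg u v => by simp only [QuadraticMap.polar, ← mulVec_add, hfix g hg]

omit [DecidableEq ι] [Fintype F] in
lemma isSymplectic_polar (h2 : (2 : F) = 0) {Q : (ι → F) → F} (hQ : IsNondegenerateQuadraticForm Q) :
    IsSymplecticForm (QuadraticMap.polar Q) :=
  ⟨hQ.polar_bilinear, fun v w => by rw [polar_symm Q w v]; linear_combination QuadraticMap.polar Q v w * h2,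
    fun v => by rw [polar_self_eq hQ, h2, zero_mul], hQ.nondegenerate⟩

section Tensor

variable {f : (ι → F) → (ι → F) → F} {n₁ n₂ : ℕ} {e : ι ≃ Fin n₁ × Fin n₂} {P : GL ι F}
  {B : Matrix (Fin n₁) (Fin n₁) F} {C : Matrix (Fin n₂) (Fin n₂) F}

/-- A two-dimensional symmetric factor gives a commutative algebra. -/
lemma two_algebra_refl (hR : IsRefl (RingEquiv.refl F) (1 : F) f) (h2 : (2 : F) ≠ 0) {G : Subgroup (GL ι F)}
    (hfix : FixesForm (matrixSet G) f) {e : ι ≃ Fin n₁ × Fin 2} {C : Matrix (Fin 2) (Fin 2) F}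
    (h : IsTensorGram (RingEquiv.refl F) f G e P B C) (hCt : Cᵀ = C) :
    ∃ R : Subalgebra F (Matrix ι ι F), (∀ x ∈ R, ∀ y ∈ R, x * y = y * x) ∧ ConjStable G R ∧
      (∀ x ∈ R, hR.adj x ∈ R) ∧ R ≠ ⊥ := by
  classical
  set J : Matrix (Fin 2) (Fin 2) F := !![0, 1; -1, 0] with hJ
  have hJg : ∀ g : Matrix (Fin 2) (Fin 2) F, gᵀ * J * g = g.det • J := by
    intro g
    ext a b
    fin_cases a <;> fin_cases b <;>
      simp [hJ, Matrix.mul_apply, Fin.sum_univ_two, Matrix.det_fin_two] <;> ring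
  obtain ⟨C', hC'⟩ := h.unit_right.exists_left_inv
  have hCC' : C * C' = 1 := mul_eq_one_comm.mp hC'
  have hCmap : ∀ M : Matrix ι ι F, M.map (RingEquiv.refl F) = M := fun M => by ext i j; rfl
  set M : Matrix (Fin 2) (Fin 2) F := C' * J with hM
  set Q : Matrix ι ι F := ((P⁻¹ : GL ι F) : Matrix ι ι F) with hQ
  set X : Matrix ι ι F := (P : Matrix ι ι F) * ((1 : Matrix (Fin n₁) (Fin n₁) F) ⊗ₖ M).submatrix e e * Q with hX
  have hgram : gramMatrix f = Qᵀ * (B ⊗ₖ C).submatrix e e * Q := by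
    rw [← h.gram, hCmap, hQ]
    simp only [← mul_assoc]
    rw [← transpose_mul, Units.mul_inv, transpose_one, one_mul, mul_assoc, Units.mul_inv, mul_one]
  have hMC : Mᵀ * C = C * (-M) := by
    have hJt : Jᵀ = -J := by ext a b; fin_cases a <;> fin_cases b <;> simp [hJ]
    have hC't : C'ᵀ * C = 1 := by rw [← hCt, ← transpose_mul, hCC', transpose_one]
    rw [hM, transpose_mul, mul_assoc, hC't, mul_one, mul_neg, ← mul_assoc, hCC', one_mul, hJt]
  have hXadj : hR.adj X = -X := by
    have h1 : Xᵀ * gramMatrix f = gramMatrix f * (-X).map (RingEquiv.refl F) := by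
      rw [hCmap, hgram, hX]
      calc _ = Qᵀ * (((1 : Matrix (Fin n₁) (Fin n₁) F) ⊗ₖ M).submatrix e e)ᵀ *
            ((Q * (P : Matrix ι ι F))ᵀ * (B ⊗ₖ C).submatrix e e) * Q := by
            simp only [transpose_mul, mul_assoc]
        _ = Qᵀ * ((B ⊗ₖ C).submatrix e e * ((1 : Matrix (Fin n₁) (Fin n₁) F) ⊗ₖ (-M)).submatrix e e) * Q := by
            rw [hQ, Units.inv_mul, transpose_one, one_mul, mul_assoc (Qᵀ), transpose_submatrix,
              ← Matrix.kroneckerMap_transpose, coords_mul, coords_mul, transpose_one, one_mul, mul_one, hMC]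
        _ = _ := by
            have e2 : ((1 : Matrix (Fin n₁) (Fin n₁) F) ⊗ₖ (-M)).submatrix e e =
                -((1 : Matrix (Fin n₁) (Fin n₁) F) ⊗ₖ M).submatrix e e := by
              ext i j; simp
            rw [e2]
            simp only [mul_assoc, mul_neg, neg_mul, hQ, Units.inv_mul_cancel_left]
    have h2' := hR.gram_adj X
    rw [h1] at h2'
    have h3 := (gram_isUnit hR.sesq hR.nd).mul_left_cancel h2'
    rw [hCmap, hCmap] at h3
    exact h3.symm
  refine ⟨Algebra.adjoin F {X}, fun x hx y hy => ?_, fun g hg x hx => ?_, fun x hx => ?_, fun hbot => ?_⟩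
  · exact (Algebra.commute_of_mem_adjoin_singleton_of_commute hy
      ((Algebra.commute_of_mem_adjoin_singleton_of_commute hx (Commute.refl X)).symm)).eq
  · have hgX : ∃ c : F, (g : Matrix ι ι F) * X * ((g⁻¹ : GL ι F) : Matrix ι ι F) = c • X := by
      obtain ⟨a, b, hab⟩ := h.kron g hg
      obtain ⟨s, hs0, hs, -⟩ := h.factor hR.sesq hfix hg hab
      rw [show ((b : Matrix (Fin 2) (Fin 2) F)).map (RingEquiv.refl F) = (b : Matrix (Fin 2) (Fin 2) F) by
        ext i j; rfl] at hs
      set d := (b : Matrix (Fin 2) (Fin 2) F).det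
      have hd : d ≠ 0 := (Matrix.GeneralLinearGroup.det b).ne_zero
      have hbM : (b : Matrix (Fin 2) (Fin 2) F) * M = (s / d) • (M * (b : Matrix (Fin 2) (Fin 2) F)) := by
        have e1 : (b : Matrix (Fin 2) (Fin 2) F)ᵀ * C * ((b : Matrix (Fin 2) (Fin 2) F) * M) =
            (b : Matrix (Fin 2) (Fin 2) F)ᵀ * C * ((s / d) • (M * (b : Matrix (Fin 2) (Fin 2) F))) := by
          rw [← mul_assoc, hs, smul_mul_assoc, hM, ← mul_assoc C, hCC', one_mul, mul_smul_comm, mul_assoc _ C,
            ← mul_assoc C, ← mul_assoc C, hCC', one_mul, ← mul_assoc, hJg, smul_smul, div_mul_cancel₀ _ hd]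
        exact (((Matrix.isUnit_transpose _).mpr b.isUnit).mul h.unit_right).mul_left_cancel e1
      refine ⟨s / d, ?_⟩
      have h1 : (g : Matrix ι ι F) * (P : Matrix ι ι F) =
          (P : Matrix ι ι F) * ((a : Matrix (Fin n₁) (Fin n₁) F) ⊗ₖ (b : Matrix (Fin 2) (Fin 2) F)).submatrix e e := by
        rw [← hab]; simp [← mul_assoc]
      have h4 : ((a : Matrix (Fin n₁) (Fin n₁) F) ⊗ₖ (b : Matrix (Fin 2) (Fin 2) F)).submatrix e e * Q =
          Q * (g : Matrix ι ι F) := by
        rw [← hab, hQ]; simp [mul_assoc]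
      calc _ = (g : Matrix ι ι F) * (P : Matrix ι ι F) * ((1 : Matrix (Fin n₁) (Fin n₁) F) ⊗ₖ M).submatrix e e * Q *
            ((g⁻¹ : GL ι F) : Matrix ι ι F) := by rw [hX]; simp only [mul_assoc]
        _ = (s / d) • ((P : Matrix ι ι F) * ((1 : Matrix (Fin n₁) (Fin n₁) F) ⊗ₖ M).submatrix e e *
            (((a : Matrix (Fin n₁) (Fin n₁) F) ⊗ₖ (b : Matrix (Fin 2) (Fin 2) F)).submatrix e e * Q) *
            ((g⁻¹ : GL ι F) : Matrix ι ι F)) := by
          rw [h1]
          have h5 : ((a : Matrix (Fin n₁) (Fin n₁) F) ⊗ₖ (b : Matrix (Fin 2) (Fin 2) F)).submatrix e e *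
              ((1 : Matrix (Fin n₁) (Fin n₁) F) ⊗ₖ M).submatrix e e = (s / d) •
              (((1 : Matrix (Fin n₁) (Fin n₁) F) ⊗ₖ M).submatrix e e *
              ((a : Matrix (Fin n₁) (Fin n₁) F) ⊗ₖ (b : Matrix (Fin 2) (Fin 2) F)).submatrix e e) := by
            rw [coords_mul, coords_mul, one_mul, mul_one, hbM, Matrix.kronecker_smul]
            rfl
          rw [mul_assoc (P : Matrix ι ι F), h5, mul_smul_comm, smul_mul_assoc, smul_mul_assoc]
          simp only [mul_assoc]
        _ = _ := by rw [h4, hX]; simp only [mul_assoc, Units.mul_inv, mul_one]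
    obtain ⟨c, hc⟩ := hgX
    induction hx using Algebra.adjoin_induction with
    | mem y hy =>
      obtain rfl := Set.mem_singleton_iff.mp hy
      rw [hc]
      exact Subalgebra.smul_mem _ (Algebra.subset_adjoin (Set.mem_singleton X)) _
    | algebraMap r =>
      have : (g : Matrix ι ι F) * algebraMap F (Matrix ι ι F) r * ((g⁻¹ : GL ι F) : Matrix ι ι F)
          = algebraMap F (Matrix ι ι F) r := by
        rw [← Algebra.commutes, mul_assoc, ← Units.val_mul, mul_inv_cancel, Units.val_one, mul_one]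
      rw [this]; exact Subalgebra.algebraMap_mem _ r
    | add u v _ _ hu hv => rw [mul_add, add_mul]; exact Subalgebra.add_mem _ hu hv
    | mul u v _ _ hu hv =>
      have := Subalgebra.mul_mem _ hu hv
      simpa [mul_assoc] using this
  · induction hx using Algebra.adjoin_induction with
    | mem y hy =>
      obtain rfl := Set.mem_singleton_iff.mp hy
      rw [hXadj]
      exact Subalgebra.neg_mem _ (Algebra.subset_adjoin (Set.mem_singleton X))
    | algebraMap r =>
      rw [Algebra.algebraMap_eq_smul_one, hR.adj_smul, hR.adj_one]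
      exact Subalgebra.smul_mem _ (Subalgebra.one_mem _) _
    | add u v _ _ hu hv => rw [hR.adj_add]; exact Subalgebra.add_mem _ hu hv
    | mul u v _ _ hu hv => rw [hR.adj_mul]; exact Subalgebra.mul_mem _ hv hu
  · obtain ⟨c, hc⟩ := eq_bot_iff_scalar.mp hbot X (Algebra.subset_adjoin (Set.mem_singleton X))
    have h3 : ((1 : Matrix (Fin n₁) (Fin n₁) F) ⊗ₖ M).submatrix e e = c • (1 : Matrix ι ι F) := by
      have := congrArg (fun Y => Q * Y * (P : Matrix ι ι F)) hc
      simpa [hX, hQ, mul_assoc] using this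
    have i0 : Fin n₁ := ⟨0, by have := h.two_le_left; omega⟩
    have hMc : M = c • (1 : Matrix (Fin 2) (Fin 2) F) := by
      ext a b
      have := congrFun (congrFun h3 (e.symm (i0, a))) (e.symm (i0, b))
      by_cases hab : a = b
      · subst hab; simpa using this
      · have hne : e.symm (i0, a) ≠ e.symm (i0, b) := by simp [hab]
        simpa [Matrix.one_apply_ne hne, Matrix.one_apply_ne hab] using this
    have hJC : J = c • C := by
      calc J = C * M := by rw [hM, ← mul_assoc, hCC', one_mul]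
        _ = _ := by rw [hMc, mul_smul_comm, mul_one]
    have hJ01 := congrFun (congrFun hJC 0) 1
    have hJ10 := congrFun (congrFun hJC 1) 0
    have hC10 : C 1 0 = C 0 1 := congrFun (congrFun hCt 0) 1
    rw [Matrix.smul_apply, hC10] at hJ10
    rw [Matrix.smul_apply, ← hJ10] at hJ01
    simp [hJ] at hJ01
    exact h2 (by linear_combination hJ01)


variable {Q : (ι → F) → F}

/-- An irreducible group of isometries has alternating symmetric tensor factors in even characteristic. -/
lemma factor_alternating (h2 : (2 : F) = 0) (hQ : IsNondegenerateQuadraticForm Q) {G : Subgroup (GL ι F)}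
    (hfixQ : ∀ g ∈ G, ∀ v, Q ((g : Matrix ι ι F) *ᵥ v) = Q v) (hirr : ActsIrreducibly (matrixSet G))
    (h : IsTensorGram (RingEquiv.refl F) (QuadraticMap.polar Q) G e P B C) (hCt : Cᵀ = C) : ∀ j, C j j = 0 := by
  classical
  have hf : IsSymplecticForm (QuadraticMap.polar Q) := isSymplectic_polar h2 hQ
  have hfix : FixesForm (matrixSet G) (QuadraticMap.polar Q) := fixes_polar hfixQ
  have hs := isSesq_of_bilinear hf.bilinear
  by_contra hC
  push Not at hC
  obtain ⟨j0, hj0⟩ := hC
  exfalso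
  obtain ⟨K, hK0, hKj, hK⟩ := exists_isotropic_hyperplane h2 h.two_le_right hCt hj0
  set R : Matrix ι ι F := ((P⁻¹ : GL ι F) : Matrix ι ι F) with hR
  let rowOf : (ι → F) → Fin n₁ → Fin n₂ → F := fun v i j => (R *ᵥ v) (e.symm (i, j))
  let W : Submodule F (ι → F) :=
    { carrier := {v | ∀ i, rowOf v i ∈ K}
      add_mem' := fun {a b} ha hb i => by
        have : rowOf (a + b) i = rowOf a i + rowOf b i := by funext j; simp [rowOf, mulVec_add]
        rw [this]; exact K.add_mem (ha i) (hb i)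
      zero_mem' := fun i => by
        have : rowOf 0 i = 0 := by funext j; simp [rowOf]
        rw [this]; exact K.zero_mem
      smul_mem' := fun c a ha i => by
        have : rowOf (c • a) i = c • rowOf a i := by funext j; simp [rowOf, mulVec_smul]
        rw [this]; exact K.smul_mem c (ha i) }
  have hrow : ∀ w i, rowOf ((P : Matrix ι ι F) *ᵥ w) i = fun j => w (e.symm (i, j)) := fun w i => by
    funext j; simp [rowOf, hR, mulVec_mulVec]
  obtain ⟨y, hy, hy0⟩ := K.ne_bot_iff.mp hK0
  have i0 : Fin n₁ := ⟨0, by have := h.two_le_left; omega⟩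
  have htop : W = ⊤ := by
    refine eq_top_of_invariant hirr W ?_ fun g hg v hv i => ?_
    · refine W.ne_bot_iff.mpr ⟨(P : Matrix ι ι F) *ᵥ fun a => y (e a).2, fun i => ?_, fun h0 => hy0 ?_⟩
      · rw [hrow]; simpa using hy
      · funext j
        have := congrFun (congrArg (R *ᵥ ·) h0) (e.symm (i0, j))
        simpa [hR, mulVec_mulVec] using this
    · obtain ⟨x, z, hxz⟩ := h.kron g hg
      obtain ⟨s, -, hs', -⟩ := h.factor hs hfix hg hxz
      rw [show ((z : Matrix (Fin n₂) (Fin n₂) F)).map (RingEquiv.refl F) = (z : Matrix (Fin n₂) (Fin n₂) F) by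
        ext a b; rfl] at hs'
      have e1 : R * (g : Matrix ι ι F) =
          ((x : Matrix (Fin n₁) (Fin n₁) F) ⊗ₖ (z : Matrix (Fin n₂) (Fin n₂) F)).submatrix e e * R := by
        rw [← hxz, hR]; simp [mul_assoc]
      have e2 : rowOf ((g : Matrix ι ι F) *ᵥ v) i =
          ∑ l, (x : Matrix (Fin n₁) (Fin n₁) F) i l • ((z : Matrix (Fin n₂) (Fin n₂) F) *ᵥ rowOf v l) := by
        funext j
        simp only [rowOf, mulVec_mulVec v R, e1, ← mulVec_mulVec v _ R, submatrix_mulVec_equiv, Function.comp_apply,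
          Equiv.apply_symm_apply, Finset.sum_apply, Pi.smul_apply, smul_eq_mul]
        simp only [mulVec, dotProduct, Fintype.sum_prod_type, kroneckerMap_apply, Function.comp_apply,
          Finset.mul_sum, mul_assoc]
      rw [e2]
      refine Submodule.sum_mem _ fun l _ => K.smul_mem _ ((hK _).mpr ?_)
      rw [mulVec_mulVec, ← vecMul_transpose (z : Matrix (Fin n₂) (Fin n₂) F), ← dotProduct_mulVec, mulVec_mulVec,
        ← mul_assoc, hs', smul_mulVec, dotProduct_smul, (hK _).mp (hv l), smul_zero]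
  apply hKj
  have hmem : (P : Matrix ι ι F) *ᵥ Pi.single (e.symm (i0, j0)) 1 ∈ W := htop ▸ Submodule.mem_top
  have h1 := hmem i0
  rw [hrow] at h1
  have e1 : (fun j => (Pi.single (e.symm (i0, j0)) 1 : ι → F) (e.symm (i0, j))) = (Pi.single j0 1 : Fin n₂ → F) := by
    ext j
    by_cases hj : j = j0
    · subst hj; simp
    · simp [hj]
  rwa [e1] at h1

/-- Both factors symmetric, one alternating: pure tensors are singular in even characteristic. -/
lemma tensor_pure_singular (h2 : (2 : F) = 0) (hQ : IsNondegenerateQuadraticForm Q) {G : Subgroup (GL ι F)}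
    (hfixQ : ∀ g ∈ G, ∀ v, Q ((g : Matrix ι ι F) *ᵥ v) = Q v) (hirr : ActsIrreducibly (matrixSet G))
    (h : IsTensorGram (RingEquiv.refl F) (QuadraticMap.polar Q) G e P B C) (hBt : Bᵀ = B) (hCt : Cᵀ = C)
    (hB : ∀ i, B i i = 0) :
    ∀ (x : Fin n₁ → F) (y : Fin n₂ → F), Q ((P : Matrix ι ι F) *ᵥ ((fun p => x p.1 * y p.2) ∘ e)) = 0 := by
  classical
  have hf : IsSymplecticForm (QuadraticMap.polar Q) := isSymplectic_polar h2 hQ
  set f := QuadraticMap.polar Q with hfdef
  have hfix : FixesForm (matrixSet G) f := fixes_polar hfixQ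
  have hs := isSesq_of_bilinear hf.bilinear
  have hval : ∀ x y : Fin n₁ × Fin n₂ → F, f ((P : Matrix ι ι F) *ᵥ (x ∘ e)) ((P : Matrix ι ι F) *ᵥ (y ∘ e)) =
      x ⬝ᵥ ((B ⊗ₖ C) *ᵥ y) := fun x y => by
    rw [form_of_gram hs e (P : Matrix ι ι F) _ 1 (by rw [one_smul]; exact h.gram) x y, one_mul, formOfGram_eq]
    rfl
  let v2 : (Fin n₁ → F) → (Fin n₂ → F) → Fin n₁ × Fin n₂ → F := fun x y p => x p.1 * y p.2
  have hv2 : ∀ x x' y y', f ((P : Matrix ι ι F) *ᵥ (v2 x y ∘ e)) ((P : Matrix ι ι F) *ᵥ (v2 x' y' ∘ e)) =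
      (x ⬝ᵥ (B *ᵥ x')) * (y ⬝ᵥ (C *ᵥ y')) := by
    intro x x' y y'
    rw [hval]
    simp only [v2, dotProduct, mulVec, Fintype.sum_prod_type, kroneckerMap_apply]
    rw [Finset.sum_mul_sum]
    refine Finset.sum_congr rfl fun a _ => Finset.sum_congr rfl fun b _ => ?_
    rw [mul_mul_mul_comm, Finset.sum_mul_sum]
    congr 1
    refine Finset.sum_congr rfl fun a' _ => Finset.sum_congr rfl fun b' _ => ?_
    ring
  by_cases hC : ∀ j, C j j = 0
  · obtain ⟨Q₀, hQ₀, hQf, hQb⟩ := exists_quad_of_basis h2 hf P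
    have hz : ∀ x y, Q₀ ((P : Matrix ι ι F) *ᵥ (v2 x y ∘ e)) = 0 := by
      have h1 : ∀ x j, Q₀ ((P : Matrix ι ι F) *ᵥ (v2 x (Pi.single j 1) ∘ e)) = 0 := by
        intro x j
        have hsum : v2 x (Pi.single j 1) ∘ e = ∑ i, x i • (Pi.single (e.symm (i, j)) 1 : ι → F) := by
          funext a
          obtain ⟨⟨i, j'⟩, rfl⟩ := e.symm.surjective a
          simp [v2, Pi.single_apply, Finset.sum_apply]
          by_cases hjj : j' = j
          · subst hjj; simp
          · simp [hjj]
        rw [hsum, mulVec_sum]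
        simp only [mulVec_smul]
        refine quad_sum_eq_zero hQ₀ _ _ _ (fun i _ i' _ => ?_) fun i _ => hQb _
        have e1 : ∀ i, (Pi.single (e.symm (i, j)) 1 : ι → F) = v2 (Pi.single i 1) (Pi.single j 1) ∘ e := fun i => by
          funext a
          obtain ⟨⟨p, q⟩, rfl⟩ := e.symm.surjective a
          by_cases hp : p = i <;> by_cases hq : q = j <;> simp [v2, Pi.single_apply, hp, hq]
        rw [hQf, e1, e1, hv2]
        simp [hC j]
      intro x y
      have hsum : v2 x y ∘ e = ∑ j, y j • (v2 x (Pi.single j 1) ∘ e) := by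
        funext a
        simp [v2, Finset.sum_apply, Pi.single_apply, mul_comm]
      rw [hsum, mulVec_sum]
      simp only [mulVec_smul]
      refine quad_sum_eq_zero hQ₀ _ _ _ (fun j _ j' _ => ?_) fun j _ => h1 x j
      rw [hQf, hv2, alt_of_diag h2 hBt hB, zero_mul]
    suffices hQQ : Q = Q₀ by
      intro x y
      rw [hQQ]
      exact hz x y
    refine OE.quad_eq_of_polar_eq (by rw [h.card_eq]; have := h.two_le_left; have := h.two_le_right; nlinarith) hirr
      hQ.smul hQ₀.smul (fun u v => (hQf u v).symm) (forall_matrixSet.mpr hfixQ) (forall_matrixSet.mpr fun g hg v => ?_)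
    refine quad_eq_of_cols h2 hQ₀ (fun u v => by rw [hQf, hQf]; exact hfix _ (coe_mem_matrixSet hg) u v) hQb
      (fun a => ?_) v
    obtain ⟨x, y, hxy⟩ := h.kron g hg
    have e1 : (g : Matrix ι ι F) * (P : Matrix ι ι F) =
        (P : Matrix ι ι F) * ((x : Matrix (Fin n₁) (Fin n₁) F) ⊗ₖ (y : Matrix (Fin n₂) (Fin n₂) F)).submatrix e e := by
      rw [← hxy]; simp [← mul_assoc]
    rw [mulVec_mulVec, e1, ← mulVec_mulVec]
    have e3 : ((x : Matrix (Fin n₁) (Fin n₁) F) ⊗ₖ (y : Matrix (Fin n₂) (Fin n₂) F)).submatrix e e *ᵥ Pi.single a 1 =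
        v2 (fun i => (x : Matrix (Fin n₁) (Fin n₁) F) i (e a).1) (fun j => (y : Matrix (Fin n₂) (Fin n₂) F) j (e a).2) ∘ e := by
      ext i
      simp [v2]
    rw [e3]
    exact hz (fun i => (x : Matrix (Fin n₁) (Fin n₁) F) i (e a).1)
      (fun j => (y : Matrix (Fin n₂) (Fin n₂) F) j (e a).2)
  exact absurd (factor_alternating h2 hQ hfixQ hirr h hCt) hC

end Tensor

end OE

end CfsgLib.Aschbacher
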