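import Cfsg.Agent.Aschbacher.Form.OrthogonalOdd
import Cfsg.Agent.Geo.OrthPlus

/-!
Tools for groups of isometries of a quadratic form in even dimension and any characteristic: uniqueness of the
form with given polar form, reducible groups, totally singular subspaces from isometric orthogonal subspaces.
-/
set_option autoImplicit false
set_option maxHeartbeats 800000

namespace CfsgLib.Aschbacher

open Matrix Cfsg Cfsg.Geo CfsgLib.GeoClifford
open scoped MatrixGroups

namespace OE

variable {ι : Type} [Fintype ι] [DecidableEq ι] {F : Type*} [Field F] [Fintype F] {Q : (ι → F) → F}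

omit [DecidableEq ι] [Fintype F] in
lemma quad_zero (hQ : IsNondegenerateQuadraticForm Q) : Q 0 = 0 := by simpa using hQ.smul 0 0

omit [Fintype F] in
/-- A subspace stable under a group is stable under the inverse. -/
lemma map_eq_of_stable {G : Subgroup (GL ι F)} {W : Submodule F (ι → F)} (hW : G ≤ subspaceStabilizer W) {g : GL ι F}
    (hg : g ∈ G) : W.map (Matrix.toLin' (g : Matrix ι ι F)) = W := by
  refine le_antisymm ?_ fun v hv => ?_
  · rintro _ ⟨v, hv, rfl⟩
    exact CfsgLib.Geo.mem_subspaceStabilizer.mp (hW hg) v hv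
  · refine ⟨((g⁻¹ : GL ι F) : Matrix ι ι F) *ᵥ v,
      CfsgLib.Geo.mem_subspaceStabilizer.mp (hW (G.inv_mem hg)) v hv, ?_⟩
    rw [Matrix.toLin'_apply, mulVec_mulVec, ← Units.val_mul, mul_inv_cancel, Units.val_one, one_mulVec]

/-- Two forms with the same polar form fixed by an irreducible set of matrices are equal. -/
theorem quad_eq_of_polar_eq (hn : 2 ≤ Fintype.card ι) {S : Set (Matrix ι ι F)} (hirr : ActsIrreducibly S)
    {Q' : (ι → F) → F} (hs : ∀ (c : F) v, Q (c • v) = c ^ 2 * Q v) (hs' : ∀ (c : F) v, Q' (c • v) = c ^ 2 * Q' v)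
    (hpol : ∀ u v, QuadraticMap.polar Q u v = QuadraticMap.polar Q' u v)
    (hfix : ∀ s ∈ S, ∀ v, Q (s *ᵥ v) = Q v) (hfix' : ∀ s ∈ S, ∀ v, Q' (s *ᵥ v) = Q' v) : Q = Q' := by
  classical
  let D : (ι → F) → F := fun v => Q v - Q' v
  have hadd : ∀ a b, D (a + b) = D a + D b := fun a b => by
    have := hpol a b
    simp only [QuadraticMap.polar] at this
    simp only [D]
    linear_combination this
  have hsmul : ∀ (c : F) a, D (c • a) = c ^ 2 * D a := fun c a => by simp only [D, hs, hs']; ring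
  have h00 : D 0 = 0 := by simpa using hsmul 0 0
  let W : Submodule F (ι → F) :=
    { carrier := {v | D v = 0}
      add_mem' := fun {a b} (ha : D a = 0) (hb : D b = 0) => by
        show D (a + b) = 0
        rw [hadd, ha, hb, add_zero]
      zero_mem' := h00
      smul_mem' := fun c a (ha : D a = 0) => by
        show D (c • a) = 0
        rw [hsmul, ha, mul_zero] }
  suffices hW : W = ⊤ by
    funext v
    exact sub_eq_zero.mp (hW ▸ Submodule.mem_top : v ∈ W)
  by_cases h2 : (2 : F) = 0
  swap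
  · rw [eq_top_iff]
    intro v _
    show D v = 0
    have h := hsmul 2 v
    rw [two_smul, hadd] at h
    have h' : (2 : F) * D v = 0 := by linear_combination -h
    exact (mul_eq_zero.mp h').resolve_left h2
  refine (hirr W fun s hs'' => ?_).resolve_left fun h0 => ?_
  · rintro _ ⟨v, hv, rfl⟩
    show D _ = 0
    rw [Matrix.toLin'_apply]
    simp only [D, hfix s hs'', hfix' s hs'']
    exact hv
  have hc : CharP F 2 := char_two_of_even fun ho => odd_card_iff_two_ne_zero.mp ho h2
  obtain ⟨a, b, hab⟩ := Fintype.exists_pair_of_one_lt_card (α := ι) (by omega)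
  by_cases hb : D (Pi.single b 1) = 0
  · have : (Pi.single b (1 : F) : ι → F) ∈ W := hb
    rw [h0, Submodule.mem_bot] at this
    simpa using congrFun this b
  obtain ⟨s, hs⟩ := (Finite.injective_iff_surjective.mp (frobenius_inj F 2)) (D (Pi.single a 1) / D (Pi.single b 1))
  rw [frobenius_def] at hs
  have hmem : (Pi.single a (1 : F) + s • Pi.single b 1 : ι → F) ∈ W := by
    show D _ = 0
    rw [hadd, hsmul, hs, div_mul_cancel₀ _ hb]
    linear_combination D (Pi.single a 1) * h2
  rw [h0, Submodule.mem_bot] at hmem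
  simpa [Pi.single_apply, hab] using congrFun hmem a

/-- An isotropic subspace for the polar form: a singular subspace, or a fixed non-singular vector in even characteristic. -/
theorem singular_or_vector (hQ : IsNondegenerateQuadraticForm Q) {G : Subgroup (GL ι F)}
    (hfix : ∀ g ∈ G, ∀ v, Q ((g : Matrix ι ι F) *ᵥ v) = Q v) {W : Submodule F (ι → F)} (h0 : W ≠ ⊥)
    (hW : IsTotallySingularFor (QuadraticMap.polar Q) W) (hG : G ≤ subspaceStabilizer W) :
    (∃ U : Submodule F (ι → F), U ≠ ⊥ ∧ IsTotallySingularQuad Q U ∧ G ≤ subspaceStabilizer U) ∨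
    (¬ Odd (Fintype.card F) ∧ ∃ v : ι → F, Q v ≠ 0 ∧ G ≤ subspaceStabilizer (Submodule.span F {v})) := by
  by_cases h2 : (2 : F) = 0
  swap
  · refine Or.inl ⟨W, h0, fun w hw => ?_, hG⟩
    have h := hW w hw w hw
    rw [polar_self_eq hQ] at h
    exact (mul_eq_zero.mp h).resolve_left h2
  have hc : CharP F 2 := char_two_of_even fun ho => odd_card_iff_two_ne_zero.mp ho h2
  let U : Submodule F (ι → F) :=
    { carrier := {v | v ∈ W ∧ Q v = 0}
      add_mem' := fun {a b} ha hb => ⟨W.add_mem ha.1 hb.1, by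
        rw [quad_add hQ, ha.2, hb.2, hW a ha.1 b hb.1, add_zero, add_zero]⟩
      zero_mem' := ⟨W.zero_mem, quad_zero hQ⟩
      smul_mem' := fun c a ha => ⟨W.smul_mem c ha.1, by rw [hQ.smul, ha.2, mul_zero]⟩ }
  by_cases hU : U = ⊥
  swap
  · refine Or.inl ⟨U, hU, fun w hw => hw.2, fun g hg => CfsgLib.Geo.mem_subspaceStabilizer.mpr fun v hv => ?_⟩
    exact ⟨CfsgLib.Geo.mem_subspaceStabilizer.mp (hG hg) v hv.1, (hfix g hg v).trans hv.2⟩
  obtain ⟨v, hv, hv0⟩ := W.ne_bot_iff.mp h0
  have hQv : Q v ≠ 0 := fun h => hv0 (by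
    have hm : v ∈ U := ⟨hv, h⟩
    rwa [hU, Submodule.mem_bot] at hm)
  refine Or.inr ⟨fun ho => odd_card_iff_two_ne_zero.mp ho h2, v, hQv, ?_⟩
  have hWv : W = Submodule.span F {v} := by
    refine le_antisymm (fun w hw => ?_) ((Submodule.span_singleton_le_iff_mem _ _).mpr hv)
    obtain ⟨s, hs⟩ := (Finite.injective_iff_surjective.mp (frobenius_inj F 2)) (Q w / Q v)
    rw [frobenius_def] at hs
    have hm : w + s • v ∈ U := ⟨W.add_mem hw (W.smul_mem s hv), by
      rw [quad_add hQ, hQ.smul, hs, div_mul_cancel₀ _ hQv, hW w hw _ (W.smul_mem s hv)]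
      linear_combination Q w * h2⟩
    rw [hU, Submodule.mem_bot] at hm
    rw [eq_neg_of_add_eq_zero_left hm]
    exact Submodule.neg_mem _ (Submodule.smul_mem _ _ (Submodule.mem_span_singleton_self v))
  rwa [hWv] at hG

/-- A reducible group of isometries fixes an isotropic subspace or a pair of complementary non-degenerate subspaces. -/
theorem reducible (hQ : IsNondegenerateQuadraticForm Q) {G : Subgroup (GL ι F)}
    (hfix : FixesForm (matrixSet G) (QuadraticMap.polar Q)) (hred : ¬ ActsIrreducibly (matrixSet G)) :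
    (∃ W : Submodule F (ι → F), W ≠ ⊥ ∧ IsTotallySingularFor (QuadraticMap.polar Q) W ∧ G ≤ subspaceStabilizer W) ∨
    (∃ W : Submodule F (ι → F), W ≠ ⊥ ∧ W ≠ ⊤ ∧ 2 * Module.finrank F W ≤ Fintype.card ι ∧
      IsNondegenerateOn (QuadraticMap.polar Q) W ∧ G ≤ subspaceStabilizer W) := by
  have hfh := isHerm_polar hQ
  obtain ⟨W, h0, h1, hW⟩ := exists_subspace_of_not_irreducible hred
  by_cases hWW : W ⊓ hfh.perp W = ⊥
  swap
  · refine Or.inl ⟨_, hWW, fun u hu v hv => hu.2 v hv.1, fun g hg => ?_⟩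
    refine CfsgLib.Geo.mem_subspaceStabilizer.mpr fun v hv => ⟨?_, ?_⟩
    · exact CfsgLib.Geo.mem_subspaceStabilizer.mp (hW hg) v hv.1
    · exact CfsgLib.Geo.mem_subspaceStabilizer.mp (hfh.perp_stable hfix hW hg) v hv.2
  have hnd : IsNondegenerateOn (QuadraticMap.polar Q) W := by
    intro w hw hw0
    obtain ⟨x, hx, hne⟩ : ∃ x ∈ W, QuadraticMap.polar Q w x ≠ 0 := by
      by_contra h
      push Not at h
      exact hw0 ((Submodule.mem_bot F).mp (hWW ▸ ⟨hw, h⟩))
    exact ⟨⟨x, hx, by rwa [polar_symm]⟩, x, hx, hne⟩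
  obtain ⟨hP, hsum⟩ := hfh.perp_nondegenerate hnd
  have hlt := Submodule.finrank_lt h1
  rw [Module.finrank_fintype_fun_eq_card] at hlt
  have hpos : 0 < Module.finrank F W := Nat.pos_of_ne_zero fun h => h0 (Submodule.finrank_eq_zero.mp h)
  right
  by_cases h : 2 * Module.finrank F W ≤ Fintype.card ι
  · exact ⟨W, h0, h1, h, hnd, hW⟩
  · refine ⟨hfh.perp W, fun h' => ?_, fun h' => ?_, by omega, hP, hfh.perp_stable hfix hW⟩
    · rw [h', finrank_bot] at hsum; omega
    · rw [h', finrank_top, Module.finrank_fintype_fun_eq_card] at hsum; omega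

/-- A totally singular subspace of half the dimension makes the form of plus type. -/
lemma plus_of_ts {T : Submodule F (ι → F)} (hT : IsTotallySingularQuad Q T)
    (hd : 2 * Module.finrank F T = Fintype.card ι) : IsPlusTypeOn Q ⊤ :=
  ⟨T, le_top, hT, by rw [finrank_top, Module.finrank_fintype_fun_eq_card, hd]⟩

/-- A subspace of even dimension and an isometric image orthogonal to it give a totally singular subspace. -/
theorem exists_ts_of_isometric (hQ : IsNondegenerateQuadraticForm Q) {U U' : Submodule F (ι → F)}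
    (hU : IsNondegenerateOn (QuadraticMap.polar Q) U) {j : ℕ} (hj : Module.finrank F U = j + j)
    (hperp : ∀ x ∈ U, ∀ y ∈ U', QuadraticMap.polar Q x y = 0) (ψ : U →ₗ[F] (ι → F)) (hψ : ∀ x : U, ψ x ∈ U')
    (hψQ : ∀ x : U, Q (ψ x) = Q x) :
    ∃ T : Submodule F (ι → F), T ≤ U ⊔ U' ∧ IsTotallySingularQuad Q T ∧ Module.finrank F T = Module.finrank F U := by
  obtain ⟨Q', rfl, hQ'⟩ := CfsgLib.Geo.OS.exists_quadraticForm hQ
  have hND := CfsgLib.Geo.OS.nd_of_isNondegenerateOn hU
  obtain ⟨τ, hτ⟩ : ∃ τ : U →ₗ[F] (ι → F), ∀ x : U, τ x ∈ U ∧ Q' (τ x) = -Q' x := by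
    by_cases h2 : (2 : F) = 0
    · refine ⟨U.subtype, fun x => ⟨x.2, ?_⟩⟩
      have : Q' (x : ι → F) + Q' (x : ι → F) = 0 := by rw [← two_mul, h2, zero_mul]
      exact eq_neg_of_add_eq_zero_left this
    · exact CfsgLib.Geo.OS.exists_neg_similitude hND h2 hj
  have hker : ∀ x : U, ψ x = 0 → x = 0 := by
    intro x hx
    by_contra hne
    obtain ⟨-, y, hy, hxy⟩ := hU x x.2 (fun h => hne (Subtype.ext h))
    apply hxy
    have hadd := hψQ (x + ⟨y, hy⟩)
    rw [map_add, hx, zero_add, hψQ, Submodule.coe_add] at hadd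
    have hx0 := hψQ x
    rw [hx, quad_zero hQ] at hx0
    rw [QuadraticMap.polar, ← hadd, ← hx0]
    ring
  have hUψ : ∀ x : U, ψ x ∈ U → x = 0 := fun x hm => hker x (by
    by_contra hne
    obtain ⟨-, y, hy, hxy⟩ := hU _ hm hne
    exact hxy ((polar_symm _ _ _).trans (hperp y hy _ (hψ x))))
  set L : U →ₗ[F] (ι → F) := τ + ψ
  have hLinj : Function.Injective L := by
    rw [← LinearMap.ker_eq_bot, LinearMap.ker_eq_bot']
    intro x hx
    change τ x + ψ x = 0 at hx
    exact hUψ x (by rw [eq_neg_of_add_eq_zero_right hx]; exact U.neg_mem (hτ x).1)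
  refine ⟨LinearMap.range L, ?_, ?_, LinearMap.finrank_range_of_inj hLinj⟩
  · rintro _ ⟨x, rfl⟩
    exact Submodule.add_mem_sup (hτ x).1 (hψ x)
  rintro _ ⟨x, rfl⟩
  change Q' (τ x + ψ x) = 0
  rw [quad_add hQ, (hτ x).2, hψQ, hperp _ (hτ x).1 _ (hψ x), neg_add_cancel, add_zero]

/-- Orthogonal totally singular subspaces in disjoint spaces add up. -/
lemma ts_sup (hQ : IsNondegenerateQuadraticForm Q) {T T' : Submodule F (ι → F)} (hT : IsTotallySingularQuad Q T)
    (hT' : IsTotallySingularQuad Q T') (hperp : ∀ x ∈ T, ∀ y ∈ T', QuadraticMap.polar Q x y = 0)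
    (hd : Disjoint T T') : IsTotallySingularQuad Q (T ⊔ T') ∧
      Module.finrank F (T ⊔ T' : Submodule F (ι → F)) = Module.finrank F T + Module.finrank F T' := by
  refine ⟨fun w hw => ?_, ?_⟩
  · obtain ⟨x, hx, y, hy, rfl⟩ := Submodule.mem_sup.mp hw
    rw [quad_add hQ, hT x hx, hT' y hy, hperp x hx y hy, add_zero, add_zero]
  · have := Submodule.finrank_sup_add_finrank_inf_eq T T'
    rwa [disjoint_iff.mp hd, finrank_bot, add_zero] at this

/-- The members of a decomposition permuted transitively by isometries are pairwise isometric. -/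
theorem isometric_of_transitive {G : Subgroup (GL ι F)} (hfix : ∀ g ∈ G, ∀ v, Q ((g : Matrix ι ι F) *ᵥ v) = Q v)
    (hirr : ActsIrreducibly (matrixSet G)) {t m : ℕ} {D : Fin t → Submodule F (ι → F)}
    (hD : IsNondegenerateMDecomposition (QuadraticMap.polar Q) m D) (hG : G ≤ decompositionStabilizer D) :
    IsOrthogonalMDecomposition Q m D := by
  refine ⟨hD, fun i j => ?_⟩
  obtain ⟨g, hg, hmap⟩ := decomposition_transitive hirr hD.decomp hG i j
  refine ⟨(Submodule.equivMapOfInjective _ (mulVec_injective_GL g) _).trans (LinearEquiv.ofEq _ _ hmap), fun w => ?_⟩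
  simp only [LinearEquiv.trans_apply, LinearEquiv.coe_ofEq_apply, Submodule.coe_equivMapOfInjective_apply,
    Matrix.toLin'_apply]
  exact hfix g hg _

/-- Two members of even dimension of an isometric decomposition contain a singular subspace of that dimension. -/
lemma exists_ts_members (hQ : IsNondegenerateQuadraticForm Q) {t m : ℕ} {D : Fin t → Submodule F (ι → F)}
    (hD : IsOrthogonalMDecomposition Q m D) (hm : Even m) {a b : Fin t} (hab : a ≠ b) :
    ∃ T : Submodule F (ι → F), T ≤ D a ⊔ D b ∧ IsTotallySingularQuad Q T ∧ Module.finrank F T = m := by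
  obtain ⟨e, he⟩ := hD.isometric a b
  obtain ⟨j, hj⟩ := hm
  obtain ⟨T, h1, h2, h3⟩ := exists_ts_of_isometric hQ (hD.decomp.nondegenerate a) (j := j)
    (by rw [hD.decomp.decomp.finrank_eq, hj]) (hD.decomp.orthogonal a b hab) ((D b).subtype.comp e.toLinearMap)
    (fun x => (e x).2) he
  exact ⟨T, h1, h2, by rw [h3, hD.decomp.decomp.finrank_eq]⟩

/-- In dimension eight an isometric decomposition forces plus type. -/
theorem plus_of_decomposition_eight (hQ : IsNondegenerateQuadraticForm Q) (h8 : Fintype.card ι = 8) {t m : ℕ}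
    {D : Fin t → Submodule F (ι → F)} (hD : IsOrthogonalMDecomposition Q m D) : IsPlusTypeOn Q ⊤ := by
  classical
  have htm := decomposition_card hD.decomp.decomp
  rw [h8] at htm
  have ht := hD.decomp.decomp.two_le
  have hm := hD.decomp.decomp.pos
  have hdvd : m ∣ 8 := ⟨t, by rw [← htm, mul_comm]⟩
  have hm4 : m ≤ 4 := by nlinarith
  interval_cases m
  · -- eight lines
    obtain rfl : t = 8 := by omega
    have hex : ∀ i, ∃ v ∈ D i, v ≠ 0 := fun i => (D i).ne_bot_iff.mp fun h => by
      have := hD.decomp.decomp.finrank_eq i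
      rw [h, finrank_bot] at this
      omega
    obtain ⟨v0, hv0, hv00⟩ := hex 0
    choose E hE using fun i => hD.isometric 0 i
    set v : Fin 8 → ι → F := fun i => (E i ⟨v0, hv0⟩ : ι → F) with hv
    have hvQ : ∀ i, Q (v i) = Q v0 := fun i => hE i _
    have hvD : ∀ i, v i ∈ D i := fun i => (E i _).2
    have hvne : ∀ i, v i ≠ 0 := fun i h => by
      have h0 : E i ⟨v0, hv0⟩ = 0 := Subtype.ext h
      exact hv00 (congrArg Subtype.val ((E i).map_eq_zero_iff.mp h0))
    have hp : ∀ i j, i ≠ j → QuadraticMap.polar Q (v i) (v j) = 0 := fun i j hij =>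
      hD.decomp.orthogonal i j hij _ (hvD i) _ (hvD j)
    have h2 : (2 : F) ≠ 0 := by
      intro h2
      obtain ⟨-, x, hx, hx0⟩ := hD.decomp.nondegenerate 0 v0 hv0 hv00
      apply hx0
      obtain ⟨c, hc⟩ := Submodule.mem_span_singleton.mp (show x ∈ Submodule.span F {v0} by
        rw [Submodule.eq_of_le_of_finrank_le ((Submodule.span_singleton_le_iff_mem _ _).mpr hv0)
          (by rw [hD.decomp.decomp.finrank_eq, finrank_span_singleton hv00])]
        exact hx)
      rw [← hc, hQ.polar_bilinear.smul_right, polar_self_eq hQ, h2, zero_mul, mul_zero]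
    obtain ⟨a, b, hab⟩ := CfsgLib.Forms.exists_binary h2 one_ne_zero one_ne_zero (-1 : F)
    have hli : LinearIndependent F v := hD.decomp.decomp.indep.linearIndependent _ hvD hvne
    let u : Fin 4 → ι → F := ![a • v 0 + b • v 1 + v 2, (-b) • v 0 + a • v 1 + v 3,
      a • v 4 + b • v 5 + v 6, (-b) • v 4 + a • v 5 + v 7]
    have hu : LinearIndependent F u := by
      refine Fintype.linearIndependent_iff.mpr fun k hk => ?_
      have h := Fintype.linearIndependent_iff.mp hli ![k 0 * a - k 1 * b, k 0 * b + k 1 * a, k 0, k 1,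
        k 2 * a - k 3 * b, k 2 * b + k 3 * a, k 2, k 3] (by
          rw [← hk]
          simp [Fin.sum_univ_eight, Fin.sum_univ_four, u]
          module)
      intro i
      fin_cases i
      · exact h 2
      · exact h 3
      · exact h 6
      · exact h 7
    refine plus_of_ts (T := Submodule.span F (Set.range u)) ?_ (by rw [finrank_span_eq_card hu, h8]; rfl)
    intro w hw
    obtain ⟨k, rfl⟩ := (Submodule.mem_span_range_iff_exists_fun F).mp hw
    refine quad_sum_eq_zero hQ _ _ _ (fun p _ q _ => ?_) fun p _ => ?_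
    · have hself : ∀ i, QuadraticMap.polar Q (v i) (v i) = 2 * Q v0 := fun i => by rw [polar_self_eq hQ, hvQ]
      fin_cases p <;> fin_cases q <;>
        simp [-neg_smul, u, hQ.polar_bilinear.add_left, hQ.polar_bilinear.add_right, hQ.polar_bilinear.smul_left,
          hQ.polar_bilinear.smul_right, hp, hself] <;>
        first | ring1 | linear_combination (2 * Q v0) * hab
    · fin_cases p <;>
        simp [-neg_smul, u, quad_add hQ, hQ.smul, hQ.polar_bilinear.add_left,
          hQ.polar_bilinear.smul_left, hQ.polar_bilinear.smul_right, hp, hvQ] <;>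
        linear_combination Q v0 * hab
  · obtain rfl : t = 4 := by omega
    obtain ⟨T, hle, hT, hd⟩ := exists_ts_members hQ hD even_two (show (0 : Fin 4) ≠ 1 by decide)
    obtain ⟨T', hle', hT', hd'⟩ := exists_ts_members hQ hD even_two (show (2 : Fin 4) ≠ 3 by decide)
    have horth : ∀ x ∈ D 0 ⊔ D 1, ∀ y ∈ D 2 ⊔ D 3, QuadraticMap.polar Q x y = 0 := by
      intro x hx y hy
      obtain ⟨a, ha, b, hb, rfl⟩ := Submodule.mem_sup.mp hx
      obtain ⟨c, hc, d, hd, rfl⟩ := Submodule.mem_sup.mp hy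
      have ho := hD.decomp.orthogonal
      simp [hQ.polar_bilinear.add_left, hQ.polar_bilinear.add_right, ho 0 2 (by decide) a ha c hc,
        ho 0 3 (by decide) a ha d hd, ho 1 2 (by decide) b hb c hc, ho 1 3 (by decide) b hb d hd]
    have hdisj : Disjoint T T' := by
      refine Disjoint.mono hle hle' ?_
      have h := hD.decomp.decomp.indep.disjoint_biSup_biSup (s := ({0, 1} : Set (Fin 4))) (t := {2, 3}) (by simp)
      rwa [iSup_pair, iSup_pair] at h
    obtain ⟨h1, h2⟩ := ts_sup hQ hT hT' (fun x hx y hy => horth x (hle hx) y (hle' hy)) hdisj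
    exact plus_of_ts h1 (by rw [h2, hd, hd', h8])
  · norm_num at hdvd
  · obtain rfl : t = 2 := by omega
    obtain ⟨T, -, hT, hd⟩ := exists_ts_members hQ hD ⟨2, rfl⟩ (show (0 : Fin 2) ≠ 1 by decide)
    exact plus_of_ts hT (by rw [hd, h8])

/-- The halves of a stabilised pair of polar-isotropic halves are singular when the group is irreducible. -/
theorem halves_singular (hQ : IsNondegenerateQuadraticForm Q) {G : Subgroup (GL ι F)}
    (hfix : ∀ g ∈ G, ∀ v, Q ((g : Matrix ι ι F) *ᵥ v) = Q v) (hirr : ActsIrreducibly (matrixSet G)) {m : ℕ}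
    (hm2 : 2 ≤ m) {D : Fin 2 → Submodule F (ι → F)} (hD : IsMDecomposition m D)
    (hts : ∀ i, IsTotallySingularFor (QuadraticMap.polar Q) (D i)) (hG : G ≤ decompositionStabilizer D) :
    IsTotallySingularQuad Q (D 0) := by
  by_cases h2 : (2 : F) = 0
  swap
  · intro w hw
    have h := hts 0 w hw w hw
    rw [polar_self_eq hQ] at h
    exact (mul_eq_zero.mp h).resolve_left h2
  have hc : CharP F 2 := char_two_of_even fun ho => odd_card_iff_two_ne_zero.mp ho h2
  let U : Fin 2 → Submodule F (ι → F) := fun i =>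
    { carrier := {v | v ∈ D i ∧ Q v = 0}
      add_mem' := fun {a b} ha hb => ⟨(D i).add_mem ha.1 hb.1, by
        rw [quad_add hQ, ha.2, hb.2, hts i a ha.1 b hb.1, add_zero, add_zero]⟩
      zero_mem' := ⟨(D i).zero_mem, quad_zero hQ⟩
      smul_mem' := fun c a ha => ⟨(D i).smul_mem c ha.1, by rw [hQ.smul, ha.2, mul_zero]⟩ }
  have hU0 : U 0 ≠ ⊥ := by
    intro hU
    obtain ⟨v, hv, hv0⟩ := (D 0).ne_bot_iff.mp fun h => by
      have := hD.finrank_eq 0; rw [h, finrank_bot] at this; omega
    have hQv : Q v ≠ 0 := fun h => hv0 (by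
      have hm : v ∈ U 0 := ⟨hv, h⟩
      rwa [hU, Submodule.mem_bot] at hm)
    have hle : D 0 ≤ Submodule.span F {v} := by
      intro w hw
      obtain ⟨s, hs⟩ := (Finite.injective_iff_surjective.mp (frobenius_inj F 2)) (Q w / Q v)
      rw [frobenius_def] at hs
      have hmem : w + s • v ∈ U 0 := ⟨(D 0).add_mem hw ((D 0).smul_mem s hv), by
        rw [quad_add hQ, hQ.smul, hs, div_mul_cancel₀ _ hQv, hts 0 w hw _ ((D 0).smul_mem s hv)]
        linear_combination Q w * h2⟩
      rw [hU, Submodule.mem_bot] at hmem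
      rw [eq_neg_of_add_eq_zero_left hmem]
      exact Submodule.neg_mem _ (Submodule.smul_mem _ _ (Submodule.mem_span_singleton_self v))
    have := Submodule.finrank_mono hle
    rw [hD.finrank_eq, finrank_span_singleton hv0] at this
    omega
  have htop : U 0 ⊔ U 1 = ⊤ := by
    refine eq_top_of_invariant hirr _ (fun h => hU0 (eq_bot_iff.mpr (h ▸ le_sup_left))) fun g hg v hv => ?_
    obtain ⟨a, ha, b, hb, rfl⟩ := Submodule.mem_sup.mp hv
    obtain ⟨π, hπ⟩ := hG hg
    have hmap : ∀ i x, x ∈ U i → (g : Matrix ι ι F) *ᵥ x ∈ U 0 ⊔ U 1 := fun i x hx => by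
      have hm : (g : Matrix ι ι F) *ᵥ x ∈ U (π i) :=
        ⟨by rw [← hπ i]; exact ⟨x, hx.1, Matrix.toLin'_apply _ _⟩, (hfix g hg x).trans hx.2⟩
      revert hm
      generalize π i = j
      intro hm
      fin_cases j
      · exact Submodule.mem_sup_left hm
      · exact Submodule.mem_sup_right hm
    rw [mulVec_add]
    exact Submodule.add_mem _ (hmap 0 a ha) (hmap 1 b hb)
  intro w hw
  obtain ⟨a, ha, b, hb, rfl⟩ := Submodule.mem_sup.mp (htop ▸ Submodule.mem_top : w ∈ U 0 ⊔ U 1)
  have hb0 : b = 0 := Submodule.disjoint_def.mp (hD.indep.pairwiseDisjoint (show (0 : Fin 2) ≠ 1 by decide)) b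
    (by simpa using (D 0).sub_mem hw ha.1) hb.1
  rw [hb0, add_zero]
  exact ha.2

/-- A pair of polar-isotropic halves stabilised by an irreducible group forces plus type. -/
theorem plus_of_halves (hQ : IsNondegenerateQuadraticForm Q) {G : Subgroup (GL ι F)}
    (hfix : ∀ g ∈ G, ∀ v, Q ((g : Matrix ι ι F) *ᵥ v) = Q v) (hirr : ActsIrreducibly (matrixSet G)) {m : ℕ}
    (hm2 : 2 ≤ m) {D : Fin 2 → Submodule F (ι → F)} (hm : 2 * m = Fintype.card ι) (hD : IsMDecomposition m D)
    (hts : ∀ i, IsTotallySingularFor (QuadraticMap.polar Q) (D i)) (hG : G ≤ decompositionStabilizer D) :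
    IsPlusTypeOn Q ⊤ :=
  plus_of_ts (halves_singular hQ hfix hirr hm2 hD hts hG) (by rw [hD.finrank_eq, hm])

end OE

end CfsgLib.Aschbacher
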