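import Cfsg.Agent.Aschbacher.Forms

/-!
A field of self-adjoint maps for an alternating form, alternating over it, halves the dimension.
-/
set_option autoImplicit false

namespace CfsgLib.Aschbacher

open Matrix Cfsg.Geo
open scoped MatrixGroups

variable {ι : Type} [Fintype ι] [DecidableEq ι] {F : Type*} [Field F]

/-- The degree of a self-adjoint field with `f(kv, v) = 0` divides half the dimension. -/
theorem two_mul_dvd_of_selfAdjoint {f : (ι → F) → (ι → F) → F} (hf : IsSymplecticForm f) {r : ℕ}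
    {K : Subalgebra F (Matrix ι ι F)} (hK : IsFieldSubalgebra r K) (hsa : IsSelfAdjointFor f K)
    (halt : ∀ k ∈ K, ∀ v, f (k *ᵥ v) v = 0) : 2 * r ∣ Fintype.card ι := by
  classical
  have hb := hf.bilinear
  have hskew := hf.skew
  suffices key : ∀ (d : ℕ) (W : Submodule F (ι → F)), Module.finrank F W = d → IsNondegenerateOn f W →
      (∀ k ∈ K, ∀ w ∈ W, k *ᵥ w ∈ W) → 2 * r ∣ d by
    refine key _ ⊤ (by rw [finrank_top, Module.finrank_fintype_fun_eq_card]) (fun w _ hw => ?_) (fun _ _ _ _ => trivial)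
    obtain ⟨⟨a, ha⟩, b, hb⟩ := hf.nondegenerate w hw
    exact ⟨⟨a, trivial, ha⟩, b, trivial, hb⟩
  intro d
  induction d using Nat.strong_induction_on with
  | _ d ih =>
  intro W hd hW hinv
  rcases eq_or_ne W ⊥ with rfl | hne
  · rw [← hd, finrank_bot]; exact dvd_zero _
  obtain ⟨e, he, he0⟩ := W.ne_bot_iff.mp hne
  obtain ⟨-, x, hx, hex⟩ := hW e he he0
  let L : K × K →ₗ[F] (ι → F) :=
    { toFun := fun kk => (kk.1 : Matrix ι ι F) *ᵥ e + (kk.2 : Matrix ι ι F) *ᵥ x
      map_add' := fun a b => by simp [add_mulVec, add_add_add_comm]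
      map_smul' := fun c a => by simp [smul_mulVec] }
  have hee : ∀ k ∈ K, ∀ k' ∈ K, f (k *ᵥ e) (k' *ᵥ e) = 0 := fun k hk k' hk' => by
    rw [hskew, hsa k' hk' e, neg_eq_zero, mulVec_mulVec, hskew, halt _ (K.mul_mem hk' hk), neg_zero]
  have hxx : ∀ k ∈ K, ∀ k' ∈ K, f (k *ᵥ x) (k' *ᵥ x) = 0 := fun k hk k' hk' => by
    rw [hskew, hsa k' hk' x, neg_eq_zero, mulVec_mulVec, hskew, halt _ (K.mul_mem hk' hk), neg_zero]
  -- the two isotropic lines over `K` span a non-degenerate space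
  have hpair : ∀ a : K × K, a ≠ 0 → ∃ b : K × K, f (L a) (L b) ≠ 0 := by
    rintro ⟨⟨a, ha⟩, ⟨a', ha'⟩⟩ hne0
    by_cases h' : a' = 0
    · have ha0 : a ≠ 0 := fun h => hne0 (Prod.ext (Subtype.ext h) (Subtype.ext h'))
      obtain ⟨y, hy, hy1⟩ := hK.inv a ha ha0
      refine ⟨(0, ⟨y, hy⟩), ?_⟩
      show f (a *ᵥ e + a' *ᵥ x) (((0 : K) : Matrix ι ι F) *ᵥ e + y *ᵥ x) ≠ 0
      rw [h', zero_mulVec, add_zero, ZeroMemClass.coe_zero, zero_mulVec, zero_add, hsa a ha, mulVec_mulVec, hy1,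
        one_mulVec]
      exact hex
    · obtain ⟨y, hy, hy1⟩ := hK.inv a' ha' h'
      refine ⟨(⟨y, hy⟩, 0), ?_⟩
      show f (a *ᵥ e + a' *ᵥ x) (y *ᵥ e + ((0 : K) : Matrix ι ι F) *ᵥ x) ≠ 0
      rw [ZeroMemClass.coe_zero, zero_mulVec, add_zero, hb.add_left, hee a ha y hy, zero_add, hsa a' ha', mulVec_mulVec,
        hy1, one_mulVec, hskew, neg_ne_zero]
      exact hex
  have hLinj : Function.Injective L := by
    rw [← LinearMap.ker_eq_bot, Submodule.eq_bot_iff]
    intro a ha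
    by_contra ha0
    obtain ⟨b, hb'⟩ := hpair a ha0
    rw [LinearMap.mem_ker.mp ha, show (0 : ι → F) = (0 : F) • (0 : ι → F) from (zero_smul _ _).symm, hb.smul_left,
      zero_mul] at hb'
    exact hb' rfl
  set U := LinearMap.range L
  have hU : Module.finrank F U = 2 * r := by
    rw [LinearMap.finrank_range_of_inj hLinj, Module.finrank_prod]
    have h1 : Module.finrank F K = r := hK.finrank_eq
    omega
  have hUW : U ≤ W := by
    rintro _ ⟨a, rfl⟩
    exact W.add_mem (hinv _ a.1.2 e he) (hinv _ a.2.2 x hx)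
  let B : U →ₗ[F] Module.Dual F U :=
    { toFun := fun u => { toFun := fun v => f u.1 v.1, map_add' := fun _ _ => hb.add_right _ _ _,
                          map_smul' := fun _ _ => hb.smul_right _ _ _ }
      map_add' := fun u v => LinearMap.ext fun w => hb.add_left _ _ _
      map_smul' := fun c u => LinearMap.ext fun w => hb.smul_left _ _ _ }
  have hBinj : Function.Injective B := by
    rw [← LinearMap.ker_eq_bot, Submodule.eq_bot_iff]
    rintro ⟨_, a, rfl⟩ hu
    by_contra hu0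
    obtain ⟨b, hb'⟩ := hpair a (fun h => hu0 (Subtype.ext (by simp [h])))
    exact hb' (LinearMap.congr_fun (LinearMap.mem_ker.mp hu) ⟨L b, b, rfl⟩)
  have hBsurj : Function.Surjective B :=
    (LinearMap.injective_iff_surjective_of_finrank_eq_finrank Subspace.dual_finrank_eq.symm).mp hBinj
  let P : Submodule F (ι → F) :=
    { carrier := {w | ∀ u ∈ U, f w u = 0}
      add_mem' := fun {a b} ha hb' u hu => by rw [hb.add_left, ha u hu, hb' u hu, add_zero]
      zero_mem' := fun u _ => by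
        rw [show (0 : ι → F) = (0 : F) • (0 : ι → F) from (zero_smul _ _).symm, hb.smul_left, zero_mul]
      smul_mem' := fun c a ha u hu => by rw [hb.smul_left, ha u hu, mul_zero] }
  set W' := W ⊓ P
  have hUW' : U ⊓ W' = ⊥ := by
    rw [Submodule.eq_bot_iff]
    rintro _ ⟨⟨a, rfl⟩, -, ha⟩
    by_contra hu0
    obtain ⟨b, hb'⟩ := hpair a (fun h => hu0 (by simp [h]))
    exact hb' (ha _ ⟨b, rfl⟩)
  have hsplit : ∀ w ∈ W, ∃ u ∈ U, w - u ∈ W' := by
    intro w hw
    obtain ⟨u, hu⟩ := hBsurj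
      { toFun := fun v : U => f w v.1, map_add' := fun _ _ => hb.add_right _ _ _, map_smul' := fun _ _ => hb.smul_right _ _ _ }
    refine ⟨u, u.2, W.sub_mem hw (hUW u.2), fun v hv => ?_⟩
    have h1 : f u.1 v = f w v := LinearMap.congr_fun hu ⟨v, hv⟩
    rw [sub_eq_add_neg, ← neg_one_smul F u.1, hb.add_left, hb.smul_left, h1]
    ring
  have hsum : U ⊔ W' = W := by
    refine le_antisymm (sup_le hUW inf_le_left) fun w hw => ?_
    obtain ⟨u, hu, hw'⟩ := hsplit w hw
    exact Submodule.mem_sup.mpr ⟨u, hu, _, hw', add_sub_cancel u w⟩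
  have hdim := Submodule.finrank_sup_add_finrank_inf_eq U W'
  rw [hsum, hUW', finrank_bot, add_zero, hU, hd] at hdim
  have hr : 0 < r := by
    have h1 : Module.finrank F K = r := hK.finrank_eq
    have : Nontrivial K := ⟨⟨1, 0, fun h => he0 (by
      have h2 := congrArg (fun k : K => (k : Matrix ι ι F) *ᵥ e) h
      simpa using h2)⟩⟩
    have h0 : 0 < Module.finrank F K := Module.finrank_pos
    omega
  have hW' : 2 * r ∣ Module.finrank F W' := by
    refine ih _ (by omega) W' rfl (fun w hw hw0 => ?_) fun k hk w hw => ⟨hinv k hk w hw.1, fun u hu => ?_⟩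
    · obtain ⟨-, y, hy, hwy⟩ := hW w hw.1 hw0
      obtain ⟨u, hu, hy'⟩ := hsplit y hy
      have hval : f w (y - u) ≠ 0 := by
        rwa [sub_eq_add_neg, ← neg_one_smul F u, hb.add_right, hb.smul_right, hw.2 u hu, mul_zero, add_zero]
      exact ⟨⟨_, hy', by rw [hskew, neg_ne_zero]; exact hval⟩, _, hy', hval⟩
    · rw [hsa k hk]
      obtain ⟨a, rfl⟩ := hu
      refine hw.2 _ ⟨(⟨k * a.1.1, K.mul_mem hk a.1.2⟩, ⟨k * a.2.1, K.mul_mem hk a.2.2⟩), ?_⟩
      show (k * a.1.1) *ᵥ e + (k * a.2.1) *ᵥ x = k *ᵥ ((a.1 : Matrix ι ι F) *ᵥ e + (a.2 : Matrix ι ι F) *ᵥ x)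
      rw [mulVec_add, mulVec_mulVec, mulVec_mulVec]
  rw [hdim]
  exact (Nat.dvd_add_self_left).mpr hW'

end CfsgLib.Aschbacher
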