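import Cfsg.Agent.Aschbacher.Form.OrthEvenTensor
import Cfsg.Agent.Aschbacher.Form.OrthEvenTools
import Cfsg.Agent.Aschbacher.Form.SelfAdjointField

/-!
A quadratic field of maps on a quadratic space, adjoint-closed but not self-adjoint, acts by similitudes and excludes
plus type when half the dimension is odd.
-/
set_option autoImplicit false
set_option maxHeartbeats 800000

namespace CfsgLib.Aschbacher

open Matrix Cfsg Cfsg.Geo CfsgLib.GeoClifford
open scoped MatrixGroups

namespace OE

variable {ι : Type} [Fintype ι] [DecidableEq ι] {F : Type*} [Field F]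

/-- The degree of a field subalgebra divides the dimension of each stable subspace. -/
lemma field_dvd_invariant {r : ℕ} {K : Subalgebra F (Matrix ι ι F)} (hK : IsFieldSubalgebra r K)
    (U₀ : Submodule F (ι → F)) (hU₀ : ∀ x ∈ K, ∀ v ∈ U₀, x *ᵥ v ∈ U₀) : r ∣ Module.finrank F U₀ := by
  classical
  let P : ℕ → Prop := fun k => ∃ U : Submodule F (ι → F), U ≤ U₀ ∧
    (∀ x ∈ K, ∀ v ∈ U, x *ᵥ v ∈ U) ∧ r ∣ k ∧ Module.finrank F U = k
  obtain ⟨U, hUle, hU, hdk, hUk⟩ := Nat.findGreatest_spec (P := P) (Nat.zero_le (Module.finrank F U₀))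
    ⟨⊥, bot_le, fun x _ v hv => by simp [(Submodule.mem_bot F).mp hv], dvd_zero _, finrank_bot F _⟩
  by_cases hne : U = U₀
  · rw [hne] at hUk
    rwa [hUk]
  exfalso
  obtain ⟨v, hv₀, hv⟩ := SetLike.exists_of_lt (lt_of_le_of_ne hUle hne)
  let ev : K →ₗ[F] (ι → F) :=
    { toFun := fun k => (k : Matrix ι ι F) *ᵥ v
      map_add' := fun a b => by simp [add_mulVec]
      map_smul' := fun c a => by simp [smul_mulVec] }
  have hev : ∀ k : K, ev k ∈ U → k = 0 := by
    intro k hk
    by_contra h0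
    obtain ⟨y, hy, hy1⟩ := hK.inv k.1 k.2 (fun h => h0 (Subtype.ext h))
    have h1 := hU y hy _ hk
    rw [show ev k = (k : Matrix ι ι F) *ᵥ v from rfl, mulVec_mulVec, hK.comm y hy k.1 k.2, hy1, one_mulVec] at h1
    exact hv h1
  have hinj : Function.Injective ev := by
    rw [injective_iff_map_eq_zero]
    exact fun k hk => hev k (hk ▸ U.zero_mem)
  have hT : Module.finrank F (LinearMap.range ev) = r := by
    rw [LinearMap.finrank_range_of_inj hinj, ← hK.finrank_eq]
  have hinf : U ⊓ LinearMap.range ev = ⊥ := by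
    rw [Submodule.eq_bot_iff]
    rintro _ ⟨hw, k, rfl⟩
    rw [hev k hw, map_zero]
  have hsum := Submodule.finrank_sup_add_finrank_inf_eq U (LinearMap.range ev)
  rw [hinf, finrank_bot, add_zero, hUk, hT] at hsum
  have hle' : U ⊔ LinearMap.range ev ≤ U₀ := sup_le hUle (by rintro _ ⟨k, rfl⟩; exact hU₀ _ k.2 v hv₀)
  have hle : Nat.findGreatest P (Module.finrank F U₀) + r ≤ Module.finrank F U₀ := by
    rw [← hsum]
    exact Submodule.finrank_mono hle'
  have hk : P (Nat.findGreatest P (Module.finrank F U₀) + r) := by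
    refine ⟨U ⊔ LinearMap.range ev, hle', ?_, dvd_add hdk dvd_rfl, hsum⟩
    intro x hx w hw
    obtain ⟨u, hu, _, ⟨k, rfl⟩, rfl⟩ := Submodule.mem_sup.mp hw
    rw [mulVec_add]
    exact Submodule.add_mem_sup (hU x hx u hu) ⟨⟨x * k, K.mul_mem hx k.2⟩, (mulVec_mulVec _ _ _).symm⟩
  have := Nat.le_findGreatest hle hk
  have hr : 0 < r := by
    refine Nat.pos_of_ne_zero fun h => ?_
    rw [h, Submodule.finrank_eq_zero, LinearMap.range_eq_bot] at hT
    have h1 : ev 1 = 0 := by rw [hT]; rfl
    rw [show ev 1 = (1 : Matrix ι ι F) *ᵥ v from rfl, one_mulVec] at h1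
    exact hv (h1 ▸ U.zero_mem)
  omega

variable {Q : (ι → F) → F}

/-- In a quadratic field with an element moved by the adjoint the fixed elements are scalars. -/
lemma fixed_scalar {f : (ι → F) → (ι → F) → F} (hR : IsRefl (RingEquiv.refl F) (1 : F) f)
    {K : Subalgebra F (Matrix ι ι F)} (hK : IsFieldSubalgebra 2 K) {x0 : Matrix ι ι F} (hx0 : x0 ∈ K)
    (hne : hR.adj x0 ≠ x0) {y : Matrix ι ι F} (hy : y ∈ K) (hfix : hR.adj y = y) :
    ∃ c : F, y = c • (1 : Matrix ι ι F) := by
  have hle : Submodule.span F (Set.range ![(1 : Matrix ι ι F), x0]) ≤ Subalgebra.toSubmodule K := by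
    rw [Submodule.span_le]
    rintro _ ⟨i, rfl⟩
    fin_cases i
    exacts [one_mem K, hx0]
  have hli : LinearIndependent F ![(1 : Matrix ι ι F), x0] := by
    rw [LinearIndependent.pair_iff]
    intro s t h
    by_cases ht : t = 0
    · subst ht
      rw [zero_smul, add_zero, smul_eq_zero] at h
      refine ⟨h.resolve_right fun h1 => hne ?_, rfl⟩
      calc hR.adj x0 = hR.adj x0 * 1 := (mul_one _).symm
        _ = x0 := by rw [h1, mul_zero, ← mul_one x0, h1, mul_zero]
    · exfalso
      refine hne ?_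
      have hx : x0 = (-(t⁻¹ * s)) • (1 : Matrix ι ι F) := by
        have h' := congrArg (t⁻¹ • ·) h
        simp only [smul_add, smul_smul, inv_mul_cancel₀ ht, one_smul, smul_zero] at h'
        rw [neg_smul]
        exact eq_neg_of_add_eq_zero_right h'
      rw [hx, hR.adj_smul, hR.adj_one]
      rfl
  have heq := Submodule.eq_of_le_of_finrank_eq hle (by
    rw [finrank_span_eq_card hli, Subalgebra.finrank_toSubmodule, hK.finrank_eq]; rfl)
  obtain ⟨c, hc⟩ := (Submodule.mem_span_range_iff_exists_fun F).1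
    (heq ▸ hy : y ∈ Submodule.span F (Set.range ![(1 : Matrix ι ι F), x0]))
  simp only [Fin.sum_univ_two, Matrix.cons_val_zero, Matrix.cons_val_one] at hc
  refine ⟨c 0, ?_⟩
  rw [← hc, hR.adj_add, hR.adj_smul, hR.adj_smul, hR.adj_one, RingEquiv.refl_apply, RingEquiv.refl_apply,
    add_right_inj] at hfix
  by_cases hc1 : c 1 = 0
  · rw [← hc, hc1, zero_smul, add_zero]
  · exact absurd (smul_right_injective _ hc1 hfix) hne

/-- A quadratic field, adjoint-closed but not self-adjoint, normalised by an irreducible group of isometries, acts by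
similitudes. -/
theorem field_similar [Fintype F] (hQ : IsNondegenerateQuadraticForm Q) (hn : 3 ≤ Fintype.card ι)
    (hR : IsRefl (RingEquiv.refl F) (1 : F) (QuadraticMap.polar Q)) {G : Subgroup (GL ι F)}
    (hfixQ : ∀ g ∈ G, ∀ v, Q ((g : Matrix ι ι F) *ᵥ v) = Q v) (hirr : ActsIrreducibly (matrixSet G))
    {K : Subalgebra F (Matrix ι ι F)} (hK : IsFieldSubalgebra 2 K) (hst : ConjStable G K)
    (hadj : ∀ x ∈ K, hR.adj x ∈ K) {x0 : Matrix ι ι F} (hx0 : x0 ∈ K) (hne : hR.adj x0 ≠ x0) :
    ∀ k ∈ K, ∃ c : F, ∀ v : ι → F, Q (k *ᵥ v) = c * Q v := by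
  intro k hk
  have hfix := fixes_polar hfixQ
  obtain ⟨N, hN⟩ := fixed_scalar hR hK hx0 hne (K.mul_mem (hadj k hk) hk) (by rw [hR.adj_mul, hR.adj_adj])
  obtain ⟨T, hT⟩ := fixed_scalar hR hK hx0 hne (K.add_mem hk (hadj k hk))
    (by rw [hR.adj_add, hR.adj_adj, add_comm])
  have hNk : ∀ u v, QuadraticMap.polar Q (k *ᵥ u) (k *ᵥ v) = N * QuadraticMap.polar Q u v := fun u v => by
    rw [hR.adj_spec, mulVec_mulVec, hN, smul_mulVec, one_mulVec, hQ.polar_bilinear.smul_right]
  refine ⟨N, ?_⟩
  by_cases h2 : (2 : F) = 0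
  swap
  · intro v
    have h := hNk v v
    rw [polar_self_eq hQ, polar_self_eq hQ] at h
    exact mul_left_cancel₀ h2 (h.trans (by ring))
  have hc : CharP F 2 := char_two_of_even fun ho => odd_card_iff_two_ne_zero.mp ho h2
  -- the elements where a conjugate of `k` scales
  have hS : ∀ k' : Matrix ι ι F, (∀ u v, QuadraticMap.polar Q (k' *ᵥ u) (k' *ᵥ v) = N * QuadraticMap.polar Q u v) →
      ∃ W : Submodule F (ι → F), (∀ v, v ∈ W ↔ Q (k' *ᵥ v) = N * Q v) ∧
        Fintype.card ι ≤ Module.finrank F W + 1 := by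
    intro k' hk'
    let W : Submodule F (ι → F) :=
      { carrier := {v | Q (k' *ᵥ v) = N * Q v}
        add_mem' := fun {a b} ha hb => by
          show Q (k' *ᵥ (a + b)) = N * Q (a + b)
          rw [mulVec_add, quad_add hQ, quad_add hQ, ha, hb, hk']; ring
        zero_mem' := by show Q (k' *ᵥ 0) = N * Q 0; rw [mulVec_zero, quad_zero hQ, mul_zero]
        smul_mem' := fun c a ha => by
          show Q (k' *ᵥ (c • a)) = N * Q (c • a)
          rw [mulVec_smul, hQ.smul, hQ.smul, ha]; ring }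
    refine ⟨W, fun v => Iff.rfl, ?_⟩
    by_cases hW : W = ⊤
    · rw [hW, finrank_top, Module.finrank_fintype_fun_eq_card]; omega
    obtain ⟨v, -, hv⟩ := SetLike.exists_of_lt (lt_top_iff_ne_top.mpr hW)
    have hd : Q (k' *ᵥ v) - N * Q v ≠ 0 := fun h => hv (sub_eq_zero.mp h)
    have hle : (⊤ : Submodule F (ι → F)) ≤ W ⊔ Submodule.span F {v} := by
      intro u _
      obtain ⟨s, hs⟩ := (Finite.injective_iff_surjective.mp (frobenius_inj F 2))
        ((Q (k' *ᵥ u) - N * Q u) / (Q (k' *ᵥ v) - N * Q v))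
      rw [frobenius_def] at hs
      have hs' : s ^ 2 * (Q (k' *ᵥ v) - N * Q v) = Q (k' *ᵥ u) - N * Q u := by rw [hs, div_mul_cancel₀ _ hd]
      have hm : u + s • v ∈ W := by
        show Q (k' *ᵥ (u + s • v)) = N * Q (u + s • v)
        rw [mulVec_add, quad_add hQ, quad_add hQ, hk', mulVec_smul, hQ.smul, hQ.smul]
        linear_combination hs' + (Q (k' *ᵥ u) - N * Q u) * h2
      rw [show u = (u + s • v) - s • v by abel]
      exact Submodule.sub_mem _ (Submodule.mem_sup_left hm)
        (Submodule.mem_sup_right (Submodule.smul_mem _ _ (Submodule.mem_span_singleton_self v)))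
    have h1 := Submodule.finrank_mono hle
    have h3 := Submodule.finrank_add_le_finrank_add_finrank W (Submodule.span F {v})
    rw [finrank_top, Module.finrank_fintype_fun_eq_card] at h1
    have h4 : Module.finrank F (Submodule.span F {v}) ≤ 1 := (finrank_span_le_card ({v} : Set (ι → F))).trans (by simp)
    omega
  have hNk' : ∀ u v, QuadraticMap.polar Q (hR.adj k *ᵥ u) (hR.adj k *ᵥ v) = N * QuadraticMap.polar Q u v :=
    fun u v => by
      rw [hR.adj_spec, mulVec_mulVec, hR.adj_adj, hK.comm k hk _ (hadj k hk), hN, smul_mulVec, one_mulVec,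
        hQ.polar_bilinear.smul_right]
  obtain ⟨W, hW, hWd⟩ := hS k hNk
  obtain ⟨W', hW', hWd'⟩ := hS (hR.adj k) hNk'
  -- conjugates of `k`
  have hconj : ∀ g ∈ G, (g : Matrix ι ι F) * k * ((g⁻¹ : GL ι F) : Matrix ι ι F) = k ∨
      (g : Matrix ι ι F) * k * ((g⁻¹ : GL ι F) : Matrix ι ι F) = hR.adj k := by
    intro g hg
    set y := (g : Matrix ι ι F) * k * ((g⁻¹ : GL ι F) : Matrix ι ι F) with hy
    have hyK : y ∈ K := hst g hg k hk
    have hyy : y * y = T • y - N • 1 := by
      have h0 : k * k = T • k - N • 1 := by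
        rw [← hN, eq_sub_iff_add_eq, ← add_mul, hT, smul_mul_assoc, one_mul]
      calc y * y = (g : Matrix ι ι F) * (k * k) * ((g⁻¹ : GL ι F) : Matrix ι ι F) := by
            rw [hy]; simp [mul_assoc]
        _ = _ := by
            rw [h0, hy, mul_sub, sub_mul, mul_smul_comm, smul_mul_assoc, mul_smul_comm, smul_mul_assoc, mul_one,
              Units.mul_inv]
    have h0 : (y - k) * (y - hR.adj k) = 0 := by
      have e1 : (y - k) * (y - hR.adj k) = y * y - y * (k + hR.adj k) + hR.adj k * k := by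
        rw [sub_mul, mul_sub, mul_sub, hK.comm (hR.adj k) (hadj k hk) k hk, mul_add, hK.comm k hk y hyK]
        abel
      rw [e1, hyy, hT, hN, mul_smul_comm, mul_one]
      abel
    by_cases h : y - k = 0
    · exact Or.inl (sub_eq_zero.mp h)
    obtain ⟨z, hz, hz1⟩ := hK.inv _ (K.sub_mem hyK hk) h
    refine Or.inr (sub_eq_zero.mp ?_)
    calc y - hR.adj k = z * ((y - k) * (y - hR.adj k)) := by
          rw [← mul_assoc, hK.comm z hz _ (K.sub_mem hyK hk), hz1, one_mul]
      _ = 0 := by rw [h0, mul_zero]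
  have hdim := Submodule.finrank_sup_add_finrank_inf_eq W W'
  have hle := Submodule.finrank_le (W ⊔ W')
  rw [Module.finrank_fintype_fun_eq_card] at hle
  have hpos : 0 < Module.finrank F (W ⊓ W' : Submodule F (ι → F)) := by omega
  have hWne : W ⊓ W' ≠ ⊥ := fun h => by rw [h, finrank_bot] at hpos; omega
  have htop : W ⊓ W' = ⊤ := by
    refine eq_top_of_invariant hirr _ hWne fun g hg v hv => ?_
    have hmove : ∀ a b : Matrix ι ι F, (g : Matrix ι ι F) * a * ((g⁻¹ : GL ι F) : Matrix ι ι F) = b →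
        Q (a *ᵥ v) = N * Q v → Q (b *ᵥ ((g : Matrix ι ι F) *ᵥ v)) = N * Q ((g : Matrix ι ι F) *ᵥ v) := by
      intro a b hab h
      rw [← hab, mulVec_mulVec, mul_assoc, Units.inv_mul, mul_one, ← mulVec_mulVec, hfixQ g hg, hfixQ g hg, h]
    have hadjc : (g : Matrix ι ι F) * hR.adj k * ((g⁻¹ : GL ι F) : Matrix ι ι F) =
        hR.adj ((g : Matrix ι ι F) * k * ((g⁻¹ : GL ι F) : Matrix ι ι F)) := (hR.adj_conj hfix hg k).symm
    obtain ⟨h1, h2'⟩ := Submodule.mem_inf.mp hv
    refine Submodule.mem_inf.mpr ⟨(hW _).mpr ?_, (hW' _).mpr ?_⟩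
    · rcases hconj g hg with h | h
      · exact hmove k k h ((hW v).mp h1)
      · exact hmove (hR.adj k) k (by rw [hadjc, h, hR.adj_adj]) ((hW' v).mp h2')
    · rcases hconj g hg with h | h
      · exact hmove (hR.adj k) (hR.adj k) (by rw [hadjc, h]) ((hW' v).mp h2')
      · exact hmove k (hR.adj k) h ((hW v).mp h1)
  intro v
  exact (hW v).mp (Submodule.mem_inf.mp (htop ▸ Submodule.mem_top : v ∈ W ⊓ W')).1

/-- With half the dimension odd, such a field excludes plus type. -/
theorem not_plus_of_field [Fintype F] (hQ : IsNondegenerateQuadraticForm Q) {m : ℕ} (hm : Odd m)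
    (hn : Fintype.card ι = 2 * m) (hR : IsRefl (RingEquiv.refl F) (1 : F) (QuadraticMap.polar Q))
    {K : Subalgebra F (Matrix ι ι F)} (hK : IsFieldSubalgebra 2 K) {x0 : Matrix ι ι F} (hx0 : x0 ∈ K)
    (hne : hR.adj x0 ≠ x0) (hsim : ∀ k ∈ K, ∃ c : F, ∀ v : ι → F, Q (k *ᵥ v) = c * Q v) :
    ¬ IsPlusTypeOn Q ⊤ := by
  classical
  rintro ⟨T, -, hTs, hTd⟩
  rw [finrank_top, Module.finrank_fintype_fun_eq_card, hn] at hTd
  have hb := hQ.polar_bilinear
  have hTf : ∀ u ∈ T, ∀ v ∈ T, QuadraticMap.polar Q u v = 0 := fun u hu v hv => by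
    rw [QuadraticMap.polar, hTs _ (T.add_mem hu hv), hTs u hu, hTs v hv]; ring
  have hx0s : ∀ c : F, x0 ≠ c • (1 : Matrix ι ι F) := fun c h => hne (by rw [h, hR.adj_smul, hR.adj_one]; rfl)
  obtain ⟨c, hc⟩ := hsim x0 hx0
  obtain ⟨c', hc'⟩ := hsim (x0 + 1) (K.add_mem hx0 K.one_mem)
  have halt : ∀ v ∈ T, QuadraticMap.polar Q (x0 *ᵥ v) v = 0 := fun v hv => by
    have h := hc' v
    rw [add_mulVec, one_mulVec, quad_add hQ, hc, hTs v hv] at h
    linear_combination h
  let Rd : Submodule F (ι → F) :=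
    { carrier := {u | u ∈ T ∧ ∀ v ∈ T, QuadraticMap.polar Q (x0 *ᵥ u) v = 0}
      add_mem' := fun {a b} ha hb' => ⟨T.add_mem ha.1 hb'.1, fun v hv => by
        rw [mulVec_add, hb.add_left, ha.2 v hv, hb'.2 v hv, add_zero]⟩
      zero_mem' := ⟨T.zero_mem, fun v _ => by
        rw [mulVec_zero, show (0 : ι → F) = (0 : F) • (0 : ι → F) from (zero_smul _ _).symm, hb.smul_left, zero_mul]⟩
      smul_mem' := fun s a ha => ⟨T.smul_mem s ha.1, fun v hv => by
        rw [mulVec_smul, hb.smul_left, ha.2 v hv, mul_zero]⟩ }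
  have hperp : hR.perp T = T := by
    have hle : T ≤ hR.perp T := fun u hu v hv => hTf u hu v hv
    refine (Submodule.eq_of_le_of_finrank_le hle ?_).symm
    obtain ⟨Q', rfl, hQ'⟩ := CfsgLib.Geo.OS.exists_quadraticForm hQ
    have h1 := CfsgLib.Quad.finrank_perpS hQ' T
    rw [Module.finrank_fintype_fun_eq_card, hn] at h1
    have h2 : hR.perp T ≤ CfsgLib.Quad.perpS Q' T := fun u hu w hw => (QuadraticMap.polar_comm _ _ _).trans (hu w hw)
    have := Submodule.finrank_mono h2
    omega
  -- the radical is stable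
  have hkT : ∀ u ∈ Rd, x0 *ᵥ u ∈ T := fun u hu => by
    rw [← hperp]; exact fun v hv => hu.2 v hv
  have hspan : ∀ k ∈ K, ∃ a b : F, k = a • (1 : Matrix ι ι F) + b • x0 := by
    intro k hk
    have hle : Submodule.span F (Set.range ![(1 : Matrix ι ι F), x0]) ≤ Subalgebra.toSubmodule K := by
      rw [Submodule.span_le]
      rintro _ ⟨i, rfl⟩
      fin_cases i
      exacts [one_mem K, hx0]
    have hli : LinearIndependent F ![(1 : Matrix ι ι F), x0] := by
      rw [LinearIndependent.pair_iff' (fun h => hne (by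
        rw [← mul_one x0, h, mul_zero, hR.adj_zero]))]
      exact fun a h => hx0s a h.symm
    have heq := Submodule.eq_of_le_of_finrank_eq hle (by
      rw [finrank_span_eq_card hli, Subalgebra.finrank_toSubmodule, hK.finrank_eq]; rfl)
    obtain ⟨d, hd⟩ := (Submodule.mem_span_range_iff_exists_fun F).1
      (heq ▸ hk : k ∈ Submodule.span F (Set.range ![(1 : Matrix ι ι F), x0]))
    simp only [Fin.sum_univ_two, Matrix.cons_val_zero, Matrix.cons_val_one] at hd
    exact ⟨d 0, d 1, hd.symm⟩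
  have hRdK : ∀ x ∈ K, ∀ v ∈ Rd, x *ᵥ v ∈ Rd := by
    intro x hx v hv
    obtain ⟨a, b, rfl⟩ := hspan x hx
    rw [add_mulVec, smul_mulVec, one_mulVec, smul_mulVec]
    refine Rd.add_mem (Rd.smul_mem _ hv) (Rd.smul_mem _ ⟨hkT v hv, fun w hw => ?_⟩)
    obtain ⟨a2, b2, h2⟩ := hspan (x0 * x0) (K.mul_mem hx0 hx0)
    rw [mulVec_mulVec, h2, add_mulVec, smul_mulVec, one_mulVec, smul_mulVec, hb.add_left, hb.smul_left, hb.smul_left,
      hTf v hv.1 w hw, hv.2 w hw, mul_zero, mul_zero, add_zero]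
  have hR2 : 2 ∣ Module.finrank F Rd := field_dvd_invariant hK Rd hRdK
  -- a complement of the radical in `T`
  obtain ⟨C, hC⟩ := Submodule.exists_isCompl (Submodule.comap T.subtype Rd)
  set W := C.map T.subtype with hWdef
  have hdim := Submodule.finrank_add_eq_of_isCompl hC
  have hWd : Module.finrank F W = Module.finrank F C :=
    (Submodule.equivMapOfInjective _ T.subtype_injective _).finrank_eq.symm
  have hRdd : Module.finrank F (Submodule.comap T.subtype Rd) = Module.finrank F Rd :=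
    (Submodule.comapSubtypeEquivOfLe (show Rd ≤ T from fun u hu => hu.1)).finrank_eq
  have hskew : ∀ u ∈ T, ∀ v ∈ T, QuadraticMap.polar Q (x0 *ᵥ u) v = - QuadraticMap.polar Q (x0 *ᵥ v) u := by
    intro u hu v hv
    have h := halt _ (T.add_mem hu hv)
    rw [mulVec_add, hb.add_left, hb.add_right, hb.add_right, halt u hu, halt v hv] at h
    linear_combination h
  let β : (ι → F) → (ι → F) → F := fun u v => QuadraticMap.polar Q (x0 *ᵥ u) v
  have hβ : IsBilinearForm β :=
    ⟨fun a b v => by simp only [β, mulVec_add, hb.add_left], fun s a v => by simp only [β, mulVec_smul, hb.smul_left],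
      fun v a b => hb.add_right _ _ _, fun s v a => hb.smul_right _ _ _⟩
  -- `β` is alternating and non-degenerate on the complement
  have hWT : W ≤ T := by rintro _ ⟨c, -, rfl⟩; exact c.2
  have hWeven : Even (Module.finrank F W) := by
    have hnd : IsNondegenerateOn β W := by
      intro w hw hw0
      obtain ⟨cw, hcw, rfl⟩ := hw
      have hnot : ¬ ∀ v ∈ T, β (cw : ι → F) v = 0 := fun h => by
        have h1 : cw ∈ Submodule.comap T.subtype Rd := ⟨cw.2, h⟩
        have h2 := (Submodule.disjoint_def.mp hC.disjoint) cw h1 hcw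
        exact hw0 (by rw [h2, map_zero])
      push Not at hnot
      obtain ⟨v, hv, hv0⟩ := hnot
      obtain ⟨r, hr, s, hs, hrs⟩ := Submodule.mem_sup.mp (hC.sup_eq_top ▸ Submodule.mem_top : (⟨v, hv⟩ : T) ∈ _ ⊔ C)
      have hval : β (cw : ι → F) (s : ι → F) = β (cw : ι → F) v := by
        have e : v = (r : ι → F) + (s : ι → F) := (congrArg Subtype.val hrs).symm
        rw [e, hβ.add_right]
        have : β (cw : ι → F) (r : ι → F) = 0 := by
          show QuadraticMap.polar Q _ _ = 0
          rw [hskew _ cw.2 _ r.2, show QuadraticMap.polar Q (x0 *ᵥ (r : ι → F)) (cw : ι → F) = 0 from hr.2 _ cw.2, neg_zero]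
        rw [this, zero_add]
      refine ⟨⟨(s : ι → F), ⟨s, hs, rfl⟩, ?_⟩, (s : ι → F), ⟨s, hs, rfl⟩, by rw [Submodule.subtype_apply, hval]; exact hv0⟩
      show QuadraticMap.polar Q _ _ ≠ 0
      rw [Submodule.subtype_apply, hskew _ s.2 _ cw.2, neg_ne_zero]
      exact fun h => hv0 (hval ▸ h)
    -- extend alternation to a genuine alternating form by projecting
    obtain ⟨π₀, hπ₀⟩ := Submodule.exists_isCompl W
    set p := W.linearProjOfIsCompl π₀ hπ₀
    let γ : (ι → F) → (ι → F) → F := fun u v => β (p u : ι → F) (p v : ι → F)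
    have hp : ∀ w ∈ W, (p w : ι → F) = w := fun w hw =>
      congrArg Subtype.val (Submodule.linearProjOfIsCompl_apply_left hπ₀ ⟨w, hw⟩)
    refine even_finrank_of_alternating (f := γ) ⟨fun a b v => ?_, fun s a v => ?_, fun v a b => ?_, fun s v a => ?_⟩
      (fun v => halt _ (hWT (p v).2)) W fun w hw hw0 => ?_
    · simp only [γ, map_add, Submodule.coe_add, hβ.add_left]
    · simp only [γ, map_smul, Submodule.coe_smul, hβ.smul_left]
    · simp only [γ, map_add, Submodule.coe_add, hβ.add_right]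
    · simp only [γ, map_smul, Submodule.coe_smul, hβ.smul_right]
    · obtain ⟨⟨a, ha, ha'⟩, b, hb, hb'⟩ := hnd w hw hw0
      exact ⟨⟨a, ha, by simpa only [γ, hp a ha, hp w hw] using ha'⟩, b, hb, by simpa only [γ, hp b hb, hp w hw] using hb'⟩
  obtain ⟨j, hj⟩ := hWeven
  obtain ⟨i, hi⟩ := hm
  omega

/-- A self-adjoint quadratic field in even characteristic forces the dimension to be a multiple of four. -/
theorem four_dvd_of_selfAdjoint [Fintype F] (hQ : IsNondegenerateQuadraticForm Q) (h2 : (2 : F) = 0)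
    {K : Subalgebra F (Matrix ι ι F)} (hK : IsFieldSubalgebra 2 K)
    (hsa : IsSelfAdjointFor (QuadraticMap.polar Q) K) : 4 ∣ Fintype.card ι := by
  have hf := isSymplectic_polar h2 hQ
  have hc : CharP F 2 := char_two_of_even fun ho => odd_card_iff_two_ne_zero.mp ho h2
  refine two_mul_dvd_of_selfAdjoint hf hK hsa fun k hk v => ?_
  have hfield : IsField K :=
    { exists_pair_ne := ⟨0, 1, fun h => by
        have hfin := hK.finrank_eq
        have : Subsingleton K := ⟨fun a b => by rw [← mul_one a, ← h, mul_zero, ← mul_one b, ← h, mul_zero]⟩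
        rw [Module.finrank_zero_of_subsingleton] at hfin
        omega⟩
      mul_comm := fun a b => Subtype.ext (hK.comm a.1 a.2 b.1 b.2)
      mul_inv_cancel := fun {a} ha => by
        obtain ⟨y, hy, hy1⟩ := hK.inv a.1 a.2 (fun h => ha (Subtype.ext h))
        exact ⟨⟨y, hy⟩, Subtype.ext hy1⟩ }
  letI : Field K := hfield.toField
  have : CharP K 2 := charP_of_injective_algebraMap (algebraMap F K).injective 2
  obtain ⟨y, hy⟩ := (Finite.injective_iff_surjective.mp (frobenius_inj K 2)) ⟨k, hk⟩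
  rw [frobenius_def] at hy
  have e : k = (y : Matrix ι ι F) * (y : Matrix ι ι F) := by
    have := congrArg Subtype.val hy
    rw [SubmonoidClass.coe_pow, pow_two] at this
    exact this.symm
  rw [e, ← mulVec_mulVec, hsa y y.2]
  exact hf.alternating _

end OE

end CfsgLib.Aschbacher
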