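import Cfsg.Agent.Aschbacher.Form.Orth

/-!
Aschbacher's theorem for groups of isometries of a quadratic form in odd dimension.
-/
set_option autoImplicit false
set_option maxHeartbeats 1000000

namespace CfsgLib.Aschbacher

open Matrix Cfsg Cfsg.Geo CfsgLib.GeoClifford
open scoped MatrixGroups Kronecker commutatorElement

variable {ι : Type} [Fintype ι] [DecidableEq ι] {F : Type*} [Field F] [Fintype F]

/-- The outcomes of Aschbacher's theorem for a quadratic form in odd dimension. -/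
def OrthOddOutcome (Q : (ι → F) → F) (G : Subgroup (GL ι F)) : Prop :=
  (∃ W : Submodule F (ι → F), W ≠ ⊥ ∧ IsTotallySingularQuad Q W ∧ G ≤ subspaceStabilizer W) ∨
  (∃ W : Submodule F (ι → F), W ≠ ⊥ ∧ W ≠ ⊤ ∧ IsNondegenerateOn (QuadraticMap.polar Q) W ∧
    G ≤ subspaceStabilizer W) ∨
  (∃ (t k : ℕ) (D : Fin t → Submodule F (ι → F)), 1 < k ∧ IsOrthogonalMDecomposition Q k D ∧
    G ≤ decompositionStabilizer D) ∨
  (∃ (t : ℕ) (D : Fin t → Submodule F (ι → F)), (Fintype.card F).Prime ∧ IsOrthogonalMDecomposition Q 1 D ∧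
    G ≤ decompositionStabilizer D) ∨
  (∃ (r : ℕ) (K : Subalgebra F (Matrix ι ι F)), r.Prime ∧ Fintype.card ι ≠ r ∧ IsFieldSubalgebra r K ∧
    IsSelfAdjointFor (QuadraticMap.polar Q) K ∧ G ≤ subalgebraNormalizer K) ∨
  (∃ (n₁ n₂ : ℕ) (e : ι ≃ Fin n₁ × Fin n₂) (P : GL ι F) (f₁ : (Fin n₁ → F) → (Fin n₁ → F) → F)
      (f₂ : (Fin n₂ → F) → (Fin n₂ → F) → F), 3 ≤ n₁ ∧ n₁ < n₂ ∧ IsSymmetricForm f₁ ∧ IsSymmetricForm f₂ ∧
      IsTensorFormStructure id (QuadraticMap.polar Q) f₁ f₂ e P ∧ G ≤ tensorProductSubgroup n₁ n₂ e P) ∨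
  (∃ (F₀ : Subfield F) (r : ℕ) (P : GL ι F), r.Prime ∧ Fintype.card F = Nat.card F₀ ^ r ∧
      IsQuadFormRationalStructure Q F₀ P ∧ G ≤ subfieldSubgroup F₀ P) ∨
  (∃ (k t : ℕ) (e : ι ≃ (Fin t → Fin k)) (P : GL ι F) (f₁ : (Fin k → F) → (Fin k → F) → F),
      3 ≤ k ∧ 2 ≤ t ∧ ¬ (Fintype.card F = 3 ∧ k = 3) ∧ IsSymmetricForm f₁ ∧
      IsTensorPowerFormStructure id (QuadraticMap.polar Q) f₁ e P ∧ G ≤ tensorWreathSubgroup k t e P) ∨
  InOrthogonalResidualClass G

/-- The members of a decomposition stabilised by an irreducible group are permuted transitively. -/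
lemma decomposition_transitive {G : Subgroup (GL ι F)} (hirr : ActsIrreducibly (matrixSet G)) {t m : ℕ}
    {D : Fin t → Submodule F (ι → F)} (hD : IsMDecomposition m D) (hG : G ≤ decompositionStabilizer D)
    (i j : Fin t) : ∃ g ∈ G, (D i).map (Matrix.toLin' (g : Matrix ι ι F)) = D j := by
  classical
  let S : Set (Fin t) := {l | ∃ g ∈ G, (D i).map (Matrix.toLin' (g : Matrix ι ι F)) = D l}
  set W : Submodule F (ι → F) := ⨆ l ∈ S, D l
  have hne : ∀ l, D l ≠ ⊥ := fun l h0 => by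
    have := hD.finrank_eq l
    rw [h0, finrank_bot] at this
    exact absurd this.symm hD.pos.ne'
  have hi : i ∈ S := ⟨1, G.one_mem, by simp⟩
  have hW : W ≠ ⊥ := fun h0 => hne i (eq_bot_iff.mpr (h0 ▸ le_iSup₂ (f := fun l (_ : l ∈ S) => D l) i hi))
  have htop : W = ⊤ := eq_top_of_invariant hirr W hW fun g hg w hw => by
    have hmap : W.map (Matrix.toLin' (g : Matrix ι ι F)) ≤ W := by
      simp only [W, Submodule.map_iSup]
      refine iSup₂_le fun l hl => ?_
      obtain ⟨h, hh, hl'⟩ := hl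
      obtain ⟨π, hπ⟩ := hG hg
      have hmem : π l ∈ S := ⟨g * h, G.mul_mem hg hh, by
        rw [Units.val_mul, Matrix.toLin'_mul, Submodule.map_comp, hl', hπ]⟩
      rw [hπ]
      exact le_iSup₂ (f := fun l (_ : l ∈ S) => D l) (π l) hmem
    have := hmap ⟨w, hw, rfl⟩
    rwa [Matrix.toLin'_apply] at this
  by_contra hj
  exact hne j (disjoint_top.mp (htop ▸ hD.indep.disjoint_biSup (y := S) hj))

/-- Lines of an orthogonal frame form a non-degenerate decomposition stabilised by monomial groups. -/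
lemma frame_decomposition_span {f : (ι → F) → (ι → F) → F} (hf : IsBilinearForm f) (hn : 2 ≤ Fintype.card ι)
    {G : Subgroup (GL ι F)} {X : GL ι F} {c : F} (hc : c ≠ 0)
    (hX : ∀ i j, f ((X : Matrix ι ι F) *ᵥ Pi.single i 1) ((X : Matrix ι ι F) *ᵥ Pi.single j 1) = if i = j then c else 0)
    (hmono : ∀ g ∈ G, ∀ j, ∃ (i : ι) (a : F), (g : Matrix ι ι F) *ᵥ ((X : Matrix ι ι F) *ᵥ Pi.single j 1) =
      a • ((X : Matrix ι ι F) *ᵥ Pi.single i 1)) :
    ∃ D : Fin (Fintype.card ι) → Submodule F (ι → F), IsNondegenerateMDecomposition f 1 D ∧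
      G ≤ decompositionStabilizer D ∧ ∀ l, ∃ i, D l = Submodule.span F {(X : Matrix ι ι F) *ᵥ Pi.single i 1} := by
  classical
  let en := Fintype.equivFin ι
  set b : ι → ι → F := fun i => (X : Matrix ι ι F) *ᵥ Pi.single i 1 with hb
  have hbne : ∀ i, b i ≠ 0 := fun i h0 => by
    have := hX i i
    rw [if_pos rfl] at this
    rw [show (X : Matrix ι ι F) *ᵥ Pi.single i 1 = 0 from h0] at this
    exact hc (by rw [← this]; simpa using hf.smul_left 0 0 0)
  have hli : LinearIndependent F b := by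
    have hcol : LinearIndependent F (X : Matrix ι ι F).col := Matrix.linearIndependent_cols_iff_isUnit.mpr X.isUnit
    have e : b = (X : Matrix ι ι F).col := by funext i; simp [hb]
    rw [e]; exact hcol
  have hspan : Submodule.span F (Set.range b) = ⊤ :=
    hli.span_eq_top_of_card_eq_finrank' (by rw [Module.finrank_fintype_fun_eq_card])
  refine ⟨fun l => Submodule.span F {b (en.symm l)}, ⟨⟨hn, one_pos, fun l => ?_, ?_, ?_⟩, fun l w hw hw0 => ?_,
    fun l l' hll u hu v hv => ?_⟩, fun g hg => ?_, fun l => ⟨en.symm l, rfl⟩⟩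
  · exact finrank_span_singleton (hbne _)
  · exact (hli.comp _ en.symm.injective).iSupIndep_span_singleton
  · rw [eq_top_iff, ← hspan, Submodule.span_le]
    rintro _ ⟨i, rfl⟩
    refine Submodule.mem_iSup_of_mem (en i) ?_
    rw [en.symm_apply_apply]
    exact Submodule.mem_span_singleton_self _
  · obtain ⟨a, rfl⟩ := Submodule.mem_span_singleton.mp hw
    have ha : a ≠ 0 := fun h0 => hw0 (by rw [h0, zero_smul])
    have hne : f (a • b (en.symm l)) (a • b (en.symm l)) ≠ 0 := by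
      rw [hf.smul_left, hf.smul_right, hX, if_pos rfl]
      exact mul_ne_zero ha (mul_ne_zero ha hc)
    exact ⟨⟨_, hw, hne⟩, _, hw, hne⟩
  · obtain ⟨a, rfl⟩ := Submodule.mem_span_singleton.mp hu
    obtain ⟨a', rfl⟩ := Submodule.mem_span_singleton.mp hv
    rw [hf.smul_left, hf.smul_right, hX, if_neg (en.symm.injective.ne hll), mul_zero, mul_zero]
  · choose π a ha using hmono g hg
    have hinj : Function.Injective π := by
      intro i i' h
      by_contra hne
      have hne0 : ∀ l, a l ≠ 0 := fun l h0 => hbne l (mulVec_injective_GL g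
        (show Matrix.toLin' _ (b l) = Matrix.toLin' _ 0 by
          rw [map_zero, Matrix.toLin'_apply, hb, ha, h0, zero_smul]))
      have h1 : (g : Matrix ι ι F) *ᵥ (a i' • b i - a i • b i') = 0 := by
        rw [mulVec_sub, mulVec_smul, mulVec_smul, hb, ha, ha, smul_smul, smul_smul, h, mul_comm, sub_self]
      have h2 : a i' • b i - a i • b i' = 0 := mulVec_injective_GL g
        (show Matrix.toLin' _ _ = Matrix.toLin' _ 0 by rw [map_zero, Matrix.toLin'_apply]; exact h1)
      have := Fintype.linearIndependent_iff.mp hli (Pi.single i (a i') - Pi.single i' (a i)) (by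
        simp only [Pi.sub_apply, sub_smul, Finset.sum_sub_distrib]
        simpa [Pi.single_apply, ite_smul] using h2) i
      simp [Pi.single_apply, hne] at this
      exact hne0 i' this
    refine ⟨(en.symm.trans (Equiv.ofBijective π (Finite.injective_iff_bijective.mp hinj))).trans en, fun l => ?_⟩
    simp only [Submodule.map_span, Set.image_singleton, Matrix.toLin'_apply, Equiv.trans_apply,
      Equiv.symm_apply_apply, Equiv.ofBijective_apply, hb, ha]
    refine Submodule.span_singleton_smul_eq (IsUnit.mk0 _ fun h0 => hbne (en.symm l) (mulVec_injective_GL g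
      (show Matrix.toLin' _ (b (en.symm l)) = Matrix.toLin' _ 0 by
        rw [map_zero, Matrix.toLin'_apply, hb, ha, h0, zero_smul]))) _

/-- Monomial groups stabilise the lines of an orthogonal frame. -/
lemma frame_decomposition {f : (ι → F) → (ι → F) → F} (hf : IsBilinearForm f) (hn : 2 ≤ Fintype.card ι)
    {G : Subgroup (GL ι F)} {X : GL ι F} {c : F} (hc : c ≠ 0)
    (hX : ∀ i j, f ((X : Matrix ι ι F) *ᵥ Pi.single i 1) ((X : Matrix ι ι F) *ᵥ Pi.single j 1) = if i = j then c else 0)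
    (hmono : ∀ g ∈ G, ∀ j, ∃ (i : ι) (a : F), (g : Matrix ι ι F) *ᵥ ((X : Matrix ι ι F) *ᵥ Pi.single j 1) =
      a • ((X : Matrix ι ι F) *ᵥ Pi.single i 1)) :
    ∃ D : Fin (Fintype.card ι) → Submodule F (ι → F), IsNondegenerateMDecomposition f 1 D ∧
      G ≤ decompositionStabilizer D :=
  let ⟨D, h1, h2, _⟩ := frame_decomposition_span hf hn hc hX hmono
  ⟨D, h1, h2⟩

/-- An invariant decomposition of an irreducible group of isometries. -/
lemma orth_decomposition_case {Q : (ι → F) → F} (hQ : IsNondegenerateQuadraticForm Q) (h2 : (2 : F) ≠ 0)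
    (hodd : Odd (Fintype.card ι)) (hdet : ∀ F₁ : Subfield F, (gramMatrix (QuadraticMap.polar Q)).det ∈ F₁)
    {G : Subgroup (GL ι F)} (hfix : FixesForm (matrixSet G) (QuadraticMap.polar Q))
    (hirr : ActsIrreducibly (matrixSet G)) {t m : ℕ} {D : Fin t → Submodule F (ι → F)}
    (hD : IsNondegenerateMDecomposition (QuadraticMap.polar Q) m D) (hG : G ≤ decompositionStabilizer D) :
    OrthOddOutcome Q G := by
  classical
  have htrans := decomposition_transitive hirr hD.decomp hG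
  have hfixQ : ∀ g ∈ G, ∀ v, Q ((g : Matrix ι ι F) *ᵥ v) = Q v := fun g hg v => by
    have h := hfix _ (coe_mem_matrixSet hg) v v
    rw [polar_self_eq hQ, polar_self_eq hQ] at h
    exact mul_left_cancel₀ h2 h
  have hiso : IsOrthogonalMDecomposition Q m D := by
    refine ⟨hD, fun i j => ?_⟩
    obtain ⟨g, hg, hmap⟩ := htrans i j
    refine ⟨(Submodule.equivMapOfInjective _ (mulVec_injective_GL g) _).trans (LinearEquiv.ofEq _ _ hmap),
      fun w => ?_⟩
    simp only [LinearEquiv.trans_apply, LinearEquiv.coe_ofEq_apply, Submodule.coe_equivMapOfInjective_apply,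
      Matrix.toLin'_apply]
    exact hfixQ g hg _
  by_cases hm : 1 < m
  · exact Or.inr (Or.inr (Or.inl ⟨t, m, D, hm, hiso, hG⟩))
  obtain rfl : m = 1 := by have := hD.decomp.pos; omega
  by_cases hq : (Fintype.card F).Prime
  · exact Or.inr (Or.inr (Or.inr (Or.inl ⟨t, D, hq, hiso, hG⟩)))
  have ht := hD.decomp.two_le
  let i0 : Fin t := ⟨0, by omega⟩
  obtain ⟨v0, hv0, hspan⟩ : ∃ v0 : ι → F, v0 ≠ 0 ∧ D i0 = Submodule.span F {v0} := by
    obtain ⟨v0, hmem, hv0⟩ := (D i0).ne_bot_iff.mp fun h0 => by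
      have := hD.decomp.finrank_eq i0; rw [h0, finrank_bot] at this; omega
    exact ⟨v0, hv0, (Submodule.eq_of_le_of_finrank_le (by rwa [Submodule.span_singleton_le_iff_mem])
      (by rw [hD.decomp.finrank_eq i0, finrank_span_singleton hv0])).symm⟩
  choose γ hγG hγ using htrans i0
  set v : Fin t → ι → F := fun l => (γ l : Matrix ι ι F) *ᵥ v0 with hv
  have hDv : ∀ l, D l = Submodule.span F {v l} := fun l => by
    rw [← hγ l, hspan, Submodule.map_span, Set.image_singleton, Matrix.toLin'_apply]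
  have hvne : ∀ l, v l ≠ 0 := fun l h0 => by
    have := hD.decomp.finrank_eq l
    rw [hDv l, h0, Submodule.span_zero_singleton, finrank_bot] at this
    omega
  have hli : LinearIndependent F v := hD.decomp.indep.linearIndependent _ (fun l => by
    rw [hDv l]; exact Submodule.mem_span_singleton_self _) hvne
  have hvspan : ⊤ ≤ Submodule.span F (Set.range v) := by
    rw [← hD.decomp.iSup_eq_top]
    refine iSup_le fun l => ?_
    rw [hDv l, Submodule.span_singleton_le_iff_mem]
    exact Submodule.subset_span ⟨l, rfl⟩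
  have htn : t = Fintype.card ι := by
    have := Module.finrank_eq_card_basis (Module.Basis.mk hli hvspan)
    rw [Module.finrank_fintype_fun_eq_card, Fintype.card_fin] at this
    exact this.symm
  let en : ι ≃ Fin t := (Fintype.equivFin ι).trans (finCongr htn.symm)
  have hXu : IsUnit (Matrix.of fun r i => v (en i) r : Matrix ι ι F) :=
    Matrix.linearIndependent_cols_iff_isUnit.mp (show LinearIndependent F fun i => v (en i) from hli.comp en en.injective)
  have hcol : ∀ i, (hXu.unit : Matrix ι ι F) *ᵥ Pi.single i 1 = v (en i) := by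
    intro i; ext r; simp [IsUnit.unit_spec]
  set c := QuadraticMap.polar Q v0 v0 with hc
  have hc0 : c ≠ 0 := by
    obtain ⟨-, x, hx, hx0⟩ := hD.nondegenerate i0 v0 (hspan ▸ Submodule.mem_span_singleton_self v0) hv0
    rw [hspan] at hx
    obtain ⟨d, rfl⟩ := Submodule.mem_span_singleton.mp hx
    rw [hQ.polar_bilinear.smul_right] at hx0
    exact right_ne_zero_of_mul hx0
  have hgram : ∀ i j, QuadraticMap.polar Q ((hXu.unit : Matrix ι ι F) *ᵥ Pi.single i 1)
      ((hXu.unit : Matrix ι ι F) *ᵥ Pi.single j 1) = if i = j then c else 0 := by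
    intro i j
    rw [hcol, hcol]
    split
    · next h => subst h; exact hfix _ (coe_mem_matrixSet (hγG _)) v0 v0
    · next h =>
        exact hD.orthogonal _ _ (en.injective.ne h) _ (by rw [hDv]; exact Submodule.mem_span_singleton_self _)
          _ (by rw [hDv]; exact Submodule.mem_span_singleton_self _)
  have hmove : ∀ g : GL ι F, ∀ l l', (D l).map (Matrix.toLin' (g : Matrix ι ι F)) = D l' →
      ∃ a : F, (g : Matrix ι ι F) *ᵥ v l = a • v l' := by
    intro g l l' h
    have : (g : Matrix ι ι F) *ᵥ v l ∈ D l' := by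
      rw [← h]; exact ⟨v l, by rw [hDv l]; exact Submodule.mem_span_singleton_self _, Matrix.toLin'_apply _ _⟩
    rw [hDv l', Submodule.mem_span_singleton] at this
    obtain ⟨a, ha⟩ := this
    exact ⟨a, ha.symm⟩
  obtain ⟨F₁, r, P, h1, h2', h3, h4⟩ := exists_quadRational_frame hQ h2 hodd hdet hq hfix hirr (X := hXu.unit) hc0 hgram
    (fun g hg j => by
      obtain ⟨π, hπ⟩ := hG hg
      obtain ⟨a, ha⟩ := hmove g _ _ (hπ (en j))
      exact ⟨en.symm (π (en j)), a, by rw [hcol, hcol, ha, en.apply_symm_apply]⟩)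
    (fun i j => by
      obtain ⟨g, hg, h⟩ := htrans (en i) (en j)
      obtain ⟨a, ha⟩ := hmove g _ _ h
      exact ⟨g, hg, a, by rw [hcol, hcol, ha]⟩)
  exact Or.inr (Or.inr (Or.inr (Or.inr (Or.inr (Or.inr (Or.inl ⟨F₁, r, P, h1, h2', h3, h4⟩))))))

/-- Aschbacher's theorem for groups of isometries of a quadratic form in odd dimension. -/
theorem orthogonal_odd_structure {Q : (ι → F) → F} (hQ : IsNondegenerateQuadraticForm Q) (h2 : (2 : F) ≠ 0)
    (hodd : Odd (Fintype.card ι)) (hn : 3 ≤ Fintype.card ι)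
    (hdet : ∀ F₁ : Subfield F, (gramMatrix (QuadraticMap.polar Q)).det ∈ F₁) {G : Subgroup (GL ι F)}
    (hfix : FixesForm (matrixSet G) (QuadraticMap.polar Q)) : OrthOddOutcome Q G := by
  classical
  have : Nonempty ι := Fintype.card_pos_iff.mp (by omega)
  set f := QuadraticMap.polar Q with hfdef
  have hsym : IsSymmetricForm f := ⟨hQ.polar_bilinear, fun u v => polar_symm _ u v, hQ.nondegenerate⟩
  have hR := isRefl_of_symmetric hsym
  have hfh := isHerm_polar hQ
  have hfixN : ∀ {N : Subgroup (GL ι F)}, N ≤ G → FixesForm (matrixSet N) f := fun hN s hs => by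
    obtain ⟨x, hx, rfl⟩ := hs
    exact hfix _ (coe_mem_matrixSet (hN hx))
  have hsub : ∀ N, NormSub G N → ActsAbsolutelyIrreducibly (matrixSet N) → ∀ F₀ : Subfield F, F₀ ≠ ⊤ →
      RealisableOver F₀ (matrixSet N) → OrthOddOutcome Q G := fun N hN habs F₀ h0 hre =>
    Or.inr (Or.inr (Or.inr (Or.inr (Or.inr (Or.inr (Or.inl
      (exists_quadRational hQ h2 hodd hdet hfix habs hN h0 hre)))))))
  have hskew : ∀ {k : ℕ} {B : Matrix (Fin k) (Fin k) F}, Odd k → IsUnit B → Bᵀ ≠ -B := fun {k B} hk hB h => by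
    have := congrArg Matrix.det h
    rw [det_transpose, det_neg, Fintype.card_fin, hk.neg_one_pow] at this
    have h' : (2 : F) * B.det = 0 := by linear_combination this
    exact ((Matrix.isUnit_iff_isUnit_det _).mp hB).ne_zero ((mul_eq_zero.mp h').resolve_left h2)
  have hpow : ∀ {k t : ℕ} {e : ι ≃ (Fin t → Fin k)} {P : GL ι F} {c : F}, 2 ≤ t → 3 ≤ k →
      IsPowerGram (RingEquiv.refl F) f G e P (1 : Matrix (Fin k) (Fin k) F) c → ¬ (Fintype.card F = 3 ∧ k = 3) →
      OrthOddOutcome Q G := fun {k t e P c} ht hk hP hex =>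
    Or.inr (Or.inr (Or.inr (Or.inr (Or.inr (Or.inr (Or.inr (Or.inl
      ⟨k, t, e, P, _, hk, ht, hex, isSymmetricForm_formOf isUnit_one transpose_one,
        hP.structure_eq hR.sesq, hP.le_wreath (by omega)⟩)))))))
  rcases hR.form_structure hn hfix (Or.inr (Or.inr hodd)) with
    (⟨W, h0, hW, hGW⟩ | ⟨W, h0, hW, hd, hGW⟩) | ⟨hD, hirr⟩ | ⟨hirr, h⟩
  · refine Or.inl ⟨W, h0, fun w hw => ?_, hGW⟩
    have h := hW w hw w hw
    rw [hfdef, polar_self_eq hQ] at h
    exact (mul_eq_zero.mp h).resolve_left h2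
  · refine Or.inr (Or.inl ⟨W, h0, fun htop => ?_, hW, hGW⟩)
    rw [htop, finrank_top, Module.finrank_fintype_fun_eq_card] at hd
    omega
  · have hirr := hirr.resolve_right (Nat.not_even_iff_odd.mpr hodd)
    rcases hD with ⟨t, m, D, hD, hG⟩ | ⟨m, D, hm, -, -, -⟩
    · exact orth_decomposition_case hQ h2 hodd hdet hfix hirr hD hG
    · obtain ⟨k, hk⟩ := hodd; omega
  rcases h with ⟨r, K, hK, hK0, hst, hadj⟩ | ⟨n₁, n₂, e, P, B, C, hT⟩ |
    ⟨t, d, e, P, B, c, ht, hd, hP, K, hK0, hKp, hKf⟩ | ⟨N, hN, habs, h⟩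
  · rcases hR.bilinear_field rfl hfix hK hK0 hst hadj with ⟨s, L, hs, hL, hself, hG⟩ | ⟨rfl, -⟩
    · refine Or.inr (Or.inr (Or.inr (Or.inr (Or.inl ⟨s, L, hs, fun he => ?_, hL, hR.isSelfAdjointFor hself, hG⟩))))
      subst he
      exact field_degree_ne_dim hR hfh h2 hodd (by omega) hfix hirr hL hself hG
    · exact absurd (fieldSubalgebra_dvd hK) fun h => (Nat.not_even_iff_odd.mpr hodd) (even_iff_two_dvd.mpr h)
  · obtain ⟨a, ha, hB, hC⟩ := hR.tensor_sym hT
    rw [RingEquiv.refl_apply] at ha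
    rw [map_refl] at hB hC
    rw [one_smul] at hC
    have hcard := hT.card_eq
    rw [hcard] at hodd
    obtain ⟨ho1, ho2⟩ := Nat.odd_mul.mp hodd
    have ha1 : a = 1 := (mul_self_eq_one_iff.mp ha).resolve_right fun h => by
      rw [h, neg_one_smul] at hB
      exact hskew ho1 hT.unit_left hB
    rw [ha1, one_smul] at hB hC
    have hn1 : 3 ≤ n₁ := by have := hT.two_le_left; rcases ho1 with ⟨k, rfl⟩; omega
    have hn2 : 3 ≤ n₂ := by have := hT.two_le_right; rcases ho2 with ⟨k, rfl⟩; omega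
    rcases lt_trichotomy n₁ n₂ with hlt | heq | hgt
    · exact Or.inr (Or.inr (Or.inr (Or.inr (Or.inr (Or.inl ⟨n₁, n₂, e, P, _, _, hn1, hlt,
        isSymmetricForm_formOf hT.unit_left hB, isSymmetricForm_formOf hT.unit_right hC,
        hT.structure_eq hR.sesq, hT.le_tensorProductSubgroup⟩)))))
    · subst heq
      obtain ⟨X, s₁, hs1, hX⟩ := exists_congr_scalar_one h2 ho1 hT.unit_left hB
      obtain ⟨Y, s₂, hs2, hY⟩ := exists_congr_scalar_one h2 ho1 hT.unit_right hC
      have hu : ∀ {s : F}, s ≠ 0 → IsUnit (s • (1 : Matrix (Fin n₁) (Fin n₁) F)) := fun {s} hs => by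
        simpa [Units.smul_def] using (isUnit_one (M := Matrix (Fin n₁) (Fin n₁) F)).smul (Units.mk0 s hs)
      obtain ⟨P', hT1⟩ := hT.congr X Y (hu hs1) (hu hs2) hX hY
      have hT2 := hT1.smul hs2
      rw [smul_smul, smul_smul, inv_mul_cancel₀ hs2, one_smul] at hT2
      set c := s₂ * s₁
      have hc : c ≠ 0 := mul_ne_zero hs2 hs1
      by_cases hex : Fintype.card F = 3 ∧ n₁ = 3
      · obtain ⟨hq, rfl⟩ := hex
        have hgram : ∀ i j, f ((P' : Matrix ι ι F) *ᵥ Pi.single i 1) ((P' : Matrix ι ι F) *ᵥ Pi.single j 1) =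
            if i = j then c else 0 := by
          intro i j
          have h := hT2.gram
          rw [Matrix.smul_kronecker, one_kronecker_one, Matrix.submatrix_smul, Pi.smul_apply] at h
          rw [hR.sesq.eq_gram, show (RingEquiv.refl F) ∘ ((P' : Matrix ι ι F) *ᵥ Pi.single j 1) =
            (P' : Matrix ι ι F) *ᵥ Pi.single j 1 from rfl, ← vecMul_transpose (P' : Matrix ι ι F),
            ← dotProduct_mulVec, mulVec_mulVec, mulVec_mulVec]
          rw [map_refl] at h
          rw [h]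
          simp [Matrix.one_apply]
        have hmono : ∀ g ∈ G, ∀ j, ∃ (i : ι) (a : F), (g : Matrix ι ι F) *ᵥ ((P' : Matrix ι ι F) *ᵥ Pi.single j 1) =
            a • ((P' : Matrix ι ι F) *ᵥ Pi.single i 1) := by
          intro g hg j
          obtain ⟨x, y, hxy⟩ := hT2.kron g hg
          obtain ⟨s, hs0, hy, hx⟩ := hT2.factor hR.sesq hfix hg hxy
          rw [map_refl, mul_one] at hy
          rw [map_refl, mul_smul_comm, mul_one, smul_mul_assoc, smul_smul] at hx
          have hx' : (x : Matrix (Fin 3) (Fin 3) F)ᵀ * (x : Matrix (Fin 3) (Fin 3) F) = s⁻¹ • 1 := by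
            refine smul_right_injective _ hc ?_
            show c • _ = c • _
            rw [hx, smul_smul, mul_comm]
          obtain ⟨i₁, -, hz1⟩ := monomial_of_three hq (inv_ne_zero hs0) hx' (e j).1
          obtain ⟨i₂, -, hz2⟩ := monomial_of_three hq hs0 hy (e j).2
          refine ⟨e.symm (i₁, i₂), (x : Matrix (Fin 3) (Fin 3) F) i₁ (e j).1 * (y : Matrix (Fin 3) (Fin 3) F) i₂ (e j).2, ?_⟩
          have e1 : (g : Matrix ι ι F) * (P' : Matrix ι ι F) = (P' : Matrix ι ι F) *
              ((x : Matrix (Fin 3) (Fin 3) F) ⊗ₖ (y : Matrix (Fin 3) (Fin 3) F)).submatrix e e := by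
            rw [← hxy]; simp [← mul_assoc]
          rw [mulVec_mulVec, e1, ← mulVec_mulVec, ← mulVec_smul]
          congr 1
          funext l
          obtain ⟨⟨p, p'⟩, rfl⟩ := e.symm.surjective l
          simp only [mulVec_single_one, Matrix.col_apply, submatrix_apply, Equiv.apply_symm_apply, kroneckerMap_apply,
            Pi.smul_apply, smul_eq_mul, Pi.single_apply, e.symm.injective.eq_iff, Prod.mk.injEq]
          by_cases h1 : p = i₁
          · by_cases h2 : p' = i₂
            · subst h1; subst h2; simp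
            · simp [hz2 p' h2, h2]
          · simp [hz1 p h1, h1]
        obtain ⟨D, hD, hG⟩ := frame_decomposition hsym.bilinear (by omega) hc hgram hmono
        exact orth_decomposition_case hQ h2 (hcard ▸ hodd) hdet hfix hirr hD hG
      · have hP : IsPowerGram (RingEquiv.refl F) f G (e.trans (piFinTwoEquiv fun _ : Fin 2 => Fin n₁).symm) P'
            (1 : Matrix (Fin n₁) (Fin n₁) F) c := by
          refine ⟨hc, isUnit_one, ?_, fun x hx => ?_⟩
          · rw [hT2.gram, Matrix.smul_kronecker, one_kronecker_one, tens_one, submatrix_one_equiv,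
              Matrix.submatrix_smul, Pi.smul_apply, Pi.smul_apply, submatrix_one_equiv]
          · obtain ⟨g, b, hgb⟩ := hT2.kron x hx
            refine ⟨![g, b], 1, 1, one_ne_zero, ?_⟩
            rw [hgb, one_smul]
            ext i j
            simp [mul_permMat_apply, Equiv.Perm.one_def, tens, Fin.prod_univ_two, Matrix.kroneckerMap_apply]
        exact hpow le_rfl hn1 hP hex
    · exact Or.inr (Or.inr (Or.inr (Or.inr (Or.inr (Or.inl ⟨n₂, n₁, _, P, _, _, hn2, hgt,
        isSymmetricForm_formOf hT.unit_right hC, isSymmetricForm_formOf hT.unit_left hB,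
        hT.swap.structure_eq hR.sesq, hT.swap.le_tensorProductSubgroup⟩)))))
  · obtain ⟨a, ha, hB, -⟩ := hP.sym hR (by omega) (by omega)
    rw [RingEquiv.refl_apply] at ha
    rw [map_refl] at hB
    have hdo : Odd d := by
      have hcard : Fintype.card ι = d ^ t := by rw [Fintype.card_congr e, Fintype.card_fun, Fintype.card_fin, Fintype.card_fin]
      rw [hcard] at hodd
      exact (Nat.odd_pow_iff (by omega)).mp hodd
    have hd3 : 3 ≤ d := by rcases hdo with ⟨k, rfl⟩; omega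
    have ha1 : a = 1 := (mul_self_eq_one_iff.mp ha).resolve_right fun h => by
      rw [h, neg_one_smul] at hB
      exact hskew hdo hP.unit hB
    rw [ha1, one_smul] at hB
    obtain ⟨X, s, hs, hX⟩ := exists_congr_scalar_one h2 hdo hP.unit hB
    obtain ⟨P', c', hP'⟩ := hP.congr X isUnit_one hs hX
    refine hpow ht hd3 hP' ?_
    rintro ⟨hq, rfl⟩
    apply hK0
    have hmap : K.map (MulAut.conj X⁻¹).toMonoidHom = ⊥ := by
      refine perfect_eq_bot_of_orth_three hq (by rw [← Subgroup.map_commutator, hKp]) ?_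
      rintro _ ⟨g, hg, rfl⟩
      show ((X⁻¹ * g * X⁻¹⁻¹ : GL (Fin 3) F) : Matrix (Fin 3) (Fin 3) F)ᵀ *
        ((X⁻¹ * g * X⁻¹⁻¹ : GL (Fin 3) F) : Matrix (Fin 3) (Fin 3) F) = 1
      rw [inv_inv, Units.val_mul, Units.val_mul]
      set A := (X : Matrix (Fin 3) (Fin 3) F)
      set A' := ((X⁻¹ : GL (Fin 3) F) : Matrix (Fin 3) (Fin 3) F)
      rw [map_refl] at hX
      have hA : A * A' = 1 := Units.mul_inv X
      have hg' := hKf g hg
      rw [map_refl] at hg'
      refine smul_right_injective _ hs ?_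
      show s • _ = s • _
      calc s • ((A' * (g : Matrix (Fin 3) (Fin 3) F) * A)ᵀ * (A' * (g : Matrix (Fin 3) (Fin 3) F) * A))
          = (A' * (g : Matrix (Fin 3) (Fin 3) F) * A)ᵀ * (Aᵀ * B * A) * (A' * (g : Matrix (Fin 3) (Fin 3) F) * A) := by
            rw [hX, mul_smul_comm, mul_one, smul_mul_assoc]
        _ = Aᵀ * ((g : Matrix (Fin 3) (Fin 3) F)ᵀ * ((A * A')ᵀ * B * (A * A')) * (g : Matrix (Fin 3) (Fin 3) F)) * A := by
            simp only [transpose_mul, mul_assoc]
        _ = s • 1 := by rw [hA, transpose_one, one_mul, mul_one, hg', hX]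
    rwa [Subgroup.map_eq_bot_iff_of_injective K (MulAut.conj X⁻¹).injective] at hmap
  rcases h with ⟨F₀, h0, hre⟩ | ⟨-, hε, -⟩ | ⟨hσ, -⟩ | hcore
  · exact hsub N hN habs F₀ h0 hre
  · exact absurd (show (2 : F) = 0 by linear_combination hε) h2
  · exact absurd rfl hσ
  by_cases hU : ∃ (σ : F ≃+* F) (g : (ι → F) → (ι → F) → F), IsUnitaryForm σ g ∧ FixesForm (matrixSet N) g
  · obtain ⟨σ, g, hg, hgfix⟩ := hU
    exact hsub N hN habs (fixSubfield σ) (fixSubfield_ne_top hg.ne_refl)
      (realisable_of_two_forms habs hg hgfix hQ.polar_bilinear hQ.nondegenerate (hfixN hN.1))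
  exact Or.inr (Or.inr (Or.inr (Or.inr (Or.inr (Or.inr (Or.inr (Or.inr ⟨N, hcore, hU⟩)))))))

/-- Subgroups of the isometry group of the standard form in odd dimension are in a member or residual. -/
theorem orthogonal_odd_class {m : ℕ} (hm : 1 ≤ m) (hodd : Odd (Fintype.card F))
    (H : Subgroup (GL (Unit ⊕ (Fin m ⊕ Fin m)) F)) (hH : H ≤ isometryGroup F (quadFormOdd m F)) :
    (∃ M, InOrthogonalOddClass m F M ∧ H ≤ M) ∨ InOrthogonalResidualClass H := by
  have h2 := odd_card_iff_two_ne_zero.mp hodd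
  have hcard : Fintype.card (Unit ⊕ (Fin m ⊕ Fin m)) = 2 * m + 1 := by
    simp only [Fintype.card_sum, Fintype.card_unit, Fintype.card_fin]; omega
  have hQ := quadFormOdd_nondegenerate (F := F) m h2
  have hfix : FixesForm (matrixSet H) (QuadraticMap.polar (quadFormOdd m F)) := fun s hs u v => by
    obtain ⟨g, hg, rfl⟩ := hs
    have h : ∀ v, quadFormOdd m F ((g : Matrix _ _ F) *ᵥ v) = quadFormOdd m F v := fun v => hH hg v v
    rw [QuadraticMap.polar, ← mulVec_add, h, h, h]
    rfl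
  have key : ∀ X, H ≤ X → H ≤ X ⊓ isometryGroup F (quadFormOdd m F) := fun X h => le_inf h hH
  rcases orthogonal_odd_structure hQ h2 (by rw [hcard]; exact odd_two_mul_add_one m) (by omega)
      (det_gram_quadFormOdd_mem m) hfix with
    ⟨W, h0, hW, hG⟩ | ⟨W, h0, h1, hW, hG⟩ | ⟨t, k, D, hk, hD, hG⟩ | ⟨t, D, hp, hD, hG⟩ |
    ⟨r, K, hr, hne, hK, hsa, hG⟩ | ⟨n₁, n₂, e, P, f₁, f₂, h1, h2', hf₁, hf₂, hT, hG⟩ |
    ⟨F₀, r, P, hr, hc, hP, hG⟩ | ⟨k, t, e, P, f₁, hk, ht, hex, hf₁, hT, hG⟩ | h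
  · exact Or.inl ⟨_, Or.inl ⟨W, h0, hW, rfl⟩, key _ hG⟩
  · exact Or.inl ⟨_, Or.inr (Or.inl ⟨W, h0, h1, hW, rfl⟩), key _ hG⟩
  · exact Or.inl ⟨_, Or.inr (Or.inr (Or.inl ⟨t, k, D, hk, hD, rfl⟩)), key _ hG⟩
  · exact Or.inl ⟨_, Or.inr (Or.inr (Or.inr (Or.inl ⟨t, D, hp, hD, rfl⟩))), key _ hG⟩
  · rw [hcard] at hne
    exact Or.inl ⟨_, Or.inr (Or.inr (Or.inr (Or.inr (Or.inl ⟨r, K, hr, hne, hK, hsa, rfl⟩)))), key _ hG⟩
  · exact Or.inl ⟨_, Or.inr (Or.inr (Or.inr (Or.inr (Or.inr (Or.inl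
      ⟨n₁, n₂, e, P, f₁, f₂, h1, h2', hf₁, hf₂, hT, rfl⟩))))), key _ hG⟩
  · exact Or.inl ⟨_, Or.inr (Or.inr (Or.inr (Or.inr (Or.inr (Or.inr (Or.inl ⟨F₀, r, P, hr, hc, hP, rfl⟩)))))),
      key _ hG⟩
  · exact Or.inl ⟨_, Or.inr (Or.inr (Or.inr (Or.inr (Or.inr (Or.inr (Or.inr
      ⟨k, t, e, P, f₁, hk, ht, hex, hf₁, hT, rfl⟩)))))), key _ hG⟩
  · exact Or.inr h

end CfsgLib.Aschbacher
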