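import Cfsg.Agent.Aschbacher.Form.OrthTorusField
import Cfsg.Agent.Aschbacher.Form.OrthEvenRational
import Cfsg.Agent.Aschbacher.Form.OrthEvenStructure
import Cfsg.Agent.Aschbacher.Form.OrthogonalOdd
import Cfsg.Agent.Geo.OrthNonMaximal

/-!
Orthogonal groups of dimension ten: discriminants of halves, frames, plane decompositions, and rational structures of
index two.
-/
set_option autoImplicit false
set_option maxHeartbeats 1000000

namespace CfsgLib.Aschbacher

open Matrix Cfsg Cfsg.Geo CfsgLib.GeoClifford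
open scoped MatrixGroups

variable {ι : Type} [Fintype ι] [DecidableEq ι] {F : Type*} [Field F] [Fintype F] {Q : (ι → F) → F}

namespace OE

/-- A rational structure over a subfield of index two forces plus type in even dimension. -/
theorem plus_of_index_two (hQ : IsNondegenerateQuadraticForm Q) {m : ℕ} (hm : 1 ≤ m)
    (hn : Fintype.card ι = 2 * m) {F₁ : Subfield F}
    (hcard : Fintype.card F = Nat.card F₁ ^ 2) {P : GL ι F} {ζ : F} (hζ : ζ ≠ 0)
    (hstr : IsQuadFormRationalStructure (fun v => ζ * Q v) F₁ P) : IsPlusTypeOn Q ⊤ := by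
  classical
  let cst : (ι → F₁) →ₗ[F₁] (ι → F) :=
    { toFun := fun u i => (u i : F)
      map_add' := fun a b => funext fun i => rfl
      map_smul' := fun c a => funext fun i => rfl }
  let lift : (ι → F₁) → (ι → F) := fun u => (P : Matrix ι ι F) *ᵥ cst u
  have hladd : ∀ u v, lift (u + v) = lift u + lift v := fun u v => by simp only [lift, map_add, mulVec_add]
  have hlsmul : ∀ (c : F₁) u, lift (c • u) = (c : F) • lift u := fun c u => by
    simp only [lift, ← mulVec_smul]; rfl
  let q : (ι → F₁) → F₁ := fun u => ⟨ζ * Q (lift u), hstr _ fun i => (u i).2⟩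
  have hqpol : ∀ u v, ((QuadraticMap.polar q u v : F₁) : F) = ζ * QuadraticMap.polar Q (lift u) (lift v) := fun u v => by
    simp only [QuadraticMap.polar, q, Subfield.coe_sub, hladd]; ring
  have hq : IsNondegenerateQuadraticForm q := by
    refine ⟨fun c u => Subtype.ext ?_, ⟨fun x y v => Subtype.ext ?_, fun c x v => Subtype.ext ?_,
      fun v x y => Subtype.ext ?_, fun c v x => Subtype.ext ?_⟩, fun v hv => ?_⟩
    · simp only [q, hlsmul, hQ.smul, Subfield.coe_mul, SubmonoidClass.coe_pow]; ring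
    · rw [Subfield.coe_add, hqpol, hqpol, hqpol, hladd, hQ.polar_bilinear.add_left]; ring
    · rw [Subfield.coe_mul, hqpol, hqpol, hlsmul, hQ.polar_bilinear.smul_left]; ring
    · rw [Subfield.coe_add, hqpol, hqpol, hqpol, hladd, hQ.polar_bilinear.add_right]; ring
    · rw [Subfield.coe_mul, hqpol, hqpol, hlsmul, hQ.polar_bilinear.smul_right]; ring
    have hv0 : lift v ≠ 0 := fun h => hv (funext fun i => Subtype.ext (by
      have := congrFun (mulVec_injective_GL P (a₁ := cst v) (a₂ := 0) (by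
        rw [Matrix.toLin'_apply, Matrix.toLin'_apply, mulVec_zero]; exact h)) i
      exact this))
    obtain ⟨x, hx⟩ : ∃ x, QuadraticMap.polar q x v ≠ 0 := by
      by_contra hcon
      push Not at hcon
      obtain ⟨⟨w, hw⟩, -⟩ := hQ.nondegenerate _ hv0
      apply hw
      let φ : (ι → F) →ₗ[F] F :=
        { toFun := fun z => QuadraticMap.polar Q ((P : Matrix ι ι F) *ᵥ z) (lift v)
          map_add' := fun a b => by rw [mulVec_add, hQ.polar_bilinear.add_left]
          map_smul' := fun c a => by rw [mulVec_smul, hQ.polar_bilinear.smul_left]; rfl }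
      have hφ : φ = 0 := (Pi.basisFun F ι).ext fun i => by
        rw [Pi.basisFun_apply, LinearMap.zero_apply]
        have h := congrArg Subtype.val (hcon (Pi.single i 1))
        rw [hqpol] at h
        have e : cst (Pi.single i 1) = Pi.single i 1 := funext fun l => by
          by_cases hl : l = i <;> simp [cst, hl]
        simp only [lift, e, Subfield.coe_zero] at h
        exact (mul_eq_zero.mp h).resolve_left hζ
      have h := LinearMap.congr_fun hφ (((P⁻¹ : GL ι F) : Matrix ι ι F) *ᵥ w)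
      simp only [φ, LinearMap.coe_mk, AddHom.coe_mk, mulVec_mulVec, Units.mul_inv, one_mulVec,
        LinearMap.zero_apply] at h
      exact h
    exact ⟨⟨x, hx⟩, x, by rwa [polar_symm]⟩
  obtain ⟨q', hq'e, hq'⟩ := CfsgLib.Geo.OS.exists_quadraticForm hq
  have hd : Module.finrank F₁ (ι → F₁) = 2 * m := by rw [Module.finrank_fintype_fun_eq_card, hn]
  have hperp : ∀ S : Submodule F₁ (ι → F₁), Module.finrank F₁ (CfsgLib.Quad.perpS q' S) + Module.finrank F₁ S = 2 * m :=
    fun S => by rw [add_comm, CfsgLib.Quad.finrank_perpS hq' S, hd]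
  have hchain : ∀ k, k + 1 ≤ m → ∃ S : Submodule F₁ (ι → F₁), (∀ v ∈ S, q' v = 0) ∧ Module.finrank F₁ S = k := by
    intro k
    induction k with
    | zero => exact fun _ => ⟨⊥, fun v hv => by simp [(Submodule.mem_bot F₁).mp hv], finrank_bot F₁ _⟩
    | succ k ih =>
      intro hk
      obtain ⟨S, hS, hSd⟩ := ih (by omega)
      obtain ⟨z, hzP, hQz, hzS⟩ := CfsgLib.Geo.OS.exists_singular_outside hq' (CfsgLib.Quad.perpS q' S) S (by
        have := hperp S; omega)
      refine ⟨S ⊔ Submodule.span F₁ {z}, fun v hv => ?_, ?_⟩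
      · obtain ⟨a, ha, b, hb, rfl⟩ := Submodule.mem_sup.mp hv
        obtain ⟨c, rfl⟩ := Submodule.mem_span_singleton.mp hb
        rw [CfsgLib.Forms.quad_add, hS a ha, CfsgLib.Forms.quad_smul, hQz, QuadraticMap.polar_smul_right,
          show QuadraticMap.polar q' a z = 0 from hzP a ha]
        simp
      · have h1 := Submodule.finrank_sup_add_finrank_inf_eq S (Submodule.span F₁ {z})
        have hz0 : z ≠ 0 := fun h => hzS (h ▸ S.zero_mem)
        have hinf : S ⊓ Submodule.span F₁ {z} = ⊥ := disjoint_iff.mp ((Submodule.disjoint_span_singleton' hz0).mpr hzS)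
        rw [hinf, finrank_bot, finrank_span_singleton hz0] at h1
        omega
  obtain ⟨S, hS, hSd⟩ := hchain (m - 1) (by omega)
  set P₂ := CfsgLib.Quad.perpS q' S with hP₂
  have hSP : S ≤ P₂ := fun v hv w hw => CfsgLib.Geo.OS.polar_eq_zero_of_singular hS hw hv
  obtain ⟨w1, hw1, hn1⟩ := SetLike.not_le_iff_exists.mp (fun h : P₂ ≤ S => by
    have := Submodule.finrank_mono h; have := hperp S; rw [← hP₂] at this; omega)
  obtain ⟨w2, hw2, hn2⟩ := SetLike.not_le_iff_exists.mp (fun h : P₂ ≤ S ⊔ Submodule.span F₁ {w1} => by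
    have := Submodule.finrank_mono h; have h' := hperp S; rw [← hP₂] at h'
    have := Submodule.finrank_add_le_finrank_add_finrank S (Submodule.span F₁ {w1})
    have : Module.finrank F₁ (Submodule.span F₁ {w1}) ≤ 1 := (finrank_span_le_card ({w1} : Set (ι → F₁))).trans (by simp)
    omega)
  let bS := Module.finBasis F₁ S
  set e : Fin (Module.finrank F₁ S) ⊕ Fin 2 → ι → F₁ := Sum.elim (fun i => (bS i : ι → F₁)) ![w1, w2] with he
  have hli : LinearIndependent F₁ e := by
    rw [he]
    refine LinearIndependent.sum_type (bS.linearIndependent.map' S.subtype (Submodule.ker_subtype S)) ?_ ?_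
    · refine LinearIndependent.pair_iff.mpr fun s t hst => ?_
      have ht : t = 0 := by
        by_contra ht
        refine hn2 (Submodule.mem_sup_right (Submodule.mem_span_singleton.mpr ⟨-(t⁻¹ * s), ?_⟩))
        have h' := congrArg (t⁻¹ • ·) hst
        simp only [smul_add, smul_smul, inv_mul_cancel₀ ht, one_smul, smul_zero] at h'
        rw [neg_smul]
        exact (eq_neg_of_add_eq_zero_right h').symm
      subst ht
      rw [zero_smul, add_zero, smul_eq_zero] at hst
      exact ⟨hst.resolve_right fun h => hn1 (h ▸ S.zero_mem), rfl⟩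
    · rw [Submodule.disjoint_def]
      intro v hv hv'
      have hvS : v ∈ S := (Submodule.span_le.mpr (by rintro _ ⟨i, rfl⟩; exact (bS i).2)) hv
      obtain ⟨c, rfl⟩ := (Submodule.mem_span_range_iff_exists_fun F₁).mp hv'
      simp only [Fin.sum_univ_two, Matrix.cons_val_zero, Matrix.cons_val_one] at hvS ⊢
      have h1 : c 1 = 0 := by
        by_contra h1
        refine hn2 ?_
        have h : c 1 • w2 ∈ S ⊔ Submodule.span F₁ {w1} := by
          have := Submodule.sub_mem _ (Submodule.mem_sup_left (T := Submodule.span F₁ {w1}) hvS)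
            (Submodule.mem_sup_right (S := S) (Submodule.smul_mem _ (c 0) (Submodule.mem_span_singleton_self w1)))
          simpa using this
        exact (Submodule.smul_mem_iff _ h1).mp h
      rw [h1, zero_smul, add_zero] at hvS ⊢
      by_contra hne
      exact hn1 ((Submodule.smul_mem_iff _ (fun h0 => hne (by rw [h0, zero_smul]))).mp hvS)
  set E : Matrix ι (Fin (Module.finrank F₁ S) ⊕ Fin 2) F₁ := Matrix.of fun i l => e l i
  obtain ⟨L, hL⟩ : ∃ L : Matrix (Fin (Module.finrank F₁ S) ⊕ Fin 2) ι F₁, L * E = 1 := by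
    let f := Matrix.toLin' E
    have hinj : Function.Injective f := by
      intro x y hxy
      simp only [f, Matrix.toLin'_apply] at hxy
      exact Matrix.mulVec_injective_iff.mpr (show LinearIndependent F₁ E.col from hli) hxy
    obtain ⟨g, hg⟩ := f.exists_leftInverse_of_injective (LinearMap.ker_eq_bot.mpr hinj)
    refine ⟨LinearMap.toMatrix' g, ?_⟩
    rw [← LinearMap.toMatrix'_toLin' E, ← LinearMap.toMatrix'_comp, hg, LinearMap.toMatrix'_id]
  have h5 : LinearIndependent F fun l => lift (e l) := by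
    refine Fintype.linearIndependent_iff.mpr fun c hc j => ?_
    have h1 : (E.map F₁.subtype) *ᵥ c = 0 := by
      apply mulVec_injective_GL P
      rw [Matrix.toLin'_apply, Matrix.toLin'_apply, mulVec_zero, ← hc]
      simp only [lift, ← mulVec_smul, ← mulVec_sum]
      congr 1
      funext i
      simp [E, cst, mulVec, dotProduct, Finset.sum_apply, mul_comm]
    have h2 := congrArg ((L.map F₁.subtype) *ᵥ ·) h1
    simp only [mulVec_mulVec, mulVec_zero, ← Matrix.map_mul, hL, Matrix.map_one _ (map_zero _) (map_one _),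
      one_mulVec] at h2
    exact congrFun h2 j
  obtain ⟨x, y, hxy, hzero⟩ := exists_binary_zero hcard (q w1).2 (QuadraticMap.polar q w1 w2).2 (q w2).2
  have hpolf : ∀ u v, QuadraticMap.polar Q (lift u) (lift v) = ζ⁻¹ * ((QuadraticMap.polar q u v : F₁) : F) := fun u v => by
    rw [hqpol, ← mul_assoc, inv_mul_cancel₀ hζ, one_mul]
  have hQf : ∀ u, Q (lift u) = ζ⁻¹ * ((q u : F₁) : F) := fun u => by
    show _ = ζ⁻¹ * (ζ * _)
    rw [← mul_assoc, inv_mul_cancel₀ hζ, one_mul]
  have hpS : ∀ u ∈ S, ∀ v ∈ P₂, QuadraticMap.polar Q (lift u) (lift v) = 0 := fun u hu v hv => by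
    rw [hpolf, ← hq'e, show QuadraticMap.polar (⇑q') u v = 0 from hv u hu, Subfield.coe_zero, mul_zero]
  let z : Option (Fin (Module.finrank F₁ S)) → ι → F := fun o =>
    o.elim (x • lift w1 + y • lift w2) fun i => lift (bS i : ι → F₁)
  have hz : LinearIndependent F z := by
    refine Fintype.linearIndependent_iff.mpr fun c hc => ?_
    have h := Fintype.linearIndependent_iff.mp h5
      (Sum.elim (fun i => c (some i)) ![c none * x, c none * y]) (by
        rw [← hc, Fintype.sum_option, Fintype.sum_sum_type, Fin.sum_univ_two]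
        simp [z, e, smul_smul]
        abel)
    intro o
    cases o with
    | none =>
      rcases hxy with hx | hy
      · exact (mul_eq_zero.mp (h (Sum.inr 0))).resolve_right hx
      · exact (mul_eq_zero.mp (h (Sum.inr 1))).resolve_right hy
    | some i => exact h (Sum.inl i)
  refine plus_of_ts (T := Submodule.span F (Set.range z)) ?_ (by
    rw [finrank_span_eq_card hz, Fintype.card_option, Fintype.card_fin, hn]; omega)
  intro w hw
  obtain ⟨k, rfl⟩ := (Submodule.mem_span_range_iff_exists_fun F).mp hw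
  have hlast : Q (x • lift w1 + y • lift w2) = 0 := by
    rw [quad_add hQ, hQ.smul, hQ.smul, hQ.polar_bilinear.smul_left, hQ.polar_bilinear.smul_right, hQf, hQf, hpolf]
    linear_combination ζ⁻¹ * hzero
  have hmix : ∀ i, QuadraticMap.polar Q (lift (bS i : ι → F₁)) (x • lift w1 + y • lift w2) = 0 := fun i => by
    rw [hQ.polar_bilinear.add_right, hQ.polar_bilinear.smul_right, hQ.polar_bilinear.smul_right,
      hpS _ (bS i).2 _ hw1, hpS _ (bS i).2 _ hw2, mul_zero, mul_zero, add_zero]
  refine quad_sum_eq_zero hQ _ _ _ (fun p _ p' _ => ?_) fun p _ => ?_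
  · cases p <;> cases p'
    · show QuadraticMap.polar Q (x • lift w1 + y • lift w2) (x • lift w1 + y • lift w2) = 0
      rw [polar_self_eq hQ, hlast, mul_zero]
    · exact (polar_symm _ _ _).trans (hmix _)
    · exact hmix _
    · exact hpS _ (bS _).2 _ (hSP (bS _).2)
  · cases p with
    | none => exact hlast
    | some i =>
      show Q (lift (bS i : ι → F₁)) = 0
      rw [hQf, ← hq'e, hS _ (bS i).2, Subfield.coe_zero, mul_zero]

/-- An odd-dimensional non-degenerate subspace has an orthogonal basis of equal values. -/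
lemma exists_scalar_basis (hQ : IsNondegenerateQuadraticForm Q) (h2 : (2 : F) ≠ 0) {k : ℕ} (hk : Odd k)
    {U : Submodule F (ι → F)} (hU : IsNondegenerateOn (QuadraticMap.polar Q) U) (hd : Module.finrank F U = k) :
    ∃ (u : Fin k → ι → F) (s : F), s ≠ 0 ∧ (∀ i, u i ∈ U) ∧ LinearIndependent F u ∧
      ∀ i j, QuadraticMap.polar Q (u i) (u j) = if i = j then s else 0 := by
  classical
  have hb := hQ.polar_bilinear
  let b := Module.finBasisOfFinrankEq F U hd
  let B : Matrix (Fin k) (Fin k) F := Matrix.of fun i j => QuadraticMap.polar Q (b i : ι → F) (b j)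
  have hBv : ∀ x y : Fin k → F, QuadraticMap.polar Q ((∑ i, x i • b i : U) : ι → F) ((∑ i, y i • b i : U) : ι → F) =
      x ⬝ᵥ (B *ᵥ y) := by
    intro x y
    let Bl : (ι → F) →ₗ[F] (ι → F) →ₗ[F] F :=
      LinearMap.mk₂ F (QuadraticMap.polar Q) hb.add_left hb.smul_left hb.add_right hb.smul_right
    simp only [Submodule.coe_sum, Submodule.coe_smul, dotProduct, mulVec, B, Matrix.of_apply, Finset.mul_sum]
    show Bl (∑ i, x i • (b i : ι → F)) (∑ i, y i • (b i : ι → F)) = _
    simp only [map_sum, LinearMap.sum_apply, map_smul, LinearMap.smul_apply, smul_eq_mul, Bl, LinearMap.mk₂_apply,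
      Finset.mul_sum]
    rw [Finset.sum_comm]
    exact Finset.sum_congr rfl fun i _ => Finset.sum_congr rfl fun j _ => by ring
  have hB : IsUnit B := by
    refine Matrix.mulVec_injective_iff_isUnit.mp fun x y hxy => ?_
    by_contra hne
    have h0 : (∑ i, (x - y) i • b i : U) ≠ 0 := fun h => hne (sub_eq_zero.mp (funext
      (Fintype.linearIndependent_iff.mp b.linearIndependent _ h)))
    obtain ⟨⟨w, hw, hww⟩, -⟩ := hU _ (∑ i, (x - y) i • b i : U).2 (fun h => h0 (Subtype.ext h))
    apply hww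
    obtain ⟨z, hz⟩ : ∃ z : Fin k → F, (∑ i, z i • b i : U) = ⟨w, hw⟩ := ⟨_, b.sum_repr _⟩
    rw [show w = ((∑ i, z i • b i : U) : ι → F) by rw [hz], hBv, mulVec_sub, hxy, sub_self, dotProduct_zero]
  have hBt : Bᵀ = B := by ext i j; exact polar_symm Q _ _
  obtain ⟨X, s, hs, hX⟩ := exists_congr_scalar_one h2 hk hB hBt
  rw [map_refl] at hX
  refine ⟨fun j => ((∑ i, (X : Matrix (Fin k) (Fin k) F) i j • b i : U) : ι → F), s, hs, fun j => SetLike.coe_mem _,
    ?_, fun i j => ?_⟩
  · refine Fintype.linearIndependent_iff.mpr fun c hc j => ?_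
    have h1 : ∑ i, ((X : Matrix (Fin k) (Fin k) F) *ᵥ c) i • b i = 0 := Subtype.ext (by
      rw [ZeroMemClass.coe_zero, ← hc]
      simp only [Submodule.coe_sum, Submodule.coe_smul, mulVec, dotProduct, Finset.sum_smul, Finset.smul_sum, smul_smul]
      rw [Finset.sum_comm]
      exact Finset.sum_congr rfl fun i _ => Finset.sum_congr rfl fun j _ => by rw [mul_comm])
    have h2 : (X : Matrix (Fin k) (Fin k) F) *ᵥ c = 0 :=
      funext (Fintype.linearIndependent_iff.mp b.linearIndependent _ h1)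
    have h3 : c = 0 := by
      have := congrArg (((X⁻¹ : GL (Fin k) F) : Matrix (Fin k) (Fin k) F) *ᵥ ·) h2
      simpa [mulVec_mulVec] using this
    exact congrFun h3 j
  · rw [hBv]
    have e : ((X : Matrix (Fin k) (Fin k) F)ᵀ * B * (X : Matrix (Fin k) (Fin k) F)) i j =
        (s • (1 : Matrix (Fin k) (Fin k) F)) i j := by rw [hX]
    simp only [Matrix.smul_apply, Matrix.one_apply, smul_eq_mul, mul_ite, mul_one, mul_zero] at e
    rw [← e, Matrix.mul_apply]
    simp only [dotProduct, mulVec, Matrix.mul_apply, Matrix.transpose_apply, Finset.sum_mul, Finset.mul_sum]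
    rw [Finset.sum_comm]
    exact Finset.sum_congr rfl fun a _ => Finset.sum_congr rfl fun b' _ => by ring

/-- Two orthogonal scalar families whose values differ by minus a square give plus type. -/
lemma plus_of_two_families (hQ : IsNondegenerateQuadraticForm Q) (h2 : (2 : F) ≠ 0) {k : ℕ}
    (hk : Fintype.card ι = 2 * k) {u u' : Fin k → ι → F} {s s' c : F} (hs : s ≠ 0) (hc : c * c * s + s' = 0)
    (hu : ∀ i j, QuadraticMap.polar Q (u i) (u j) = if i = j then s else 0)
    (hu' : ∀ i j, QuadraticMap.polar Q (u' i) (u' j) = if i = j then s' else 0)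
    (hx : ∀ i j, QuadraticMap.polar Q (u i) (u' j) = 0) (hs' : s' ≠ 0) : IsPlusTypeOn Q ⊤ := by
  classical
  have hb := hQ.polar_bilinear
  let z : Fin k → ι → F := fun i => c • u i + u' i
  have hzu : ∀ i j, QuadraticMap.polar Q (z i) (u' j) = if i = j then s' else 0 := fun i j => by
    simp only [z, hb.add_left, hb.smul_left, hx, hu', mul_zero, zero_add]
  have hzz : ∀ i j, QuadraticMap.polar Q (z i) (z j) = 0 := fun i j => by
    have h1 : QuadraticMap.polar Q (u' i) (u j) = 0 := (polar_symm _ _ _).trans (hx j i)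
    simp only [z, hb.add_left, hb.add_right, hb.smul_left, hb.smul_right, hu, hu', hx, h1]
    by_cases hij : i = j
    · simp only [hij, if_pos]; linear_combination hc
    · simp [hij]
  have hz : LinearIndependent F z := by
    refine Fintype.linearIndependent_iff.mpr fun d hd j => ?_
    have h := congrArg (fun v => QuadraticMap.polar Q v (u' j)) hd
    let φ : (ι → F) →ₗ[F] F :=
      { toFun := fun v => QuadraticMap.polar Q v (u' j)
        map_add' := fun a b => hb.add_left _ _ _
        map_smul' := fun c a => hb.smul_left _ _ _ }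
    change φ (∑ i, d i • z i) = φ 0 at h
    rw [map_sum, map_zero] at h
    simp only [map_smul, smul_eq_mul, φ, LinearMap.coe_mk, AddHom.coe_mk, hzu, mul_ite, mul_zero,
      Finset.sum_ite_eq', Finset.mem_univ, if_true] at h
    exact (mul_eq_zero.mp h).resolve_right hs'
  refine plus_of_ts (T := Submodule.span F (Set.range z)) ?_ (by rw [finrank_span_eq_card hz, Fintype.card_fin, hk])
  intro w hw
  obtain ⟨d, rfl⟩ := (Submodule.mem_span_range_iff_exists_fun F).mp hw
  refine quad_sum_eq_zero hQ _ _ _ (fun p _ q _ => hzz p q) fun p _ => ?_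
  have h := hzz p p
  rw [polar_self_eq hQ] at h
  exact (mul_eq_zero.mp h).resolve_left h2

/-- In plus type two orthogonal scalar families of odd size have values differing by minus a square. -/
lemma square_of_plus (hQ : IsNondegenerateQuadraticForm Q) {k : ℕ} (hk : Odd k)
    (hn : Fintype.card ι = 2 * k) {u u' : Fin k → ι → F} {s s' : F} (hs : s ≠ 0) (hs' : s' ≠ 0)
    (hu : ∀ i j, QuadraticMap.polar Q (u i) (u j) = if i = j then s else 0)
    (hu' : ∀ i j, QuadraticMap.polar Q (u' i) (u' j) = if i = j then s' else 0)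
    (hx : ∀ i j, QuadraticMap.polar Q (u i) (u' j) = 0) (hplus : IsPlusTypeOn Q ⊤) : IsSquare (-(s * s')) := by
  classical
  obtain ⟨T, -, hT, hTd⟩ := hplus
  rw [finrank_top, Module.finrank_fintype_fun_eq_card, hn] at hTd
  have hTf : ∀ a ∈ T, ∀ b ∈ T, QuadraticMap.polar Q a b = 0 := fun a ha b hb => by
    rw [QuadraticMap.polar, hT _ (T.add_mem ha hb), hT a ha, hT b hb]; ring
  have hg : ∀ a b, QuadraticMap.polar Q a b = a ⬝ᵥ (gramMatrix (QuadraticMap.polar Q) *ᵥ b) := fun a b =>
    (isSesq_of_bilinear hQ.polar_bilinear).eq_gram a b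
  set G := gramMatrix (QuadraticMap.polar Q)
  have hmat : ∀ w : Fin k ⊕ Fin k → ι → F, (Matrix.of fun i l => w l i)ᵀ * G * (Matrix.of fun i l => w l i) =
      Matrix.of fun a b => QuadraticMap.polar Q (w a) (w b) := by
    intro w
    ext a b
    rw [Matrix.of_apply, hg]
    simp only [Matrix.mul_apply, Matrix.transpose_apply, Matrix.of_apply, dotProduct, mulVec, Finset.sum_mul,
      Finset.mul_sum]
    rw [Finset.sum_comm]
    exact Finset.sum_congr rfl fun i _ => Finset.sum_congr rfl fun j _ => by ring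
  obtain ⟨e⟩ : Nonempty (ι ≃ Fin k ⊕ Fin k) :=
    ⟨Fintype.equivOfCardEq (by rw [Fintype.card_sum, Fintype.card_fin, hn, two_mul])⟩
  have hdet : ∀ w : Fin k ⊕ Fin k → ι → F, (Matrix.of fun a b => QuadraticMap.polar Q (w a) (w b)).det =
      G.det * (Matrix.of fun i j => w (e j) i).det ^ 2 := by
    intro w
    have h : ((Matrix.of fun a b => QuadraticMap.polar Q (w a) (w b)).submatrix e e).det =
        ((Matrix.of fun i j => w (e j) i)ᵀ * G * Matrix.of fun i j => w (e j) i).det := by
      congr 1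
      rw [← hmat]
      rfl
    rw [Matrix.det_submatrix_equiv_self, det_mul, det_mul, det_transpose] at h
    rw [h]; ring
  set wu : Fin k ⊕ Fin k → ι → F := Sum.elim u u'
  have hD : (Matrix.of fun a b => QuadraticMap.polar Q (wu a) (wu b)) =
      Matrix.diagonal (Sum.elim (fun _ => s) (fun _ => s') : Fin k ⊕ Fin k → F) := by
    ext a b
    have hx' : ∀ i j, QuadraticMap.polar Q (u' i) (u j) = 0 := fun i j => (polar_symm _ _ _).trans (hx j i)
    cases a <;> cases b <;> simp [wu, hu, hu', hx, hx', Matrix.diagonal_apply]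
  have e1 := hdet wu
  rw [hD, det_diagonal, Fintype.prod_sum_type] at e1
  simp only [Sum.elim_inl, Sum.elim_inr, Finset.prod_const, Finset.card_univ, Fintype.card_fin] at e1
  obtain ⟨C, hC⟩ := Submodule.exists_isCompl T
  have hCd : Module.finrank F C = k := by
    have := Submodule.finrank_add_eq_of_isCompl hC
    rw [Module.finrank_fintype_fun_eq_card, hn] at this
    omega
  let bT := Module.finBasisOfFinrankEq F T (show Module.finrank F T = k by omega)
  let bC := Module.finBasisOfFinrankEq F C hCd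
  let b := (bT.prod bC).map (Submodule.prodEquivOfIsCompl T C hC)
  have hbT : ∀ i, b (Sum.inl i) = (bT i : ι → F) := fun i => by simp [b]
  have e2 := hdet b
  set M := Matrix.of fun a b' => QuadraticMap.polar Q (b a) (b b')
  have hM : M = Matrix.fromBlocks 0 M.toBlocks₁₂ M.toBlocks₂₁ M.toBlocks₂₂ := by
    ext a b'
    cases a <;> cases b' <;> simp [Matrix.toBlocks₁₂, Matrix.toBlocks₂₁, Matrix.toBlocks₂₂]
    simp only [M, Matrix.of_apply, hbT]
    exact hTf _ (bT _).2 _ (bT _).2
  have hM12 : M.toBlocks₂₁ = M.toBlocks₁₂ᵀ := by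
    ext i j; exact polar_symm _ _ _
  have hJ : (Matrix.fromBlocks (0 : Matrix (Fin k) (Fin k) F) (-1) (1 : Matrix (Fin k) (Fin k) F) (0 : Matrix (Fin k) (Fin k) F)).det = 1 := by
    have h : Matrix.fromBlocks (0 : Matrix (Fin k) (Fin k) F) (-1) (1 : Matrix (Fin k) (Fin k) F) (0 : Matrix (Fin k) (Fin k) F) =
        Matrix.fromBlocks (1 : Matrix (Fin k) (Fin k) F) (-1) 0 (1 : Matrix (Fin k) (Fin k) F) *
          Matrix.fromBlocks (1 : Matrix (Fin k) (Fin k) F) 0 1 (1 : Matrix (Fin k) (Fin k) F) *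
          Matrix.fromBlocks (1 : Matrix (Fin k) (Fin k) F) (-1) 0 (1 : Matrix (Fin k) (Fin k) F) := by
      simp [Matrix.fromBlocks_multiply]
    simp [h, det_mul, det_fromBlocks_zero₂₁, det_fromBlocks_zero₁₂]

  have hMdet : M.det = - (M.toBlocks₁₂.det ^ 2) := by
    have h : (M * Matrix.fromBlocks (0 : Matrix (Fin k) (Fin k) F) (-1) (1 : Matrix (Fin k) (Fin k) F) (0 : Matrix (Fin k) (Fin k) F)).det = M.det := by
      rw [det_mul, hJ, mul_one]
    rw [← h]
    conv_lhs => rw [hM, Matrix.fromBlocks_multiply]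
    simp only [Matrix.zero_mul, Matrix.mul_zero, Matrix.mul_one, zero_add, add_zero, Matrix.mul_neg, neg_zero]
    rw [det_fromBlocks_zero₁₂, Matrix.det_neg, Fintype.card_fin, hk.neg_one_pow, hM12,
      det_transpose]
    ring
  rw [hMdet] at e2
  obtain ⟨j, hj⟩ := hk
  set d := (Matrix.of fun i j => wu (e j) i).det
  set d' := (Matrix.of fun i j => b (e j) i).det
  have hlhs : (s * s') ^ k ≠ 0 := pow_ne_zero _ (mul_ne_zero hs hs')
  have hG : G.det ≠ 0 := fun h => hlhs (by rw [mul_pow, e1, h, zero_mul])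
  have hd : d ≠ 0 := fun h => hlhs (by rw [mul_pow, e1, h]; ring)
  have hm : M.toBlocks₁₂.det ≠ 0 := fun h => by
    rw [h] at e2
    simp only [ne_eq, OfNat.ofNat_ne_zero, not_false_eq_true, zero_pow, neg_zero] at e2
    have hd' : d' = 0 := by
      have := (mul_eq_zero.mp e2.symm).resolve_left hG
      exact pow_eq_zero_iff (two_ne_zero) |>.mp this
    have hli : LinearIndependent F (Matrix.of fun i j => b (e j) i).col := b.linearIndependent.comp e e.injective
    exact ((Matrix.isUnit_iff_isUnit_det _).mp (Matrix.linearIndependent_cols_iff_isUnit.mp hli)).ne_zero hd'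
  refine ⟨M.toBlocks₁₂.det * d / (d' * (s * s') ^ j), ?_⟩
  have hd' : d' ≠ 0 := fun h => hm (by
    rw [h] at e2
    exact pow_eq_zero_iff (two_ne_zero) |>.mp (neg_eq_zero.mp (e2.trans (by ring))))
  have hden : d' * (s * s') ^ j ≠ 0 := mul_ne_zero hd' (pow_ne_zero _ (mul_ne_zero hs hs'))
  rw [div_mul_div_comm, eq_div_iff (mul_ne_zero hden hden)]
  have h1 : (s * s') ^ k = s * s' * ((s * s') ^ j * (s * s') ^ j) := by rw [hj]; ring
  have e1' : s ^ k * s' ^ k = (s * s') ^ k := (mul_pow _ _ _).symm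
  rw [e1', h1] at e1
  linear_combination (-d' ^ 2) * e1 + d ^ 2 * e2

/-- A decomposition into isometric lines over a field of non-prime order gives a subfield group. -/
theorem frame_rational (hQ : IsNondegenerateQuadraticForm Q) (hp : ¬ (Fintype.card F).Prime) {t : ℕ}
    {D : Fin t → Submodule F (ι → F)} (hD : IsOrthogonalMDecomposition Q 1 D) {G : Subgroup (GL ι F)}
    (hfixQ : ∀ g ∈ G, ∀ v, Q ((g : Matrix ι ι F) *ᵥ v) = Q v) (hG : G ≤ decompositionStabilizer D) :
    ∃ (F₁ : Subfield F) (r : ℕ) (P : GL ι F) (ζ : F), r.Prime ∧ Fintype.card F = Nat.card F₁ ^ r ∧ ζ ≠ 0 ∧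
      IsQuadFormRationalStructure (fun v => ζ * Q v) F₁ P ∧ G ≤ subfieldSubgroup F₁ P := by
  classical
  have hb := hQ.polar_bilinear
  have htn := decomposition_card hD.decomp.decomp
  rw [mul_one] at htn
  obtain ⟨F₁, r, -, hr, hcard⟩ := exists_prime_index_ge (F₀ := (⊥ : Subfield F)) (by
    intro h
    obtain ⟨p, hchar⟩ := CharP.exists F
    obtain ⟨n, hp', hF⟩ := FiniteField.card F p
    have : Fact p.Prime := ⟨hp'⟩
    refine hp ?_
    have h1 : Nat.card (⊥ : Subfield F) = p := Subfield.card_bot F p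
    rw [h, Nat.card_congr Subfield.topEquiv.toEquiv, Nat.card_eq_fintype_card] at h1
    rw [h1]; exact hp')
  let i0 : Fin t := ⟨0, by have := hD.decomp.decomp.two_le; omega⟩
  obtain ⟨v0, hv0, hv00⟩ := (D i0).ne_bot_iff.mp fun h0 => by
    have := hD.decomp.decomp.finrank_eq i0
    rw [h0, finrank_bot] at this
    omega
  choose E hE using fun i => hD.isometric i0 i
  set v : Fin t → ι → F := fun i => (E i ⟨v0, hv0⟩ : ι → F) with hv
  have hvQ : ∀ i, Q (v i) = Q v0 := fun i => hE i _
  have hvD : ∀ i, v i ∈ D i := fun i => (E i _).2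
  have hvne : ∀ i, v i ≠ 0 := fun i h => by
    have h0 : E i ⟨v0, hv0⟩ = 0 := Subtype.ext h
    exact hv00 (congrArg Subtype.val ((E i).map_eq_zero_iff.mp h0))
  have hspan : ∀ i, D i = Submodule.span F {v i} := fun i =>
    (Submodule.eq_of_le_of_finrank_le ((Submodule.span_singleton_le_iff_mem _ _).mpr (hvD i))
      (by rw [hD.decomp.decomp.finrank_eq, finrank_span_singleton (hvne i)])).symm
  have hQ0 : Q v0 ≠ 0 := fun h => by
    obtain ⟨-, x, hx, hx0⟩ := hD.decomp.nondegenerate i0 (v i0) (hvD i0) (hvne i0)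
    rw [hspan] at hx
    obtain ⟨c, rfl⟩ := Submodule.mem_span_singleton.mp hx
    rw [hb.smul_right, polar_self_eq hQ, hvQ, h, mul_zero, mul_zero] at hx0
    exact hx0 rfl
  let en : ι ≃ Fin t := (Fintype.equivFin ι).trans (finCongr (by omega))
  have hli : LinearIndependent F v := hD.decomp.decomp.indep.linearIndependent _ hvD hvne
  have hXu : IsUnit (Matrix.of fun r i => v (en i) r : Matrix ι ι F) :=
    Matrix.linearIndependent_cols_iff_isUnit.mp (show LinearIndependent F fun i => v (en i) from hli.comp en en.injective)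
  set P := hXu.unit
  have hcol : ∀ i, (P : Matrix ι ι F) *ᵥ Pi.single i 1 = v (en i) := by
    intro i; ext r; simp [P, IsUnit.unit_spec]
  refine ⟨F₁, r, P, (Q v0)⁻¹, hr, hcard, inv_ne_zero hQ0, fun w hw => ?_, fun g hg => ?_⟩
  · have e : (P : Matrix ι ι F) *ᵥ w = ∑ i, w i • v (en i) := by
      ext r; simp [P, IsUnit.unit_spec, mulVec, dotProduct, Finset.sum_apply, mul_comm]
    have hsum : ∀ s : Finset ι, Q (∑ i ∈ s, w i • v (en i)) = (∑ i ∈ s, w i ^ 2) * Q v0 := by
      intro s
      induction s using Finset.induction_on with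
      | empty => simp [quad_zero hQ]
      | insert a s ha ih =>
        rw [Finset.sum_insert ha, Finset.sum_insert ha, quad_add hQ, ih, hQ.smul, hvQ, hb.smul_left]
        let φ : (ι → F) →ₗ[F] F :=
          { toFun := fun z => QuadraticMap.polar Q (v (en a)) z
            map_add' := fun x y => hb.add_right _ _ _
            map_smul' := fun c x => hb.smul_right _ _ _ }
        have hzero : φ (∑ i ∈ s, w i • v (en i)) = 0 := by
          rw [map_sum]
          refine Finset.sum_eq_zero fun i hi => ?_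
          rw [map_smul]
          show w i * QuadraticMap.polar Q (v (en a)) (v (en i)) = 0
          rw [hD.decomp.orthogonal _ _ (en.injective.ne fun h => ha (by rw [h]; exact hi)) _ (hvD _) _ (hvD _), mul_zero]
        rw [show QuadraticMap.polar Q (v (en a)) (∑ i ∈ s, w i • v (en i)) = 0 from hzero, mul_zero, add_zero]
        ring
    show (Q v0)⁻¹ * Q ((P : Matrix ι ι F) *ᵥ w) ∈ F₁
    rw [e, hsum, mul_comm (∑ i, w i ^ 2), ← mul_assoc, inv_mul_cancel₀ hQ0, one_mul]
    exact F₁.sum_mem fun i _ => pow_mem (hw i) 2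
  obtain ⟨π, hπ⟩ := hG hg
  have hmono : ∀ j, ∃ a : F, a ^ 2 = 1 ∧ (g : Matrix ι ι F) *ᵥ v j = a • v (π j) := by
    intro j
    have hm : (g : Matrix ι ι F) *ᵥ v j ∈ D (π j) := hπ j ▸ ⟨v j, hvD j, Matrix.toLin'_apply _ _⟩
    rw [hspan, Submodule.mem_span_singleton] at hm
    obtain ⟨a, ha⟩ := hm
    refine ⟨a, ?_, ha.symm⟩
    have h := hfixQ g hg (v j)
    rw [← ha, hQ.smul, hvQ, hvQ] at h
    exact (mul_eq_right₀ hQ0).mp h
  have hentry : ∀ i j, (((P⁻¹ : GL ι F) : Matrix ι ι F) * (g : Matrix ι ι F) * (P : Matrix ι ι F)) i j ∈ F₁ := by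
    intro i j
    obtain ⟨a, ha2, ha⟩ := hmono (en j)
    have h : (((P⁻¹ : GL ι F) : Matrix ι ι F) * (g : Matrix ι ι F) * (P : Matrix ι ι F)) *ᵥ Pi.single j 1 =
        a • Pi.single (en.symm (π (en j))) 1 := by
      rw [← mulVec_mulVec, ← mulVec_mulVec, hcol, ha, mulVec_smul,
        show v (π (en j)) = (P : Matrix ι ι F) *ᵥ Pi.single (en.symm (π (en j))) 1 by rw [hcol, en.apply_symm_apply],
        mulVec_mulVec, Units.inv_mul, one_mulVec]
    have ha1 : a ∈ F₁ := by
      rcases sq_eq_one_iff.mp ha2 with rfl | rfl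
      · exact F₁.one_mem
      · exact F₁.neg_mem F₁.one_mem
    have h' := congrFun h i
    rw [mulVec_single_one, Matrix.col_apply, Pi.smul_apply, smul_eq_mul] at h'
    rw [h']
    by_cases hi : i = en.symm (π (en j))
    · subst hi; simpa using ha1
    · simp [hi, F₁.zero_mem]
  let Y0 : Matrix ι ι F₁ := fun i j => ⟨_, hentry i j⟩
  have hY0 : F₁.subtype.mapMatrix Y0 = ((P⁻¹ * g * P : GL ι F) : Matrix ι ι F) := rfl
  have hdet : Y0.det ≠ 0 := fun h0 => by
    have h1 := congrArg Matrix.det hY0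
    rw [← RingHom.map_det, h0, map_zero] at h1
    exact (Matrix.GeneralLinearGroup.det (P⁻¹ * g * P)).ne_zero h1.symm
  obtain ⟨y, hy⟩ : ∃ y, Matrix.GeneralLinearGroup.map (F₁.subtype : F₁ →+* F) y = P⁻¹ * g * P :=
    ⟨Matrix.GeneralLinearGroup.mkOfDetNeZero Y0 hdet, Units.ext hY0⟩
  refine Subgroup.mem_map.mpr ⟨_, Subgroup.mem_sup_left ⟨y, hy⟩, ?_⟩
  simp [MulAut.conj_apply, mul_assoc]

/-- In plus type the members of a decomposition into five planes are of plus type. -/
theorem planes_plus (hQ : IsNondegenerateQuadraticForm Q) (hn : Fintype.card ι = 10) (hplus : IsPlusTypeOn Q ⊤)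
    {D : Fin 5 → Submodule F (ι → F)} (hD : IsOrthogonalMDecomposition Q 2 D) (i : Fin 5) :
    IsPlusTypeOn Q (D i) := by
  classical
  obtain ⟨Q', rfl, hQ'⟩ := CfsgLib.Geo.OS.exists_quadraticForm hQ
  set σ := Equiv.swap (4 : Fin 5) i
  obtain ⟨T, hle, hT, hd⟩ := exists_ts_members hQ hD even_two
    (show σ 0 ≠ σ 1 from σ.injective.ne (by decide))
  obtain ⟨T', hle', hT', hd'⟩ := exists_ts_members hQ hD even_two
    (show σ 2 ≠ σ 3 from σ.injective.ne (by decide))
  have ho := hD.decomp.orthogonal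
  have hσ : ∀ a b : Fin 5, a ≠ b → ∀ x ∈ D (σ a), ∀ y ∈ D (σ b), QuadraticMap.polar Q' x y = 0 :=
    fun a b h => ho _ _ (σ.injective.ne h)
  have horth : ∀ x ∈ D (σ 0) ⊔ D (σ 1), ∀ y ∈ D (σ 2) ⊔ D (σ 3), QuadraticMap.polar Q' x y = 0 := by
    intro x hx y hy
    obtain ⟨a, ha, b, hb, rfl⟩ := Submodule.mem_sup.mp hx
    obtain ⟨c, hc, d, hd, rfl⟩ := Submodule.mem_sup.mp hy
    simp [hQ.polar_bilinear.add_left, hQ.polar_bilinear.add_right, hσ 0 2 (by decide) a ha c hc,
      hσ 0 3 (by decide) a ha d hd, hσ 1 2 (by decide) b hb c hc, hσ 1 3 (by decide) b hb d hd]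
  have hdisj : Disjoint T T' := by
    refine Disjoint.mono hle hle' ?_
    have h := hD.decomp.decomp.indep.disjoint_biSup_biSup (s := ({σ 0, σ 1} : Set (Fin 5))) (t := {σ 2, σ 3})
      (by simp [Set.disjoint_insert_left, σ.injective.eq_iff])
    rwa [iSup_pair, iSup_pair] at h
  obtain ⟨h1, h2⟩ := ts_sup hQ hT hT' (fun x hx y hy => horth x (hle hx) y (hle' hy)) hdisj
  set T4 := T ⊔ T'
  obtain ⟨T0, -, hT0, hT0d⟩ := hplus
  rw [finrank_top, Module.finrank_fintype_fun_eq_card, hn] at hT0d
  have hlag : CfsgLib.Geo.OS.IsLag Q' T0 :=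
    ⟨hT0, by rw [Module.finrank_fintype_fun_eq_card, hn]; omega⟩
  obtain ⟨T5, hT45, hT5⟩ := CfsgLib.Geo.OS.exists_lag_above hQ' h1 hlag (by omega)
  have hT5d := hT5.2
  rw [Module.finrank_fintype_fun_eq_card, hn] at hT5d
  obtain ⟨v, hv, hv4⟩ := SetLike.not_le_iff_exists.mp (fun h : T5 ≤ T4 => by
    have := Submodule.finrank_mono h; omega)
  have hi4 : σ 4 = i := Equiv.swap_apply_left _ _
  have hDi : ∀ x ∈ T4, ∀ y ∈ D i, QuadraticMap.polar Q' x y = 0 := by
    intro x hx y hy
    obtain ⟨a, ha, b, hb, rfl⟩ := Submodule.mem_sup.mp hx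
    obtain ⟨a0, ha0, a1, ha1, rfl⟩ := Submodule.mem_sup.mp (hle ha)
    obtain ⟨b0, hb0, b1, hb1, rfl⟩ := Submodule.mem_sup.mp (hle' hb)
    rw [← hi4] at hy
    simp [hQ.polar_bilinear.add_left, hσ 0 4 (by decide) a0 ha0 y hy, hσ 1 4 (by decide) a1 ha1 y hy,
      hσ 2 4 (by decide) b0 hb0 y hy, hσ 3 4 (by decide) b1 hb1 y hy]
  have hperp : T4 ⊔ D i = CfsgLib.Quad.perpS Q' T4 := by
    have hle4 : T4 ⊔ D i ≤ CfsgLib.Quad.perpS Q' T4 := sup_le
      (fun a ha b hb => CfsgLib.Geo.OS.polar_eq_zero_of_singular h1 hb ha) fun y hy x hx => hDi x hx y hy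
    refine Submodule.eq_of_le_of_finrank_le hle4 ?_
    have h3 := CfsgLib.Quad.finrank_perpS hQ' T4
    rw [Module.finrank_fintype_fun_eq_card, hn] at h3
    have h4 := Submodule.finrank_sup_add_finrank_inf_eq T4 (D i)
    have hinf : T4 ⊓ D i = ⊥ := by
      rw [Submodule.eq_bot_iff]
      rintro x ⟨hx, hxi⟩
      by_contra hx0
      obtain ⟨-, y, hy, hxy⟩ := hD.decomp.nondegenerate i x hxi hx0
      exact hxy (hDi x hx y hy)
    rw [hinf, finrank_bot, hD.decomp.decomp.finrank_eq] at h4
    omega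
  have hvp : v ∈ T4 ⊔ D i := hperp ▸ fun w hw => CfsgLib.Geo.OS.polar_eq_zero_of_singular hT5.1 (hT45 hw) hv
  obtain ⟨a, ha, b, hb, rfl⟩ := Submodule.mem_sup.mp hvp
  have hQb : Q' b = 0 := by
    have h := hT5.1 _ hv
    rw [quad_add hQ, h1 a ha, hDi a ha b hb, zero_add, add_zero] at h
    exact h
  exact CfsgLib.Geo.OS.plusType_of_singular (hD.decomp.decomp.finrank_eq i) hb
    (fun h0 => hv4 (by rw [h0, add_zero]; exact ha)) hQb

end OE

end CfsgLib.Aschbacher
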