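import Cfsg.Agent.Aschbacher.Form.OrthTenStructure
import Cfsg.Agent.Aschbacher.Form.OrthEvenDecomp
import Cfsg.Agent.Aschbacher.LinearMember
import Cfsg.Agent.Geo.OrthDecompNonMax

/-!
Dimension ten: which decompositions occur in which type, and members that are not maximal.
-/
set_option autoImplicit false
set_option maxHeartbeats 1000000

namespace CfsgLib.Aschbacher

open Matrix Cfsg Cfsg.Geo CfsgLib.GeoClifford
open scoped MatrixGroups

variable {ι : Type} [Fintype ι] [DecidableEq ι] {F : Type*} [Field F] [Fintype F] {Q : (ι → F) → F}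

namespace OE

/-- A decomposition into ten isometric lines splits into two scalar families with the same value. -/
lemma frame_families (hQ : IsNondegenerateQuadraticForm Q) {D : Fin 10 → Submodule F (ι → F)}
    (hD : IsOrthogonalMDecomposition Q 1 D) :
    ∃ (u u' : Fin 5 → ι → F) (s : F), s ≠ 0 ∧ (∀ i j, QuadraticMap.polar Q (u i) (u j) = if i = j then s else 0) ∧
      (∀ i j, QuadraticMap.polar Q (u' i) (u' j) = if i = j then s else 0) ∧
      ∀ i j, QuadraticMap.polar Q (u i) (u' j) = 0 := by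
  obtain ⟨v0, hv0, hv00⟩ := (D 0).ne_bot_iff.mp fun h0 => by
    have := hD.decomp.decomp.finrank_eq 0
    rw [h0, finrank_bot] at this
    omega
  choose E hE using fun i => hD.isometric 0 i
  set v : Fin 10 → ι → F := fun i => (E i ⟨v0, hv0⟩ : ι → F) with hv
  have hvD : ∀ i, v i ∈ D i := fun i => (E i _).2
  have hs : QuadraticMap.polar Q v0 v0 ≠ 0 := fun h => by
    obtain ⟨-, x, hx, hx0⟩ := hD.decomp.nondegenerate 0 v0 hv0 hv00
    have hspan : Submodule.span F {v0} = D 0 := Submodule.eq_of_le_of_finrank_le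
      ((Submodule.span_singleton_le_iff_mem _ _).mpr hv0)
      (by rw [hD.decomp.decomp.finrank_eq, finrank_span_singleton hv00])
    rw [← hspan] at hx
    obtain ⟨c, rfl⟩ := Submodule.mem_span_singleton.mp hx
    rw [hQ.polar_bilinear.smul_right, h, mul_zero] at hx0
    exact hx0 rfl
  have hself : ∀ i, QuadraticMap.polar Q (v i) (v i) = QuadraticMap.polar Q v0 v0 := fun i => by
    rw [polar_self_eq hQ, polar_self_eq hQ, show Q (v i) = Q v0 from hE i _]
  have hp : ∀ i j, i ≠ j → QuadraticMap.polar Q (v i) (v j) = 0 := fun i j hij =>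
    hD.decomp.orthogonal i j hij _ (hvD i) _ (hvD j)
  refine ⟨fun i => v ⟨i.1, by omega⟩, fun i => v ⟨i.1 + 5, by omega⟩, QuadraticMap.polar Q v0 v0, hs, fun i j => ?_,
    fun i j => ?_, fun i j => hp _ _ (fun h => ?_)⟩
  · split
    · next h => subst h; exact hself _
    · next h => exact hp _ _ (fun h' => h (Fin.ext (by simpa using congrArg Fin.val h')))
  · split
    · next h => subst h; exact hself _
    · next h => exact hp _ _ (fun h' => h (Fin.ext (by have := congrArg Fin.val h'; simp at this; omega)))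
  · have := congrArg Fin.val h
    simp at this
    omega

lemma square_neg_one_iff : IsSquare (-1 : F) ↔ Fintype.card F % 4 ≠ 3 := FiniteField.isSquare_neg_one_iff

lemma mod_four_of_odd (hq : Odd (Fintype.card F)) : Fintype.card F % 4 = 1 ∨ Fintype.card F % 4 = 3 := by
  obtain ⟨k, hk⟩ := hq
  omega

/-- In minus type a frame needs minus one to be a non-square. -/
theorem frame_mod_minus (hQ : IsNondegenerateQuadraticForm Q) (h10 : Fintype.card ι = 10) (hminus : ¬ IsPlusTypeOn Q ⊤)
    (hq : Odd (Fintype.card F)) {D : Fin 10 → Submodule F (ι → F)} (hD : IsOrthogonalMDecomposition Q 1 D) :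
    Fintype.card F % 4 = 3 := by
  obtain ⟨u, u', s, hs, hu, hu', hx⟩ := frame_families hQ hD
  by_contra h
  obtain ⟨c, hc⟩ := square_neg_one_iff.mpr h
  exact hminus (plus_of_two_families hQ (odd_card_iff_two_ne_zero.mp hq) (by omega) hs (c := c)
    (by rw [← hc]; ring) hu hu' hx hs)

/-- In plus type a frame needs minus one to be a square. -/
theorem frame_mod_plus (hQ : IsNondegenerateQuadraticForm Q) (h10 : Fintype.card ι = 10) (hplus : IsPlusTypeOn Q ⊤)
    (hq : Odd (Fintype.card F)) {D : Fin 10 → Submodule F (ι → F)} (hD : IsOrthogonalMDecomposition Q 1 D) :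
    Fintype.card F % 4 = 1 := by
  obtain ⟨u, u', s, hs, hu, hu', hx⟩ := frame_families hQ hD
  obtain ⟨c, hc⟩ := square_of_plus hQ (show Odd 5 by decide) (by omega) hs hs hu hu' hx hplus
  refine (mod_four_of_odd hq).resolve_right (square_neg_one_iff.mp ⟨c / s, ?_⟩)
  rw [div_mul_div_comm, ← hc, neg_div, div_self (mul_ne_zero hs hs)]

/-- Two halves: bases with scalar Gram matrices, and what the values tell. -/
theorem halves_cases (hQ : IsNondegenerateQuadraticForm Q) (h10 : Fintype.card ι = 10) (hq : Odd (Fintype.card F))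
    {D : Fin 2 → Submodule F (ι → F)} (hD : IsNondegenerateMDecomposition (QuadraticMap.polar Q) 5 D) :
    (IsOrthogonalMDecomposition Q 5 D ∧
      ((IsPlusTypeOn Q ⊤ ∧ Fintype.card F % 4 = 1) ∨ (¬ IsPlusTypeOn Q ⊤ ∧ Fintype.card F % 4 = 3))) ∨
    (¬ AreIsometricFor Q (D 0) (D 1) ∧
      ((IsPlusTypeOn Q ⊤ ∧ Fintype.card F % 4 = 3) ∨ (¬ IsPlusTypeOn Q ⊤ ∧ Fintype.card F % 4 = 1))) := by
  classical
  have h2 := odd_card_iff_two_ne_zero.mp hq
  obtain ⟨u, s, hs, huD, hul, hu⟩ := exists_scalar_basis hQ h2 (show Odd 5 by decide) (hD.nondegenerate 0) (hD.decomp.finrank_eq 0)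
  have hb := hQ.polar_bilinear
  have hx : ∀ u' : Fin 5 → ι → F, (∀ i, u' i ∈ D 1) → ∀ i j, QuadraticMap.polar Q (u i) (u' j) = 0 := fun u' h i j =>
    hD.orthogonal 0 1 (by decide) _ (huD i) _ (h j)
  by_cases hiso : AreIsometricFor Q (D 0) (D 1)
  · left
    obtain ⟨e, he⟩ := hiso
    refine ⟨⟨hD, fun i j => ?_⟩, ?_⟩
    · fin_cases i <;> fin_cases j
      · exact ⟨LinearEquiv.refl F _, fun w => rfl⟩
      · exact ⟨e, he⟩
      · refine ⟨e.symm, fun w => ?_⟩
        have h := he (e.symm w)
        rw [e.apply_symm_apply] at h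
        exact h.symm
      · exact ⟨LinearEquiv.refl F _, fun w => rfl⟩
    have hpe : ∀ x y : D 0, QuadraticMap.polar Q (e x : ι → F) (e y) = QuadraticMap.polar Q (x : ι → F) y := fun x y => by
      simp only [QuadraticMap.polar, ← Submodule.coe_add, ← map_add, he]
    let u' : Fin 5 → ι → F := fun i => (e ⟨u i, huD i⟩ : ι → F)
    have hu' : ∀ i j, QuadraticMap.polar Q (u' i) (u' j) = if i = j then s else 0 := fun i j => (hpe _ _).trans (hu i j)
    have hxx := hx u' (fun i => (e _).2)
    by_cases hp : IsPlusTypeOn Q ⊤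
    · obtain ⟨c, hc⟩ := square_of_plus hQ (show Odd 5 by decide) (by omega) hs hs hu hu' hxx hp
      refine Or.inl ⟨hp, (mod_four_of_odd hq).resolve_right (square_neg_one_iff.mp ⟨c / s, ?_⟩)⟩
      rw [div_mul_div_comm, ← hc, neg_div, div_self (mul_ne_zero hs hs)]
    · refine Or.inr ⟨hp, by_contra fun h => ?_⟩
      obtain ⟨c, hc⟩ := square_neg_one_iff.mpr h
      exact hp (plus_of_two_families hQ h2 (by omega) hs (c := c) (by rw [← hc]; ring) hu hu' hxx hs)
  right
  obtain ⟨u', s', hs', hu'D, hul', hu'⟩ := exists_scalar_basis hQ h2 (show Odd 5 by decide) (hD.nondegenerate 1) (hD.decomp.finrank_eq 1)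
  have hxx := hx u' hu'D
  have hns : ¬ IsSquare (s * s') := by
    rintro ⟨c, hc⟩
    apply hiso
    have hspan : ∀ (i : Fin 2) (w : Fin 5 → ι → F), (∀ a, w a ∈ D i) → LinearIndependent F w →
        ∃ b : Module.Basis (Fin 5) F (D i), ∀ a, (b a : ι → F) = w a := by
      intro i w hw hwl
      have hli : LinearIndependent F fun a => (⟨w a, hw a⟩ : D i) := LinearIndependent.of_comp (D i).subtype hwl
      refine ⟨basisOfLinearIndependentOfCardEqFinrank hli (by rw [Fintype.card_fin, hD.decomp.finrank_eq]), fun a => ?_⟩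
      rw [coe_basisOfLinearIndependentOfCardEqFinrank]
    have hc0 : c ≠ 0 := fun h => mul_ne_zero hs hs' (by rw [hc, h, mul_zero])
    obtain ⟨b0, hb0⟩ := hspan 0 u huD hul
    obtain ⟨b1, hb1⟩ := hspan 1 (fun a => (s / c) • u' a) (fun a => (D 1).smul_mem _ (hu'D a))
      (hul'.units_smul fun _ => Units.mk0 (s / c) (div_ne_zero hs hc0))
    let e := b0.equiv b1 (Equiv.refl _)
    refine ⟨e, fun w => ?_⟩
    let Bl : (ι → F) →ₗ[F] (ι → F) →ₗ[F] F :=
      LinearMap.mk₂ F (QuadraticMap.polar Q) hb.add_left hb.smul_left hb.add_right hb.smul_right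
    have hBe : (Bl.compl₁₂ ((D 1).subtype.comp e.toLinearMap) ((D 1).subtype.comp e.toLinearMap)) =
        Bl.compl₁₂ (D 0).subtype (D 0).subtype := by
      refine LinearMap.ext_basis b0 b0 fun a a' => ?_
      simp only [LinearMap.compl₁₂_apply, LinearMap.comp_apply, LinearEquiv.coe_coe, e, Module.Basis.equiv_apply,
        Equiv.refl_apply, Submodule.subtype_apply, hb0, hb1, Bl, LinearMap.mk₂_apply, hb.smul_left, hb.smul_right, hu,
        hu']
      by_cases h : a = a'
      · simp only [h, if_pos]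
        rw [← mul_assoc, div_mul_div_comm, ← hc]
        field_simp
      · simp [h]
    have h := LinearMap.congr_fun (LinearMap.congr_fun hBe w) w
    simp only [LinearMap.compl₁₂_apply, LinearMap.comp_apply, LinearEquiv.coe_coe, Submodule.subtype_apply, Bl,
      LinearMap.mk₂_apply, polar_self_eq hQ] at h
    exact mul_left_cancel₀ h2 h
  refine ⟨hiso, ?_⟩
  by_cases hp : IsPlusTypeOn Q ⊤
  · obtain ⟨c, hc⟩ := square_of_plus hQ (show Odd 5 by decide) (by omega) hs hs' hu hu' hxx hp
    refine Or.inl ⟨hp, by_contra fun h => hns ?_⟩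
    obtain ⟨d, hd⟩ := square_neg_one_iff.mpr h
    exact ⟨c * d, by linear_combination (-1 : F) * hc + (c * c) * hd⟩
  · refine Or.inr ⟨hp, by_contra fun h => ?_⟩
    have h1 : ¬ IsSquare (-1 : F) := fun h' => square_neg_one_iff.mp h' ((mod_four_of_odd hq).resolve_left h)
    have hne : -(s * s') ≠ 0 := neg_ne_zero.mpr (mul_ne_zero hs hs')
    obtain ⟨c, hc⟩ : IsSquare (-(s * s')) := by
      by_contra hnn
      have hchar : ringChar F ≠ 2 := fun h' => h2 (by
        have : CharP F 2 := ringChar.of_eq h'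
        exact CharP.cast_eq_zero F 2)
      have e1 := (quadraticChar_neg_one_iff_not_isSquare).mpr h1
      have e2 := (quadraticChar_neg_one_iff_not_isSquare).mpr hnn
      have e3 := (quadraticChar_neg_one_iff_not_isSquare).mpr hns
      rw [show -(s * s') = (-1) * (s * s') by ring, map_mul, e1, e3] at e2
      norm_num at e2
    exact hp (plus_of_two_families hQ h2 (by omega) hs (c := c / s) (by
      rw [div_mul_div_comm, ← hc]; field_simp; ring) hu hu' hxx hs')

end OE

end CfsgLib.Aschbacher
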