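import Cfsg.Agent.Aschbacher.Form.OrthTen
import Cfsg.Agent.Aschbacher.Form.OrthEight

/-!
Aschbacher's theorem for groups of isometries of a quadratic form in dimension ten, of either type.
-/
set_option autoImplicit false
set_option maxHeartbeats 1000000

namespace CfsgLib.Aschbacher

open Matrix Cfsg Cfsg.Geo CfsgLib.GeoClifford
open scoped MatrixGroups Kronecker

variable {ι : Type} [Fintype ι] [DecidableEq ι] {F : Type*} [Field F] [Fintype F] {Q : (ι → F) → F}

namespace OE

/-- The outcomes for groups of isometries in dimension ten, before separating the two types. -/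
def TenOutcome (Q : (ι → F) → F) (G : Subgroup (GL ι F)) : Prop :=
  (∃ W : Submodule F (ι → F), W ≠ ⊥ ∧ IsTotallySingularQuad Q W ∧ G ≤ subspaceStabilizer W) ∨
  (Odd (Fintype.card F) ∧ ∃ W : Submodule F (ι → F), W ≠ ⊥ ∧ W ≠ ⊤ ∧ Odd (Module.finrank F W) ∧
    2 * Module.finrank F W ≠ 10 ∧ IsNondegenerateOn (QuadraticMap.polar Q) W ∧ G ≤ subspaceStabilizer W) ∨
  (∃ W : Submodule F (ι → F), Module.finrank F W = 2 ∧ IsNondegenerateOn (QuadraticMap.polar Q) W ∧
    ¬ IsPlusTypeOn Q W ∧ G ≤ subspaceStabilizer W) ∨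
  (4 ≤ Fintype.card F ∧ ∃ W : Submodule F (ι → F), Module.finrank F W = 2 ∧
    IsNondegenerateOn (QuadraticMap.polar Q) W ∧ IsPlusTypeOn Q W ∧ G ≤ subspaceStabilizer W) ∨
  (∃ W : Submodule F (ι → F), Module.finrank F W = 4 ∧ IsNondegenerateOn (QuadraticMap.polar Q) W ∧
    G ≤ subspaceStabilizer W) ∨
  (¬ Odd (Fintype.card F) ∧ ∃ v : ι → F, Q v ≠ 0 ∧ G ≤ subspaceStabilizer (Submodule.span F {v})) ∨
  (Odd (Fintype.card F) ∧ (Fintype.card F).Prime ∧ ∃ D : Fin 10 → Submodule F (ι → F),
    IsOrthogonalMDecomposition Q 1 D ∧ G ≤ decompositionStabilizer D) ∨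
  (∃ D : Fin 5 → Submodule F (ι → F), IsOrthogonalMDecomposition Q 2 D ∧ G ≤ decompositionStabilizer D) ∨
  (Odd (Fintype.card F) ∧ ∃ D : Fin 2 → Submodule F (ι → F),
    IsNondegenerateMDecomposition (QuadraticMap.polar Q) 5 D ∧ G ≤ decompositionStabilizer D) ∨
  (∃ D : Fin 2 → Submodule F (ι → F), IsMDecomposition 5 D ∧ (∀ i, IsTotallySingularQuad Q (D i)) ∧
    G ≤ decompositionStabilizer D) ∨
  (Odd (Fintype.card F) ∧ ∃ K : Subalgebra F (Matrix ι ι F), IsFieldSubalgebra 2 K ∧
    IsSelfAdjointFor (QuadraticMap.polar Q) K ∧ G ≤ subalgebraNormalizer K) ∨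
  (¬ IsPlusTypeOn Q ⊤ ∧ ∃ K : Subalgebra F (Matrix ι ι F), IsFieldSubalgebra 2 K ∧
    IsAdjointClosedFor (QuadraticMap.polar Q) K ∧ ¬ IsSelfAdjointFor (QuadraticMap.polar Q) K ∧
    (∀ k ∈ K, ∃ c : F, ∀ v : ι → F, Q (Matrix.mulVec k v) = c * Q v) ∧ G ≤ subalgebraNormalizer K) ∨
  (∃ (F₀ : Subfield F) (r : ℕ) (P : GL ι F) (ζ : F), r.Prime ∧ Fintype.card F = Nat.card F₀ ^ r ∧ ζ ≠ 0 ∧
    IsQuadFormRationalStructure (fun v => ζ * Q v) F₀ P ∧ G ≤ subfieldSubgroup F₀ P) ∨
  InOrthogonalResidualClass G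

/-- A non-degenerate invariant subspace of dimension at most five. -/
theorem ten_nondeg (hQ : IsNondegenerateQuadraticForm Q) (h10 : Fintype.card ι = 10) {G : Subgroup (GL ι F)}
    (hfixQ : ∀ g ∈ G, ∀ v, Q ((g : Matrix ι ι F) *ᵥ v) = Q v) {W : Submodule F (ι → F)} (h0 : W ≠ ⊥) (h1 : W ≠ ⊤)
    (hle : 2 * Module.finrank F W ≤ Fintype.card ι) (hW : IsNondegenerateOn (QuadraticMap.polar Q) W)
    (hG : G ≤ subspaceStabilizer W) : TenOutcome Q G := by
  have hpos : 0 < Module.finrank F W := Nat.pos_of_ne_zero fun h => h0 (Submodule.finrank_eq_zero.mp h)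
  by_cases hodd : Odd (Module.finrank F W)
  · have hq : Odd (Fintype.card F) := by
      refine odd_card_iff_two_ne_zero.mpr fun h2 => ?_
      have hs := isSymplectic_polar h2 hQ
      exact (Nat.not_even_iff_odd.mpr hodd) (even_finrank_of_alternating hs.bilinear (fun v => hs.alternating v) W hW)
    by_cases h5 : 2 * Module.finrank F W = 10
    swap
    · exact Or.inr (Or.inl ⟨hq, W, h0, h1, hodd, h5, hW, hG⟩)
    have hR : IsRefl (RingEquiv.refl F) (1 : F) (QuadraticMap.polar Q) :=
      isRefl_of_symmetric ⟨hQ.polar_bilinear, polar_symm Q, hQ.nondegenerate⟩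
    set P := hR.perp W
    have hinf : W ⊓ P = ⊥ := by
      rw [Submodule.eq_bot_iff]
      rintro x ⟨hx, hxP⟩
      by_contra hx0
      obtain ⟨-, y, hy, hxy⟩ := hW x hx hx0
      exact hxy (hxP y hy)
    have hPd : Fintype.card ι ≤ Module.finrank F W + Module.finrank F P := hR.card_le_finrank_add_perp W
    have hsum := Submodule.finrank_sup_add_finrank_inf_eq W P
    have hsup := Submodule.finrank_le (W ⊔ P)
    rw [hinf, finrank_bot] at hsum
    rw [Module.finrank_fintype_fun_eq_card] at hsup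
    have htop : W ⊔ P = ⊤ := Submodule.eq_top_of_finrank_eq (by rw [Module.finrank_fintype_fun_eq_card]; omega)
    have hPn : IsNondegenerateOn (QuadraticMap.polar Q) P := by
      intro w hw hw0
      obtain ⟨⟨u, hu⟩, -⟩ := hR.nd w hw0
      obtain ⟨a, ha, b, hb, rfl⟩ := Submodule.mem_sup.mp (htop ▸ Submodule.mem_top : u ∈ W ⊔ P)
      rw [hQ.polar_bilinear.add_left, polar_symm Q a w, hw a ha, zero_add] at hu
      exact ⟨⟨b, hb, hu⟩, b, hb, by rwa [polar_symm]⟩
    have hGP := hR.perp_stable (fixes_polar hfixQ) hG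
    refine Or.inr (Or.inr (Or.inr (Or.inr (Or.inr (Or.inr (Or.inr (Or.inr (Or.inl ⟨hq, ![W, P], ?_, ?_⟩))))))))
    · refine ⟨⟨le_rfl, by omega, fun i => ?_, ?_, ?_⟩, fun i => ?_, fun i j hij => ?_⟩
      · fin_cases i
        · show Module.finrank F W = 5; omega
        · show Module.finrank F P = 5; omega
      · rw [iSupIndep_pair (show (0 : Fin 2) ≠ 1 by decide) (fun i => by fin_cases i <;> simp)]
        exact disjoint_iff.mpr hinf
      · rw [← top_le_iff, ← htop]
        exact sup_le (le_iSup ![W, P] 0) (le_iSup ![W, P] 1)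
      · fin_cases i
        exacts [hW, hPn]
      · fin_cases i <;> fin_cases j
        · exact absurd rfl hij
        · exact fun u hu v hv => (polar_symm Q _ _).trans (hv u hu)
        · exact fun u hu v hv => hu v hv
        · exact absurd rfl hij
    · intro g hg
      refine ⟨1, fun i => ?_⟩
      fin_cases i
      · exact map_eq_of_stable hG hg
      · exact map_eq_of_stable hGP hg
  by_cases h2 : Module.finrank F W = 2
  · by_cases hp : IsPlusTypeOn Q W
    swap
    · exact Or.inr (Or.inr (Or.inl ⟨W, h2, hW, hp, hG⟩))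
    by_cases h4 : 4 ≤ Fintype.card F
    · exact Or.inr (Or.inr (Or.inr (Or.inl ⟨h4, W, h2, hW, hp, hG⟩)))
    have hq := Fintype.one_lt_card (α := F)
    rcases (show Fintype.card F = 2 ∨ Fintype.card F = 3 by omega) with h | h
    · obtain ⟨v, hv, hvs⟩ := plus_plane_vector hQ hfixQ h hW h2 hp hG
      exact Or.inr (Or.inr (Or.inr (Or.inr (Or.inr (Or.inl ⟨by rw [h]; decide, v, hv, hvs⟩)))))
    · have h2' : (2 : F) ≠ 0 := odd_card_iff_two_ne_zero.mp (by rw [h]; decide)
      obtain ⟨v, hv, hvn, hvs⟩ := plus_plane_line hQ hfixQ h2' hW hG ⟨h, h2, hp⟩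
      refine Or.inr (Or.inl ⟨by rw [h]; decide, _, fun h' => hv (Submodule.span_singleton_eq_bot.mp h'), fun h' => ?_,
        by rw [finrank_span_singleton hv]; decide, by rw [finrank_span_singleton hv]; decide, hvn, hvs⟩)
      have := congrArg (fun S : Submodule F (ι → F) => Module.finrank F S) h'
      simp only [finrank_span_singleton hv, finrank_top, Module.finrank_fintype_fun_eq_card, h10] at this
      omega
  refine Or.inr (Or.inr (Or.inr (Or.inr (Or.inl ⟨W, ?_, hW, hG⟩))))
  rw [h10] at hle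
  rw [Nat.not_odd_iff_even, Nat.even_iff] at hodd
  omega

/-- Groups of isometries of a quadratic form in dimension ten. -/
theorem ten_structure (hQ : IsNondegenerateQuadraticForm Q) (h10 : Fintype.card ι = 10) {G : Subgroup (GL ι F)}
    (hfixQ : ∀ g ∈ G, ∀ v, Q ((g : Matrix ι ι F) *ᵥ v) = Q v) : TenOutcome Q G := by
  classical
  have : Nonempty ι := Fintype.card_pos_iff.mp (by omega)
  have hfix := fixes_polar hfixQ
  by_cases hirr : ActsIrreducibly (matrixSet G)
  swap
  · rcases reducible hQ hfix hirr with ⟨W, h0, hW, hG⟩ | ⟨W, h0, h1, hle, hW, hG⟩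
    · rcases singular_or_vector hQ hfixQ h0 hW hG with h | h
      · exact Or.inl h
      · exact Or.inr (Or.inr (Or.inr (Or.inr (Or.inr (Or.inl h)))))
    · exact ten_nondeg hQ h10 hfixQ h0 h1 hle hW hG
  have hR : IsRefl (RingEquiv.refl F) (1 : F) (QuadraticMap.polar Q) :=
    isRefl_of_symmetric ⟨hQ.polar_bilinear, polar_symm Q, hQ.nondegenerate⟩
  have hoddm : ∀ {t m : ℕ} {D : Fin t → Submodule F (ι → F)},
      IsNondegenerateMDecomposition (QuadraticMap.polar Q) m D → Odd m → Odd (Fintype.card F) := fun {t m D} hD hm => by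
    refine odd_card_iff_two_ne_zero.mpr fun h2 => ?_
    have hs := isSymplectic_polar h2 hQ
    let i0 : Fin t := ⟨0, by have := hD.decomp.two_le; omega⟩
    have h := even_finrank_of_alternating hs.bilinear (fun v => hs.alternating v) (D i0) (hD.nondegenerate i0)
    rw [hD.decomp.finrank_eq] at h
    exact (Nat.not_even_iff_odd.mpr hm) h
  have hdec : HasFormDecomposition (QuadraticMap.polar Q) G → TenOutcome Q G := by
    rintro (⟨t, m, D, hD, hG⟩ | ⟨m, D, hm, hD, hts, hG⟩)
    · have htm := decomposition_card hD.decomp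
      rw [h10] at htm
      have ht := hD.decomp.two_le
      have hiso := isometric_of_transitive hfixQ hirr hD hG
      have hm5 : m ≤ 5 := by nlinarith
      rcases (show (m = 1 ∧ t = 10) ∨ (m = 2 ∧ t = 5) ∨ (m = 5 ∧ t = 2) by
        interval_cases m <;> omega) with ⟨rfl, rfl⟩ | ⟨rfl, rfl⟩ | ⟨rfl, rfl⟩
      · by_cases hp : (Fintype.card F).Prime
        · exact Or.inr (Or.inr (Or.inr (Or.inr (Or.inr (Or.inr (Or.inl
            ⟨hoddm hD odd_one, hp, D, hiso, hG⟩))))))
        · exact Or.inr (Or.inr (Or.inr (Or.inr (Or.inr (Or.inr (Or.inr (Or.inr (Or.inr (Or.inr (Or.inr (Or.inr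
            (Or.inl (frame_rational hQ hp hiso hfixQ hG)))))))))))))
      · exact Or.inr (Or.inr (Or.inr (Or.inr (Or.inr (Or.inr (Or.inr (Or.inl ⟨D, hiso, hG⟩)))))))
      · exact Or.inr (Or.inr (Or.inr (Or.inr (Or.inr (Or.inr (Or.inr (Or.inr (Or.inl
          ⟨hoddm hD (by decide), D, hD, hG⟩))))))))
    · obtain rfl : m = 5 := by omega
      have hs0 := halves_singular hQ hfixQ hirr (by omega) hD hts hG
      set D' : Fin 2 → Submodule F (ι → F) := fun i => D (Equiv.swap 0 1 i)
      have hD' : IsMDecomposition 5 D' := ⟨hD.two_le, hD.pos, fun i => hD.finrank_eq _,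
        hD.indep.comp (Equiv.injective _), by rw [← hD.iSup_eq_top]; exact (Equiv.swap 0 1).iSup_comp (g := D)⟩
      have hs1 : IsTotallySingularQuad Q (D 1) := by
        have h := halves_singular hQ hfixQ hirr (by omega) hD' (fun i => hts _) (fun g hg => by
          obtain ⟨π, hπ⟩ := hG hg
          exact ⟨((Equiv.swap 0 1).trans π).trans (Equiv.swap 0 1), fun i => by simp [D', hπ]⟩)
        simpa [D'] using h
      exact Or.inr (Or.inr (Or.inr (Or.inr (Or.inr (Or.inr (Or.inr (Or.inr (Or.inr (Or.inl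
        ⟨D, hD, Fin.forall_fin_two.mpr ⟨hs0, hs1⟩, hG⟩)))))))))
  have hnsa : ∀ {K : Subalgebra F (Matrix ι ι F)}, IsFieldSubalgebra 2 K → ConjStable G K →
      (∀ x ∈ K, hR.adj x ∈ K) → (∃ x0 ∈ K, hR.adj x0 ≠ x0) → TenOutcome Q G := by
    rintro K hK hst hadj ⟨x0, hx0, hne⟩
    have hsim := field_similar hQ (by omega) hR hfixQ hirr hK hst hadj hx0 hne
    refine Or.inr (Or.inr (Or.inr (Or.inr (Or.inr (Or.inr (Or.inr (Or.inr (Or.inr (Or.inr (Or.inr (Or.inl
      ⟨not_plus_of_field hQ (show Odd 5 by decide) (by omega) hR hK hx0 hne hsim, K, hK, hR.isAdjointClosedFor hadj,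
        fun h => hne (hR.adj_eq fun u v => h x0 hx0 u v), hsim, le_subalgebraNormalizer hst⟩)))))))))))
  have hfield : HasFormField hR G → TenOutcome Q G := by
    rintro ⟨r, K, hK, hK0, hst, hadj⟩
    rcases hR.bilinear_field rfl hfix hK hK0 hst hadj with ⟨s, L, hs, hL, hsa, hG⟩ | ⟨rfl, hx⟩
    · have hd := fieldSubalgebra_dvd hL
      rw [h10, show (10 : ℕ) = 2 * 5 from rfl] at hd
      rcases (Nat.Prime.dvd_mul hs).mp hd with h | h
      · obtain rfl := (Nat.prime_dvd_prime_iff_eq hs Nat.prime_two).mp h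
        have hq : Odd (Fintype.card F) := odd_card_iff_two_ne_zero.mpr fun h2 => by
          have h4 := four_dvd_of_selfAdjoint hQ h2 hL (hR.isSelfAdjointFor hsa)
          omega
        exact Or.inr (Or.inr (Or.inr (Or.inr (Or.inr (Or.inr (Or.inr (Or.inr (Or.inr (Or.inr (Or.inl
          ⟨hq, L, hL, hR.isSelfAdjointFor hsa, hG⟩))))))))))
      · obtain rfl := (Nat.prime_dvd_prime_iff_eq hs (by norm_num)).mp h
        rcases torus_field hQ (show Odd 5 by decide) (by omega) (by omega) hR hfixQ hirr hL hsa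
          (fun g hg x hx => (hG hg x).mp hx) with h | ⟨K', hK', hst', hadj', hx'⟩
        · exact hdec h
        · exact hnsa hK' hst' hadj' hx'
    · exact hnsa hK hst hadj hx
  have hsub : ∀ (N : Subgroup (GL ι F)), NormSub G N → ActsAbsolutelyIrreducibly (matrixSet N) →
      ∀ F₀ : Subfield F, F₀ ≠ ⊤ → RealisableOver F₀ (matrixSet N) → TenOutcome Q G := by
    intro N hN habs F₀ h0 hre
    exact Or.inr (Or.inr (Or.inr (Or.inr (Or.inr (Or.inr (Or.inr (Or.inr (Or.inr (Or.inr (Or.inr (Or.inr (Or.inl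
      (exists_quadRational_scaled (by omega) hQ hfixQ habs hN h0 hre)))))))))))))
  rcases irreducible_structure hR (by omega) hfix hirr with h | h | ⟨n₁, n₂, e, P, B, C, hT⟩ |
    ⟨t, d, e, P, B, c, ht, hd, hP, K, hK0, hKp, hKf⟩ | ⟨N, hN, habs, h⟩
  · exact hdec h
  · exact hfield h
  · have hcard := hT.card_eq
    have h12 : (n₁ = 2 ∧ n₂ = 5) ∨ (n₁ = 5 ∧ n₂ = 2) := by
      have := hT.two_le_left
      have := hT.two_le_right
      rw [h10] at hcard
      have : n₁ ≤ 5 := by nlinarith
      interval_cases n₁ <;> omega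
    obtain ⟨a, ha, hB, hC⟩ := hR.tensor_sym hT
    rw [RingEquiv.refl_apply] at ha
    rw [map_refl] at hB hC
    rw [one_smul] at hC
    have halt : ∀ {n : ℕ} {M : Matrix (Fin n) (Fin n) F}, Odd n → IsUnit M → Mᵀ = -M → (∀ i, M i i = 0) → False := by
      intro n M hn hM hMt hMd
      have hdot : ∀ x, x ⬝ᵥ (M *ᵥ x) = 0 := fun x => by
        by_cases h2 : (2 : F) = 0
        · refine alt_of_diag h2 ?_ hMd x
          rw [hMt]; ext i j
          show -(M i j) = M i j
          linear_combination (-(M i j)) * h2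
        · exact self_eq_zero_of_skew h2 hMt x
      have hs : IsSymplecticForm (fun x y : Fin n → F => x ⬝ᵥ (M *ᵥ y)) := by
        refine ⟨⟨fun a b v => add_dotProduct _ _ _, fun c a v => smul_dotProduct _ _ _,
          fun v a b => by simp only [mulVec_add, dotProduct_add],
          fun c v a => by simp only [mulVec_smul, dotProduct_smul, smul_eq_mul]⟩, fun v w => ?_, hdot, fun v hv => ?_⟩
        · have h := hdot (v + w)
          rw [mulVec_add, add_dotProduct, dotProduct_add, dotProduct_add, hdot, hdot] at h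
          linear_combination h
        · have hne : M *ᵥ v ≠ 0 := fun h => hv ((Matrix.mulVec_injective_iff_isUnit.mpr hM) (by rw [h, mulVec_zero]))
          obtain ⟨i, hi⟩ := Function.ne_iff.mp hne
          refine ⟨⟨Pi.single i 1, by simpa using hi⟩, Pi.single i 1, ?_⟩
          have h := hdot (v + Pi.single i 1)
          rw [mulVec_add, add_dotProduct, dotProduct_add, dotProduct_add, hdot, hdot] at h
          intro h0
          rw [h0] at h
          simp only [zero_add, add_zero, single_dotProduct, one_mul] at h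
          exact hi h
      exact not_symplectic_of_odd (by rwa [Fintype.card_fin]) _ hs
    by_cases h2 : (2 : F) = 0
    · exfalso
      have ha1 : a = 1 := by
        have : (a - 1) * (a - 1) = 0 := by linear_combination ha + (1 - a) * h2
        exact sub_eq_zero.mp (mul_self_eq_zero.mp this)
      rw [ha1, one_smul] at hB hC
      have hneg : ∀ {n : ℕ} (M : Matrix (Fin n) (Fin n) F), -M = M := fun M => by
        ext i j
        show -(M i j) = M i j
        linear_combination (-(M i j)) * h2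
      rcases h12 with ⟨-, rfl⟩ | ⟨rfl, -⟩
      · exact halt (by decide) hT.unit_right (by rw [hC, hneg]) (factor_alternating h2 hQ hfixQ hirr hT hC)
      · exact halt (by decide) hT.unit_left (by rw [hB, hneg]) (factor_alternating h2 hQ hfixQ hirr hT.swap hB)
    rcases mul_self_eq_one_iff.mp ha with h1 | h1
    · rw [h1, one_smul] at hB hC
      have alg : ∀ {n n' : ℕ} {e : ι ≃ Fin n × Fin n'} {B : Matrix (Fin n) (Fin n) F} {C : Matrix (Fin n') (Fin n') F},
          IsTensorGram (RingEquiv.refl F) (QuadraticMap.polar Q) G e P B C → Cᵀ = C → n' = 2 → TenOutcome Q G := by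
        intro n n' e B C hT hC hn'
        subst hn'
        obtain ⟨R, hcomm, hst, hadj, hR0⟩ := two_algebra_refl hR h2 hfix hT hC
        rcases hR.commutative_cases' hfix hirr hcomm hst hadj hR0 with h | h
        · exact hdec h
        · exact hfield h
      rcases h12 with ⟨h1', -⟩ | ⟨-, h2'⟩
      · exact alg hT.swap hB h1'
      · exact alg hT hC h2'
    exfalso
    rw [h1, neg_one_smul] at hB hC
    have hC' : Cᵀ = -C := neg_eq_iff_eq_neg.mp hC
    have hdiag : ∀ {n : ℕ} {M : Matrix (Fin n) (Fin n) F}, Mᵀ = -M → ∀ i, M i i = 0 := fun {n M} hM i => by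
      simpa using self_eq_zero_of_skew h2 hM (Pi.single i 1)
    rcases h12 with ⟨-, rfl⟩ | ⟨rfl, -⟩
    · exact halt (by decide) hT.unit_right hC' (hdiag hC')
    · exact halt (by decide) hT.unit_left hB (hdiag hB)
  · exfalso
    have hcard : d ^ t = 10 := by
      rw [← h10, Fintype.card_congr e, Fintype.card_fun, Fintype.card_fin, Fintype.card_fin]
    have ht3 : t ≤ 3 := by
      by_contra h
      have h1 : 2 ^ 4 ≤ d ^ t :=
        le_trans (Nat.pow_le_pow_left hd 4) (Nat.pow_le_pow_right (by omega) (by omega))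
      omega
    have hd3 : d ≤ 3 := by
      by_contra h
      have h1 : 4 ^ 2 ≤ d ^ t :=
        le_trans (Nat.pow_le_pow_left (show 4 ≤ d by omega) 2) (Nat.pow_le_pow_right (by omega) ht)
      omega
    interval_cases t <;> interval_cases d <;> omega
  rcases h with ⟨F₀, h0, hre⟩ | ⟨-, ⟨m, hm⟩, -⟩ | hcore
  · exact hsub N hN habs F₀ h0 hre
  · exfalso
    rw [h10] at hm
    rcases le_or_gt m 3 with h | h
    · interval_cases m <;> omega
    · have := Nat.pow_le_pow_right (show 1 ≤ 2 by omega) (show 4 ≤ m by omega)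
      omega
  by_cases hU : ∃ (σ : F ≃+* F) (g : (ι → F) → (ι → F) → F), IsUnitaryForm σ g ∧ FixesForm (matrixSet N) g
  · obtain ⟨σ, g, hg, hgfix⟩ := hU
    exact hsub N hN habs (fixSubfield σ) (fixSubfield_ne_top hg.ne_refl)
      (realisable_of_two_forms habs hg hgfix hQ.polar_bilinear hQ.nondegenerate
        (forall_matrixSet.mpr fun g hg => forall_matrixSet.mp hfix g (hN.1 hg)))
  exact Or.inr (Or.inr (Or.inr (Or.inr (Or.inr (Or.inr (Or.inr (Or.inr (Or.inr (Or.inr (Or.inr (Or.inr (Or.inr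
    ⟨N, hcore, hU⟩))))))))))))

end OE

end CfsgLib.Aschbacher
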