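import Cfsg.Agent.Aschbacher.Form.OrthQuadField

/-!
A self-adjoint field of odd degree half the dimension, normalised by an irreducible group of isometries of a quadratic
form, gives a decomposition or a quadratic field that is not self-adjoint: the field generated by the rotations.
-/
set_option autoImplicit false
set_option maxHeartbeats 800000

namespace CfsgLib.Aschbacher

open Matrix Cfsg Cfsg.Geo CfsgLib.GeoClifford
open scoped MatrixGroups

namespace OE

variable {ι : Type} [Fintype ι] [DecidableEq ι] {F : Type*} [Field F] [Fintype F] {Q : (ι → F) → F}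

/-- A linear functional on a self-adjoint field computing the form on squares. -/
lemma exists_square_functional (hQ : IsNondegenerateQuadraticForm Q) {m : ℕ} {L : Subalgebra F (Matrix ι ι F)}
    (hL : IsFieldSubalgebra m L) (hm : 0 < m) (hsa : IsSelfAdjointFor (QuadraticMap.polar Q) L) (e : ι → F) :
    ∃ φ : L →ₗ[F] F, ∀ a : L, φ (a * a) = Q ((a : Matrix ι ι F) *ᵥ e) := by
  classical
  have hb := hQ.polar_bilinear
  by_cases h2 : (2 : F) = 0
  swap
  · refine ⟨{ toFun := fun l => (2 : F)⁻¹ * QuadraticMap.polar Q ((l : Matrix ι ι F) *ᵥ e) e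
              map_add' := fun a b => by rw [Subalgebra.coe_add, add_mulVec, hb.add_left]; ring
              map_smul' := fun c a => by
                rw [Subalgebra.coe_smul, smul_mulVec, hb.smul_left, RingHom.id_apply, smul_eq_mul]; ring }, fun a => ?_⟩
    show (2 : F)⁻¹ * QuadraticMap.polar Q (((a * a : L) : Matrix ι ι F) *ᵥ e) e = _
    rw [Subalgebra.coe_mul, ← mulVec_mulVec, hsa a a.2, polar_self_eq hQ, ← mul_assoc, inv_mul_cancel₀ h2, one_mul]
  have hc : CharP F 2 := char_two_of_even fun ho => odd_card_iff_two_ne_zero.mp ho h2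
  have hfield : IsField L :=
    { exists_pair_ne := ⟨0, 1, fun h => by
        have hfin := hL.finrank_eq
        have : Subsingleton L := ⟨fun a b => by rw [← mul_one a, ← h, mul_zero, ← mul_one b, ← h, mul_zero]⟩
        rw [Module.finrank_zero_of_subsingleton] at hfin
        omega⟩
      mul_comm := fun a b => Subtype.ext (hL.comm a.1 a.2 b.1 b.2)
      mul_inv_cancel := fun {a} ha => by
        obtain ⟨y, hy, hy1⟩ := hL.inv a.1 a.2 (fun h => ha (Subtype.ext h))
        exact ⟨⟨y, hy⟩, Subtype.ext hy1⟩ }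
  letI : Field L := hfield.toField
  have : CharP L 2 := charP_of_injective_algebraMap (algebraMap F L).injective 2
  have hsur : Function.Surjective (frobenius L 2) := Finite.injective_iff_surjective.mp (frobenius_inj L 2)
  choose rt hrt using hsur
  have hrt' : ∀ a : L, rt a ^ 2 = a := fun a => by simpa [frobenius_def] using hrt a
  have hsurF : Function.Surjective (frobenius F 2) := Finite.injective_iff_surjective.mp (frobenius_inj F 2)
  choose rtF hrtF using hsurF
  have huniq : ∀ a b : L, a ^ 2 = b → rt b = a := fun a b h => frobenius_inj L 2 (by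
    rw [hrt, frobenius_def, h])
  have halt : ∀ (k : L) v, QuadraticMap.polar Q ((k : Matrix ι ι F) *ᵥ v) v = 0 := fun k v => by
    have e : (k : Matrix ι ι F) = (rt k : Matrix ι ι F) * (rt k : Matrix ι ι F) := by
      rw [← Subalgebra.coe_mul, ← pow_two, hrt']
    rw [e, ← mulVec_mulVec, hsa _ (rt k).2, polar_self_eq hQ, h2, zero_mul]
  refine ⟨{ toFun := fun l => Q ((rt l : Matrix ι ι F) *ᵥ e)
            map_add' := fun a b => ?_
            map_smul' := fun c a => ?_ }, fun a => ?_⟩
  · rw [huniq (rt a + rt b) (a + b) (by rw [add_pow_char, hrt', hrt']), Subalgebra.coe_add, add_mulVec, quad_add hQ,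
      hsa _ (rt a).2, mulVec_mulVec, polar_symm, ← Subalgebra.coe_mul, halt, add_zero]
  · obtain ⟨s, hs⟩ : ∃ s : F, s ^ 2 = c := ⟨rtF c, by simpa [frobenius_def] using hrtF c⟩
    rw [huniq (s • rt a) (c • a) (by rw [smul_pow, hs, hrt']), Subalgebra.coe_smul, smul_mulVec, hQ.smul,
      RingHom.id_apply, smul_eq_mul, ← hs]
  · show Q ((rt (a * a) : Matrix ι ι F) *ᵥ e) = _
    rw [huniq a (a * a) (pow_two a)]

/-- A self-adjoint field of odd degree half the dimension gives a decomposition or a quadratic unitary field. -/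
theorem torus_field (hQ : IsNondegenerateQuadraticForm Q) {m : ℕ} (hm : Odd m) (hm1 : 1 < m)
    (hn : Fintype.card ι = 2 * m) [Nonempty ι] (hR : IsRefl (RingEquiv.refl F) (1 : F) (QuadraticMap.polar Q))
    {G : Subgroup (GL ι F)} (hfixQ : ∀ g ∈ G, ∀ v, Q ((g : Matrix ι ι F) *ᵥ v) = Q v)
    (hirr : ActsIrreducibly (matrixSet G)) {L : Subalgebra F (Matrix ι ι F)} (hL : IsFieldSubalgebra m L)
    (hsa : ∀ x ∈ L, hR.adj x = x) (hst : ConjStable G L) :
    HasFormDecomposition (QuadraticMap.polar Q) G ∨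
      ∃ K : Subalgebra F (Matrix ι ι F), IsFieldSubalgebra 2 K ∧ ConjStable G K ∧ (∀ x ∈ K, hR.adj x ∈ K) ∧
        ∃ x0 ∈ K, hR.adj x0 ≠ x0 := by
  classical
  have hb := hQ.polar_bilinear
  have hfix := fixes_polar hfixQ
  have hsa' := hR.isSelfAdjointFor hsa
  -- a basis over `L`
  obtain ⟨e1, he1⟩ : ∃ e : ι → F, e ≠ 0 := exists_ne 0
  let ev : (ι → F) → (L →ₗ[F] (ι → F)) := fun e =>
    { toFun := fun k => (k : Matrix ι ι F) *ᵥ e
      map_add' := fun a b => by simp [add_mulVec]
      map_smul' := fun c a => by simp [smul_mulVec] }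
  have hinv : ∀ (k : L) (v : ι → F), (k : Matrix ι ι F) *ᵥ v = 0 → k = 0 ∨ v = 0 := fun k v h => by
    by_cases hk : k = 0
    · exact Or.inl hk
    obtain ⟨y, hy, hy1⟩ := hL.inv k.1 k.2 (fun h' => hk (Subtype.ext h'))
    refine Or.inr ?_
    rw [← one_mulVec v, ← hy1, hL.comm k.1 k.2 y hy, ← mulVec_mulVec, h, mulVec_zero]
  have hevinj : ∀ e, e ≠ 0 → Function.Injective (ev e) := fun e he => by
    rw [injective_iff_map_eq_zero]
    exact fun k hk => (hinv k e hk).resolve_right he
  have hevd : ∀ e, e ≠ 0 → Module.finrank F (LinearMap.range (ev e)) = m := fun e he => by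
    rw [LinearMap.finrank_range_of_inj (hevinj e he), ← hL.finrank_eq]
  obtain ⟨e2, -, he2⟩ : ∃ e2 ∈ (⊤ : Submodule F (ι → F)), e2 ∉ LinearMap.range (ev e1) :=
    SetLike.exists_of_lt (lt_top_iff_ne_top.mpr fun h => by
      have h1 := hevd e1 he1
      rw [h, finrank_top, Module.finrank_fintype_fun_eq_card, hn] at h1
      omega)
  have he20 : e2 ≠ 0 := fun h => he2 (h ▸ Submodule.zero_mem _)
  let Ψ : L × L →ₗ[F] (ι → F) := (ev e1).coprod (ev e2)
  have hΨi : Function.Injective Ψ := by
    rw [injective_iff_map_eq_zero]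
    rintro ⟨a, b⟩ h
    change (a : Matrix ι ι F) *ᵥ e1 + (b : Matrix ι ι F) *ᵥ e2 = 0 at h
    have hb0 : b = 0 := by
      by_contra hb0
      obtain ⟨y, hy, hy1⟩ := hL.inv b.1 b.2 (fun h' => hb0 (Subtype.ext h'))
      refine he2 ⟨-(⟨y, hy⟩ * a), ?_⟩
      show ((-(⟨y, hy⟩ * a) : L) : Matrix ι ι F) *ᵥ e1 = e2
      have h' := congrArg (y *ᵥ ·) h
      simp only [mulVec_add, mulVec_mulVec, mulVec_zero, hL.comm y hy b.1 b.2, hy1, one_mulVec] at h'
      rw [Subalgebra.coe_neg, Subalgebra.coe_mul, neg_mulVec]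
      exact (eq_neg_of_add_eq_zero_right h').symm
    subst hb0
    rw [ZeroMemClass.coe_zero, zero_mulVec, add_zero] at h
    exact Prod.ext ((hinv a e1 h).resolve_right he1) rfl
  have hd2 : Module.finrank F (L × L) = Module.finrank F (ι → F) := by
    have h1 : Module.finrank F L = m := hL.finrank_eq
    rw [Module.finrank_prod, Module.finrank_fintype_fun_eq_card, hn]
    omega
  have hΨs : Function.Surjective Ψ := (LinearMap.injective_iff_surjective_of_finrank_eq_finrank hd2).mp hΨi
  let Θ : (L × L) ≃ₗ[F] (ι → F) := LinearEquiv.ofBijective Ψ ⟨hΨi, hΨs⟩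
  have hΘ : ∀ a b : L, Θ (a, b) = (a : Matrix ι ι F) *ᵥ e1 + (b : Matrix ι ι F) *ᵥ e2 := fun a b => rfl
  have hΘL : ∀ (k : L) (p : L × L), (k : Matrix ι ι F) *ᵥ Θ p = Θ (k * p.1, k * p.2) := fun k p => by
    obtain ⟨a, b⟩ := p
    rw [hΘ, hΘ, mulVec_add, mulVec_mulVec, mulVec_mulVec]
    rfl
  -- matrices representing bilinear forms
  have hrepr : ∀ B : (ι → F) → (ι → F) → F, IsBilinearForm B →
      ∃ x : Matrix ι ι F, ∀ u v, QuadraticMap.polar Q (x *ᵥ u) v = B u v := by
    intro B hB
    refine ⟨(gramMatrix B * ((gram_isUnit hR.sesq hR.nd).unit⁻¹ : GL ι F).val)ᵀ, fun u v => ?_⟩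
    rw [hR.sesq.eq_gram, (isSesq_of_bilinear hB).eq_gram, mulVec_transpose, ← dotProduct_mulVec, mulVec_mulVec,
      mul_assoc, IsUnit.val_inv_mul, mul_one]
  have hcommL : ∀ x : Matrix ι ι F, (∀ (k : L) u v, QuadraticMap.polar Q (x *ᵥ ((k : Matrix ι ι F) *ᵥ u)) v = QuadraticMap.polar Q (x *ᵥ u) ((k : Matrix ι ι F) *ᵥ v)) →
      ∀ k ∈ L, k * x = x * k := by
    intro x h k hk
    refine Matrix.ext_of_mulVec_single fun i => ?_
    rw [← mulVec_mulVec, ← mulVec_mulVec]
    refine (hR.eq_of_right fun w => ?_).symm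
    rw [hR.swap, hR.swap (k *ᵥ (x *ᵥ _)) w, h ⟨k, hk⟩, ← hsa' k hk]
  have hLm : ∀ (a b : L), (a * b : L) = b * a := fun a b => Subtype.ext (hL.comm a.1 a.2 b.1 b.2)
  obtain ⟨φ1, hφ1⟩ := exists_square_functional hQ hL (by omega) hsa' e1
  obtain ⟨φ2, hφ2⟩ := exists_square_functional hQ hL (by omega) hsa' e2
  let B : (L →ₗ[F] F) → (ι → F) → (ι → F) → F := fun ψ u v =>
    φ1 ((Θ.symm u).1 * (Θ.symm v).1) + φ2 ((Θ.symm u).2 * (Θ.symm v).2) +
      QuadraticMap.polar Q ((((Θ.symm u).1 * (Θ.symm v).2 : L) : Matrix ι ι F) *ᵥ e1) e2 +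
      ψ ((Θ.symm u).1 * (Θ.symm v).2 - (Θ.symm u).2 * (Θ.symm v).1)
  have hBb : ∀ ψ, IsBilinearForm (B ψ) := fun ψ => by
    refine ⟨fun a b v => ?_, fun s a v => ?_, fun v a b => ?_, fun s v a => ?_⟩
    · simp only [B, map_add, Prod.fst_add, Prod.snd_add, add_mul, Subalgebra.coe_add, add_mulVec, hb.add_left, map_sub]
      ring
    · simp only [B, map_smul, Prod.smul_fst, Prod.smul_snd, smul_mul_assoc, Subalgebra.coe_smul, smul_mulVec,
        hb.smul_left, map_sub, smul_eq_mul]
      ring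
    · simp only [B, map_add, Prod.fst_add, Prod.snd_add, mul_add, Subalgebra.coe_add, add_mulVec, hb.add_left, map_sub]
      ring
    · simp only [B, map_smul, Prod.smul_fst, Prod.smul_snd, mul_smul_comm, Subalgebra.coe_smul, smul_mulVec,
        hb.smul_left, map_sub, smul_eq_mul]
      ring
  have hBQ : ∀ ψ v, B ψ v v = Q v := fun ψ v => by
    obtain ⟨⟨a, b⟩, rfl⟩ := Θ.surjective v
    simp only [B, LinearEquiv.symm_apply_apply, hφ1, hφ2, hLm b a, sub_self, map_zero, add_zero]
    rw [hΘ, quad_add hQ, Subalgebra.coe_mul, hL.comm a.1 a.2 b.1 b.2, ← mulVec_mulVec, hsa' b b.2]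
  have hBL : ∀ ψ (k : L) u v, B ψ ((k : Matrix ι ι F) *ᵥ u) v = B ψ u ((k : Matrix ι ι F) *ᵥ v) := fun ψ k u v => by
    obtain ⟨p, rfl⟩ := Θ.surjective u
    obtain ⟨q, rfl⟩ := Θ.surjective v
    have e : ∀ a b : L, k * a * b = a * (k * b) := fun a b => by rw [hLm k a, mul_assoc]
    simp only [B, hΘL, LinearEquiv.symm_apply_apply, e]
  -- the rotations
  obtain ⟨x, hxQ, hxL, hxne⟩ : ∃ x : Matrix ι ι F, (∀ v, QuadraticMap.polar Q (x *ᵥ v) v = Q v) ∧ (∀ k ∈ L, k * x = x * k) ∧
      ((2 : F) ≠ 0 → x ≠ (2 : F)⁻¹ • 1) := by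
    have hmk : ∀ ψ, ∃ x : Matrix ι ι F, (∀ u v, QuadraticMap.polar Q (x *ᵥ u) v = B ψ u v) ∧ (∀ k ∈ L, k * x = x * k) := fun ψ => by
      obtain ⟨x, hx⟩ := hrepr (B ψ) (hBb ψ)
      exact ⟨x, hx, hcommL x fun k u v => by rw [hx, hx, hBL]⟩
    obtain ⟨x, hx, hxL⟩ := hmk 0
    by_cases h : (2 : F) ≠ 0 ∧ x = (2 : F)⁻¹ • 1
    swap
    · exact ⟨x, fun v => by rw [hx, hBQ], hxL, fun h2 h' => h ⟨h2, h'⟩⟩
    obtain ⟨h2, hxh⟩ := h
    obtain ⟨ψ, hψ⟩ : ∃ ψ : L →ₗ[F] F, ψ ≠ 0 := by
      have h1 : Module.finrank F L = m := hL.finrank_eq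
      have : Nontrivial (L →ₗ[F] F) := Module.nontrivial_of_finrank_pos (R := F) (by
        rw [Module.finrank_linearMap, Module.finrank_self, h1]; omega)
      exact exists_ne 0
    obtain ⟨y, hy, hyL⟩ := hmk ψ
    refine ⟨y, fun v => by rw [hy, hBQ], hyL, fun _ hyh => hψ (LinearMap.ext fun l => ?_)⟩
    have h1 := hx (Θ (1, 0)) (Θ (0, l))
    have h3 := hy (Θ (1, 0)) (Θ (0, l))
    rw [hxh] at h1
    rw [hyh] at h3
    simp only [B, LinearEquiv.symm_apply_apply, one_mul, zero_mul, mul_zero, sub_zero, map_zero,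
      LinearMap.zero_apply, add_zero, zero_add] at h1 h3
    rw [h1] at h3
    simpa using h3.symm
  have hadjx : hR.adj x = 1 - x := hR.adj_eq fun u v => by
    rw [sub_mulVec, one_mulVec, sub_eq_add_neg v, ← neg_one_smul F (x *ᵥ v), hb.add_right, hb.smul_right]
    have h := hxQ (u + v)
    rw [mulVec_add, hb.add_left, hb.add_right, hb.add_right, quad_add hQ] at h
    have h' := hxQ u
    have h'' := hxQ v
    rw [polar_symm Q u (x *ᵥ v)]
    linear_combination h - h' - h''
  -- the alternating ones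
  let Dl : Submodule F (Matrix ι ι F) :=
    { carrier := {d | (∀ k ∈ L, k * d = d * k) ∧ ∀ v, QuadraticMap.polar Q (d *ᵥ v) v = 0}
      add_mem' := fun {a b} ha hb' => ⟨fun k hk => by rw [mul_add, add_mul, ha.1 k hk, hb'.1 k hk],
        fun v => by rw [add_mulVec, hb.add_left, ha.2, hb'.2, add_zero]⟩
      zero_mem' := ⟨fun k _ => by rw [mul_zero, zero_mul], fun v => by rw [zero_mulVec]; exact hR.sesq.zero_left v⟩
      smul_mem' := fun c a ha => ⟨fun k hk => by rw [mul_smul_comm, smul_mul_assoc, ha.1 k hk],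
        fun v => by rw [smul_mulVec, hb.smul_left, ha.2, mul_zero]⟩ }
  let χ : Dl →ₗ[F] (L →ₗ[F] F) :=
    { toFun := fun d =>
        { toFun := fun l => QuadraticMap.polar Q ((d : Matrix ι ι F) *ᵥ e1) ((l : Matrix ι ι F) *ᵥ e2)
          map_add' := fun a b => by rw [Subalgebra.coe_add, add_mulVec, hb.add_right]
          map_smul' := fun c a => by
            rw [Subalgebra.coe_smul, smul_mulVec, hb.smul_right, RingHom.id_apply, smul_eq_mul] }
      map_add' := fun a b => LinearMap.ext fun l => by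
        show QuadraticMap.polar Q (((a + b : Dl) : Matrix ι ι F) *ᵥ e1) _ = QuadraticMap.polar Q _ _ + QuadraticMap.polar Q _ _
        rw [Submodule.coe_add, add_mulVec, hb.add_left]
      map_smul' := fun c a => LinearMap.ext fun l => by
        show QuadraticMap.polar Q (((c • a : Dl) : Matrix ι ι F) *ᵥ e1) _ = c * QuadraticMap.polar Q _ _
        rw [Submodule.coe_smul, smul_mulVec, hb.smul_left] }
  have hχ : Function.Injective χ := by
    rw [injective_iff_map_eq_zero]
    rintro ⟨d, hdL, hda⟩ hd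
    have hskew : ∀ u v, QuadraticMap.polar Q (d *ᵥ u) v = - QuadraticMap.polar Q (d *ᵥ v) u := fun u v => by
      have h := hda (u + v)
      rw [mulVec_add, hb.add_left, hb.add_right, hb.add_right, hda, hda] at h
      linear_combination h
    have hdk : ∀ k ∈ L, ∀ u v, QuadraticMap.polar Q (d *ᵥ (k *ᵥ u)) v = QuadraticMap.polar Q (d *ᵥ u) (k *ᵥ v) := fun k hk u v => by
      rw [mulVec_mulVec, ← hdL k hk, ← mulVec_mulVec, hsa' k hk]
    have hdiag : ∀ e, ∀ k ∈ L, QuadraticMap.polar Q (d *ᵥ (k *ᵥ e)) e = 0 := fun e k hk => by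
      by_cases h2 : (2 : F) = 0
      · have hc : CharP F 2 := char_two_of_even fun ho => odd_card_iff_two_ne_zero.mp ho h2
        have hfield : IsField L :=
          { exists_pair_ne := ⟨0, 1, fun h => he1 (by
              have := congrArg (fun k : L => (k : Matrix ι ι F) *ᵥ e1) h
              simpa using this.symm)⟩
            mul_comm := hLm
            mul_inv_cancel := fun {a} ha => by
              obtain ⟨y, hy, hy1⟩ := hL.inv a.1 a.2 (fun h => ha (Subtype.ext h))
              exact ⟨⟨y, hy⟩, Subtype.ext hy1⟩ }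
        letI : Field L := hfield.toField
        have : CharP L 2 := charP_of_injective_algebraMap (algebraMap F L).injective 2
        obtain ⟨y, hy⟩ := (Finite.injective_iff_surjective.mp (frobenius_inj L 2)) ⟨k, hk⟩
        rw [frobenius_def] at hy
        have e' : k = (y : Matrix ι ι F) * (y : Matrix ι ι F) := by
          have := congrArg Subtype.val hy
          rw [SubmonoidClass.coe_pow, pow_two] at this
          exact this.symm
        rw [e', ← mulVec_mulVec, hdk y y.2]
        exact hda _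
      · have h := hskew (k *ᵥ e) e
        rw [← hdk k hk e e] at h
        exact (mul_eq_zero.mp (show (2 : F) * QuadraticMap.polar Q (d *ᵥ (k *ᵥ e)) e = 0 by linear_combination h)).resolve_left h2
    have h12 : ∀ l : L, QuadraticMap.polar Q (d *ᵥ e1) ((l : Matrix ι ι F) *ᵥ e2) = 0 := fun l => LinearMap.congr_fun hd l
    refine Subtype.ext (Matrix.ext_of_mulVec_single fun i => ?_)
    show d *ᵥ _ = (0 : Matrix ι ι F) *ᵥ _
    rw [zero_mulVec]
    obtain ⟨⟨a, b⟩, hab⟩ := Θ.surjective (Pi.single i 1)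
    rw [← hab]
    refine hR.eq_of_right fun w => ?_
    rw [hR.sesq.zero_right, hR.swap, show QuadraticMap.polar Q (d *ᵥ Θ (a, b)) w = 0 by
      obtain ⟨⟨c, c'⟩, rfl⟩ := Θ.surjective w
      rw [hΘ, hΘ, mulVec_add, hb.add_left, hb.add_right, hb.add_right, ← hdk c c.2, mulVec_mulVec e1,
        hdiag e1 _ (L.mul_mem c.2 a.2), hdk a a.2 e1, mulVec_mulVec, ← Subalgebra.coe_mul, h12, hskew _ ((c : Matrix ι ι F) *ᵥ e1),
        hdk c c.2 e1, mulVec_mulVec, ← Subalgebra.coe_mul, h12, ← hdk c' c'.2, mulVec_mulVec e2,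
        hdiag e2 _ (L.mul_mem c'.2 b.2)]
      simp]
    simp
  obtain ⟨d0, hd0, hd0ne⟩ : ∃ d0 : Matrix ι ι F, d0 ∈ Dl ∧ d0 ≠ 0 ∧ d0 ∈ Algebra.adjoin F ({x} : Set (Matrix ι ι F)) := by
    by_cases h2 : (2 : F) = 0
    · exact ⟨1, ⟨fun k _ => by rw [mul_one, one_mul], fun v => by
        rw [one_mulVec, polar_self_eq hQ, h2, zero_mul]⟩, one_ne_zero, Subalgebra.one_mem _⟩
    · refine ⟨x - (2 : F)⁻¹ • 1, ⟨fun k hk => ?_, fun v => ?_⟩, sub_ne_zero.mpr (hxne h2),
        Subalgebra.sub_mem _ (Algebra.subset_adjoin (Set.mem_singleton x)) (Subalgebra.smul_mem _ (Subalgebra.one_mem _) _)⟩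
      · rw [mul_sub, sub_mul, hxL k hk, mul_smul_comm, smul_mul_assoc, mul_one, one_mul]
      · rw [sub_eq_add_neg, ← neg_smul, add_mulVec, smul_mulVec, one_mulVec, hb.add_left, hb.smul_left, 
          hxQ, polar_self_eq hQ, neg_mul, ← mul_assoc, inv_mul_cancel₀ h2, one_mul, add_neg_cancel]
  have hDle : Module.finrank F Dl ≤ m := by
    have h := LinearMap.finrank_le_finrank_of_injective hχ
    rw [Module.finrank_linearMap, Module.finrank_self, mul_one] at h
    exact h.trans (le_of_eq hL.finrank_eq)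
  let μ : L →ₗ[F] Dl :=
    { toFun := fun l => ⟨(l : Matrix ι ι F) * d0,
        ⟨fun k hk => by rw [← mul_assoc, hL.comm k hk l.1 l.2, mul_assoc, hd0.1 k hk, ← mul_assoc],
        fun v => by
          rw [← mulVec_mulVec, hsa' l l.2]
          by_cases h2 : (2 : F) = 0
          · have hc : CharP F 2 := char_two_of_even fun ho => odd_card_iff_two_ne_zero.mp ho h2
            have hfield : IsField L :=
              { exists_pair_ne := ⟨0, 1, fun h => he1 (by
                  have := congrArg (fun k : L => (k : Matrix ι ι F) *ᵥ e1) h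
                  simpa using this.symm)⟩
                mul_comm := hLm
                mul_inv_cancel := fun {a} ha => by
                  obtain ⟨y, hy, hy1⟩ := hL.inv a.1 a.2 (fun h => ha (Subtype.ext h))
                  exact ⟨⟨y, hy⟩, Subtype.ext hy1⟩ }
            letI : Field L := hfield.toField
            have : CharP L 2 := charP_of_injective_algebraMap (algebraMap F L).injective 2
            obtain ⟨y, hy⟩ := (Finite.injective_iff_surjective.mp (frobenius_inj L 2)) l
            rw [frobenius_def] at hy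
            have e' : (l : Matrix ι ι F) = (y : Matrix ι ι F) * (y : Matrix ι ι F) := by
              rw [← Subalgebra.coe_mul, ← pow_two, hy]
            rw [e', ← mulVec_mulVec, ← hsa' y y.2, mulVec_mulVec, hd0.1 y y.2, ← mulVec_mulVec]
            exact hd0.2 _
          · have h1 : ∀ u w, QuadraticMap.polar Q (d0 *ᵥ u) w = - QuadraticMap.polar Q (d0 *ᵥ w) u := fun u w => by
              have h := hd0.2 (u + w)
              rw [mulVec_add, hb.add_left, hb.add_right, hb.add_right, hd0.2, hd0.2] at h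
              linear_combination h
            have h3 := h1 v ((l : Matrix ι ι F) *ᵥ v)
            have h4 : QuadraticMap.polar Q (d0 *ᵥ ((l : Matrix ι ι F) *ᵥ v)) v = QuadraticMap.polar Q (d0 *ᵥ v) ((l : Matrix ι ι F) *ᵥ v) := by
              rw [mulVec_mulVec, ← hd0.1 l l.2, ← mulVec_mulVec, hsa' l l.2]
            rw [h4] at h3
            exact (mul_eq_zero.mp (show (2 : F) * QuadraticMap.polar Q (d0 *ᵥ v) ((l : Matrix ι ι F) *ᵥ v) = 0 by
              linear_combination h3)).resolve_left h2⟩⟩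
      map_add' := fun a b => Subtype.ext (by simp [add_mul])
      map_smul' := fun c a => Subtype.ext (by simp [smul_mul_assoc]) }
  have hμi : Function.Injective μ := by
    rw [injective_iff_map_eq_zero]
    intro l hl
    by_contra hl0
    obtain ⟨y, hy, hy1⟩ := hL.inv l.1 l.2 (fun h' => hl0 (Subtype.ext h'))
    apply hd0ne.1
    have h : (l : Matrix ι ι F) * d0 = 0 := congrArg Subtype.val hl
    calc d0 = y * ((l : Matrix ι ι F) * d0) := by rw [← mul_assoc, hL.comm y hy l.1 l.2, hy1, one_mul]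
      _ = 0 := by rw [h, mul_zero]
  have hDeq : LinearMap.range μ = ⊤ := by
    apply Submodule.eq_top_of_finrank_eq
    have h1 := LinearMap.finrank_range_of_inj hμi
    have h2 := Submodule.finrank_le (LinearMap.range μ)
    have h3 : Module.finrank F L = m := hL.finrank_eq
    omega
  -- the commutative algebra
  set S : Set (Matrix ι ι F) := (L : Set (Matrix ι ι F)) ∪ {x}
  set R := Algebra.adjoin F S with hRdef
  have hSc : ∀ a ∈ S, ∀ b ∈ S, a * b = b * a := by
    rintro a (ha | rfl) b (hb' | rfl)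
    · exact hL.comm a ha b hb'
    · exact hxL a ha
    · exact (hxL b hb').symm
    · rfl
  have hRc : ∀ a ∈ R, ∀ b ∈ R, a * b = b * a := fun a ha b hb' =>
    (Algebra.commute_of_mem_adjoin_of_forall_mem_commute hb' fun s hs =>
      (Algebra.commute_of_mem_adjoin_of_forall_mem_commute ha fun s' hs' => hSc s hs s' hs').symm).eq
  have hLR : L ≤ R := fun a ha => Algebra.subset_adjoin (Or.inl ha)
  have hxR : x ∈ R := Algebra.subset_adjoin (Or.inr rfl)
  have hd0R : d0 ∈ R := Algebra.adjoin_mono (show ({x} : Set (Matrix ι ι F)) ⊆ S from Set.subset_union_right) hd0ne.2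
  have hRst : ConjStable G R := by
    intro g hg y hy
    induction hy using Algebra.adjoin_induction with
    | mem y hy =>
      rcases hy with hy | rfl
      · exact hLR (hst g hg y hy)
      · have hmem : (g : Matrix ι ι F) * y * ((g⁻¹ : GL ι F) : Matrix ι ι F) - y ∈ Dl := by
          refine ⟨fun k hk => ?_, fun v => ?_⟩
          · have hk' := hxL _ (hst g⁻¹ (G.inv_mem hg) k hk)
            rw [inv_inv] at hk'
            have e : k * ((g : Matrix ι ι F) * y * ((g⁻¹ : GL ι F) : Matrix ι ι F)) =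
                (g : Matrix ι ι F) * y * ((g⁻¹ : GL ι F) : Matrix ι ι F) * k := by
              calc k * ((g : Matrix ι ι F) * y * ((g⁻¹ : GL ι F) : Matrix ι ι F))
                  = (g : Matrix ι ι F) * (((g⁻¹ : GL ι F) : Matrix ι ι F) * k * (g : Matrix ι ι F) * y) *
                    ((g⁻¹ : GL ι F) : Matrix ι ι F) := by simp [mul_assoc]
                _ = _ := by rw [hk']; simp [mul_assoc]
            rw [mul_sub, sub_mul, e, hxL k hk]
          · rw [sub_mulVec, sub_eq_add_neg, ← neg_one_smul F (y *ᵥ v), hb.add_left, hb.smul_left, hxQ,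
              ← mulVec_mulVec, ← mulVec_mulVec]
            have h := hxQ (((g⁻¹ : GL ι F) : Matrix ι ι F) *ᵥ v)
            rw [hfixQ g⁻¹ (G.inv_mem hg), ← hfix _ (coe_mem_matrixSet hg), mulVec_mulVec v (g : Matrix ι ι F),
              Units.mul_inv, one_mulVec] at h
            rw [h]
            ring
        obtain ⟨l, hl⟩ := (hDeq ▸ Submodule.mem_top : (⟨_, hmem⟩ : Dl) ∈ LinearMap.range μ)
        rw [show (g : Matrix ι ι F) * y * ((g⁻¹ : GL ι F) : Matrix ι ι F) = (l : Matrix ι ι F) * d0 + y by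
          rw [show (l : Matrix ι ι F) * d0 = _ from congrArg Subtype.val hl, sub_add_cancel]]
        exact R.add_mem (R.mul_mem (hLR l.2) hd0R) hxR
    | algebraMap r =>
      rw [← Algebra.commutes, mul_assoc, ← Units.val_mul, mul_inv_cancel, Units.val_one, mul_one]
      exact R.algebraMap_mem r
    | add u v _ _ hu hv => rw [mul_add, add_mul]; exact R.add_mem hu hv
    | mul u v _ _ hu hv => simpa [mul_assoc] using R.mul_mem hu hv
  have hRadj : ∀ y ∈ R, hR.adj y ∈ R := by
    intro y hy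
    induction hy using Algebra.adjoin_induction with
    | mem y hy =>
      rcases hy with hy | rfl
      · rw [hsa y hy]; exact hLR hy
      · rw [hadjx]; exact R.sub_mem R.one_mem hxR
    | algebraMap r =>
      rw [Algebra.algebraMap_eq_smul_one, hR.adj_smul, hR.adj_one]
      exact R.smul_mem R.one_mem _
    | add u v _ _ hu hv => rw [hR.adj_add]; exact R.add_mem hu hv
    | mul u v _ _ hu hv => rw [hR.adj_mul]; exact R.mul_mem hv hu
  rcases hR.commutative_cases hfix hirr hRc hRst hRadj with h | hRf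
  · exact Or.inl h
  right
  set r := Module.finrank F R
  -- `R` is `L + L x`
  have hmoved : hR.adj x ≠ x := by
    intro h
    rw [hadjx] at h
    have h1 : (2 : F) • x = 1 := by rw [two_smul]; exact (eq_add_of_sub_eq h).symm
    by_cases h2 : (2 : F) = 0
    · rw [h2, zero_smul] at h1; exact zero_ne_one h1
    · exact hxne h2 (by rw [← h1, smul_smul, inv_mul_cancel₀ h2, one_smul])
  let ρ : L × L →ₗ[F] R :=
    { toFun := fun p => ⟨(p.1 : Matrix ι ι F) + (p.2 : Matrix ι ι F) * x,
        R.add_mem (hLR p.1.2) (R.mul_mem (hLR p.2.2) hxR)⟩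
      map_add' := fun a b => Subtype.ext (by simp [add_mul]; abel)
      map_smul' := fun c a => Subtype.ext (by simp [smul_mul_assoc]) }
  have hρi : Function.Injective ρ := by
    rw [injective_iff_map_eq_zero]
    rintro ⟨a, b⟩ h
    have h' : (a : Matrix ι ι F) + (b : Matrix ι ι F) * x = 0 := congrArg Subtype.val h
    by_cases hb0 : b = 0
    · subst hb0
      rw [ZeroMemClass.coe_zero, zero_mul, add_zero] at h'
      exact Prod.ext (Subtype.ext h') rfl
    obtain ⟨y, hy, hy1⟩ := hL.inv b.1 b.2 (fun h' => hb0 (Subtype.ext h'))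
    exfalso
    refine hmoved (hsa x ?_)
    have hx : x = -(y * (a : Matrix ι ι F)) := by
      have e := congrArg (y * ·) h'
      simp only [mul_add, mul_zero, ← mul_assoc, hL.comm y hy b.1 b.2, hy1, one_mul] at e
      exact eq_neg_of_add_eq_zero_right e
    rw [hx]
    exact L.neg_mem (L.mul_mem hy a.2)
  have h3 : Module.finrank F L = m := hL.finrank_eq
  have hr : r = 2 * m := by
    have h1 : Module.finrank F (L × L) ≤ r := LinearMap.finrank_le_finrank_of_injective hρi
    rw [Module.finrank_prod, h3] at h1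
    have h2 := Nat.le_of_dvd (by omega) (fieldSubalgebra_dvd hRf)
    omega
  have hρs : Function.Surjective ρ :=
    (LinearMap.injective_iff_surjective_of_finrank_eq_finrank (by
      rw [Module.finrank_prod, h3]; omega)).mp hρi
  obtain ⟨K, hK, hKle, hKmem⟩ := exists_subfield_algebra' hRf (r' := 2) (hr ▸ dvd_mul_right 2 m) two_pos
  refine ⟨K, hK, fun g hg y hy => ?_, fun y hy => ?_, ?_⟩
  · exact (hKmem _ (hRst g hg y (hKle hy))).mp (by rw [Units.conj_pow, (hKmem y (hKle hy)).mpr hy])
  · exact (hKmem _ (hRadj y (hKle hy))).mp (by rw [← hR.adj_pow, (hKmem y (hKle hy)).mpr hy])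
  by_contra hall
  push Not at hall
  have hKL : K ≤ L := by
    intro y hy
    obtain ⟨⟨a, b⟩, hab⟩ := hρs ⟨y, hKle hy⟩
    have hy' : (a : Matrix ι ι F) + (b : Matrix ι ι F) * x = y := congrArg Subtype.val hab
    have h := hall y hy
    rw [← hy', hR.adj_add, hR.adj_mul, hsa _ a.2, hsa _ b.2, hadjx, add_right_inj, sub_mul, one_mul,
      ← hxL b.1 b.2] at h
    by_cases hb0 : b = 0
    · rw [← hy', hb0, ZeroMemClass.coe_zero, zero_mul, add_zero]; exact a.2
    obtain ⟨z, hz, hz1⟩ := hL.inv b.1 b.2 (fun h' => hb0 (Subtype.ext h'))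
    exfalso
    refine hmoved ?_
    have e := congrArg (z * ·) h
    simp only [mul_sub, ← mul_assoc, hL.comm z hz b.1 b.2, hz1, one_mul] at e
    rw [hadjx, e]
  have hdvd := field_dvd_invariant hK (LinearMap.range (ev e1)) (by
    rintro k hk _ ⟨l, rfl⟩
    exact ⟨⟨k, hKL hk⟩ * l, (mulVec_mulVec e1 k (l : Matrix ι ι F)).symm⟩)
  rw [hevd e1 he1] at hdvd
  exact (Nat.not_even_iff_odd.mpr hm) (even_iff_two_dvd.mpr hdvd)

end OE

end CfsgLib.Aschbacher
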