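import Cfsg.Agent.Aschbacher.Form.OrthTwelveStructure
import Cfsg.Agent.Aschbacher.Form.OrthEvenDecomp
import Cfsg.Agent.QuadStd.DiscStd

/-!
Dimension twelve: which members occur in which type.
-/
set_option autoImplicit false
set_option maxHeartbeats 1000000

namespace CfsgLib.Aschbacher

open Matrix Cfsg Cfsg.Geo CfsgLib.GeoClifford
open scoped MatrixGroups Kronecker commutatorElement

variable {ι : Type} [Fintype ι] [DecidableEq ι] {F : Type*} [Field F] [Fintype F] {Q : (ι → F) → F}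

namespace OE

/-- Twelve isometric lines give plus type. -/
theorem plus_of_frame_twelve (hQ : IsNondegenerateQuadraticForm Q) (h12 : Fintype.card ι = 12)
    (h2 : (2 : F) ≠ 0) {D : Fin 12 → Submodule F (ι → F)} (hD : IsOrthogonalMDecomposition Q 1 D) :
    IsPlusTypeOn Q ⊤ := by
  obtain ⟨v0, hv0, hv00⟩ := (D 0).ne_bot_iff.mp fun h0 => by
    have := hD.decomp.decomp.finrank_eq 0
    rw [h0, finrank_bot] at this
    omega
  choose E hE using fun i => hD.isometric 0 i
  set v : Fin 12 → ι → F := fun i => (E i ⟨v0, hv0⟩ : ι → F) with hv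
  have hs : QuadraticMap.polar Q v0 v0 ≠ 0 := fun h => by
    obtain ⟨-, x, hx, hx0⟩ := hD.decomp.nondegenerate 0 v0 hv0 hv00
    have hspan : Submodule.span F {v0} = D 0 := Submodule.eq_of_le_of_finrank_le
      ((Submodule.span_singleton_le_iff_mem _ _).mpr hv0)
      (by rw [hD.decomp.decomp.finrank_eq, finrank_span_singleton hv00])
    rw [← hspan] at hx
    obtain ⟨c, rfl⟩ := Submodule.mem_span_singleton.mp hx
    rw [hQ.polar_bilinear.smul_right, h, mul_zero] at hx0
    exact hx0 rfl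
  let idx : Fin 4 → Fin 3 → Fin 12 := fun a i => finProdFinEquiv (a, i)
  refine plus_of_four_families hQ h2 (k := 3) (by rw [h12]) hs (w := fun a i => v (idx a i)) fun a b i j => ?_
  by_cases h : a = b ∧ i = j
  · obtain ⟨rfl, rfl⟩ := h
    rw [if_pos ⟨rfl, rfl⟩, polar_self_eq hQ, polar_self_eq hQ, show Q (v (idx a i)) = Q v0 from hE _ _]
  · rw [if_neg h]
    refine hD.decomp.orthogonal _ _ (fun he => h ?_) _ (E _ _).2 _ (E _ _).2
    simpa using finProdFinEquiv.injective he

/-- Four isometric three-spaces give plus type. -/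
theorem plus_of_triples (hQ : IsNondegenerateQuadraticForm Q) (h12 : Fintype.card ι = 12) (h2 : (2 : F) ≠ 0)
    {D : Fin 4 → Submodule F (ι → F)} (hD : IsOrthogonalMDecomposition Q 3 D) : IsPlusTypeOn Q ⊤ := by
  obtain ⟨u, s, hs, hu, -, huu⟩ := exists_scalar_basis hQ h2 (show Odd 3 by decide) (hD.decomp.nondegenerate 0)
    (hD.decomp.decomp.finrank_eq 0)
  choose E hE using fun i => hD.isometric 0 i
  refine plus_of_four_families hQ h2 (k := 3) (by rw [h12]) hs
    (w := fun a i => (E a ⟨u i, hu i⟩ : ι → F)) fun a b i j => ?_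
  by_cases hab : a = b
  · subst hab
    simp only [true_and]
    rw [← huu i j]
    simp only [QuadraticMap.polar, ← Submodule.coe_add, ← map_add, hE]
    rfl
  · rw [if_neg (fun h => hab h.1)]
    exact hD.decomp.orthogonal a b hab _ (E _ _).2 _ (E _ _).2

/-- Six isometric planes give plus type. -/
theorem plus_of_planes_six (hQ : IsNondegenerateQuadraticForm Q) (h12 : Fintype.card ι = 12)
    {D : Fin 6 → Submodule F (ι → F)} (hD : IsOrthogonalMDecomposition Q 2 D) : IsPlusTypeOn Q ⊤ := by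
  obtain ⟨T, hle, hT, hd⟩ := exists_ts_members hQ hD even_two (show (0 : Fin 6) ≠ 1 by decide)
  obtain ⟨T', hle', hT', hd'⟩ := exists_ts_members hQ hD even_two (show (2 : Fin 6) ≠ 3 by decide)
  obtain ⟨T'', hle'', hT'', hd''⟩ := exists_ts_members hQ hD even_two (show (4 : Fin 6) ≠ 5 by decide)
  have hind := hD.decomp.decomp.indep
  have ho : ∀ a b c d : Fin 6, a ≠ c → a ≠ d → b ≠ c → b ≠ d →
      ∀ x ∈ D a ⊔ D b, ∀ y ∈ D c ⊔ D d, QuadraticMap.polar Q x y = 0 := by
    intro a b c d hac had hbc hbd x hx y hy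
    obtain ⟨x1, hx1, x2, hx2, rfl⟩ := Submodule.mem_sup.mp hx
    obtain ⟨y1, hy1, y2, hy2, rfl⟩ := Submodule.mem_sup.mp hy
    rw [hQ.polar_bilinear.add_left, hQ.polar_bilinear.add_right, hQ.polar_bilinear.add_right,
      hD.decomp.orthogonal a c hac x1 hx1 y1 hy1, hD.decomp.orthogonal a d had x1 hx1 y2 hy2,
      hD.decomp.orthogonal b c hbc x2 hx2 y1 hy1, hD.decomp.orthogonal b d hbd x2 hx2 y2 hy2]
    simp
  have hd1 : Disjoint T T' := by
    have h := hind.disjoint_biSup_biSup (s := ({0, 1} : Set (Fin 6))) (t := {2, 3}) (by simp)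
    rw [iSup_pair, iSup_pair] at h
    exact h.mono hle hle'
  obtain ⟨h1, hn1⟩ := ts_sup hQ hT hT' (fun x hx y hy =>
    ho 0 1 2 3 (by decide) (by decide) (by decide) (by decide) x (hle hx) y (hle' hy)) hd1
  have hd2 : Disjoint (T ⊔ T') T'' := by
    have h := hind.disjoint_biSup_biSup (s := ({0, 1, 2, 3} : Set (Fin 6))) (t := {4, 5}) (by simp)
    rw [iSup_pair] at h
    refine h.mono (sup_le (hle.trans (sup_le ?_ ?_)) (hle'.trans (sup_le ?_ ?_))) hle'' <;>
      exact le_iSup₂_of_le _ (by simp) le_rfl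
  obtain ⟨h2, hn2⟩ := ts_sup hQ h1 hT'' (fun x hx y hy => by
    obtain ⟨a, ha, b, hb, rfl⟩ := Submodule.mem_sup.mp hx
    rw [hQ.polar_bilinear.add_left,
      ho 0 1 4 5 (by decide) (by decide) (by decide) (by decide) a (hle ha) y (hle'' hy),
      ho 2 3 4 5 (by decide) (by decide) (by decide) (by decide) b (hle' hb) y (hle'' hy), add_zero]) hd2
  exact plus_of_ts h2 (by rw [hn2, hn1, hd, hd', hd'', h12])

/-- Two isometric six-spaces give plus type. -/
theorem plus_of_sixes (hQ : IsNondegenerateQuadraticForm Q) (h12 : Fintype.card ι = 12)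
    {D : Fin 2 → Submodule F (ι → F)} (hD : IsOrthogonalMDecomposition Q 6 D) : IsPlusTypeOn Q ⊤ := by
  obtain ⟨T, -, hT, hd⟩ := exists_ts_members hQ hD (show Even 6 by decide) (show (0 : Fin 2) ≠ 1 by decide)
  exact plus_of_ts hT (by rw [hd, h12])

/-- In minus type the members of a decomposition into three four-spaces are of minus type. -/
theorem fours_minus (hQ : IsNondegenerateQuadraticForm Q) (h12 : Fintype.card ι = 12)
    (hminus : ¬ IsPlusTypeOn Q ⊤) {D : Fin 3 → Submodule F (ι → F)} (hD : IsOrthogonalMDecomposition Q 4 D)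
    (i : Fin 3) : ¬ IsPlusTypeOn Q (D i) := by
  intro hp
  apply hminus
  have hall : ∀ j, IsPlusTypeOn Q (D j) := fun j => plus_of_isometric (hD.isometric i j) hp
  choose T hTD hT hTd using hall
  have hTd' : ∀ j, Module.finrank F (T j) = 2 := fun j => by
    have := hTd j; rw [hD.decomp.decomp.finrank_eq] at this; omega
  have hind := hD.decomp.decomp.indep.mono (show T ≤ D from hTD)
  have ho : ∀ a b, a ≠ b → ∀ x ∈ T a, ∀ y ∈ T b, QuadraticMap.polar Q x y = 0 := fun a b h x hx y hy =>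
    hD.decomp.orthogonal a b h x (hTD a hx) y (hTD b hy)
  obtain ⟨h1, hn1⟩ := ts_sup hQ (hT 0) (hT 1) (ho 0 1 (by decide)) (hind.pairwiseDisjoint (show (0 : Fin 3) ≠ 1 by decide))
  have hd2 : Disjoint (T 0 ⊔ T 1) (T 2) := by
    have h := hind.disjoint_biSup (x := 2) (y := ({0, 1} : Set (Fin 3))) (by simp)
    rw [iSup_pair] at h
    exact h.symm
  obtain ⟨h2, hn2⟩ := ts_sup hQ h1 (hT 2) (fun x hx y hy => by
    obtain ⟨a, ha, b, hb, rfl⟩ := Submodule.mem_sup.mp hx
    rw [hQ.polar_bilinear.add_left, ho 0 2 (by decide) a ha y hy, ho 1 2 (by decide) b hb y hy, add_zero]) hd2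
  exact plus_of_ts h2 (by rw [hn2, hn1, hTd', hTd', hTd', h12])

/-- In plus type over two elements the members of a decomposition into three four-spaces are of plus type; in fact in
any plus type. -/
theorem fours_plus (hQ : IsNondegenerateQuadraticForm Q) (h12 : Fintype.card ι = 12) (hplus : IsPlusTypeOn Q ⊤)
    {D : Fin 3 → Submodule F (ι → F)} (hD : IsOrthogonalMDecomposition Q 4 D) (i : Fin 3) :
    IsPlusTypeOn Q (D i) := by
  obtain ⟨a, b, hab, hai, hbi⟩ : ∃ a b : Fin 3, a ≠ b ∧ a ≠ i ∧ b ≠ i := by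
    fin_cases i
    exacts [⟨1, 2, by decide, by decide, by decide⟩, ⟨0, 2, by decide, by decide, by decide⟩,
      ⟨0, 1, by decide, by decide, by decide⟩]
  obtain ⟨T, hle, hT, hd⟩ := exists_ts_members hQ hD (show Even 4 by decide) hab
  refine member_plus hQ hplus hT (hD.decomp.nondegenerate i) (fun x hx y hy => ?_)
    (by rw [hd, hD.decomp.decomp.finrank_eq, h12])
  obtain ⟨x1, hx1, x2, hx2, rfl⟩ := Submodule.mem_sup.mp (hle hx)
  rw [hQ.polar_bilinear.add_left, hD.decomp.orthogonal a i hai x1 hx1 y hy,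
    hD.decomp.orthogonal b i hbi x2 hx2 y hy, add_zero]

/-- `Ω` stabilises no decomposition into two subspaces. -/
theorem not_le_pair (hQ : IsNondegenerateQuadraticForm Q) (hn : 5 ≤ Fintype.card ι) {m : ℕ}
    {D : Fin 2 → Submodule F (ι → F)} (hD : IsMDecomposition m D) : ¬ omegaGL Q ≤ decompositionStabilizer D := by
  intro hle
  have hm := hD.pos
  have hne : ∀ i, D i ≠ ⊥ := fun i h => by
    have := hD.finrank_eq i; rw [h, finrank_bot] at this; omega
  have hinj : Function.Injective D := fun i j h => by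
    by_contra hij
    have := hD.indep.pairwiseDisjoint hij
    rw [Function.onFun, h, disjoint_self] at this
    exact hne j this
  have h0 : D 0 ≠ ⊤ := fun h => by
    have := hD.indep.pairwiseDisjoint (show (0 : Fin 2) ≠ 1 by decide)
    rw [Function.onFun, h, top_disjoint] at this
    exact hne 1 this
  refine not_le_subspace hQ hn (hne 0) h0 ?_
  rw [← omega_perfect hQ hn, Subgroup.commutator_le]
  intro a ha b hb
  obtain ⟨π, hπ⟩ := hle ha
  obtain ⟨π', hπ'⟩ := hle ((omegaGL Q).inv_mem ha)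
  obtain ⟨σ, hσ⟩ := hle hb
  obtain ⟨σ', hσ'⟩ := hle ((omegaGL Q).inv_mem hb)
  have hinv : ∀ (g : GL ι F) (p p' : Equiv.Perm (Fin 2)), (∀ i, (D i).map (Matrix.toLin' (g : Matrix ι ι F)) = D (p i)) →
      (∀ i, (D i).map (Matrix.toLin' ((g⁻¹ : GL ι F) : Matrix ι ι F)) = D (p' i)) → ∀ i, p (p' i) = i :=
    fun g p p' hp hp' i => hinj (by
      rw [← hp, ← hp', ← Submodule.map_comp, ← Matrix.toLin'_mul, Units.mul_inv, Matrix.toLin'_one, Submodule.map_id])
  have key : ∀ p p' s s' : Equiv.Perm (Fin 2), (∀ i, p (p' i) = i) → (∀ i, s (s' i) = i) → p (s (p' (s' 0))) = 0 := by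
    decide +kernel
  refine CfsgLib.Geo.mem_subspaceStabilizer.mpr fun v hv => ?_
  have h : (D 0).map (Matrix.toLin' ((⁅a, b⁆ : GL ι F) : Matrix ι ι F)) = D 0 := by
    rw [commutatorElement_def, Units.val_mul, Units.val_mul, Units.val_mul, Matrix.toLin'_mul, Matrix.toLin'_mul,
      Matrix.toLin'_mul, Submodule.map_comp, Submodule.map_comp, Submodule.map_comp, hσ', hπ', hσ, hπ,
      key π π' σ σ' (hinv a π π' hπ hπ') (hinv b σ σ' hσ hσ')]
  rw [← h]
  exact ⟨v, hv, Matrix.toLin'_apply _ _⟩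

/-- In plus type the factor of dimension four is of plus type. -/
theorem factor_plus (hQ : IsNondegenerateQuadraticForm Q) (h2 : (2 : F) ≠ 0) (h12 : Fintype.card ι = 12)
    (hplus : IsPlusTypeOn Q ⊤) {G : Subgroup (GL ι F)} {e : ι ≃ Fin 3 × Fin 4} {P : GL ι F}
    {B : Matrix (Fin 3) (Fin 3) F} {C : Matrix (Fin 4) (Fin 4) F}
    (hT : IsTensorGram (RingEquiv.refl F) (QuadraticMap.polar Q) G e P B C) (hC : Cᵀ = C) :
    IsPlusTypeOn (fun v : Fin 4 → F => formOf (RingEquiv.refl F) C v v) ⊤ := by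
  classical
  obtain ⟨r, hr⟩ := gram_det_square hQ (show Even 6 by decide) (by rw [h12]) hplus
  have hBd : B.det ≠ 0 := ((Matrix.isUnit_iff_isUnit_det _).mp hT.unit_left).ne_zero
  have hCd : C.det ≠ 0 := ((Matrix.isUnit_iff_isUnit_det _).mp hT.unit_right).ne_zero
  have hsq : IsSquare C.det := by
    have h := congrArg Matrix.det hT.gram
    rw [map_refl, det_mul, det_mul, det_transpose, det_submatrix_equiv_self, det_kronecker, Fintype.card_fin,
      Fintype.card_fin, hr] at h
    refine ⟨(P : Matrix ι ι F).det * r / (B.det ^ 2 * C.det), ?_⟩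
    field_simp
    linear_combination -h
  let q : QuadraticForm F (Fin 4 → F) := (Matrix.toBilin' C).toQuadraticMap
  have hq : ∀ v, q v = formOf (RingEquiv.refl F) C v v := fun v => by
    rw [LinearMap.BilinMap.toQuadraticMap_apply, Matrix.toBilin'_apply']; rfl
  have hsym := isSymmetricForm_formOf hT.unit_right hC
  have hpol : ∀ u v, QuadraticMap.polar q u v = 2 * formOf (RingEquiv.refl F) C u v := fun u v => by
    rw [QuadraticMap.polar, hq, hq, hq, hsym.bilinear.add_left, hsym.bilinear.add_right, hsym.bilinear.add_right,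
      hsym.symm v u]
    ring
  have hnd : (QuadraticMap.polarBilin q).Nondegenerate := by
    refine ⟨fun x hx => ?_, fun x hx => ?_⟩ <;> by_contra hx0 <;> obtain ⟨⟨y, hy⟩, z, hz⟩ := hsym.nondegenerate x hx0
    · apply hz
      have := hx z
      rw [QuadraticMap.polarBilin_apply_apply, hpol] at this
      exact (mul_eq_zero.mp this).resolve_left h2
    · apply hy
      have := hx y
      rw [QuadraticMap.polarBilin_apply_apply, hpol] at this
      exact (mul_eq_zero.mp this).resolve_left h2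
  let en : Fin 2 ⊕ Fin 2 ≃ Fin 4 := finSumFinEquiv
  obtain ⟨g, hg⟩ := CfsgLib.QuadStd.isometric_of_disc h2 (Q₁ := CfsgLib.Quad.plusQ 2) (Q₂ := q)
    (CfsgLib.Quad.plusQ_nondeg 2) hnd ((Pi.basisFun F (Fin 2 ⊕ Fin 2)).reindex en) (Pi.basisFun F (Fin 4)) (by
    have e1 : CfsgLib.QuadStd.gram (CfsgLib.Quad.plusQ (F := F) 2) ((Pi.basisFun F (Fin 2 ⊕ Fin 2)).reindex en) =
        (CfsgLib.QuadStd.gram (CfsgLib.Quad.plusQ (F := F) 2) (Pi.basisFun F (Fin 2 ⊕ Fin 2))).submatrix
          en.symm en.symm := by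
      ext i j; simp [CfsgLib.QuadStd.gram]
    have e2 : CfsgLib.QuadStd.gram q (Pi.basisFun F (Fin 4)) = (2 : F) • C := by
      ext i j
      simp [CfsgLib.QuadStd.gram, hpol, formOf, Matrix.mulVec_single,
        show ∀ w : Fin 4 → F, (RingEquiv.refl F) ∘ w = w from fun w => rfl]
    rw [e1, det_submatrix_equiv_self, CfsgLib.QuadStd.gram_plus, CfsgLib.QuadStd.det_swap_blocks, e2, det_smul,
      Fintype.card_fin]
    obtain ⟨d, hd⟩ := hsq
    exact ⟨4 * d, by rw [hd]; ring⟩)
  refine ⟨(CfsgLib.AutPOm.plusHalf F 2).map g.toLinearMap, le_top, ?_, ?_⟩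
  · rintro _ ⟨z, hz, rfl⟩
    have hz' : ∀ i, z (Sum.inr i) = 0 := fun i => congrFun (LinearMap.mem_ker.mp hz) i
    show formOf (RingEquiv.refl F) C (g z) (g z) = 0
    rw [← hq, hg]
    simp [CfsgLib.Quad.plusQ_coe, Cfsg.quadFormPlus, hz']
  · rw [show Submodule.map g.toLinearMap = Submodule.map (g : _ →ₗ[F] (Fin 4 → F)) from rfl, LinearEquiv.finrank_map_eq,
      CfsgLib.AutPOm.finrank_plusHalf, finrank_top, Module.finrank_fintype_fun_eq_card, Fintype.card_fin]

end OE

end CfsgLib.Aschbacher
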