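import Cfsg.Agent.Aschbacher.Form.OrthTenCases
import Cfsg.Agent.AutPOm.Types
import Cfsg.Agent.AutPOm.Gamma

/-!
Tools for quadratic forms in dimension twelve: members of plus type, isometry of subspaces of the same type,
four scalar families.
-/
set_option autoImplicit false
set_option maxHeartbeats 1000000

namespace CfsgLib.Aschbacher

open Matrix Cfsg Cfsg.Geo CfsgLib.GeoClifford
open scoped MatrixGroups

variable {ι : Type} [Fintype ι] [DecidableEq ι] {F : Type*} [Field F] [Fintype F] {Q : (ι → F) → F}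

namespace OE

/-- In plus type, a non-degenerate subspace orthogonal to a singular one of complementary half is of plus type. -/
theorem member_plus (hQ : IsNondegenerateQuadraticForm Q) (hplus : IsPlusTypeOn Q ⊤) {T X : Submodule F (ι → F)}
    (hT : IsTotallySingularQuad Q T) (hX : IsNondegenerateOn (QuadraticMap.polar Q) X)
    (hTX : ∀ x ∈ T, ∀ y ∈ X, QuadraticMap.polar Q x y = 0)
    (hd : 2 * Module.finrank F T + Module.finrank F X = Fintype.card ι) : IsPlusTypeOn Q X := by
  classical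
  obtain ⟨Q', rfl, hQ'⟩ := CfsgLib.Geo.OS.exists_quadraticForm hQ
  obtain ⟨T0, -, hT0, hT0d⟩ := hplus
  rw [finrank_top, Module.finrank_fintype_fun_eq_card] at hT0d
  obtain ⟨L, hTL, hL⟩ := CfsgLib.Geo.OS.exists_lag_above hQ' hT
    (⟨hT0, by rw [Module.finrank_fintype_fun_eq_card]; omega⟩ : CfsgLib.Geo.OS.IsLag Q' T0) (by omega)
  have hLd := hL.2
  rw [Module.finrank_fintype_fun_eq_card] at hLd
  have hinf : T ⊓ X = ⊥ := by
    rw [Submodule.eq_bot_iff]
    rintro x ⟨hx, hxX⟩
    by_contra hx0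
    obtain ⟨-, y, hy, hxy⟩ := hX x hxX hx0
    exact hxy (hTX x hx y hy)
  have hperp : T ⊔ X = CfsgLib.Quad.perpS Q' T := by
    refine Submodule.eq_of_le_of_finrank_le (sup_le
      (fun a ha b hb => CfsgLib.Geo.OS.polar_eq_zero_of_singular hT hb ha) fun y hy x hx => hTX x hx y hy) ?_
    have h3 := CfsgLib.Quad.finrank_perpS hQ' T
    rw [Module.finrank_fintype_fun_eq_card] at h3
    have h4 := Submodule.finrank_sup_add_finrank_inf_eq T X
    rw [hinf, finrank_bot] at h4
    omega
  have hLle : L ≤ T ⊔ X := hperp ▸ fun v hv w hw => CfsgLib.Geo.OS.polar_eq_zero_of_singular hL.1 (hTL hw) hv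
  refine ⟨L ⊓ X, inf_le_right, fun w hw => hL.1 w hw.1, ?_⟩
  have e1 : (T ⊔ X) ⊓ L = T ⊔ X ⊓ L := sup_inf_assoc_of_le X hTL
  rw [inf_eq_right.mpr hLle, inf_comm X L] at e1
  have h5 := Submodule.finrank_sup_add_finrank_inf_eq T (L ⊓ X)
  rw [← e1, eq_bot_iff.mpr (le_trans (inf_le_inf_left T inf_le_right) hinf.le), finrank_bot] at h5
  omega

/-- Isometric subspaces are of plus type together. -/
theorem plus_of_isometric {U U' : Submodule F (ι → F)} (h : AreIsometricFor Q U U') (hU : IsPlusTypeOn Q U) :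
    IsPlusTypeOn Q U' := by
  obtain ⟨e, he⟩ := h
  obtain ⟨T, hTU, hT, hTd⟩ := hU
  refine ⟨(Submodule.comap U.subtype T).map (U'.subtype ∘ₗ e.toLinearMap), ?_, ?_, ?_⟩
  · rintro _ ⟨x, -, rfl⟩; exact (e x).2
  · rintro _ ⟨x, hx, rfl⟩
    show Q (e x : ι → F) = 0
    rw [he]
    exact hT _ hx
  · rw [Submodule.map_comp, Submodule.finrank_map_subtype_eq,
      show Submodule.map e.toLinearMap = Submodule.map (e : U →ₗ[F] U') from rfl, LinearEquiv.finrank_map_eq,
      (Submodule.comapSubtypeEquivOfLe hTU).finrank_eq, ← e.finrank_eq, hTd]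

/-- Non-degenerate subspaces of the same even dimension and the same type are isometric. -/
theorem isometric_of_type (hQ : IsNondegenerateQuadraticForm Q) {k : ℕ} {U U' : Submodule F (ι → F)}
    (hU : IsNondegenerateOn (QuadraticMap.polar Q) U) (hU' : IsNondegenerateOn (QuadraticMap.polar Q) U')
    (hd : Module.finrank F U = 2 * (k + 1)) (hd' : Module.finrank F U' = 2 * (k + 1))
    (htype : IsPlusTypeOn Q U ↔ IsPlusTypeOn Q U') : AreIsometricFor Q U U' := by
  classical
  obtain ⟨Q', rfl, hQ'⟩ := CfsgLib.Geo.OS.exists_quadraticForm hQ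
  have hnd : ∀ {X : Submodule F (ι → F)}, IsNondegenerateOn (QuadraticMap.polar Q') X →
      (QuadraticMap.polarBilin (Q'.comp X.subtype)).Nondegenerate := fun {X} hX => by
    refine ⟨fun x hx => ?_, fun x hx => ?_⟩
    · by_contra hx0
      obtain ⟨-, y, hy, hxy⟩ := hX x x.2 (fun h => hx0 (Subtype.ext h))
      apply hxy
      have := hx ⟨y, hy⟩
      simpa [QuadraticMap.polar] using this
    · by_contra hx0
      obtain ⟨⟨y, hy, hxy⟩, -⟩ := hX x x.2 (fun h => hx0 (Subtype.ext h))
      apply hxy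
      have := hx ⟨y, hy⟩
      simpa [QuadraticMap.polar] using this
  -- one subspace hyperbolic, the other of minus type
  have mixed : ∀ {X : Submodule F (ι → F)} (φ : X ≃ₗ[F] (Fin (k + 1) ⊕ Fin (k + 1) → F)),
      (∀ v, (Q'.comp X.subtype) v = CfsgLib.Quad.plusQ (k + 1) (φ v)) → IsPlusTypeOn Q' X := by
    intro X φ hφ
    refine ⟨((CfsgLib.AutPOm.plusHalf F (k + 1)).map φ.symm.toLinearMap).map X.subtype, ?_, ?_, ?_⟩
    · rintro _ ⟨x, -, rfl⟩; exact x.2
    · rintro _ ⟨_, ⟨z, hz, rfl⟩, rfl⟩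
      have hz' : ∀ i, z (Sum.inr i) = 0 := fun i => congrFun (LinearMap.mem_ker.mp hz) i
      have h := hφ (φ.symm z)
      rw [φ.apply_symm_apply] at h
      refine h.trans ?_
      simp [CfsgLib.Quad.plusQ_coe, Cfsg.quadFormPlus, hz']
    · rw [Submodule.finrank_map_subtype_eq,
        show Submodule.map φ.symm.toLinearMap = Submodule.map (φ.symm : _ →ₗ[F] X) from rfl,
        LinearEquiv.finrank_map_eq, CfsgLib.AutPOm.finrank_plusHalf, φ.finrank_eq,
        Module.finrank_fintype_fun_eq_card, Fintype.card_sum, Fintype.card_fin, two_mul]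
  have minus : ∀ {X : Submodule F (ι → F)} {ζ : F} (φ : X ≃ₗ[F] ((Fin k ⊕ Fin k) ⊕ Fin 2 → F)),
      (∀ t : F, t ^ 2 + t + ζ ≠ 0) → (∀ v, (Q'.comp X.subtype) v = CfsgLib.Quad.minusQ k 1 ζ (φ v)) →
      Module.finrank F X = 2 * (k + 1) → ¬ IsPlusTypeOn Q' X := by
    rintro X ζ φ hζ hφ hXd ⟨T, hTX, hT, hTd⟩
    have h1 := CfsgLib.AutPOm.ts_bound_minusQ (CfsgLib.QuadStd.plane_aniso hζ) k
      ((Submodule.comap X.subtype T).map (φ : X →ₗ[F] _)) (by
        rintro _ ⟨x, hx, rfl⟩
        rw [LinearEquiv.coe_coe, ← hφ]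
        exact hT _ hx)
    rw [LinearEquiv.finrank_map_eq, (Submodule.comapSubtypeEquivOfLe hTX).finrank_eq] at h1
    omega
  rcases CfsgLib.QuadStd.classify_even (hnd hU) (m := k + 1) hd with ⟨φ, hφ⟩ | ⟨ζ, φ, -, hζ, hφ⟩ <;>
    rcases CfsgLib.QuadStd.classify_even (hnd hU') (m := k + 1) hd' with ⟨φ', hφ'⟩ | ⟨ζ', φ', -, hζ', hφ'⟩
  · refine ⟨φ.trans φ'.symm, fun w => ?_⟩
    have h := hφ' (φ'.symm (φ w))
    rw [φ'.apply_symm_apply, ← hφ] at h
    exact h
  · exact absurd (htype.mp (mixed φ hφ)) (minus φ' hζ' hφ' hd')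
  · exact absurd (htype.mpr (mixed φ' hφ')) (minus φ hζ hφ hd)
  · obtain ⟨ψ, hψ⟩ := CfsgLib.AutPOm.minusQ_isometric k (CfsgLib.QuadStd.plane_aniso hζ')
      (CfsgLib.QuadStd.plane_aniso hζ)
    refine ⟨φ.trans (ψ.trans φ'.symm), fun w => ?_⟩
    have h : (Q'.comp U'.subtype) (φ'.symm (ψ (φ w))) = (Q'.comp U.subtype) w := by
      rw [hφ', φ'.apply_symm_apply, hφ]
      exact hψ _
    exact h

/-- Four orthogonal scalar families with one value give plus type. -/
lemma plus_of_four_families (hQ : IsNondegenerateQuadraticForm Q) (h2 : (2 : F) ≠ 0) {k : ℕ}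
    (hk : Fintype.card ι = 4 * k) {w : Fin 4 → Fin k → ι → F} {s : F} (hs : s ≠ 0)
    (hw : ∀ a b i j, QuadraticMap.polar Q (w a i) (w b j) = if a = b ∧ i = j then s else 0) :
    IsPlusTypeOn Q ⊤ := by
  classical
  have hb := hQ.polar_bilinear
  obtain ⟨x, y, hxy⟩ := CfsgLib.Forms.exists_binary h2 one_ne_zero one_ne_zero (-1 : F)
  let z : Fin k ⊕ Fin k → ι → F :=
    Sum.elim (fun i => x • w 0 i + y • w 1 i + w 2 i) (fun i => (-y) • w 0 i + x • w 1 i + w 3 i)
  have hzz : ∀ p q, QuadraticMap.polar Q (z p) (z q) = 0 := by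
    rintro (i | i) (j | j) <;> by_cases hij : i = j <;>
      simp [z, -neg_smul, hb.add_left, hb.add_right, hb.smul_left, hb.smul_right, hw, hij] <;>
      first | ring1 | linear_combination s * hxy
  have hz : LinearIndependent F z := by
    refine Fintype.linearIndependent_iff.mpr fun d hd => ?_
    have hlin : ∀ (a : Fin 4) (j : Fin k), ∑ p, d p * QuadraticMap.polar Q (z p) (w a j) = 0 := fun a j => by
      let φ : (ι → F) →ₗ[F] F :=
        { toFun := fun v => QuadraticMap.polar Q v (w a j)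
          map_add' := fun u v => hb.add_left _ _ _
          map_smul' := fun c u => hb.smul_left _ _ _ }
      have h' : φ (∑ p, d p • z p) = φ 0 := congrArg φ hd
      rw [map_sum, map_zero] at h'
      simpa only [map_smul, smul_eq_mul, φ, LinearMap.coe_mk, AddHom.coe_mk] using h'
    rintro (j | j)
    · have h := hlin 2 j
      simp [z, -neg_smul, hb.add_left, hb.smul_left, hw, Fintype.sum_sum_type, Finset.sum_ite_eq', hs] at h
      exact h
    · have h := hlin 3 j
      simp [z, -neg_smul, hb.add_left, hb.smul_left, hw, Fintype.sum_sum_type, Finset.sum_ite_eq', hs] at h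
      exact h
  refine plus_of_ts (T := Submodule.span F (Set.range z)) ?_
    (by rw [finrank_span_eq_card hz, Fintype.card_sum, Fintype.card_fin, hk]; ring)
  intro v hv
  obtain ⟨d, rfl⟩ := (Submodule.mem_span_range_iff_exists_fun F).mp hv
  refine quad_sum_eq_zero hQ _ _ _ (fun p _ q _ => hzz p q) fun p _ => ?_
  have h := hzz p p
  rw [polar_self_eq hQ] at h
  exact (mul_eq_zero.mp h).resolve_left h2

/-- In plus type in a multiple of four dimensions the Gram matrix has square determinant. -/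
lemma gram_det_square (hQ : IsNondegenerateQuadraticForm Q) {k : ℕ} (hk : Even k)
    (hn : Fintype.card ι = 2 * k) (hplus : IsPlusTypeOn Q ⊤) :
    IsSquare (gramMatrix (QuadraticMap.polar Q)).det := by
  classical
  obtain ⟨T, -, hT, hTd⟩ := hplus
  rw [finrank_top, Module.finrank_fintype_fun_eq_card, hn] at hTd
  have hTf : ∀ a ∈ T, ∀ b ∈ T, QuadraticMap.polar Q a b = 0 := fun a ha b hb => by
    rw [QuadraticMap.polar, hT _ (T.add_mem ha hb), hT a ha, hT b hb]; ring
  obtain ⟨C, hC⟩ := Submodule.exists_isCompl T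
  have hCd : Module.finrank F C = k := by
    have := Submodule.finrank_add_eq_of_isCompl hC
    rw [Module.finrank_fintype_fun_eq_card, hn] at this
    omega
  let bT := Module.finBasisOfFinrankEq F T (show Module.finrank F T = k by omega)
  let bC := Module.finBasisOfFinrankEq F C hCd
  let b := (bT.prod bC).map (Submodule.prodEquivOfIsCompl T C hC)
  have hbT : ∀ i, b (Sum.inl i) = (bT i : ι → F) := fun i => by simp [b]
  obtain ⟨e⟩ : Nonempty (ι ≃ Fin k ⊕ Fin k) :=
    ⟨Fintype.equivOfCardEq (by rw [Fintype.card_sum, Fintype.card_fin, hn, two_mul])⟩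
  set G := gramMatrix (QuadraticMap.polar Q)
  set Pm : Matrix ι ι F := Matrix.of fun i j => b (e j) i
  set M := Matrix.of fun a b' => QuadraticMap.polar Q (b a) (b b')
  have h : M.submatrix e e = Pmᵀ * G * Pm := by
    ext a c
    show QuadraticMap.polar Q (b (e a)) (b (e c)) = _
    rw [(isSesq_of_bilinear hQ.polar_bilinear).eq_gram]
    simp only [Matrix.mul_apply, Matrix.transpose_apply, Pm, Matrix.of_apply, dotProduct, mulVec, Finset.sum_mul,
      Finset.mul_sum, RingEquiv.refl_apply, Function.comp_apply]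
    rw [Finset.sum_comm]
    exact Finset.sum_congr rfl fun i _ => Finset.sum_congr rfl fun j _ => by ring
  have hdet : M.det = G.det * Pm.det ^ 2 := by
    rw [← det_submatrix_equiv_self e M, h, det_mul, det_mul, det_transpose]; ring
  have hP : Pm.det ≠ 0 := by
    have hli : LinearIndependent F Pm.col := b.linearIndependent.comp e e.injective
    exact ((Matrix.isUnit_iff_isUnit_det _).mp (Matrix.linearIndependent_cols_iff_isUnit.mp hli)).ne_zero
  have hM : M = Matrix.fromBlocks 0 M.toBlocks₁₂ M.toBlocks₂₁ M.toBlocks₂₂ := by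
    ext a b'
    cases a <;> cases b' <;> simp [Matrix.toBlocks₁₂, Matrix.toBlocks₂₁, Matrix.toBlocks₂₂]
    simp only [M, Matrix.of_apply, hbT]
    exact hTf _ (bT _).2 _ (bT _).2
  have hM12 : M.toBlocks₂₁ = M.toBlocks₁₂ᵀ := by ext i j; exact polar_symm _ _ _
  have hJ : (Matrix.fromBlocks (0 : Matrix (Fin k) (Fin k) F) (-1) (1 : Matrix (Fin k) (Fin k) F) (0 : Matrix (Fin k) (Fin k) F)).det = 1 := by
    have h : Matrix.fromBlocks (0 : Matrix (Fin k) (Fin k) F) (-1) (1 : Matrix (Fin k) (Fin k) F) (0 : Matrix (Fin k) (Fin k) F) =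
        Matrix.fromBlocks (1 : Matrix (Fin k) (Fin k) F) (-1) 0 (1 : Matrix (Fin k) (Fin k) F) *
          Matrix.fromBlocks (1 : Matrix (Fin k) (Fin k) F) 0 1 (1 : Matrix (Fin k) (Fin k) F) *
          Matrix.fromBlocks (1 : Matrix (Fin k) (Fin k) F) (-1) 0 (1 : Matrix (Fin k) (Fin k) F) := by
      simp [Matrix.fromBlocks_multiply]
    simp [h, det_mul, det_fromBlocks_zero₂₁, det_fromBlocks_zero₁₂]
  have hMdet : M.det = M.toBlocks₁₂.det ^ 2 := by
    have h : (M * Matrix.fromBlocks (0 : Matrix (Fin k) (Fin k) F) (-1) (1 : Matrix (Fin k) (Fin k) F) (0 : Matrix (Fin k) (Fin k) F)).det = M.det := by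
      rw [det_mul, hJ, mul_one]
    rw [← h]
    conv_lhs => rw [hM, Matrix.fromBlocks_multiply]
    simp only [Matrix.zero_mul, Matrix.mul_zero, Matrix.mul_one, zero_add, add_zero, Matrix.mul_neg, neg_zero]
    rw [det_fromBlocks_zero₁₂, Matrix.det_neg, Fintype.card_fin, hk.neg_one_pow, hM12, det_transpose]
    ring
  refine ⟨M.toBlocks₁₂.det / Pm.det, ?_⟩
  rw [div_mul_div_comm, eq_div_iff (mul_ne_zero hP hP)]
  linear_combination hMdet - hdet

end OE

end CfsgLib.Aschbacher
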