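import Cfsg.Agent.Aschbacher.Form.OrthTwelveTensor
import Cfsg.Agent.Aschbacher.Form.OrthTenStructure
import Cfsg.Agent.Aschbacher.Form.FourPlanes

/-!
Aschbacher's theorem for groups of isometries of a quadratic form in dimension twelve, of either type.
-/
set_option autoImplicit false
set_option maxHeartbeats 1000000

namespace CfsgLib.Aschbacher

open Matrix Cfsg Cfsg.Geo CfsgLib.GeoClifford
open scoped MatrixGroups Kronecker

variable {ι : Type} [Fintype ι] [DecidableEq ι] {F : Type*} [Field F] [Fintype F] {Q : (ι → F) → F}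

namespace OE

/-- A stabilised decomposition of the form into two alternating factors, with singular pure tensors. -/
def HasSymplecticPair (Q : (ι → F) → F) (G : Subgroup (GL ι F)) : Prop :=
  ∃ (e : ι ≃ Fin 2 × Fin 6) (P : GL ι F) (f₁ : (Fin 2 → F) → (Fin 2 → F) → F) (f₂ : (Fin 6 → F) → (Fin 6 → F) → F),
    IsSymplecticForm f₁ ∧ IsSymplecticForm f₂ ∧ IsTensorFormStructure id (QuadraticMap.polar Q) f₁ f₂ e P ∧
    (∀ (x₁ : Fin 2 → F) (x₂ : Fin 6 → F),
      Q ((P : Matrix ι ι F) *ᵥ ((fun a : Fin 2 × Fin 6 => x₁ a.1 * x₂ a.2) ∘ e)) = 0) ∧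
    G ≤ tensorProductSubgroup 2 6 e P

/-- The outcomes for groups of isometries in dimension twelve, before separating the two types. -/
def TwelveOutcome (Q : (ι → F) → F) (G : Subgroup (GL ι F)) : Prop :=
  (∃ W : Submodule F (ι → F), W ≠ ⊥ ∧ IsTotallySingularQuad Q W ∧ G ≤ subspaceStabilizer W) ∨
  (Odd (Fintype.card F) ∧ ∃ W : Submodule F (ι → F), W ≠ ⊥ ∧ W ≠ ⊤ ∧ Odd (Module.finrank F W) ∧
    IsNondegenerateOn (QuadraticMap.polar Q) W ∧ G ≤ subspaceStabilizer W) ∨
  (∃ W : Submodule F (ι → F), Module.finrank F W = 2 ∧ IsNondegenerateOn (QuadraticMap.polar Q) W ∧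
    ¬ IsPlusTypeOn Q W ∧ G ≤ subspaceStabilizer W) ∨
  (4 ≤ Fintype.card F ∧ ∃ W : Submodule F (ι → F), Module.finrank F W = 2 ∧
    IsNondegenerateOn (QuadraticMap.polar Q) W ∧ IsPlusTypeOn Q W ∧ G ≤ subspaceStabilizer W) ∨
  (∃ W : Submodule F (ι → F), Module.finrank F W = 4 ∧ IsNondegenerateOn (QuadraticMap.polar Q) W ∧
    G ≤ subspaceStabilizer W) ∨
  (∃ W : Submodule F (ι → F), Module.finrank F W = 6 ∧ IsNondegenerateOn (QuadraticMap.polar Q) W ∧
    G ≤ subspaceStabilizer W) ∨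
  (¬ Odd (Fintype.card F) ∧ ∃ v : ι → F, Q v ≠ 0 ∧ G ≤ subspaceStabilizer (Submodule.span F {v})) ∨
  (Odd (Fintype.card F) ∧ (Fintype.card F).Prime ∧ ∃ D : Fin 12 → Submodule F (ι → F),
    IsOrthogonalMDecomposition Q 1 D ∧ G ≤ decompositionStabilizer D) ∨
  (∃ D : Fin 6 → Submodule F (ι → F), IsOrthogonalMDecomposition Q 2 D ∧ G ≤ decompositionStabilizer D) ∨
  (Odd (Fintype.card F) ∧ ∃ D : Fin 4 → Submodule F (ι → F),
    IsOrthogonalMDecomposition Q 3 D ∧ G ≤ decompositionStabilizer D) ∨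
  (∃ D : Fin 3 → Submodule F (ι → F), IsOrthogonalMDecomposition Q 4 D ∧ G ≤ decompositionStabilizer D) ∨
  (∃ D : Fin 2 → Submodule F (ι → F), IsOrthogonalMDecomposition Q 6 D ∧ G ≤ decompositionStabilizer D) ∨
  (∃ D : Fin 2 → Submodule F (ι → F), IsMDecomposition 6 D ∧ (∀ i, IsTotallySingularQuad Q (D i)) ∧
    G ≤ decompositionStabilizer D) ∨
  (∃ K : Subalgebra F (Matrix ι ι F), IsFieldSubalgebra 2 K ∧ G ≤ subalgebraNormalizer K) ∨
  (∃ K : Subalgebra F (Matrix ι ι F), IsFieldSubalgebra 3 K ∧ G ≤ subalgebraNormalizer K) ∨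
  HasSymplecticPair Q G ∨
  (Odd (Fintype.card F) ∧ ∃ (e : ι ≃ Fin 3 × Fin 4) (P : GL ι F) (B : Matrix (Fin 3) (Fin 3) F)
    (C : Matrix (Fin 4) (Fin 4) F), Bᵀ = B ∧ Cᵀ = C ∧
      IsTensorGram (RingEquiv.refl F) (QuadraticMap.polar Q) G e P B C) ∨
  (∃ (F₀ : Subfield F) (r : ℕ) (P : GL ι F) (ζ : F), r.Prime ∧ Fintype.card F = Nat.card F₀ ^ r ∧ ζ ≠ 0 ∧
    IsQuadFormRationalStructure (fun v => ζ * Q v) F₀ P ∧ G ≤ subfieldSubgroup F₀ P) ∨
  InOrthogonalResidualClass G

/-- A non-degenerate invariant subspace of dimension at most six. -/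
theorem twelve_nondeg (hQ : IsNondegenerateQuadraticForm Q) (h12 : Fintype.card ι = 12) {G : Subgroup (GL ι F)}
    (hfixQ : ∀ g ∈ G, ∀ v, Q ((g : Matrix ι ι F) *ᵥ v) = Q v) {W : Submodule F (ι → F)} (h0 : W ≠ ⊥) (h1 : W ≠ ⊤)
    (hle : 2 * Module.finrank F W ≤ Fintype.card ι) (hW : IsNondegenerateOn (QuadraticMap.polar Q) W)
    (hG : G ≤ subspaceStabilizer W) : TwelveOutcome Q G := by
  have hpos : 0 < Module.finrank F W := Nat.pos_of_ne_zero fun h => h0 (Submodule.finrank_eq_zero.mp h)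
  by_cases hodd : Odd (Module.finrank F W)
  · have hq : Odd (Fintype.card F) := by
      refine odd_card_iff_two_ne_zero.mpr fun h2 => ?_
      have hs := isSymplectic_polar h2 hQ
      exact (Nat.not_even_iff_odd.mpr hodd) (even_finrank_of_alternating hs.bilinear (fun v => hs.alternating v) W hW)
    exact Or.inr (Or.inl ⟨hq, W, h0, h1, hodd, hW, hG⟩)
  by_cases h2 : Module.finrank F W = 2
  · by_cases hp : IsPlusTypeOn Q W
    swap
    · exact Or.inr (Or.inr (Or.inl ⟨W, h2, hW, hp, hG⟩))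
    by_cases h4 : 4 ≤ Fintype.card F
    · exact Or.inr (Or.inr (Or.inr (Or.inl ⟨h4, W, h2, hW, hp, hG⟩)))
    have hq := Fintype.one_lt_card (α := F)
    rcases (show Fintype.card F = 2 ∨ Fintype.card F = 3 by omega) with h | h
    · obtain ⟨v, hv, hvs⟩ := plus_plane_vector hQ hfixQ h hW h2 hp hG
      exact Or.inr (Or.inr (Or.inr (Or.inr (Or.inr (Or.inr (Or.inl ⟨by rw [h]; decide, v, hv, hvs⟩))))))
    · have h2' : (2 : F) ≠ 0 := odd_card_iff_two_ne_zero.mp (by rw [h]; decide)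
      obtain ⟨v, hv, hvn, hvs⟩ := plus_plane_line hQ hfixQ h2' hW hG ⟨h, h2, hp⟩
      refine Or.inr (Or.inl ⟨by rw [h]; decide, _, fun h' => hv (Submodule.span_singleton_eq_bot.mp h'), fun h' => ?_,
        by rw [finrank_span_singleton hv]; decide, hvn, hvs⟩)
      have := congrArg (fun S : Submodule F (ι → F) => Module.finrank F S) h'
      simp only [finrank_span_singleton hv, finrank_top, Module.finrank_fintype_fun_eq_card, h12] at this
      omega
  rw [h12] at hle
  rw [Nat.not_odd_iff_even, Nat.even_iff] at hodd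
  rcases (show Module.finrank F W = 4 ∨ Module.finrank F W = 6 by omega) with h | h
  · exact Or.inr (Or.inr (Or.inr (Or.inr (Or.inl ⟨W, h, hW, hG⟩))))
  · exact Or.inr (Or.inr (Or.inr (Or.inr (Or.inr (Or.inl ⟨W, h, hW, hG⟩)))))

/-- In plus type an invariant non-degenerate half gives an isometric decomposition. -/
theorem six_to_decomposition (hQ : IsNondegenerateQuadraticForm Q) (h12 : Fintype.card ι = 12)
    (hplus : IsPlusTypeOn Q ⊤) {G : Subgroup (GL ι F)}
    (hfixQ : ∀ g ∈ G, ∀ v, Q ((g : Matrix ι ι F) *ᵥ v) = Q v) {W : Submodule F (ι → F)}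
    (h6 : Module.finrank F W = 6) (hW : IsNondegenerateOn (QuadraticMap.polar Q) W) (hG : G ≤ subspaceStabilizer W) :
    ∃ D : Fin 2 → Submodule F (ι → F), IsOrthogonalMDecomposition Q 6 D ∧ G ≤ decompositionStabilizer D := by
  classical
  have hR : IsRefl (RingEquiv.refl F) (1 : F) (QuadraticMap.polar Q) :=
    isRefl_of_symmetric ⟨hQ.polar_bilinear, polar_symm Q, hQ.nondegenerate⟩
  obtain ⟨hPn, hsum⟩ := (isHerm_polar hQ).perp_nondegenerate hW
  set P := (isHerm_polar hQ).perp W with hP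
  have hPW : ∀ u ∈ P, ∀ v ∈ W, QuadraticMap.polar Q u v = 0 := fun u hu v hv => hu v hv
  have hP6 : Module.finrank F P = 6 := by rw [h12] at hsum; omega
  have hinf : W ⊓ P = ⊥ := by
    rw [Submodule.eq_bot_iff]
    rintro x ⟨hx, hxP⟩
    by_contra hx0
    obtain ⟨-, y, hy, hxy⟩ := hW x hx hx0
    exact hxy (hPW x hxP y hy)
  have htop : W ⊔ P = ⊤ := by
    have h := Submodule.finrank_sup_add_finrank_inf_eq W P
    rw [hinf, finrank_bot] at h
    exact Submodule.eq_top_of_finrank_eq (by rw [Module.finrank_fintype_fun_eq_card, h12]; omega)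
  have htype : IsPlusTypeOn Q W ↔ IsPlusTypeOn Q P := by
    constructor
    · rintro ⟨T, hTW, hT, hTd⟩
      exact member_plus hQ hplus hT hPn (fun x hx y hy => (polar_symm Q _ _).trans (hPW y hy x (hTW hx))) (by omega)
    · rintro ⟨T, hTP, hT, hTd⟩
      exact member_plus hQ hplus hT hW (fun x hx y hy => hPW x (hTP hx) y hy) (by omega)
  have hiso := isometric_of_type hQ (k := 2) hW hPn h6 hP6 htype
  have hiso' := isometric_of_type hQ (k := 2) hPn hW hP6 h6 htype.symm
  refine ⟨![W, P], ⟨⟨⟨le_rfl, by omega, fun i => ?_, ?_, ?_⟩, fun i => ?_, fun i j hij => ?_⟩, fun i j => ?_⟩, ?_⟩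
  · fin_cases i
    exacts [h6, hP6]
  · rw [iSupIndep_pair (show (0 : Fin 2) ≠ 1 by decide) (fun i => by fin_cases i <;> simp)]
    exact disjoint_iff.mpr hinf
  · rw [← top_le_iff, ← htop]
    exact sup_le (le_iSup ![W, P] 0) (le_iSup ![W, P] 1)
  · fin_cases i
    exacts [hW, hPn]
  · fin_cases i <;> fin_cases j
    · exact absurd rfl hij
    · exact fun u hu v hv => (polar_symm Q _ _).trans (hPW v hv u hu)
    · exact fun u hu v hv => hPW u hu v hv
    · exact absurd rfl hij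
  · fin_cases i <;> fin_cases j
    · exact ⟨LinearEquiv.refl F _, fun w => rfl⟩
    · exact hiso
    · exact hiso'
    · exact ⟨LinearEquiv.refl F _, fun w => rfl⟩
  · intro g hg
    refine ⟨1, fun i => ?_⟩
    fin_cases i
    · exact map_eq_of_stable hG hg
    · exact map_eq_of_stable ((isHerm_polar hQ).perp_stable (fixes_polar hfixQ) hG) hg

/-- Two skew factors in odd characteristic give a symplectic pair. -/
theorem pair_of_skew (hQ : IsNondegenerateQuadraticForm Q) (h2 : (2 : F) ≠ 0) {G : Subgroup (GL ι F)}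
    {e : ι ≃ Fin 2 × Fin 6} {P : GL ι F} {B : Matrix (Fin 2) (Fin 2) F} {C : Matrix (Fin 6) (Fin 6) F}
    (hT : IsTensorGram (RingEquiv.refl F) (QuadraticMap.polar Q) G e P B C) (hB : Bᵀ = -B) (hC : Cᵀ = -C) :
    HasSymplecticPair Q G := by
  have hs := isSesq_of_bilinear hQ.polar_bilinear
  have h₁ := isSymplecticForm_formOf hT.unit_left hB (self_eq_zero_of_skew h2 hB)
  have h₂ := isSymplecticForm_formOf hT.unit_right hC (self_eq_zero_of_skew h2 hC)
  refine ⟨e, P, _, _, h₁, h₂, hT.structure_eq hs, fun x y => ?_, hT.le_tensorProductSubgroup⟩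
  obtain ⟨c, -, hc⟩ := hT.structure_eq hs
  have h := tensor_form_pure (σ := RingEquiv.refl F) (isSesq_of_bilinear h₁.bilinear)
    (isSesq_of_bilinear h₂.bilinear) hc x x y y
  rw [h₁.alternating, zero_mul, mul_zero, polar_self_eq hQ] at h
  exact (mul_eq_zero.mp h).resolve_left h2

/-- A symplectic pair forces plus type. -/
theorem plus_of_pair_twelve (hQ : IsNondegenerateQuadraticForm Q) (h12 : Fintype.card ι = 12)
    {G : Subgroup (GL ι F)} (h : HasSymplecticPair Q G) : IsPlusTypeOn Q ⊤ := by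
  classical
  obtain ⟨e, P, f₁, f₂, -, -, -, hpure, -⟩ := h
  let L : (Fin 6 → F) →ₗ[F] (ι → F) :=
    { toFun := fun y => (P : Matrix ι ι F) *ᵥ ((fun p => (Pi.single 0 1 : Fin 2 → F) p.1 * y p.2) ∘ e)
      map_add' := fun y y' => by rw [← mulVec_add]; congr 1; funext l; simp [mul_add]
      map_smul' := fun c y => by rw [RingHom.id_apply, ← mulVec_smul]; congr 1; funext l; simp [mul_left_comm] }
  obtain ⟨T, hTs, hTd⟩ := ts_of_linear L (fun y y' hy => by
    funext l
    simp only [L, LinearMap.coe_mk, AddHom.coe_mk] at hy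
    have := congrFun (mulVec_injective_GL P hy) (e.symm (0, l))
    simpa using this) (fun y => hpure _ y)
  exact plus_of_ts hTs (by rw [hTd, h12])

/-- Groups of isometries of a quadratic form in dimension twelve. -/
theorem twelve_structure (hQ : IsNondegenerateQuadraticForm Q) (h12 : Fintype.card ι = 12) {G : Subgroup (GL ι F)}
    (hfixQ : ∀ g ∈ G, ∀ v, Q ((g : Matrix ι ι F) *ᵥ v) = Q v) : TwelveOutcome Q G := by
  classical
  have : Nonempty ι := Fintype.card_pos_iff.mp (by omega)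
  have hfix := fixes_polar hfixQ
  by_cases hirr : ActsIrreducibly (matrixSet G)
  swap
  · rcases reducible hQ hfix hirr with ⟨W, h0, hW, hG⟩ | ⟨W, h0, h1, hle, hW, hG⟩
    · rcases singular_or_vector hQ hfixQ h0 hW hG with h | h
      · exact Or.inl h
      · exact Or.inr (Or.inr (Or.inr (Or.inr (Or.inr (Or.inr (Or.inl h))))))
    · exact twelve_nondeg hQ h12 hfixQ h0 h1 hle hW hG
  have hR : IsRefl (RingEquiv.refl F) (1 : F) (QuadraticMap.polar Q) :=
    isRefl_of_symmetric ⟨hQ.polar_bilinear, polar_symm Q, hQ.nondegenerate⟩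
  have hoddm : ∀ {t m : ℕ} {D : Fin t → Submodule F (ι → F)},
      IsNondegenerateMDecomposition (QuadraticMap.polar Q) m D → Odd m → Odd (Fintype.card F) := fun {t m D} hD hm => by
    refine odd_card_iff_two_ne_zero.mpr fun h2 => ?_
    have hs := isSymplectic_polar h2 hQ
    let i0 : Fin t := ⟨0, by have := hD.decomp.two_le; omega⟩
    have h := even_finrank_of_alternating hs.bilinear (fun v => hs.alternating v) (D i0) (hD.nondegenerate i0)
    rw [hD.decomp.finrank_eq] at h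
    exact (Nat.not_even_iff_odd.mpr hm) h
  have hsubf : ∀ {F₁ : Subfield F} {r : ℕ} {P : GL ι F} {ζ : F}, r.Prime → Fintype.card F = Nat.card F₁ ^ r → ζ ≠ 0 →
      IsQuadFormRationalStructure (fun v => ζ * Q v) F₁ P → G ≤ subfieldSubgroup F₁ P → TwelveOutcome Q G :=
    fun {F₁ r P ζ} hr hc hζ hP hG => Or.inr (Or.inr (Or.inr (Or.inr (Or.inr (Or.inr (Or.inr (Or.inr (Or.inr (Or.inr
      (Or.inr (Or.inr (Or.inr (Or.inr (Or.inr (Or.inr (Or.inr (Or.inl ⟨F₁, r, P, ζ, hr, hc, hζ, hP, hG⟩)))))))))))))))))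
  have hdec : HasFormDecomposition (QuadraticMap.polar Q) G → TwelveOutcome Q G := by
    rintro (⟨t, m, D, hD, hG⟩ | ⟨m, D, hm, hD, hts, hG⟩)
    · have htm := decomposition_card hD.decomp
      rw [h12] at htm
      have ht := hD.decomp.two_le
      have hiso := isometric_of_transitive hfixQ hirr hD hG
      have hm6 : m ≤ 6 := by nlinarith
      rcases (show (m = 1 ∧ t = 12) ∨ (m = 2 ∧ t = 6) ∨ (m = 3 ∧ t = 4) ∨ (m = 4 ∧ t = 3) ∨ (m = 6 ∧ t = 2) by
        interval_cases m <;> omega) with ⟨rfl, rfl⟩ | ⟨rfl, rfl⟩ | ⟨rfl, rfl⟩ | ⟨rfl, rfl⟩ | ⟨rfl, rfl⟩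
      · by_cases hp : (Fintype.card F).Prime
        · exact Or.inr (Or.inr (Or.inr (Or.inr (Or.inr (Or.inr (Or.inr (Or.inl
            ⟨hoddm hD odd_one, hp, D, hiso, hG⟩)))))))
        · obtain ⟨F₁, r, P, ζ, hr, hc, hζ, hP, hG'⟩ := frame_rational hQ hp hiso hfixQ hG
          exact hsubf hr hc hζ hP hG'
      · exact Or.inr (Or.inr (Or.inr (Or.inr (Or.inr (Or.inr (Or.inr (Or.inr (Or.inl ⟨D, hiso, hG⟩))))))))
      · exact Or.inr (Or.inr (Or.inr (Or.inr (Or.inr (Or.inr (Or.inr (Or.inr (Or.inr (Or.inl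
          ⟨hoddm hD (by decide), D, hiso, hG⟩)))))))))
      · exact Or.inr (Or.inr (Or.inr (Or.inr (Or.inr (Or.inr (Or.inr (Or.inr (Or.inr (Or.inr (Or.inl
          ⟨D, hiso, hG⟩))))))))))
      · exact Or.inr (Or.inr (Or.inr (Or.inr (Or.inr (Or.inr (Or.inr (Or.inr (Or.inr (Or.inr (Or.inr (Or.inl
          ⟨D, hiso, hG⟩)))))))))))
    · obtain rfl : m = 6 := by omega
      have hs0 := halves_singular hQ hfixQ hirr (by omega) hD hts hG
      set D' : Fin 2 → Submodule F (ι → F) := fun i => D (Equiv.swap 0 1 i)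
      have hD' : IsMDecomposition 6 D' := ⟨hD.two_le, hD.pos, fun i => hD.finrank_eq _,
        hD.indep.comp (Equiv.injective _), by rw [← hD.iSup_eq_top]; exact (Equiv.swap 0 1).iSup_comp (g := D)⟩
      have hs1 : IsTotallySingularQuad Q (D 1) := by
        have h := halves_singular hQ hfixQ hirr (by omega) hD' (fun i => hts _) (fun g hg => by
          obtain ⟨π, hπ⟩ := hG hg
          exact ⟨((Equiv.swap 0 1).trans π).trans (Equiv.swap 0 1), fun i => by simp [D', hπ]⟩)
        simpa [D'] using h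
      exact Or.inr (Or.inr (Or.inr (Or.inr (Or.inr (Or.inr (Or.inr (Or.inr (Or.inr (Or.inr (Or.inr (Or.inr (Or.inl
        ⟨D, hD, Fin.forall_fin_two.mpr ⟨hs0, hs1⟩, hG⟩))))))))))))
  have hfield : HasFormField hR G → TwelveOutcome Q G := by
    rintro ⟨r, K, hK, hK0, hst, hadj⟩
    rcases hR.bilinear_field rfl hfix hK hK0 hst hadj with ⟨s, L, hs, hL, -, hG⟩ | ⟨rfl, -⟩
    · have hd := fieldSubalgebra_dvd hL
      rw [h12, show (12 : ℕ) = 2 ^ 2 * 3 from rfl] at hd
      rcases (Nat.Prime.dvd_mul hs).mp hd with h | h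
      · obtain rfl := (Nat.prime_dvd_prime_iff_eq hs Nat.prime_two).mp (hs.dvd_of_dvd_pow h)
        exact Or.inr (Or.inr (Or.inr (Or.inr (Or.inr (Or.inr (Or.inr (Or.inr (Or.inr (Or.inr (Or.inr (Or.inr (Or.inr
          (Or.inl ⟨L, hL, hG⟩)))))))))))))
      · obtain rfl := (Nat.prime_dvd_prime_iff_eq hs Nat.prime_three).mp h
        exact Or.inr (Or.inr (Or.inr (Or.inr (Or.inr (Or.inr (Or.inr (Or.inr (Or.inr (Or.inr (Or.inr (Or.inr (Or.inr
          (Or.inr (Or.inl ⟨L, hL, hG⟩))))))))))))))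
    · exact Or.inr (Or.inr (Or.inr (Or.inr (Or.inr (Or.inr (Or.inr (Or.inr (Or.inr (Or.inr (Or.inr (Or.inr (Or.inr
        (Or.inl ⟨K, hK, le_subalgebraNormalizer hst⟩)))))))))))))
  have hsub : ∀ (N : Subgroup (GL ι F)), NormSub G N → ActsAbsolutelyIrreducibly (matrixSet N) →
      ∀ F₀ : Subfield F, F₀ ≠ ⊤ → RealisableOver F₀ (matrixSet N) → TwelveOutcome Q G := by
    intro N hN habs F₀ h0 hre
    obtain ⟨F₁, r, P, ζ, hr, hc, hζ, hP, hG⟩ := exists_quadRational_scaled (by omega) hQ hfixQ habs hN h0 hre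
    exact hsubf hr hc hζ hP hG
  rcases irreducible_structure hR (by omega) hfix hirr with h | h | ⟨n₁, n₂, e, P, B, C, hT⟩ |
    ⟨t, d, e, P, B, c, ht, hd, hP, K, hK0, hKp, hKf⟩ | ⟨N, hN, habs, h⟩
  · exact hdec h
  · exact hfield h
  · obtain ⟨a, ha, hB, hC⟩ := hR.tensor_sym hT
    rw [RingEquiv.refl_apply] at ha
    rw [map_refl] at hB hC
    rw [one_smul] at hC
    have hC' : Cᵀ = a • C := by rw [← one_smul F Cᵀ, ← ha, mul_smul, hC]
    have core : ∀ {n n' : ℕ} {e : ι ≃ Fin n × Fin n'} {B : Matrix (Fin n) (Fin n) F}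
        {C : Matrix (Fin n') (Fin n') F}, IsTensorGram (RingEquiv.refl F) (QuadraticMap.polar Q) G e P B C →
        Bᵀ = a • B → Cᵀ = a • C → (n = 2 ∧ n' = 6) ∨ (n = 3 ∧ n' = 4) → TwelveOutcome Q G := by
      intro n n' e B C hT hB hC hnn
      by_cases h2 : (2 : F) = 0
      · have ha1 : a = 1 := by
          have : (a - 1) * (a - 1) = 0 := by linear_combination ha + (1 - a) * h2
          exact sub_eq_zero.mp (mul_self_eq_zero.mp this)
        rw [ha1, one_smul] at hB hC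
        have hdB := factor_alternating h2 hQ hfixQ hirr hT.swap hB
        have hdC := factor_alternating h2 hQ hfixQ hirr hT hC
        have hneg : ∀ {k : ℕ} (M : Matrix (Fin k) (Fin k) F), -M = M := fun M => by
          ext i j
          show -(M i j) = M i j
          linear_combination (-(M i j)) * h2
        have hsB := isSymplecticForm_formOf hT.unit_left (by rw [hB, hneg]) (alt_of_diag h2 hB hdB)
        rcases hnn with ⟨rfl, rfl⟩ | ⟨rfl, rfl⟩
        · exact Or.inr (Or.inr (Or.inr (Or.inr (Or.inr (Or.inr (Or.inr (Or.inr (Or.inr (Or.inr (Or.inr (Or.inr (Or.inr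
            (Or.inr (Or.inr (Or.inl ⟨e, P, _, _, hsB,
              isSymplecticForm_formOf hT.unit_right (by rw [hC, hneg]) (alt_of_diag h2 hC hdC),
              hT.structure_eq hR.sesq, tensor_pure_singular h2 hQ hfixQ hirr hT hB hC hdB,
              hT.le_tensorProductSubgroup⟩)))))))))))))))
        · exact (not_symplectic_of_odd (by rw [Fintype.card_fin]; decide) _ hsB).elim
      rcases mul_self_eq_one_iff.mp ha with h1 | h1
      · rw [h1, one_smul] at hB hC
        rcases hnn with ⟨rfl, rfl⟩ | ⟨rfl, rfl⟩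
        · obtain ⟨R, hcomm, hst, hadj, hR0⟩ := two_algebra_refl hR h2 hfix hT.swap hB
          rcases hR.commutative_cases' hfix hirr hcomm hst hadj hR0 with h | h
          · exact hdec h
          · exact hfield h
        · exact Or.inr (Or.inr (Or.inr (Or.inr (Or.inr (Or.inr (Or.inr (Or.inr (Or.inr (Or.inr (Or.inr (Or.inr (Or.inr
            (Or.inr (Or.inr (Or.inr (Or.inl ⟨odd_card_iff_two_ne_zero.mpr h2, e, P, B, C, hB, hC, hT⟩))))))))))))))))
      · rw [h1, neg_one_smul] at hB hC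
        rcases hnn with ⟨rfl, rfl⟩ | ⟨rfl, rfl⟩
        · exact Or.inr (Or.inr (Or.inr (Or.inr (Or.inr (Or.inr (Or.inr (Or.inr (Or.inr (Or.inr (Or.inr (Or.inr (Or.inr
            (Or.inr (Or.inr (Or.inl (pair_of_skew hQ h2 hT hB hC))))))))))))))))
        · exact (not_symplectic_of_odd (by rw [Fintype.card_fin]; decide) _
            (isSymplecticForm_formOf hT.unit_left hB (self_eq_zero_of_skew h2 hB))).elim
    have hcard := hT.card_eq
    have := hT.two_le_left
    have := hT.two_le_right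
    rw [h12] at hcard
    have h6 : n₁ ≤ 6 := by nlinarith
    rcases (show ((n₁ = 2 ∧ n₂ = 6) ∨ (n₁ = 3 ∧ n₂ = 4)) ∨ ((n₂ = 2 ∧ n₁ = 6) ∨ (n₂ = 3 ∧ n₁ = 4)) by
      interval_cases n₁ <;> omega) with h | h
    · exact core hT hB hC' h
    · exact core hT.swap hC' hB h
  · exfalso
    have hcard : d ^ t = 12 := by
      rw [← h12, Fintype.card_congr e, Fintype.card_fun, Fintype.card_fin, Fintype.card_fin]
    have ht3 : t ≤ 3 := by
      by_contra h
      have h1 : 2 ^ 4 ≤ d ^ t :=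
        le_trans (Nat.pow_le_pow_left hd 4) (Nat.pow_le_pow_right (by omega) (by omega))
      omega
    have hd3 : d ≤ 3 := by
      by_contra h
      have h1 : 4 ^ 2 ≤ d ^ t :=
        le_trans (Nat.pow_le_pow_left (show 4 ≤ d by omega) 2) (Nat.pow_le_pow_right (by omega) ht)
      omega
    interval_cases t <;> interval_cases d <;> omega
  rcases h with ⟨F₀, h0, hre⟩ | ⟨-, ⟨m, hm⟩, -⟩ | hcore
  · exact hsub N hN habs F₀ h0 hre
  · exfalso
    rw [h12] at hm
    rcases le_or_gt m 3 with h | h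
    · interval_cases m <;> omega
    · have := Nat.pow_le_pow_right (show 1 ≤ 2 by omega) (show 4 ≤ m by omega)
      omega
  by_cases hU : ∃ (σ : F ≃+* F) (g : (ι → F) → (ι → F) → F), IsUnitaryForm σ g ∧ FixesForm (matrixSet N) g
  · obtain ⟨σ, g, hg, hgfix⟩ := hU
    exact hsub N hN habs (fixSubfield σ) (fixSubfield_ne_top hg.ne_refl)
      (realisable_of_two_forms habs hg hgfix hQ.polar_bilinear hQ.nondegenerate
        (forall_matrixSet.mpr fun g hg => forall_matrixSet.mp hfix g (hN.1 hg)))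
  exact Or.inr (Or.inr (Or.inr (Or.inr (Or.inr (Or.inr (Or.inr (Or.inr (Or.inr (Or.inr (Or.inr (Or.inr (Or.inr
    (Or.inr (Or.inr (Or.inr (Or.inr (Or.inr ⟨N, hcore, hU⟩)))))))))))))))))

end OE

end CfsgLib.Aschbacher
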