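import Cfsg.Agent.Aschbacher.Form.PlusSquare
import Cfsg.Agent.Geo.Basic

/-!
A tensor decomposition with an orthogonal factor of plus type in dimension four refines to a tensor cube.
-/
set_option autoImplicit false

namespace CfsgLib.Aschbacher

open Matrix Cfsg.Geo CfsgLib.GeoClifford
open scoped MatrixGroups Kronecker

variable {F : Type*} [Field F]

/-- Pairs of bits as numbers below four. -/
def fin4 : Fin 2 × Fin 2 ≃ Fin 4 := finProdFinEquiv

/-- A hyperbolic basis of a symmetric form of plus type in dimension four. -/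
lemma exists_plus_coords (h2 : (2 : F) ≠ 0) {f₂ : (Fin 4 → F) → (Fin 4 → F) → F} (hf₂ : IsSymmetricForm f₂)
    (hplus : IsPlusTypeOn (fun v : Fin 4 → F => f₂ v v) ⊤) :
    ∃ X : GL (Fin 4) F, ∀ u v : Fin 4 → F,
      f₂ ((X : Matrix (Fin 4) (Fin 4) F) *ᵥ u) ((X : Matrix (Fin 4) (Fin 4) F) *ᵥ v) =
        PlusSquare.beta (u ∘ fin4) (v ∘ fin4) := by
  classical
  have hb := hf₂.bilinear
  have hs := hf₂.symm
  obtain ⟨U, -, hU, hdim⟩ := hplus
  rw [finrank_top, Module.finrank_fintype_fun_eq_card, Fintype.card_fin] at hdim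
  have hUU : ∀ a ∈ U, ∀ b ∈ U, f₂ a b = 0 := fun a ha b hb' => by
    have h1 : f₂ (a + b) (a + b) = 0 := hU _ (U.add_mem ha hb')
    rw [hb.add_left, hb.add_right, hb.add_right, show f₂ a a = 0 from hU a ha, show f₂ b b = 0 from hU b hb', hs b a] at h1
    have : (2 : F) * f₂ a b = 0 := by linear_combination h1
    exact (mul_eq_zero.mp this).resolve_left h2
  let bU := Module.finBasisOfFinrankEq F U (show Module.finrank F U = 2 by omega)
  set u1 : Fin 4 → F := (bU 0 : Fin 4 → F)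
  set u2 : Fin 4 → F := (bU 1 : Fin 4 → F)
  have hli : LinearIndependent F ![u1, u2] := by
    have h := bU.linearIndependent.map' U.subtype U.ker_subtype
    rwa [show U.subtype ∘ bU = ![u1, u2] from funext fun i => by fin_cases i <;> rfl] at h
  have hnot1 : u1 ∉ Submodule.span F {u2} := fun h => by
    obtain ⟨t, ht⟩ := Submodule.mem_span_singleton.mp h
    exact one_ne_zero (LinearIndependent.pair_iff.mp hli 1 (-t) (by rw [one_smul, neg_smul, ht, add_neg_cancel])).1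
  have hnot2 : u2 ∉ Submodule.span F {u1} := fun h => by
    obtain ⟨t, ht⟩ := Submodule.mem_span_singleton.mp h
    exact one_ne_zero (LinearIndependent.pair_iff.mp hli (-t) 1 (by rw [one_smul, neg_smul, ht, neg_add_cancel])).2
  obtain ⟨Gi, hGi⟩ := gram_isUnit (isSesq_of_bilinear hb) hf₂.nondegenerate
  have hsolve : ∀ φ : Fin 4 → F, ∃ v, ∀ w, f₂ w v = φ ⬝ᵥ w := fun φ => by
    refine ⟨((Gi⁻¹ : GL (Fin 4) F) : Matrix (Fin 4) (Fin 4) F) *ᵥ φ, fun w => ?_⟩
    rw [(isSesq_of_bilinear hb).eq_gram, show (RingEquiv.refl F) ∘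
      (((Gi⁻¹ : GL (Fin 4) F) : Matrix (Fin 4) (Fin 4) F) *ᵥ φ) = ((Gi⁻¹ : GL (Fin 4) F) : Matrix (Fin 4) (Fin 4) F) *ᵥ φ from rfl,
      ← hGi, CfsgLib.Geo.mulVec_inv_mulVec, dotProduct_comm]
  obtain ⟨φ1, hφ1, hφ1'⟩ := CfsgLib.Geo.exists_covector _ hnot1
  obtain ⟨φ2, hφ2, hφ2'⟩ := CfsgLib.Geo.exists_covector _ hnot2
  obtain ⟨w1, hw1⟩ := hsolve φ1
  obtain ⟨w2, hw2⟩ := hsolve φ2
  have a11 : f₂ u1 w1 = 1 := by rw [hw1, hφ1']
  have a21 : f₂ u2 w1 = 0 := by rw [hw1, hφ1 _ (Submodule.mem_span_singleton_self _)]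
  have a12 : f₂ u1 w2 = 0 := by rw [hw2, hφ2 _ (Submodule.mem_span_singleton_self _)]
  have a22 : f₂ u2 w2 = 1 := by rw [hw2, hφ2']
  have hm1 : u1 ∈ U := (bU 0).2
  have hm2 : u2 ∈ U := (bU 1).2
  have b11 := hUU u1 hm1 u1 hm1
  have b22 := hUU u2 hm2 u2 hm2
  have b12 := hUU u1 hm1 u2 hm2
  set v1 := w1 + (-(f₂ w1 w1 / 2)) • u1 with hv1
  set v2 := w2 + (-(f₂ w2 v1)) • u1 + (-(f₂ w2 w2 / 2)) • u2 with hv2
  have c11 : f₂ u1 v1 = 1 := by rw [hv1, hb.add_right, hb.smul_right, a11, b11]; ring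
  have c21 : f₂ u2 v1 = 0 := by rw [hv1, hb.add_right, hb.smul_right, a21, hs u2 u1, b12]; ring
  have c12 : f₂ u1 v2 = 0 := by
    rw [hv2, hb.add_right, hb.add_right, hb.smul_right, hb.smul_right, a12, b11, b12]; ring
  have c22 : f₂ u2 v2 = 1 := by
    rw [hv2, hb.add_right, hb.add_right, hb.smul_right, hb.smul_right, a22, hs u2 u1, b12, b22]; ring
  have d11 : f₂ v1 v1 = 0 := by
    rw [hv1, hb.add_left, hb.add_right, hb.add_right, hb.smul_left, hb.smul_left, hb.smul_right, hb.smul_right,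
      hs w1 u1, a11, b11]
    field_simp
    ring
  have d21 : f₂ v2 v1 = 0 := by
    rw [hv2, hb.add_left, hb.add_left, hb.smul_left, hb.smul_left, c11, c21]; ring
  have d22 : f₂ v2 v2 = 0 := by
    rw [hv2]
    simp only [hb.add_left, hb.add_right, hb.smul_left, hb.smul_right, hs w2 u1, a12, hs w2 u2, a22, hs u2 u1, b12, b11,
      b22]
    field_simp
    ring
  let col : Fin 2 × Fin 2 → (Fin 4 → F) := fun z => ![![u1, u2], ![-v2, v1]] z.1 z.2
  let M : Matrix (Fin 4) (Fin 4) F := Matrix.of fun k j => col (fin4.symm j) k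
  have hM : ∀ u, M *ᵥ u = u (fin4 (0, 0)) • u1 + u (fin4 (0, 1)) • u2 +
      (u (fin4 (1, 0)) • (-v2) + u (fin4 (1, 1)) • v1) := by
    intro u
    funext k
    have e : (M *ᵥ u) k = ∑ z : Fin 2 × Fin 2, col z k * u (fin4 z) := by
      rw [mulVec, dotProduct]
      exact (Fintype.sum_equiv fin4 (fun z => col z k * u (fin4 z)) (fun j => M k j * u j)
        (fun z => by simp [M])).symm
    rw [e, Fintype.sum_prod_type, Fin.sum_univ_two, Fin.sum_univ_two, Fin.sum_univ_two]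
    simp [col]
    ring
  have hneg : ∀ x y, f₂ x (-y) = -f₂ x y ∧ f₂ (-y) x = -f₂ y x := fun x y => by
    rw [← neg_one_smul F y, hb.smul_right, hb.smul_left]; simp
  have hform : ∀ u v, f₂ (M *ᵥ u) (M *ᵥ v) = PlusSquare.beta (u ∘ fin4) (v ∘ fin4) := by
    intro u v
    rw [hM, hM]
    simp only [hb.add_left, hb.add_right, hb.smul_left, hb.smul_right, (hneg _ _).1, (hneg _ _).2, b11, b12, b22,
      hs u2 u1, c11, c12, c21, c22, hs v1 u1, hs v1 u2, hs v2 u1, hs v2 u2, d11, d22, d21, hs v1 v2, PlusSquare.beta,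
      Function.comp_apply]
    ring
  have hinj : Function.Injective M.mulVec := by
    intro u v huv
    have hzero : ∀ w, PlusSquare.beta ((u - v) ∘ fin4) w = 0 := fun w => by
      have h1 := hform (u - v) (w ∘ fin4.symm)
      rw [mulVec_sub, show M *ᵥ u = M *ᵥ v from huv, sub_self,
        show (0 : Fin 4 → F) = (0 : F) • 0 from (zero_smul _ _).symm, hb.smul_left, zero_mul, Function.comp_assoc,
        Equiv.symm_comp_self, Function.comp_id] at h1
      exact h1.symm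
    funext j
    obtain ⟨⟨i, k⟩, rfl⟩ := fin4.surjective j
    refine sub_eq_zero.mp ?_
    have h00 := hzero (Pi.single (1, 1) 1)
    have h01 := hzero (Pi.single (1, 0) 1)
    have h10 := hzero (Pi.single (0, 1) 1)
    have h11 := hzero (Pi.single (0, 0) 1)
    simp [PlusSquare.beta] at h00 h01 h10 h11
    fin_cases i <;> fin_cases k <;> simp <;> first | linear_combination h00 | linear_combination -h01 | linear_combination -h10 | linear_combination h11
  obtain ⟨X, hX⟩ := Matrix.mulVec_injective_iff_isUnit.mp hinj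
  exact ⟨X, fun u v => by rw [hX]; exact hform u v⟩

/-- The pairs of a slot and a pair of slots as triples of slots. -/
def tripleEquiv : Fin 2 × (Fin 2 × Fin 2) ≃ (Fin 3 → Fin 2) where
  toFun z := ![z.1, z.2.1, z.2.2]
  invFun x := (x 0, x 1, x 2)
  left_inv z := by simp
  right_inv x := by funext i; fin_cases i <;> rfl

variable {ι : Type} [Fintype ι] [DecidableEq ι]

/-- A plus-type tensor decomposition refines to a tensor cube, which is strictly larger. -/
theorem tensor_plus_to_power (h2 : (2 : F) ≠ 0) {f : (ι → F) → (ι → F) → F} (hfb : IsBilinearForm f)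
    {G : Subgroup (GL ι F)} (hfix : FixesForm (matrixSet G) f) {e : ι ≃ Fin 2 × Fin 4} {P : GL ι F}
    {f₁ : (Fin 2 → F) → (Fin 2 → F) → F} {f₂ : (Fin 4 → F) → (Fin 4 → F) → F} (hf₁ : IsSymplecticForm f₁)
    (hf₂ : IsSymmetricForm f₂) (hplus : IsPlusTypeOn (fun v : Fin 4 → F => f₂ v v) ⊤)
    (hT : IsTensorFormStructure id f f₁ f₂ e P) (hG : G ≤ tensorProductSubgroup 2 4 e P) :
    ∃ (e' : ι ≃ (Fin 3 → Fin 2)) (P' : GL ι F), IsTensorPowerFormStructure id f f₁ e' P' ∧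
      G ≤ tensorWreathSubgroup 2 3 e' P' ∧
      ∃ s ∈ tensorWreathSubgroup 2 3 e' P', (∀ u v, f ((s : Matrix ι ι F) *ᵥ u) ((s : Matrix ι ι F) *ᵥ v) = f u v) ∧
        s ∉ tensorProductSubgroup 2 4 e P := by
  classical
  obtain ⟨X, hX⟩ := exists_plus_coords h2 hf₂ hplus
  obtain ⟨c, hc, hT⟩ := hT
  set ε : Fin 4 ≃ Fin 2 × Fin 2 := (fin4 : Fin 2 × Fin 2 ≃ Fin 4).symm with hε
  let e' : ι ≃ (Fin 3 → Fin 2) := e.trans ((Equiv.prodCongr (Equiv.refl _) ε).trans tripleEquiv)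
  have he' : ∀ i, e' i = ![(e i).1, (ε (e i).2).1, (ε (e i).2).2] := fun i => rfl
  let K : GL (Fin 2 × Fin 4) F :=
    ⟨(1 : Matrix (Fin 2) (Fin 2) F) ⊗ₖ (X : Matrix (Fin 4) (Fin 4) F),
      (1 : Matrix (Fin 2) (Fin 2) F) ⊗ₖ ((X⁻¹ : GL (Fin 4) F) : Matrix (Fin 4) (Fin 4) F),
      by rw [← Matrix.mul_kronecker_mul]; simp, by rw [← Matrix.mul_kronecker_mul]; simp⟩
  let Y : GL ι F := glReindex e.symm K
  have hY : (Y : Matrix ι ι F) = ((1 : Matrix (Fin 2) (Fin 2) F) ⊗ₖ (X : Matrix (Fin 4) (Fin 4) F)).submatrix e e := rfl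
  have hY' : ((Y⁻¹ : GL ι F) : Matrix ι ι F) =
      ((1 : Matrix (Fin 2) (Fin 2) F) ⊗ₖ ((X⁻¹ : GL (Fin 4) F) : Matrix (Fin 4) (Fin 4) F)).submatrix e e := rfl
  set P' := P * Y with hP'
  -- the form
  set a : F := f₁ (Pi.single 0 1) (Pi.single 1 1) with hadef
  have hg1 : ∀ i j, gramMatrix f₁ i j = a * PlusSquare.area (Pi.single i 1) (Pi.single j 1) := by
    intro i j
    fin_cases i <;> fin_cases j <;> simp [gramMatrix, PlusSquare.area, hadef, hf₁.alternating]
    exact hf₁.skew _ _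
  have ha : a ≠ 0 := fun h0 => by
    obtain ⟨-, x, hx⟩ := hf₁.nondegenerate (Pi.single 0 1) (by simp)
    rw [(isSesq_of_bilinear hf₁.bilinear).eq_gram] at hx
    simp [dotProduct, mulVec, Fin.sum_univ_two, hg1, h0] at hx
  have hgram : ∀ z w : Fin 2 × Fin 4, (((1 : Matrix (Fin 2) (Fin 2) F) ⊗ₖ (X : Matrix (Fin 4) (Fin 4) F))ᵀ *
      (gramMatrix f₁ ⊗ₖ gramMatrix f₂) * ((1 : Matrix (Fin 2) (Fin 2) F) ⊗ₖ (X : Matrix (Fin 4) (Fin 4) F))) z w =
      gramMatrix f₁ z.1 w.1 * PlusSquare.beta (Pi.single (ε z.2) 1) (Pi.single (ε w.2) 1) := by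
    intro z w
    rw [← Matrix.kroneckerMap_transpose, transpose_one, ← Matrix.mul_kronecker_mul, ← Matrix.mul_kronecker_mul, one_mul,
      mul_one, kroneckerMap_apply]
    congr 1
    have h := hX (Pi.single z.2 1) (Pi.single w.2 1)
    rw [(isSesq_of_bilinear hf₂.bilinear).eq_gram, show (RingEquiv.refl F) ∘
      ((X : Matrix (Fin 4) (Fin 4) F) *ᵥ Pi.single w.2 1) = (X : Matrix (Fin 4) (Fin 4) F) *ᵥ Pi.single w.2 1 from rfl,
      ← vecMul_transpose, ← dotProduct_mulVec, mulVec_mulVec, mulVec_mulVec, single_one_dotProduct, mulVec_single_one] at h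
    refine h.trans ?_
    congr 1 <;> funext p <;> simp [Pi.single_apply, hε, Equiv.eq_symm_apply]
  have hprod : ∀ z w : Fin 2 × Fin 4, ∏ i, gramMatrix f₁ (![z.1, (ε z.2).1, (ε z.2).2] i) (![w.1, (ε w.2).1, (ε w.2).2] i) =
      a ^ 2 * (gramMatrix f₁ z.1 w.1 * PlusSquare.beta (Pi.single (ε z.2) 1) (Pi.single (ε w.2) 1)) := by
    intro z w
    generalize ε z.2 = p
    generalize ε w.2 = p'
    obtain ⟨i, j⟩ := p
    obtain ⟨i', j'⟩ := p'
    simp only [Fin.prod_univ_three, Matrix.cons_val_zero, Matrix.cons_val_one, Matrix.cons_val, hg1 i i', hg1 j j']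
    fin_cases i <;> fin_cases j <;> fin_cases i' <;> fin_cases j' <;> simp [PlusSquare.area, PlusSquare.beta] <;> ring
  have hform : ∀ x y : (Fin 3 → Fin 2) → F, f ((P' : Matrix ι ι F) *ᵥ (x ∘ e')) ((P' : Matrix ι ι F) *ᵥ (y ∘ e')) =
      c / a ^ 2 * ∑ u, ∑ v, x u * (∏ i, gramMatrix f₁ (u i) (v i)) * id (y v) := by
    intro x y
    let x' : Fin 2 × Fin 4 → F := fun z => x ![z.1, (ε z.2).1, (ε z.2).2]
    let y' : Fin 2 × Fin 4 → F := fun z => y ![z.1, (ε z.2).1, (ε z.2).2]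
    rw [hP', Units.val_mul, ← mulVec_mulVec, ← mulVec_mulVec, show x ∘ e' = x' ∘ e from rfl,
      show y ∘ e' = y' ∘ e from rfl, hY, submatrix_mulVec_equiv, submatrix_mulVec_equiv, Function.comp_assoc,
      Function.comp_assoc, Equiv.self_comp_symm, Function.comp_id, Function.comp_id, hT, formOfGram_eq]
    rw [show id ∘ (((1 : Matrix (Fin 2) (Fin 2) F) ⊗ₖ (X : Matrix (Fin 4) (Fin 4) F)) *ᵥ y') =
      ((1 : Matrix (Fin 2) (Fin 2) F) ⊗ₖ (X : Matrix (Fin 4) (Fin 4) F)) *ᵥ y' from rfl, ← vecMul_transpose,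
      ← dotProduct_mulVec, mulVec_mulVec, mulVec_mulVec]
    simp only [dotProduct, mulVec, hgram, Finset.mul_sum, id]
    let E : Fin 2 × Fin 4 ≃ (Fin 3 → Fin 2) := (Equiv.prodCongr (Equiv.refl _) ε).trans tripleEquiv
    refine Fintype.sum_equiv E _ _ fun z => Fintype.sum_equiv E _ _ fun w => ?_
    show _ = c / a ^ 2 * (x ![z.1, (ε z.2).1, (ε z.2).2] * (∏ i, gramMatrix f₁ (![z.1, (ε z.2).1, (ε z.2).2] i)
      (![w.1, (ε w.2).1, (ε w.2).2] i)) * y ![w.1, (ε w.2).1, (ε w.2).2])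
    rw [hprod]
    field_simp
    simp only [x', y']
    ring
  refine ⟨e', P', ⟨c / a ^ 2, div_ne_zero hc (pow_ne_zero 2 ha), hform⟩, fun g hg => ?_, ?_⟩
  · -- the members lie in the cube
    obtain ⟨_, ⟨Z, ⟨A, B, hAB⟩, rfl⟩, hZg⟩ := hG hg
    set B' := ((X⁻¹ : GL (Fin 4) F) : Matrix (Fin 4) (Fin 4) F) * (B : Matrix (Fin 4) (Fin 4) F) *
      (X : Matrix (Fin 4) (Fin 4) F) with hB'
    have hgP : ((P'⁻¹ : GL ι F) : Matrix ι ι F) * (g : Matrix ι ι F) * (P' : Matrix ι ι F) =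
        ((A : Matrix (Fin 2) (Fin 2) F) ⊗ₖ B').submatrix e e := by
      have h1 : (g : Matrix ι ι F) = (P : Matrix ι ι F) * (Z : Matrix _ _ F).submatrix e e * ((P⁻¹ : GL ι F) : Matrix ι ι F) := by
        rw [← hZg]; rfl
      rw [hP', _root_.mul_inv_rev, Units.val_mul, Units.val_mul, h1]
      calc _ = ((Y⁻¹ : GL ι F) : Matrix ι ι F) * ((((P⁻¹ : GL ι F) : Matrix ι ι F) * P) * (Z : Matrix _ _ F).submatrix e e *
            (((P⁻¹ : GL ι F) : Matrix ι ι F) * P)) * (Y : Matrix ι ι F) := by simp only [mul_assoc]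
        _ = _ := by
          rw [Units.inv_mul, one_mul, mul_one, hY, hY', submatrix_mul_equiv, submatrix_mul_equiv, hAB,
            ← Matrix.mul_kronecker_mul, ← Matrix.mul_kronecker_mul, one_mul, mul_one]
    obtain ⟨μ, hμ, hsim⟩ : ∃ μ : F, μ ≠ 0 ∧ ∀ u v, f₂ ((B : Matrix _ _ F) *ᵥ u) ((B : Matrix _ _ F) *ᵥ v) = μ * f₂ u v := by
      have hpure : ∀ x x' y y', f₁ ((A : Matrix _ _ F) *ᵥ x) ((A : Matrix _ _ F) *ᵥ x') *
          f₂ ((B : Matrix _ _ F) *ᵥ y) ((B : Matrix _ _ F) *ᵥ y') = f₁ x x' * f₂ y y' := by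
        intro x x' y y'
        have hg' : ∀ (p : Fin 2 → F) (q : Fin 4 → F), (g : Matrix ι ι F) *ᵥ ((P : Matrix ι ι F) *ᵥ ((fun z => p z.1 * q z.2) ∘ e)) =
            (P : Matrix ι ι F) *ᵥ ((fun z => ((A : Matrix _ _ F) *ᵥ p) z.1 * ((B : Matrix _ _ F) *ᵥ q) z.2) ∘ e) := by
          intro p q
          have h1 : (g : Matrix ι ι F) = (P : Matrix ι ι F) * (Z : Matrix _ _ F).submatrix e e * ((P⁻¹ : GL ι F) : Matrix ι ι F) := by
            rw [← hZg]; rfl
          rw [h1, ← mulVec_mulVec, ← mulVec_mulVec, CfsgLib.Geo.inv_mulVec_mulVec, submatrix_mulVec_equiv]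
          congr 1
          funext i
          simp only [Function.comp_apply, hAB, mulVec, dotProduct, kroneckerMap_apply, Fintype.sum_prod_type,
            Finset.sum_mul, Finset.mul_sum, Equiv.apply_symm_apply]
          rw [Finset.sum_comm]
          exact Finset.sum_congr rfl fun k _ => Finset.sum_congr rfl fun l _ => by ring
        have hkey : ∀ (p p' : Fin 2 → F) (q q' : Fin 4 → F), f ((P : Matrix ι ι F) *ᵥ ((fun z => p z.1 * q z.2) ∘ e))
            ((P : Matrix ι ι F) *ᵥ ((fun z => p' z.1 * q' z.2) ∘ e)) = c * (f₁ p p' * f₂ q q') := by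
          intro p p' q q'
          rw [hT, (isSesq_of_bilinear hf₁.bilinear).eq_gram, (isSesq_of_bilinear hf₂.bilinear).eq_gram]
          congr 1
          simp only [formOfGram, dotProduct, mulVec, Fintype.sum_prod_type, kroneckerMap_apply, id, Function.comp_apply,
            RingEquiv.refl_apply]
          rw [Finset.sum_mul]
          refine Finset.sum_congr rfl fun i _ => ?_
          rw [Finset.mul_sum]
          refine Finset.sum_congr rfl fun k _ => ?_
          simp only [Finset.mul_sum, Finset.sum_mul]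
          rw [Finset.sum_comm]
          exact Finset.sum_congr rfl fun l _ => Finset.sum_congr rfl fun j _ => by ring
        have h1 := hfix _ (coe_mem_matrixSet hg) ((P : Matrix ι ι F) *ᵥ ((fun z => x z.1 * y z.2) ∘ e))
          ((P : Matrix ι ι F) *ᵥ ((fun z => x' z.1 * y' z.2) ∘ e))
        rw [hg', hg', hkey, hkey] at h1
        exact mul_left_cancel₀ hc h1
      set p := f₁ ((A : Matrix (Fin 2) (Fin 2) F) *ᵥ Pi.single 0 1) ((A : Matrix (Fin 2) (Fin 2) F) *ᵥ Pi.single 1 1) with hp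
      have hp0 : p ≠ 0 := by
        intro h0
        obtain ⟨-, y, hy⟩ := hf₂.nondegenerate (Pi.single 0 1) (by simp)
        have := hpure (Pi.single 0 1) (Pi.single 1 1) (Pi.single 0 1) y
        rw [← hp, h0, zero_mul] at this
        exact mul_ne_zero ha hy this.symm
      refine ⟨a / p, div_ne_zero ha hp0, fun u v => mul_left_cancel₀ hp0 ?_⟩
      rw [hpure, ← hadef]
      field_simp
    set B2 := B'.submatrix fin4 fin4 with hB2
    have hsim2 : ∀ u v, PlusSquare.beta (B2 *ᵥ u) (B2 *ᵥ v) = μ * PlusSquare.beta u v := by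
      intro u v
      have h := hsim ((X : Matrix (Fin 4) (Fin 4) F) *ᵥ (u ∘ fin4.symm))
        ((X : Matrix (Fin 4) (Fin 4) F) *ᵥ (v ∘ fin4.symm))
      have e1 : ∀ w, (B : Matrix (Fin 4) (Fin 4) F) *ᵥ ((X : Matrix (Fin 4) (Fin 4) F) *ᵥ w) =
          (X : Matrix (Fin 4) (Fin 4) F) *ᵥ (B' *ᵥ w) := fun w => by
        simp only [hB', ← mulVec_mulVec, CfsgLib.Geo.mulVec_inv_mulVec]
      rw [e1, e1, hX, hX] at h
      simp only [Function.comp_assoc, Equiv.symm_comp_self, Function.comp_id] at h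
      rw [hB2, submatrix_mulVec_equiv, submatrix_mulVec_equiv]
      exact h
    have hdet : B2.det ≠ 0 := by
      rw [hB2, det_submatrix_equiv_self, hB', det_mul, det_mul]
      exact mul_ne_zero (mul_ne_zero (Matrix.isUnit_det_of_left_inverse (Units.mul_inv X)).ne_zero
        ((Matrix.isUnit_iff_isUnit_det _).mp B.isUnit).ne_zero) ((Matrix.isUnit_iff_isUnit_det _).mp X.isUnit).ne_zero
    have hunit : ∀ C D : Matrix (Fin 2) (Fin 2) F, (C ⊗ₖ D).det ≠ 0 → ∃ C' D' : GL (Fin 2) F,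
        (C' : Matrix _ _ F) = C ∧ (D' : Matrix _ _ F) = D := by
      intro C D h
      rw [det_kronecker, Fintype.card_fin, mul_ne_zero_iff, pow_ne_zero_iff two_ne_zero, pow_ne_zero_iff two_ne_zero] at h
      exact ⟨GeneralLinearGroup.mkOfDetNeZero C h.1, GeneralLinearGroup.mkOfDetNeZero D h.2, rfl, rfl⟩
    have hent : ∀ i j, (((A : Matrix (Fin 2) (Fin 2) F) ⊗ₖ B').submatrix e e) i j =
        (A : Matrix _ _ F) (e i).1 (e j).1 * B2 (ε (e i).2) (ε (e j).2) := by
      intro i j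
      simp [hB2, hε]
    rcases PlusSquare.similitude h2 hμ hsim2 with ⟨C, D, hCD⟩ | ⟨C, D, hCD⟩
    · obtain ⟨C', D', rfl, rfl⟩ := hunit C D (hCD ▸ hdet)
      refine mem_tensorWreathSubgroup e' P' ![A, C', D'] 1 ?_
      rw [hgP]
      ext i j
      rw [hent, submatrix_apply, mul_permMat_apply, tens, Matrix.of_apply, hCD, Fin.prod_univ_three, kroneckerMap_apply,
        he', he', mul_assoc]
      rfl
    · have hd : (C ⊗ₖ D).det ≠ 0 := by
        intro h0
        refine hdet ?_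
        rw [hCD, show Prod.swap = ⇑(Equiv.prodComm (Fin 2) (Fin 2)) from rfl, det_permute', h0, mul_zero]
      obtain ⟨C', D', rfl, rfl⟩ := hunit C D hd
      refine mem_tensorWreathSubgroup e' P' ![A, C', D'] (Equiv.swap 1 2) ?_
      rw [hgP]
      ext i j
      rw [hent, submatrix_apply, mul_permMat_apply, tens, Matrix.of_apply, hCD, Fin.prod_univ_three, submatrix_apply,
        kroneckerMap_apply, he', he', mul_assoc]
      rfl
  -- the exchange of two slots is not in the tensor product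
  set τ : Equiv.Perm (Fin 3) := Equiv.swap 0 1 with hτ
  set s : GL ι F := P' * glReindex e'.symm (permUnit 2 τ) * P'⁻¹ with hsdef
  have hsval : ((P'⁻¹ : GL ι F) : Matrix ι ι F) * (s : Matrix ι ι F) * (P' : Matrix ι ι F) =
      (permMat 2 τ : Matrix _ _ F).submatrix e' e' := by
    rw [← Units.val_mul, ← Units.val_mul,
      show P'⁻¹ * s * P' = glReindex e'.symm (permUnit 2 τ) by rw [hsdef]; group]
    rfl
  refine ⟨s, mem_tensorWreathSubgroup e' P' (fun _ => 1) τ (by rw [hsval]; simp [tens_one]), ?_, ?_⟩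
  · intro u v
    have hmul : ∀ w, (s : Matrix ι ι F) *ᵥ ((P' : Matrix ι ι F) *ᵥ (w ∘ e')) =
        (P' : Matrix ι ι F) *ᵥ ((fun x => w (x ∘ τ)) ∘ e') := by
      intro w
      rw [hsdef, Units.val_mul, Units.val_mul, ← mulVec_mulVec, ← mulVec_mulVec, CfsgLib.Geo.inv_mulVec_mulVec]
      congr 1
      show (permMat 2 τ : Matrix _ _ F).submatrix e' e' *ᵥ (w ∘ e') = _
      rw [submatrix_mulVec_equiv]
      funext i
      simp [mulVec, dotProduct, permMat]
    have hw : ∀ w : ι → F, w = (P' : Matrix ι ι F) *ᵥ (((((P'⁻¹ : GL ι F) : Matrix ι ι F) *ᵥ w) ∘ e'.symm) ∘ e') := fun w => by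
      simp [Function.comp_assoc]
    rw [hw u, hw v, hmul, hmul, hform, hform]
    congr 1
    let T : (Fin 3 → Fin 2) ≃ (Fin 3 → Fin 2) :=
      { toFun := fun x => x ∘ τ, invFun := fun x => x ∘ τ.symm,
        left_inv := fun x => by funext i; simp, right_inv := fun x => by funext i; simp }
    refine Fintype.sum_equiv T _ _ fun x => Fintype.sum_equiv T _ _ fun y => ?_
    show _ * (∏ i, gramMatrix f₁ (x i) (y i)) * _ = _ * (∏ i, gramMatrix f₁ ((x ∘ τ) i) ((y ∘ τ) i)) * _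
    simp only [Function.comp_apply]
    rw [Equiv.prod_comp τ (fun i => gramMatrix f₁ (x i) (y i))]
    rfl
  · rintro ⟨_, ⟨Z, ⟨A, B, hAB⟩, rfl⟩, hZg⟩
    set B' := ((X⁻¹ : GL (Fin 4) F) : Matrix (Fin 4) (Fin 4) F) * (B : Matrix (Fin 4) (Fin 4) F) *
      (X : Matrix (Fin 4) (Fin 4) F) with hB'
    have h1 : (s : Matrix ι ι F) = (P : Matrix ι ι F) * (Z : Matrix _ _ F).submatrix e e * ((P⁻¹ : GL ι F) : Matrix ι ι F) := by
      rw [← hZg]; rfl
    have h3 : (permMat 2 τ : Matrix _ _ F).submatrix e' e' = ((A : Matrix (Fin 2) (Fin 2) F) ⊗ₖ B').submatrix e e := by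
      rw [← hsval, h1, hP', _root_.mul_inv_rev, Units.val_mul, Units.val_mul]
      calc _ = ((Y⁻¹ : GL ι F) : Matrix ι ι F) * ((((P⁻¹ : GL ι F) : Matrix ι ι F) * P) * (Z : Matrix _ _ F).submatrix e e *
            (((P⁻¹ : GL ι F) : Matrix ι ι F) * P)) * (Y : Matrix ι ι F) := by simp only [mul_assoc]
        _ = _ := by
          rw [Units.inv_mul, one_mul, mul_one, hY, hY', submatrix_mul_equiv, submatrix_mul_equiv, hAB,
            ← Matrix.mul_kronecker_mul, ← Matrix.mul_kronecker_mul, one_mul, mul_one]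
    have hp : ∀ i j : Fin 2, ∀ p q : Fin 2 × Fin 2,
        (permMat 2 τ : Matrix (Fin 3 → Fin 2) (Fin 3 → Fin 2) F) ![i, p.1, p.2] ![j, q.1, q.2] =
          (A : Matrix _ _ F) i j * B' (fin4 p) (fin4 q) := by
      intro i j p q
      have h := congrFun (congrFun h3 (e.symm (i, fin4 p))) (e.symm (j, fin4 q))
      simpa [he', hε] using h
    have hb1 : ![(1 : Fin 2), 0, 0] = ![(0 : Fin 2), 1, 0] ∘ τ := by rw [hτ]; decide
    have hb2 : ![(0 : Fin 2), 0, 0] = ![(0 : Fin 2), 0, 0] ∘ τ := by rw [hτ]; decide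
    have hb3 : ![(0 : Fin 2), 0, 0] ≠ ![(0 : Fin 2), 1, 0] ∘ τ := by rw [hτ]; decide
    have k1 := hp 0 1 (1, 0) (0, 0)
    have k2 := hp 0 0 (0, 0) (0, 0)
    have k3 := hp 0 0 (1, 0) (0, 0)
    simp only [permMat, Matrix.of_apply] at k1 k2 k3
    rw [if_pos hb1] at k1
    rw [if_pos hb2] at k2
    rw [if_neg hb3] at k3
    rcases mul_eq_zero.mp k3.symm with h | h
    · rw [h, zero_mul] at k2
      exact one_ne_zero k2
    · rw [h, mul_zero] at k1
      exact one_ne_zero k1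

end CfsgLib.Aschbacher
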