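import Cfsg.Agent.Aschbacher.Form.OrthTwelveForms
import Cfsg.Agent.Aschbacher.Form.PlusTensor
import Cfsg.Agent.Aschbacher.General.SmallField

/-!
Tensor decompositions of quadratic forms: the commutator subgroup preserves none with a small factor, a factor of
dimension two over two elements gives a field, and an orthogonal factor of plus type refines the decomposition.
-/
set_option autoImplicit false
set_option maxHeartbeats 1000000

namespace CfsgLib.Aschbacher

open Matrix Cfsg Cfsg.Geo CfsgLib.GeoClifford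
open scoped MatrixGroups Kronecker

variable {ι : Type} [Fintype ι] [DecidableEq ι] {F : Type*} [Field F] [Fintype F] {Q : (ι → F) → F}

namespace OE

omit [Fintype F] in
/-- The elements of a tensor product subgroup, written out. -/
lemma exists_kron {n₁ n₂ : ℕ} {e : ι ≃ Fin n₁ × Fin n₂} {P g : GL ι F} (hg : g ∈ tensorProductSubgroup n₁ n₂ e P) :
    ∃ (a : GL (Fin n₁) F) (b : GL (Fin n₂) F), (g : Matrix ι ι F) = (P : Matrix ι ι F) *
      ((a : Matrix _ _ F) ⊗ₖ (b : Matrix _ _ F)).submatrix e e * ((P⁻¹ : GL ι F) : Matrix ι ι F) := by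
  obtain ⟨_, ⟨K, hKmem, rfl⟩, hKv⟩ := hg
  obtain ⟨a, b, hab⟩ := hKmem
  exact ⟨a, b, by rw [← hKv, ← hab]; rfl⟩

/-- `Ω` preserves no tensor decomposition with a factor that is small. -/
theorem not_le_tensor (hQ : IsNondegenerateQuadraticForm Q) (hn : 5 ≤ Fintype.card ι) {n₁ n₂ : ℕ} (h1 : 2 ≤ n₁)
    (hsmall : n₁ * n₁ + 2 < Fintype.card ι) (h2 : 1 ≤ n₂) (e : ι ≃ Fin n₁ × Fin n₂) (P : GL ι F) :
    ¬ omegaGL Q ≤ tensorProductSubgroup n₁ n₂ e P := by
  classical
  intro hle
  obtain ⟨Q', rfl, hQ'⟩ := CfsgLib.Geo.OS.exists_quadraticForm hQ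
  have hn' : 5 ≤ Module.finrank F (ι → F) := by rwa [Module.finrank_fintype_fun_eq_card]
  set Pi' : Matrix ι ι F := ((P⁻¹ : GL ι F) : Matrix ι ι F)
  let X : Matrix (Fin n₁) (Fin n₁) F → Matrix ι ι F := fun M =>
    (P : Matrix ι ι F) * (M ⊗ₖ (1 : Matrix (Fin n₂) (Fin n₂) F)).submatrix e e * Pi'
  have hPi : Pi' * (P : Matrix ι ι F) = 1 := Units.inv_mul P
  have hkr : ∀ g : omegaGL ⇑Q', ∃ (a : GL (Fin n₁) F) (b : GL (Fin n₂) F),
      ((g : GL ι F) : Matrix ι ι F) = (P : Matrix ι ι F) *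
        ((a : Matrix _ _ F) ⊗ₖ (b : Matrix _ _ F)).submatrix e e * Pi' := fun g => exists_kron (hle g.2)
  choose A B hAB using hkr
  have hmove : ∀ g : omegaGL ⇑Q', ∀ M, ((g : GL ι F) : Matrix ι ι F) * X M =
      X ((A g : Matrix (Fin n₁) (Fin n₁) F) * M * (((A g)⁻¹ : GL (Fin n₁) F) : Matrix (Fin n₁) (Fin n₁) F)) * ((g : GL ι F) : Matrix ι ι F) := by
    intro g M
    have hc : ∀ S T : Matrix ι ι F, (P : Matrix ι ι F) * S * Pi' * ((P : Matrix ι ι F) * T * Pi') =
        (P : Matrix ι ι F) * (S * T) * Pi' := fun S T => by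
      calc _ = (P : Matrix ι ι F) * S * (Pi' * (P : Matrix ι ι F)) * T * Pi' := by simp only [mul_assoc]
        _ = _ := by rw [hPi, mul_one]; simp only [mul_assoc]
    simp only [X, hAB g, hc, coords_mul, mul_one, one_mul]
    rw [Units.inv_mul_cancel_right]
  set C := commutator (CfsgLib.Quad.oGroup Q') with hC
  set ψ : CfsgLib.Quad.oGroup Q' →* GL ι F :=
    (isometryGroup F ⇑Q').subtype.comp (CfsgLib.Quad.isoGroupEquiv Q').symm.toMonoidHom with hψ
  have hψv : ∀ g x, (ψ g : Matrix ι ι F) *ᵥ x = g.1 x := fun g x => by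
    obtain ⟨y, rfl⟩ := (CfsgLib.Quad.isoGroupEquiv Q').surjective g
    rw [hψ, MonoidHom.comp_apply, MulEquiv.coe_toMonoidHom, MulEquiv.symm_apply_apply]
    rfl
  have hψC : C.map ψ = omegaGL ⇑Q' := by
    rw [hψ, ← Subgroup.map_map, hC, commutator_def, Subgroup.map_commutator,
      Subgroup.map_top_of_surjective _ (CfsgLib.Quad.isoGroupEquiv Q').symm.surjective]
    rfl
  have hmemC : ∀ c : C, ψ c.1 ∈ omegaGL ⇑Q' := fun c => hψC ▸ ⟨c.1, c.2, rfl⟩
  -- the elements commuting with the first factor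
  let N : Subgroup C :=
    { carrier := {c | ∀ M, ((ψ c.1 : GL ι F) : Matrix ι ι F) * X M = X M * ((ψ c.1 : GL ι F) : Matrix ι ι F)}
      one_mem' := fun M => by simp
      mul_mem' := fun {a b} ha hb M => by
        simp only [Subgroup.coe_mul, map_mul, Units.val_mul]
        rw [mul_assoc, hb M, ← mul_assoc, ha M, mul_assoc]
      inv_mem' := fun {a} ha M => by
        simp only [Subgroup.coe_inv, map_inv]
        set u := ψ a.1
        calc _ = ((u⁻¹ : GL ι F) : Matrix ι ι F) * (X M * (u : Matrix ι ι F)) * ((u⁻¹ : GL ι F) : Matrix ι ι F) := by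
              simp [mul_assoc]
          _ = _ := by rw [← ha M, ← mul_assoc, Units.inv_mul, one_mul] }
  have hNn : N.Normal := by
    refine ⟨fun a ha c M => ?_⟩
    set u := ψ c.1 with hu
    have hu' : ψ ((c * a * c⁻¹ : C).1) = u * ψ a.1 * u⁻¹ := by simp [hu]
    rw [hu']
    simp only [Units.val_mul]
    obtain ⟨M', hM'⟩ : ∃ M', X M * (u : Matrix ι ι F) = (u : Matrix ι ι F) * X M' := by
      set g : omegaGL ⇑Q' := ⟨u, hmemC c⟩
      refine ⟨(((A g)⁻¹ : GL (Fin n₁) F) : Matrix (Fin n₁) (Fin n₁) F) * M * (A g : Matrix (Fin n₁) (Fin n₁) F), ?_⟩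
      rw [hmove g]
      simp [mul_assoc, g]
    calc (u : Matrix ι ι F) * (ψ a.1 : GL ι F) * ((u⁻¹ : GL ι F) : Matrix ι ι F) * X M
        = (u : Matrix ι ι F) * (ψ a.1 : GL ι F) * ((u⁻¹ : GL ι F) : Matrix ι ι F) * (X M * (u : Matrix ι ι F)) *
          ((u⁻¹ : GL ι F) : Matrix ι ι F) := by simp [mul_assoc]
      _ = (u : Matrix ι ι F) * (((ψ a.1 : GL ι F) : Matrix ι ι F) * X M') * ((u⁻¹ : GL ι F) : Matrix ι ι F) := by
          rw [hM']; simp [mul_assoc]
      _ = (u : Matrix ι ι F) * X M' * ((ψ a.1 : GL ι F) : Matrix ι ι F) * ((u⁻¹ : GL ι F) : Matrix ι ι F) := by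
          rw [ha M']; simp only [mul_assoc]
      _ = _ := by rw [← hM']; simp only [mul_assoc]
  have hsub : N ≤ Subgroup.center C := by
    intro c hc
    by_contra hcZ
    have hsimp := CfsgLib.Quad.isSimpleGroup_omega hQ' hn'
    have htop : N ⊔ Subgroup.center C = ⊤ := by
      rcases hsimp.eq_bot_or_eq_top_of_normal (N.map (QuotientGroup.mk' (Subgroup.center C)))
          (Subgroup.Normal.map hNn _ (QuotientGroup.mk'_surjective _)) with h | h
      · rw [Subgroup.map_eq_bot_iff, QuotientGroup.ker_mk'] at h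
        exact absurd (h hc) hcZ
      · have h' := congrArg (Subgroup.comap (QuotientGroup.mk' (Subgroup.center C))) h
        rwa [Subgroup.comap_map_eq, QuotientGroup.ker_mk', Subgroup.comap_top] at h'
    have hZN : Subgroup.center C ≤ N := by
      intro z hz M
      obtain ⟨b, -, hb⟩ := (CfsgLib.Quad.center_iff hQ' hn' z).mp hz
      have hzb : ((ψ z.1 : GL ι F) : Matrix ι ι F) = b • (1 : Matrix ι ι F) := by
        refine Matrix.toLin'.injective (LinearMap.ext fun x => ?_)
        simp only [Matrix.toLin'_apply, smul_mulVec, one_mulVec]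
        rw [hψv, hb]
      rw [hzb, smul_mul_assoc, one_mul, mul_smul_comm, mul_one]
    rw [sup_eq_left.mpr hZN] at htop
    obtain ⟨t, ht⟩ := commutant_scalar hQ hn (k := X (Matrix.single ⟨0, by omega⟩ ⟨0, by omega⟩ 1)) fun g hg => by
      rw [← hψC] at hg
      obtain ⟨c', hc', rfl⟩ := hg
      exact (htop ▸ Subgroup.mem_top (⟨c', hc'⟩ : C) : (⟨c', hc'⟩ : C) ∈ N) _
    have h' := congrArg (fun Y => Pi' * Y * (P : Matrix ι ι F)) ht
    simp only [X, mul_smul_comm, smul_mul_assoc, mul_one, hPi] at h'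
    rw [← mul_assoc, ← mul_assoc, hPi, one_mul, mul_assoc, hPi, mul_one] at h'
    let k0 : Fin n₂ := ⟨0, by omega⟩
    have e0 := congrFun (congrFun h' (e.symm (⟨0, by omega⟩, k0))) (e.symm (⟨0, by omega⟩, k0))
    have e1 := congrFun (congrFun h' (e.symm (⟨1, by omega⟩, k0))) (e.symm (⟨1, by omega⟩, k0))
    simp [Matrix.single] at e0 e1
    rw [← e1] at e0
    simp at e0
  -- a large family of quadratic elements
  obtain ⟨v0, hv0, hQv0⟩ := exists_singular hQ hn
  set E := Submodule.span F {v0} with hE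
  obtain ⟨W, hW⟩ := Submodule.exists_isCompl E
  set C' := W ⊓ CfsgLib.Quad.perpS Q' E
  have hC'd : Fintype.card ι ≤ Module.finrank F C' + 2 := by
    have h1 := Submodule.finrank_add_eq_of_isCompl hW
    have h2 := CfsgLib.Quad.finrank_perpS hQ' E
    have h3 := Submodule.finrank_sup_add_finrank_inf_eq W (CfsgLib.Quad.perpS Q' E)
    have h4 := Submodule.finrank_le (W ⊔ CfsgLib.Quad.perpS Q' E)
    have h5 : Module.finrank F E = 1 := finrank_span_singleton hv0
    rw [Module.finrank_fintype_fun_eq_card] at h1 h2 h4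
    change _ + Module.finrank F C' = _ at h3
    omega
  have hCe : ∀ a : C', QuadraticMap.polar Q' v0 (a : ι → F) = 0 := fun a =>
    a.2.2 v0 (Submodule.mem_span_singleton_self v0)
  choose g hg hgx using fun a : C' => exists_siegel_omega hQ hn hQv0 (hCe a)
  have hinj : Function.Injective fun a : C' => (A ⟨g a, hg a⟩ : Matrix (Fin n₁) (Fin n₁) F) := by
    intro a a' haa
    have haa' : A ⟨g a, hg a⟩ = A ⟨g a', hg a'⟩ := Units.ext haa
    obtain ⟨c, hc, hcv⟩ : (g a)⁻¹ * g a' ∈ C.map ψ := hψC.symm ▸ mul_mem (inv_mem (hg a)) (hg a')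
    have hcN : (⟨c, hc⟩ : C) ∈ N := by
      intro M
      rw [hcv, Units.val_mul]
      have h1 := hmove ⟨g a, hg a⟩ M
      have h2 := hmove ⟨g a', hg a'⟩ M
      rw [← haa'] at h2
      set Y := (A ⟨g a, hg a⟩ : Matrix (Fin n₁) (Fin n₁) F) * M *
        (((A ⟨g a, hg a⟩)⁻¹ : GL (Fin n₁) F) : Matrix (Fin n₁) (Fin n₁) F)
      have h3 : (((g a)⁻¹ : GL ι F) : Matrix ι ι F) * X Y = X M * (((g a)⁻¹ : GL ι F) : Matrix ι ι F) := by
        calc _ = (((g a)⁻¹ : GL ι F) : Matrix ι ι F) * (X Y * (g a : Matrix ι ι F)) *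
              (((g a)⁻¹ : GL ι F) : Matrix ι ι F) := by
              rw [mul_assoc, mul_assoc (X Y), Units.mul_inv, mul_one]
          _ = _ := by rw [← h1, ← mul_assoc, Units.inv_mul, one_mul]
      rw [mul_assoc, h2, ← mul_assoc, h3, mul_assoc]
    obtain ⟨b, -, hb⟩ := (CfsgLib.Quad.center_iff hQ' hn' ⟨c, hc⟩).mp (hsub hcN)
    have hb' : ∀ x, (g a' : Matrix ι ι F) *ᵥ x = b • ((g a : Matrix ι ι F) *ᵥ x) := fun x => by
      have h1 : ((ψ c : GL ι F) : Matrix ι ι F) *ᵥ x = b • x := by rw [hψv]; exact hb x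
      rw [hcv, Units.val_mul, ← mulVec_mulVec] at h1
      have h2 := congrArg ((g a : Matrix ι ι F) *ᵥ ·) h1
      simpa [mulVec_mulVec, mulVec_smul] using h2
    have hfix : ∀ a : C', (g a : Matrix ι ι F) *ᵥ v0 = v0 := fun a => by
      rw [hgx, hCe, polar_self_eq hQ, hQv0, mul_zero, zero_smul, add_zero, mul_zero, add_zero, zero_smul, sub_zero]
    have hb1 : b = 1 := by
      have h := hb' v0
      rw [hfix, hfix] at h
      exact (smul_left_injective F hv0 ((one_smul F v0).trans h)).symm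
    obtain ⟨x, hx⟩ := CfsgLib.Quad.exists_polar_ne hQ' hv0
    have h := hb' x
    rw [hb1, one_smul, hgx, hgx] at h
    have hd : QuadraticMap.polar Q' x v0 • ((a' : ι → F) - a) ∈ E ⊓ W := by
      refine ⟨?_, W.smul_mem _ (W.sub_mem a'.2.1 a.2.1)⟩
      rw [SetLike.mem_coe, hE, Submodule.mem_span_singleton]
      refine ⟨(QuadraticMap.polar Q' x a' + Q' a' * QuadraticMap.polar Q' x v0) -
        (QuadraticMap.polar Q' x a + Q' a * QuadraticMap.polar Q' x v0), ?_⟩
      linear_combination (norm := module) -h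
    rw [hW.disjoint.eq_bot, Submodule.mem_bot, smul_eq_zero] at hd
    exact (Subtype.ext (sub_eq_zero.mp (hd.resolve_left (by rwa [QuadraticMap.polar_comm])))).symm
  have hcard := Nat.card_le_card_of_injective _ hinj
  rw [Module.natCard_eq_pow_finrank (K := F), Module.natCard_eq_pow_finrank (K := F) (V := Matrix _ _ F),
    Module.finrank_matrix, Module.finrank_self, mul_one, Fintype.card_fin] at hcard
  have := (Nat.pow_le_pow_iff_right Finite.one_lt_card).mp hcard
  omega

omit [Fintype ι] in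
lemma det_one_of_commutator [Fintype ι] (hQ : IsNondegenerateQuadraticForm Q) (hn : 5 ≤ Fintype.card ι) {g : GL ι F}
    (hg : g ∈ omegaGL Q) : (g : Matrix ι ι F).det = 1 := by
  have hle : omegaGL Q ≤ (Matrix.GeneralLinearGroup.det : GL ι F →* Fˣ).ker := by
    rw [← omega_perfect hQ hn, Subgroup.commutator_le]
    intro x _ y _
    rw [MonoidHom.mem_ker, map_commutatorElement, commutatorElement_eq_one_iff_mul_comm, mul_comm]
  have := congrArg Units.val (MonoidHom.mem_ker.mp (hle hg))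
  simpa using this

/-- Over two elements a tensor factor of dimension two is a field of degree two, normalised by the stabiliser of the
decomposition and by what commutes with an element of order three of the factor. -/
theorem field_of_tensor_two' (hq : Fintype.card F = 2) {G : Subgroup (GL ι F)} {k : ℕ} (hk : 0 < k)
    (e : ι ≃ Fin 2 × Fin k) (P : GL ι F) (h : G ≤ tensorProductSubgroup 2 k e P) :
    ∃ K : Subalgebra F (Matrix ι ι F), IsFieldSubalgebra 2 K ∧ G ≤ subalgebraNormalizer K ∧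
      ∀ g : GL ι F, (g : Matrix ι ι F) * ((P : Matrix ι ι F) *
          ((!![0, 1; 1, 1] : Matrix (Fin 2) (Fin 2) F) ⊗ₖ (1 : Matrix (Fin k) (Fin k) F)).submatrix e e *
          ((P⁻¹ : GL ι F) : Matrix ι ι F)) = ((P : Matrix ι ι F) *
          ((!![0, 1; 1, 1] : Matrix (Fin 2) (Fin 2) F) ⊗ₖ (1 : Matrix (Fin k) (Fin k) F)).submatrix e e *
          ((P⁻¹ : GL ι F) : Matrix ι ι F)) * (g : Matrix ι ι F) → g ∈ subalgebraNormalizer K := by
  classical
  have h2 : (2 : F) = 0 := by
    have := FiniteField.cast_card_eq_zero F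
    rw [hq] at this
    exact_mod_cast this
  have hel := eq_zero_or_one_of_card_two hq
  set W : Matrix (Fin 2) (Fin 2) F := !![0, 1; 1, 1] with hW
  set Pi' : Matrix ι ι F := ((P⁻¹ : GL ι F) : Matrix ι ι F)
  have hPi : Pi' * (P : Matrix ι ι F) = 1 := Units.inv_mul P
  set X : Matrix ι ι F := (P : Matrix ι ι F) * (W ⊗ₖ (1 : Matrix (Fin k) (Fin k) F)).submatrix e e * Pi' with hX
  have hXX : X * X = X + 1 := by
    have hWW : W * W = W + 1 := by
      ext i j; fin_cases i <;> fin_cases j <;> simp [hW, Matrix.mul_apply, Fin.sum_univ_two] <;>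
        linear_combination h2
    calc X * X = (P : Matrix ι ι F) * ((W ⊗ₖ (1 : Matrix (Fin k) (Fin k) F)).submatrix e e *
          (W ⊗ₖ (1 : Matrix (Fin k) (Fin k) F)).submatrix e e) * Pi' := by
          rw [hX]
          calc _ = (P : Matrix ι ι F) * (W ⊗ₖ (1 : Matrix (Fin k) (Fin k) F)).submatrix e e *
                (Pi' * (P : Matrix ι ι F)) * (W ⊗ₖ (1 : Matrix (Fin k) (Fin k) F)).submatrix e e * Pi' := by
                simp only [mul_assoc]
            _ = _ := by rw [hPi, mul_one]; simp only [mul_assoc]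
      _ = _ := by
          rw [coords_mul, mul_one, hWW, Matrix.add_kronecker, Matrix.one_kronecker_one, Matrix.submatrix_add]
          simp [hX, Pi', mul_add, add_mul]
  have hscalar : ∀ c : F, X ≠ c • (1 : Matrix ι ι F) := fun c hc => by
    have h1 := congrArg (fun Y => Pi' * Y * (P : Matrix ι ι F)) hc
    simp only [hX, mul_smul_comm, smul_mul_assoc, mul_one, hPi] at h1
    rw [← mul_assoc, ← mul_assoc, hPi, one_mul, mul_assoc, hPi, mul_one] at h1
    let k0 : Fin k := ⟨0, hk⟩
    have h3 := congrFun (congrFun h1 (e.symm (0, k0))) (e.symm (1, k0))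
    have hne : e.symm (0, k0) ≠ e.symm (1, k0) := by simp
    simp [hW, Matrix.one_apply_ne hne] at h3
  set K := Algebra.adjoin F {X}
  have hXK : X ∈ K := Algebra.self_mem_adjoin_singleton F X
  have hform : ∀ x ∈ K, ∃ a b : F, x = a • (1 : Matrix ι ι F) + b • X := by
    intro x hx
    induction hx using Algebra.adjoin_induction with
    | mem x hx => rw [Set.mem_singleton_iff] at hx; exact ⟨0, 1, by simp [hx]⟩
    | algebraMap r => exact ⟨r, 0, by simp [Algebra.algebraMap_eq_smul_one]⟩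
    | add x y _ _ ihx ihy =>
      obtain ⟨a, b, rfl⟩ := ihx
      obtain ⟨a', b', rfl⟩ := ihy
      exact ⟨a + a', b + b', by module⟩
    | mul x y _ _ ihx ihy =>
      obtain ⟨a, b, rfl⟩ := ihx
      obtain ⟨a', b', rfl⟩ := ihy
      refine ⟨a * a' + b * b', a * b' + b * a' + b * b', ?_⟩
      simp only [add_mul, mul_add, smul_mul_assoc, mul_smul_comm, one_mul, mul_one, hXX, smul_add, smul_smul]
      module
  refine ⟨K, ⟨fun x hx y hy => ?_, fun x hx hx0 => ?_, ?_⟩, ?_, ?_⟩
  · obtain ⟨a, b, rfl⟩ := hform x hx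
    obtain ⟨a', b', rfl⟩ := hform y hy
    simp only [add_mul, mul_add, smul_mul_assoc, mul_smul_comm, one_mul, mul_one, smul_add, smul_smul]
    module
  · obtain ⟨a, b, rfl⟩ := hform x hx
    rcases hel a with rfl | rfl <;> rcases hel b with rfl | rfl
    · simp at hx0
    · refine ⟨X + 1, K.add_mem hXK K.one_mem, ?_⟩
      rw [zero_smul, zero_add, one_smul, mul_add, mul_one, hXX]
      rw [show X + 1 + X = 1 + (2 : F) • X by module, h2, zero_smul, add_zero]
    · exact ⟨1, K.one_mem, by simp⟩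
    · refine ⟨X, hXK, ?_⟩
      rw [one_smul, one_smul, add_mul, one_mul, hXX]
      rw [show X + (X + 1) = 1 + (2 : F) • X by module, h2, zero_smul, add_zero]
  · have hli : LinearIndependent F ![(1 : Matrix ι ι F), X] := by
      have : Nonempty ι := ⟨e.symm (0, ⟨0, hk⟩)⟩
      exact (LinearIndependent.pair_iff' one_ne_zero).mpr fun c h => hscalar c h.symm
    have hspan : Subalgebra.toSubmodule K = Submodule.span F (Set.range ![(1 : Matrix ι ι F), X]) := by
      refine le_antisymm (fun x hx => ?_) (Submodule.span_le.mpr ?_)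
      · obtain ⟨a, b, rfl⟩ := hform x hx
        exact Submodule.add_mem _ (Submodule.smul_mem _ _ (Submodule.subset_span ⟨0, rfl⟩))
          (Submodule.smul_mem _ _ (Submodule.subset_span ⟨1, rfl⟩))
      · rintro _ ⟨i, rfl⟩
        fin_cases i
        exacts [K.one_mem, hXK]
    rw [← Subalgebra.finrank_toSubmodule, hspan, finrank_span_eq_card hli, Fintype.card_fin]
  swap
  · intro g hg k'
    have hfix : ∀ y ∈ K, (g : Matrix ι ι F) * y * ((g⁻¹ : GL ι F) : Matrix ι ι F) = y := fun y hy => by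
      obtain ⟨s, t, rfl⟩ := hform y hy
      rw [mul_add, add_mul, mul_smul_comm, mul_smul_comm, smul_mul_assoc, smul_mul_assoc, mul_one, Units.mul_inv, hg,
        mul_assoc X, Units.mul_inv, mul_one]
    refine ⟨fun hk' => by rw [hfix k' hk']; exact hk', fun hk' => ?_⟩
    have h3 := hfix _ hk'
    have h4 : (g : Matrix ι ι F) * k' * ((g⁻¹ : GL ι F) : Matrix ι ι F) = k' := by
      have h5 := congrArg (fun z => ((g⁻¹ : GL ι F) : Matrix ι ι F) * z * (g : Matrix ι ι F)) h3
      simpa [mul_assoc] using h5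
    rwa [h4] at hk'
  refine le_subalgebraNormalizer fun g hg x hx => ?_
  obtain ⟨a, b, hab⟩ : ∃ (a : GL (Fin 2) F) (b : GL (Fin k) F), (g : Matrix ι ι F) = (P : Matrix ι ι F) *
      ((a : Matrix _ _ F) ⊗ₖ (b : Matrix _ _ F)).submatrix e e * Pi' := exists_kron (h hg)
  have hgW : ∀ g g' : Matrix (Fin 2) (Fin 2) F, g * g' = 1 → g * W * g' = W ∨ g * W * g' = W + 1 := by
    intro g g' hgg
    set Y := g * W * g'
    have hgg' : g' * g = 1 := mul_eq_one_comm.mp hgg
    have htr : Y.trace = 1 := by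
      rw [Matrix.trace_mul_comm, ← mul_assoc, hgg', one_mul]
      simp [hW, Matrix.trace_fin_two]
    have hdet : Y.det = 1 := by
      rw [det_mul, det_mul, mul_right_comm, ← det_mul, hgg, det_one, one_mul]
      simp [hW, Matrix.det_fin_two]
      linear_combination -h2
    rw [Matrix.trace_fin_two] at htr
    rw [Matrix.det_fin_two] at hdet
    rcases hel (Y 0 0) with a | a <;> rcases hel (Y 0 1) with b | b <;>
      rcases hel (Y 1 0) with c | c <;> rcases hel (Y 1 1) with d | d <;>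
      first
        | (simp [a, b, c, d] at htr hdet; done)
        | (exfalso; simp [a, b, c, d] at htr hdet; exact one_ne_zero (by linear_combination htr - hdet))
        | (left; ext i j; fin_cases i <;> fin_cases j <;> simp [hW, a, b, c, d]; done)
        | (right; ext i j; fin_cases i <;> fin_cases j <;> simp [hW, a, b, c, d]; done)
        | (right; ext i j; fin_cases i <;> fin_cases j <;> simp [hW, a, b, c, d] <;> linear_combination (-h2))
        | (exfalso; simp [a, b, c, d] at htr hdet; exact one_ne_zero (by linear_combination -h2 - htr))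
  have hgX : (g : Matrix ι ι F) * X * ((g⁻¹ : GL ι F) : Matrix ι ι F) ∈ K := by
    have hgX' : (g : Matrix ι ι F) * X = (P : Matrix ι ι F) *
        (((a : Matrix _ _ F) * W * ((a⁻¹ : GL (Fin 2) F) : Matrix _ _ F)) ⊗ₖ
          (1 : Matrix (Fin k) (Fin k) F)).submatrix e e * Pi' * (g : Matrix ι ι F) := by
      have hc : ∀ S T : Matrix ι ι F, (P : Matrix ι ι F) * S * Pi' * ((P : Matrix ι ι F) * T * Pi') =
          (P : Matrix ι ι F) * (S * T) * Pi' := fun S T => by
        calc _ = (P : Matrix ι ι F) * S * (Pi' * (P : Matrix ι ι F)) * T * Pi' := by simp only [mul_assoc]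
          _ = _ := by rw [hPi, mul_one]; simp only [mul_assoc]
      simp only [hX, hab, hc, coords_mul, mul_one, one_mul]
      rw [Units.inv_mul_cancel_right]
    rw [hgX', mul_assoc, Units.mul_inv, mul_one]
    rcases hgW _ _ (Units.mul_inv a) with h1 | h1 <;> rw [h1]
    · exact hXK
    · have : (P : Matrix ι ι F) * ((W + 1) ⊗ₖ (1 : Matrix (Fin k) (Fin k) F)).submatrix e e * Pi' = X + 1 := by
        rw [Matrix.add_kronecker, Matrix.one_kronecker_one, Matrix.submatrix_add]
        simp [hX, Pi', mul_add, add_mul]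
      rw [this]
      exact K.add_mem hXK K.one_mem
  obtain ⟨s, t, rfl⟩ := hform x hx
  rw [mul_add, add_mul, mul_smul_comm, mul_smul_comm, smul_mul_assoc, smul_mul_assoc, mul_one, Units.mul_inv]
  exact K.add_mem (K.smul_mem K.one_mem _) (K.smul_mem hgX _)

/-- Over two elements a tensor factor of dimension two is a field of degree two. -/
theorem field_of_tensor_two (hq : Fintype.card F = 2) {G : Subgroup (GL ι F)} {k : ℕ} (hk : 0 < k)
    (e : ι ≃ Fin 2 × Fin k) (P : GL ι F) (h : G ≤ tensorProductSubgroup 2 k e P) :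
    ∃ K : Subalgebra F (Matrix ι ι F), IsFieldSubalgebra 2 K ∧ G ≤ subalgebraNormalizer K := by
  obtain ⟨K, hK, hG, -⟩ := field_of_tensor_two' hq hk e P h
  exact ⟨K, hK, hG⟩

/-- Three by two coordinates as numbers below six. -/
def six : Fin 3 × Fin 2 ≃ Fin 6 := finProdFinEquiv

/-- The regrouping of three by four as two by six. -/
def regroup : Fin 3 × Fin 4 ≃ Fin 2 × Fin 6 where
  toFun p := ((fin4.symm p.2).2, six (p.1, (fin4.symm p.2).1))
  invFun p := ((six.symm p.2).1, fin4 ((six.symm p.2).2, p.1))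
  left_inv p := by simp
  right_inv p := by simp

/-- An orthogonal factor of plus type refines a decomposition three by four to two by six with alternating factors. -/
theorem plus_tensor_refine (hQ : IsNondegenerateQuadraticForm Q) (h2 : (2 : F) ≠ 0) {G : Subgroup (GL ι F)}
    (hfixQ : ∀ g ∈ G, ∀ v, Q ((g : Matrix ι ι F) *ᵥ v) = Q v) (hdet : ∀ g ∈ G, (g : Matrix ι ι F).det = 1)
    {e : ι ≃ Fin 3 × Fin 4} {P : GL ι F} {B : Matrix (Fin 3) (Fin 3) F} {C : Matrix (Fin 4) (Fin 4) F}
    (hT : IsTensorGram (RingEquiv.refl F) (QuadraticMap.polar Q) G e P B C) (hB : Bᵀ = B) (hC : Cᵀ = C)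
    (hC2 : IsPlusTypeOn (fun v : Fin 4 → F => formOf (RingEquiv.refl F) C v v) ⊤) :
    ∃ (e' : ι ≃ Fin 2 × Fin 6) (P' : GL ι F) (B' : Matrix (Fin 2) (Fin 2) F) (C' : Matrix (Fin 6) (Fin 6) F),
      B'ᵀ = -B' ∧ C'ᵀ = -C' ∧ IsTensorGram (RingEquiv.refl F) (QuadraticMap.polar Q) G e' P' B' C' := by
  classical
  set J : Matrix (Fin 2) (Fin 2) F := !![0, 1; -1, 0] with hJ
  have hJu : IsUnit J := (Matrix.isUnit_iff_isUnit_det _).mpr (by simp [hJ, Matrix.det_fin_two])
  have hJt : Jᵀ = -J := by ext a b; fin_cases a <;> fin_cases b <;> simp [hJ]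
  obtain ⟨X, hX⟩ := exists_plus_coords h2 (isSymmetricForm_formOf hT.unit_right hC) hC2
  set X4 : Matrix (Fin 4) (Fin 4) F := (X : Matrix (Fin 4) (Fin 4) F) with hX4
  have hbeta : ∀ p q : Fin 2 × Fin 2, PlusSquare.beta (Pi.single p (1 : F)) (Pi.single q 1) = (J ⊗ₖ J) p q := by
    rintro ⟨i, j⟩ ⟨i', j'⟩
    fin_cases i <;> fin_cases j <;> fin_cases i' <;> fin_cases j' <;> simp [PlusSquare.beta, hJ]
  have hsingle : ∀ p : Fin 2 × Fin 2, ((Pi.single (fin4 p) 1 : Fin 4 → F) ∘ fin4) = Pi.single p 1 := fun p => by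
    funext q; simp [Pi.single_apply]
  have hXC : X4ᵀ * C * X4 = (J ⊗ₖ J).submatrix fin4.symm fin4.symm := by
    ext i j
    obtain ⟨p, rfl⟩ := fin4.surjective i
    obtain ⟨q, rfl⟩ := fin4.surjective j
    have h := hX (Pi.single (fin4 p) 1) (Pi.single (fin4 q) 1)
    rw [hsingle, hsingle, hbeta] at h
    rw [Matrix.submatrix_apply, fin4.symm_apply_apply, fin4.symm_apply_apply, ← h, formOf,
      show (RingEquiv.refl F) ∘ (X4 *ᵥ Pi.single (fin4 q) 1) = X4 *ᵥ Pi.single (fin4 q) 1 from rfl,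
      mulVec_mulVec, ← vecMul_transpose, ← dotProduct_mulVec, mulVec_mulVec, mul_assoc]
    simp
  set C6 : Matrix (Fin 6) (Fin 6) F := (B ⊗ₖ J).submatrix six.symm six.symm with hC6
  have hC6u : IsUnit C6 := by
    rw [Matrix.isUnit_iff_isUnit_det, hC6, det_submatrix_equiv_self, det_kronecker]
    exact (((Matrix.isUnit_iff_isUnit_det _).mp hT.unit_left).pow _).mul (((Matrix.isUnit_iff_isUnit_det _).mp hJu).pow _)
  have hC6t : C6ᵀ = -C6 := by
    ext i j
    have e1 := congrFun (congrFun hB (six.symm i).1) (six.symm j).1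
    have e2 := congrFun (congrFun hJt (six.symm i).2) (six.symm j).2
    simp only [Matrix.transpose_apply] at e1 e2
    simp [hC6, Matrix.kroneckerMap_apply, e1, e2]
  set Y0 : Matrix ι ι F := ((1 : Matrix (Fin 3) (Fin 3) F) ⊗ₖ X4).submatrix e e with hY0
  set Y1 : Matrix ι ι F := ((1 : Matrix (Fin 3) (Fin 3) F) ⊗ₖ ((X⁻¹ : GL (Fin 4) F) : Matrix (Fin 4) (Fin 4) F)).submatrix e e with hY1
  let Y : GL ι F := ⟨Y0, Y1, by rw [hY0, hY1, coords_mul, one_mul, hX4, Units.mul_inv, Matrix.one_kronecker_one, submatrix_one_equiv],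
    by rw [hY0, hY1, coords_mul, one_mul, hX4, Units.inv_mul, Matrix.one_kronecker_one, submatrix_one_equiv]⟩
  have hPY : ((P * Y : GL ι F) : Matrix ι ι F) = (P : Matrix ι ι F) * Y0 := rfl
  have hPYi : (((P * Y)⁻¹ : GL ι F) : Matrix ι ι F) = Y1 * ((P⁻¹ : GL ι F) : Matrix ι ι F) := by
    rw [_root_.mul_inv_rev, Units.val_mul]; rfl
  refine ⟨e.trans regroup, P * Y, J, C6, hJt, hC6t, le_rfl, by omega, ?_, hJu, hC6u, fun g hg => ?_⟩
  · have hg := hT.gram
    rw [map_refl] at hg ⊢
    rw [hPY, transpose_mul]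
    calc _ = Y0ᵀ * ((P : Matrix ι ι F)ᵀ * gramMatrix (QuadraticMap.polar Q) * (P : Matrix ι ι F)) * Y0 := by
          simp only [mul_assoc]
      _ = ((B : Matrix _ _ F) ⊗ₖ (J ⊗ₖ J).submatrix fin4.symm fin4.symm).submatrix e e := by
          rw [hg, hY0, transpose_submatrix, ← Matrix.kroneckerMap_transpose, coords_mul, coords_mul, transpose_one,
            one_mul, mul_one, hXC]
      _ = _ := by
          ext i j
          simp [hC6, regroup, Matrix.kroneckerMap_apply]
          ring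
  obtain ⟨a, b, hab⟩ := hT.kron g hg
  obtain ⟨s, hs0, hsC, hsB⟩ := hT.factor (isSesq_of_bilinear hQ.polar_bilinear) (fixes_polar hfixQ) hg hab
  rw [map_refl] at hsC hsB
  set b' : Matrix (Fin 4) (Fin 4) F := ((X⁻¹ : GL (Fin 4) F) : Matrix (Fin 4) (Fin 4) F) * (b : Matrix _ _ F) * X4 with hb'
  have hb'C : b'ᵀ * (J ⊗ₖ J).submatrix fin4.symm fin4.symm * b' = s • (J ⊗ₖ J).submatrix fin4.symm fin4.symm := by
    rw [← hXC, hb']
    calc _ = X4ᵀ * ((b : Matrix _ _ F)ᵀ * ((X4 * ((X⁻¹ : GL (Fin 4) F) : Matrix (Fin 4) (Fin 4) F))ᵀ * C *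
          (X4 * ((X⁻¹ : GL (Fin 4) F) : Matrix (Fin 4) (Fin 4) F))) * (b : Matrix _ _ F)) * X4 := by
          simp only [transpose_mul, mul_assoc]
      _ = _ := by
          rw [hX4, Units.mul_inv, transpose_one, one_mul, mul_one, hsC, mul_smul_comm, smul_mul_assoc]
  set B2 : Matrix (Fin 2 × Fin 2) (Fin 2 × Fin 2) F := b'.submatrix fin4 fin4 with hB2
  have hB2J : B2ᵀ * (J ⊗ₖ J) * B2 = s • (J ⊗ₖ J) := by
    have h := congrArg (fun M : Matrix (Fin 4) (Fin 4) F => M.submatrix fin4 fin4) hb'C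
    simp only [← submatrix_mul_equiv _ _ _ fin4, ← transpose_submatrix, Matrix.submatrix_smul, Pi.smul_apply,
      submatrix_submatrix, Equiv.symm_comp_self, submatrix_id_id] at h
    exact h
  have hbeq : ∀ u v, PlusSquare.beta u v = u ⬝ᵥ ((J ⊗ₖ J) *ᵥ v) := fun u v => by
    simp [PlusSquare.beta, hJ, dotProduct, mulVec, Fintype.sum_prod_type, Fin.sum_univ_two]
    ring
  have hsim : ∀ u v, PlusSquare.beta (B2 *ᵥ u) (B2 *ᵥ v) = s * PlusSquare.beta u v := fun u v => by
    rw [hbeq, hbeq, ← vecMul_transpose, ← dotProduct_mulVec, mulVec_mulVec, mulVec_mulVec, hB2J, smul_mulVec,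
      dotProduct_smul, smul_eq_mul]
  have hb'u : b'.det ≠ 0 :=
    ((Matrix.isUnit_iff_isUnit_det _).mp (X⁻¹ * b * X : GL (Fin 4) F).isUnit).ne_zero
  have hB2d : B2.det ≠ 0 := by rw [hB2, det_submatrix_equiv_self]; exact hb'u
  rcases PlusSquare.similitude h2 hs0 hsim with ⟨c0, d0, hcd⟩ | ⟨c0, d0, hcd⟩
  · rw [hcd, det_kronecker, mul_ne_zero_iff, Fintype.card_fin] at hB2d
    have hc0 : c0.det ≠ 0 := fun h => hB2d.1 (by rw [h]; simp)
    have hd0 : d0.det ≠ 0 := fun h => hB2d.2 (by rw [h]; simp)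
    let D : GL (Fin 2) F := Matrix.GeneralLinearGroup.mkOfDetNeZero d0 hd0
    let A6 : GL (Fin 6) F := Matrix.GeneralLinearGroup.mkOfDetNeZero
      (((a : Matrix _ _ F) ⊗ₖ c0).submatrix six.symm six.symm) (by
        rw [det_submatrix_equiv_self, det_kronecker]
        exact mul_ne_zero (pow_ne_zero _ (Matrix.GeneralLinearGroup.det a).ne_zero) (pow_ne_zero _ hc0))
    refine ⟨D, A6, ?_⟩
    show (((P * Y)⁻¹ : GL ι F) : Matrix ι ι F) * (g : Matrix ι ι F) * ((P * Y : GL ι F) : Matrix ι ι F) =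
      (d0 ⊗ₖ (((a : Matrix _ _ F) ⊗ₖ c0).submatrix six.symm six.symm)).submatrix (e.trans regroup) (e.trans regroup)
    rw [hPY, hPYi]
    calc _ = Y1 * (((P⁻¹ : GL ι F) : Matrix ι ι F) * (g : Matrix ι ι F) * (P : Matrix ι ι F)) * Y0 := by
          simp only [mul_assoc]
      _ = ((a : Matrix _ _ F) ⊗ₖ b').submatrix e e := by
          rw [hab, hY0, hY1, coords_mul, coords_mul, one_mul, mul_one, hb', hX4]
      _ = _ := by
          ext i j
          have hbe : ∀ p q, b' p q = c0 (fin4.symm p).1 (fin4.symm q).1 * d0 (fin4.symm p).2 (fin4.symm q).2 :=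
            fun p q => by
              have := congrFun (congrFun hcd (fin4.symm p)) (fin4.symm q)
              simpa [hB2, Matrix.kroneckerMap_apply] using this
          simp [regroup, Matrix.kroneckerMap_apply, hbe]
          ring
  exfalso
  -- the swapped similitudes have determinant minus one
  have hs : s = c0.det * d0.det := by
    have h := hsim (Pi.single (0, 0) 1) (Pi.single (1, 1) 1)
    rw [hcd] at h
    simp [PlusSquare.beta, Matrix.kroneckerMap_apply] at h
    rw [Matrix.det_fin_two, Matrix.det_fin_two, ← h]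
    ring
  have hB2det : B2.det = -(s * s) := by
    have hsw : B2 = (c0 ⊗ₖ d0).submatrix id (Equiv.prodComm (Fin 2) (Fin 2)) := hcd
    rw [hsw, Matrix.det_permute' (Equiv.prodComm (Fin 2) (Fin 2)), det_kronecker,
      show Equiv.Perm.sign (Equiv.prodComm (Fin 2) (Fin 2)) = -1 by decide, hs, Fintype.card_fin]
    push_cast
    ring
  have hga : (a : Matrix (Fin 3) (Fin 3) F).det ^ 2 * s ^ 3 = 1 := by
    have h := congrArg Matrix.det hsB
    rw [det_mul, det_mul, det_transpose, det_smul, Fintype.card_fin] at h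
    have hBd : B.det ≠ 0 := ((Matrix.isUnit_iff_isUnit_det _).mp hT.unit_left).ne_zero
    refine mul_left_cancel₀ hBd ?_
    have e1 : (s⁻¹) ^ 3 * s ^ 3 = 1 := by rw [← mul_pow, inv_mul_cancel₀ hs0, one_pow]
    linear_combination (s ^ 3) * h + B.det * e1
  have hbd : (b : Matrix (Fin 4) (Fin 4) F).det = -(s * s) := by
    rw [← hB2det, hB2, det_submatrix_equiv_self, hb', det_mul, det_mul, mul_comm _ (b : Matrix (Fin 4) (Fin 4) F).det, mul_assoc,
      ← det_mul, hX4, Units.inv_mul, det_one, mul_one]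
  have hd := congrArg Matrix.det hab
  rw [det_mul, det_mul, hdet g hg, mul_one, ← det_mul, Units.inv_mul, det_one, det_submatrix_equiv_self,
    det_kronecker, hbd, Fintype.card_fin, Fintype.card_fin] at hd
  exact h2 (by linear_combination hd - ((a : Matrix (Fin 3) (Fin 3) F).det ^ 2 * s ^ 3 + 1) * hga)

end OE

end CfsgLib.Aschbacher
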