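import Cfsg.Agent.Aschbacher.Form.Common

/-!
The similitudes of the symmetric square of the symplectic plane are tensor products, up to the swap.
-/
set_option autoImplicit false

namespace CfsgLib.Aschbacher.PlusSquare

open Matrix
open scoped MatrixGroups Kronecker

variable {F : Type*} [Field F]

/-- The area form of the plane. -/
def area (a b : Fin 2 → F) : F := a 0 * b 1 - a 1 * b 0

/-- The product of two area forms. -/
def beta (u v : Fin 2 × Fin 2 → F) : F :=
  u (0, 0) * v (1, 1) + u (1, 1) * v (0, 0) - u (0, 1) * v (1, 0) - u (1, 0) * v (0, 1)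

/-- A pure vector. -/
def pure (a b : Fin 2 → F) : Fin 2 × Fin 2 → F := fun z => a z.1 * b z.2

lemma beta_pure (a b a' b' : Fin 2 → F) : beta (pure a b) (pure a' b') = area a a' * area b b' := by
  simp only [beta, pure, area]; ring

lemma exists_pure (h2 : (2 : F) ≠ 0) {v : Fin 2 × Fin 2 → F} (hv : beta v v = 0) : ∃ a b, v = pure a b := by
  have hdet : v (0, 0) * v (1, 1) = v (0, 1) * v (1, 0) := by
    have : (2 : F) * (v (0, 0) * v (1, 1) - v (0, 1) * v (1, 0)) = 0 := by
      simp only [beta] at hv; linear_combination hv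
    exact sub_eq_zero.mp ((mul_eq_zero.mp this).resolve_left h2)
  by_cases h0 : v (0, 0) = 0
  · rw [h0, zero_mul, eq_comm, mul_eq_zero] at hdet
    rcases hdet with h | h
    · exact ⟨![0, 1], ![v (1, 0), v (1, 1)], by funext ⟨i, j⟩; fin_cases i <;> fin_cases j <;> simp [pure, h0, h]⟩
    · exact ⟨![v (0, 1), v (1, 1)], ![0, 1], by funext ⟨i, j⟩; fin_cases i <;> fin_cases j <;> simp [pure, h0, h]⟩
  · refine ⟨![1, v (1, 0) / v (0, 0)], ![v (0, 0), v (0, 1)], ?_⟩
    funext ⟨i, j⟩
    fin_cases i <;> fin_cases j <;> simp [pure] <;> field_simp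
    linear_combination hdet

lemma prop_of_area {a b : Fin 2 → F} (ha : a ≠ 0) (h : area a b = 0) : ∃ t : F, b = t • a := by
  unfold area at h
  by_cases h0 : a 0 = 0
  · have h1 : a 1 ≠ 0 := fun h1 => ha (funext fun i => by fin_cases i <;> simp [h0, h1])
    refine ⟨b 1 / a 1, funext fun i => ?_⟩
    rw [h0, zero_mul, zero_sub, neg_eq_zero] at h
    have hb0 := (mul_eq_zero.mp h).resolve_left h1
    fin_cases i <;> simp [h0, h1, hb0]
  · refine ⟨b 0 / a 0, funext fun i => ?_⟩
    fin_cases i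
    · simp [h0]
    · simp only [Fin.mk_one, Pi.smul_apply, smul_eq_mul]
      field_simp
      linear_combination h

lemma area_smul (t : F) (a b : Fin 2 → F) : area (t • a) b = t * area a b := by
  simp only [area, Pi.smul_apply, smul_eq_mul]; ring

lemma area_self (a : Fin 2 → F) : area a a = 0 := by simp [area, mul_comm]

lemma area_swap (a b : Fin 2 → F) : area a b = - area b a := by simp only [area]; ring

/-- Transitivity of proportionality. -/
lemma area_trans {a b c : Fin 2 → F} (ha : a ≠ 0) (hb : area a b = 0) (hc : area a c = 0) : area b c = 0 := by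
  obtain ⟨s, rfl⟩ := prop_of_area ha hb
  rw [area_smul, hc, mul_zero]

/-- The images of the basis in the first case. -/
lemma columns_of_first {a b : Fin 2 × Fin 2 → (Fin 2 → F)} {μ : F} (hμ : μ ≠ 0)
    (h : ∀ z w, area (a z) (a w) * area (b z) (b w) = μ * beta (Pi.single z 1) (Pi.single w 1))
    (h01 : area (a (0, 0)) (a (0, 1)) = 0) :
    ∃ p r : Fin 2 → (Fin 2 → F), ∀ z, pure (a z) (b z) = pure (p z.1) (r z.2) := by
  have hb' : ∀ z w, beta (Pi.single z (1 : F)) (Pi.single w 1) =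
      if z.1 ≠ w.1 ∧ z.2 ≠ w.2 then (if z.1 = z.2 then 1 else -1) else 0 := by
    rintro ⟨i, j⟩ ⟨i', j'⟩
    fin_cases i <;> fin_cases j <;> fin_cases i' <;> fin_cases j' <;> simp [beta]
  have hA : area (a (0, 0)) (a (1, 1)) * area (b (0, 0)) (b (1, 1)) = μ := by rw [h, hb']; simp
  have hB : area (a (0, 1)) (a (1, 0)) * area (b (0, 1)) (b (1, 0)) = -μ := by rw [h, hb']; simp
  obtain ⟨hA1, hA2⟩ := mul_ne_zero_iff.mp (hA.trans_ne hμ)
  obtain ⟨hB1, hB2⟩ := mul_ne_zero_iff.mp (hB.trans_ne (neg_ne_zero.mpr hμ))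
  have hz : ∀ z w, z.1 = w.1 ∨ z.2 = w.2 → area (a z) (a w) = 0 ∨ area (b z) (b w) = 0 := fun z w hzw => by
    refine mul_eq_zero.mp ?_
    rw [h, hb', if_neg (by tauto), mul_zero]
  have hne : ∀ {x y : Fin 2 → F}, area x y ≠ 0 → x ≠ 0 ∧ y ≠ 0 := fun hxy =>
    ⟨fun h0 => hxy (by simp [area, h0]), fun h0 => hxy (by simp [area, h0])⟩
  obtain ⟨ha00, ha11⟩ := hne hA1
  obtain ⟨hb00, hb11⟩ := hne hA2
  obtain ⟨ha01, ha10⟩ := hne hB1
  obtain ⟨hb01, hb10⟩ := hne hB2
  have hb10' : area (b (0, 0)) (b (1, 0)) = 0 :=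
    (hz (0, 0) (1, 0) (Or.inr rfl)).resolve_left fun h' => hB1 (area_trans ha00 h01 h')
  have hb11' : area (b (0, 1)) (b (1, 1)) = 0 :=
    (hz (0, 1) (1, 1) (Or.inr rfl)).resolve_left fun h' =>
      hA1 (area_trans ha01 (by rw [area_swap, h01, neg_zero]) h')
  have ha11' : area (a (1, 0)) (a (1, 1)) = 0 := by
    refine (hz (1, 0) (1, 1) (Or.inl rfl)).resolve_right fun h' => hA2 ?_
    exact area_trans hb10 (by rw [area_swap, hb10', neg_zero]) h'
  obtain ⟨s1, hs1⟩ := prop_of_area ha00 h01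
  obtain ⟨s2, hs2⟩ := prop_of_area ha10 ha11'
  obtain ⟨t1, ht1⟩ := prop_of_area hb00 hb10'
  obtain ⟨t2, ht2⟩ := prop_of_area hb01 hb11'
  rw [hs2, ht2, area_swap _ (s2 • _), area_swap _ (t2 • _), area_smul, area_smul] at hA
  rw [hs1, ht1, area_smul, area_swap _ (t1 • _), area_smul] at hB
  have hst : s2 * t2 = s1 * t1 := by
    have e : area (a (1, 0)) (a (0, 0)) * area (b (0, 1)) (b (0, 0)) * (s2 * t2 - s1 * t1) = 0 := by
      rw [area_swap (a (0, 0)) (a (1, 0))] at hB
      rw [area_swap (b (0, 0)) (b (0, 1))] at hB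
      linear_combination hA + hB
    refine sub_eq_zero.mp ((mul_eq_zero.mp e).resolve_left (mul_ne_zero ?_ ?_))
    · intro h0
      rw [hs1, area_smul, area_swap, h0] at hB1
      simp at hB1
    · intro h0
      rw [ht1, area_swap, area_smul, area_swap, h0] at hB2
      simp at hB2
  refine ⟨![a (0, 0), t1 • a (1, 0)], ![b (0, 0), s1 • b (0, 1)], fun z => ?_⟩
  obtain ⟨i, j⟩ := z
  funext ⟨k, l⟩
  fin_cases i <;> fin_cases j <;> simp [pure, hs1, hs2, ht1, ht2] <;> first | (ring1) | linear_combination (a (1, 0) k * b (0, 1) l) * hst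

/-- A similitude of the product of two area forms is a tensor product or a swapped one. -/
theorem similitude (h2 : (2 : F) ≠ 0) {B : Matrix (Fin 2 × Fin 2) (Fin 2 × Fin 2) F} {μ : F} (hμ : μ ≠ 0)
    (h : ∀ u v, beta (B *ᵥ u) (B *ᵥ v) = μ * beta u v) :
    (∃ C D : Matrix (Fin 2) (Fin 2) F, B = C ⊗ₖ D) ∨
      ∃ C D : Matrix (Fin 2) (Fin 2) F, B = (C ⊗ₖ D).submatrix id Prod.swap := by
  have hcol : ∀ z, ∃ a b, (fun x => B x z) = pure a b := fun z => by
    refine exists_pure h2 ?_
    have h1 := h (Pi.single z 1) (Pi.single z 1)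
    rw [mulVec_single_one] at h1
    refine h1.trans ?_
    obtain ⟨i, j⟩ := z
    fin_cases i <;> fin_cases j <;> simp [beta]
  choose a b hab using hcol
  have hh : ∀ z w, area (a z) (a w) * area (b z) (b w) = μ * beta (Pi.single z 1) (Pi.single w 1) := fun z w => by
    rw [← beta_pure, ← hab, ← hab, ← h, mulVec_single_one, mulVec_single_one]
    rfl
  have h00 := hh (0, 0) (0, 1)
  rw [show beta (Pi.single (0, 0) (1 : F)) (Pi.single (0, 1) 1) = 0 by simp [beta], mul_zero] at h00
  by_cases h01 : area (a (0, 0)) (a (0, 1)) = 0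
  · obtain ⟨p, r, hpr⟩ := columns_of_first hμ hh h01
    refine Or.inl ⟨fun k i => p i k, fun l j => r j l, ?_⟩
    ext ⟨k, l⟩ ⟨i, j⟩
    have h' := congrFun ((hab (i, j)).trans (hpr (i, j))) (k, l)
    exact h'
  · have hb01 := (mul_eq_zero.mp h00).resolve_left h01
    have h10 := hh (0, 0) (1, 0)
    rw [show beta (Pi.single (0, 0) (1 : F)) (Pi.single (1, 0) 1) = 0 by simp [beta], mul_zero] at h10
    have hB := hh (0, 1) (1, 0)
    have hsw : ∀ z w, beta (Pi.single z.swap (1 : F)) (Pi.single w.swap 1) = beta (Pi.single z 1) (Pi.single w 1) := by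
      rintro ⟨i, j⟩ ⟨i', j'⟩
      fin_cases i <;> fin_cases j <;> fin_cases i' <;> fin_cases j' <;> simp [beta]
    have ha10 : area (a (0, 0)) (a (1, 0)) = 0 := by
      refine (mul_eq_zero.mp h10).resolve_right fun h' => ?_
      have hb00 : b (0, 0) ≠ 0 := by
        intro h0
        have h11 := hh (0, 0) (1, 1)
        rw [h0, show beta (Pi.single (0, 0) (1 : F)) (Pi.single (1, 1) 1) = 1 by simp [beta]] at h11
        simp [area, hμ.symm] at h11
      rw [area_trans hb00 hb01 h', mul_zero,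
        show beta (Pi.single (0, 1) (1 : F)) (Pi.single (1, 0) 1) = -1 by simp [beta]] at hB
      exact hμ (by linear_combination hB)
    obtain ⟨p, r, hpr⟩ := columns_of_first (a := fun z => a z.swap) (b := fun z => b z.swap) hμ
      (fun z w => by rw [hh, hsw]) ha10
    refine Or.inr ⟨fun k i => p i k, fun l j => r j l, ?_⟩
    ext ⟨k, l⟩ ⟨i, j⟩
    have h' := congrFun ((hab (i, j)).trans (hpr (j, i))) (k, l)
    exact h'

end CfsgLib.Aschbacher.PlusSquare
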