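import Cfsg.Agent.Aschbacher.Form.Tensor
import Cfsg.Agent.Aschbacher.General.Component

/-!
A tensor power decomposition of a group of isometries carries a tensor power of a form.
-/
set_option autoImplicit false
set_option maxHeartbeats 1000000

namespace CfsgLib.Aschbacher

open Matrix Cfsg.Geo CfsgLib.GeoClifford
open scoped MatrixGroups Kronecker commutatorElement

variable {ι : Type} [Fintype ι] [DecidableEq ι] {F : Type*} [Field F] {t d : ℕ}

omit [DecidableEq ι] in
lemma formOfGram_eq {κ : Type} [Fintype κ] (σ : F → F) (X : Matrix κ κ F) (x y : κ → F) :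
    formOfGram σ X x y = x ⬝ᵥ (X *ᵥ (σ ∘ y)) := by
  simp [formOfGram, dotProduct, mulVec, Finset.mul_sum, mul_assoc]

/-- A Gram equation read as an identity of forms. -/
lemma form_of_gram {κ : Type} [Fintype κ] [DecidableEq κ] {σ : F ≃+* F} {f : (ι → F) → (ι → F) → F}
    (hf : IsSesq σ f) (e : ι ≃ κ) (P : Matrix ι ι F) (X : Matrix κ κ F) (c : F)
    (h : Pᵀ * gramMatrix f * P.map σ = c • X.submatrix e e) (x y : κ → F) :
    f (P *ᵥ (x ∘ e)) (P *ᵥ (y ∘ e)) = c * formOfGram σ X x y := by
  rw [hf.eq_gram, comp_mulVec, ← vecMul_transpose P, ← dotProduct_mulVec, mulVec_mulVec, mulVec_mulVec, h,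
    smul_mulVec, dotProduct_smul, smul_eq_mul, formOfGram_eq, submatrix_mulVec_equiv]
  congr 1
  rw [show (σ ∘ (y ∘ e)) ∘ e.symm = σ ∘ y from funext fun i => by simp, comp_equiv_dotProduct_comp_equiv]

/-- A matrix intertwining every slot is a tensor. -/
theorem exists_tens_of_slots {Γ : Matrix (Fin t → Fin d) (Fin t → Fin d) F} (hΓ : Γ ≠ 0)
    (h : ∀ i M, ∃ M', (slot i M)ᵀ * Γ = Γ * slot i M') :
    ∃ (c : F) (Bs : Fin t → Matrix (Fin d) (Fin d) F), c ≠ 0 ∧ (∀ i, IsUnit (Bs i)) ∧ Γ = c • tens Bs := by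
  classical
  obtain ⟨a, b, hab⟩ : ∃ a b, Γ a b ≠ 0 := by
    by_contra hcon
    push Not at hcon
    exact hΓ (Matrix.ext hcon)
  have hsplit : ∀ i, ∃ (B : Matrix (Fin d) (Fin d) F) (C : ({j // j ≠ i} → Fin d) → ({j // j ≠ i} → Fin d) → F),
      IsUnit B ∧ ∀ x y, Γ x y = B (x i) (y i) * C (fun j => x j.1) (fun j => y j.1) := by
    intro i
    set en : (Fin t → Fin d) ≃ Fin d × ({j // j ≠ i} → Fin d) := Equiv.funSplitAt i (Fin d) with hen
    have hs : ∀ M : Matrix (Fin d) (Fin d) F,
        (M ⊗ₖ (1 : Matrix ({j // j ≠ i} → Fin d) ({j // j ≠ i} → Fin d) F)) =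
          (slot i M).submatrix en.symm en.symm := by
      intro M
      ext p q
      obtain ⟨x, rfl⟩ := en.surjective p
      obtain ⟨y, rfl⟩ := en.surjective q
      rw [submatrix_apply, Equiv.symm_apply_apply, Equiv.symm_apply_apply, slot_apply, kroneckerMap_apply,
        Matrix.one_apply, mul_ite, mul_one, mul_zero]
      refine if_congr ?_ rfl rfl
      simp only [hen, Equiv.funSplitAt_apply, funext_iff, Subtype.forall]
    obtain ⟨B, C, hB, hBC⟩ := exists_kronecker_gram (Γ := Γ.submatrix en.symm en.symm)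
      (by
        intro h0
        have := congrFun (congrFun h0 (en a)) (en b)
        exact hab (by simpa using this))
      (fun M => by
        obtain ⟨M', hM'⟩ := h i M
        exact ⟨M', by rw [hs, hs, transpose_submatrix, submatrix_mul_equiv, submatrix_mul_equiv, hM']⟩)
    refine ⟨B, C, hB, fun x y => ?_⟩
    have := congrFun (congrFun hBC (en x)) (en y)
    rw [submatrix_apply, Equiv.symm_apply_apply, Equiv.symm_apply_apply, kroneckerMap_apply] at this
    rw [this]
    rfl
  choose B C hB hBC using hsplit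
  have hrest : ∀ (i : Fin t) (x : Fin t → Fin d) (p : Fin d),
      (fun j : {j // j ≠ i} => Function.update x i p j.1) = fun j : {j // j ≠ i} => x j.1 :=
    fun i x p => funext fun j => Function.update_of_ne j.2 _ _
  have hex : ∀ i x y, Γ x y * Γ a b =
      Γ (Function.update x i (a i)) (Function.update y i (b i)) *
        Γ (Function.update a i (x i)) (Function.update b i (y i)) := by
    intro i x y
    simp only [hBC i, hrest, Function.update_self]
    ring
  let u : Fin t → Matrix (Fin d) (Fin d) F :=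
    fun i => Matrix.of fun p q => Γ (Function.update a i p) (Function.update b i q)
  have key : ∀ (x y : Fin t → Fin d) (S : Finset (Fin t)),
      Γ (S.piecewise x a) (S.piecewise y b) * Γ a b ^ S.card = Γ a b * ∏ i ∈ S, u i (x i) (y i) := by
    intro x y S
    induction S using Finset.induction_on with
    | empty => simp
    | insert i S hi ih =>
      have hk := hex i ((insert i S).piecewise x a) ((insert i S).piecewise y b)
      have e1 : ∀ (x a : Fin t → Fin d), Function.update ((insert i S).piecewise x a) i (a i) = S.piecewise x a := by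
        intro x a
        funext l
        by_cases hl : l = i
        · subst hl; simp [hi]
        · simp [Function.update_of_ne hl, Finset.piecewise, hl]
      rw [e1, e1, Finset.piecewise_insert_self, Finset.piecewise_insert_self] at hk
      rw [Finset.card_insert_of_notMem hi, pow_succ', ← mul_assoc, hk, Finset.prod_insert hi, mul_right_comm, ih]
      simp only [u, Matrix.of_apply]
      ring
  refine ⟨Γ a b / Γ a b ^ t, u, div_ne_zero hab (pow_ne_zero _ hab), fun i => ?_, Matrix.ext fun x y => ?_⟩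
  · have hC : C i (fun j => a j.1) (fun j => b j.1) ≠ 0 := fun h0 => hab (by rw [hBC i, h0, mul_zero])
    have hu : u i = C i (fun j => a j.1) (fun j => b j.1) • B i := by
      ext p q
      simp only [u, Matrix.of_apply, hBC i, hrest, Function.update_self, Matrix.smul_apply, smul_eq_mul]
      ring
    rw [hu]
    simpa [Units.smul_def] using (hB i).smul (Units.mk0 _ hC)
  · have hk := key x y Finset.univ
    rw [Finset.piecewise_univ, Finset.piecewise_univ, Finset.card_univ, Fintype.card_fin] at hk
    simp only [Matrix.smul_apply, tens, Matrix.of_apply, smul_eq_mul]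
    rw [div_mul_eq_mul_div, eq_div_iff (pow_ne_zero _ hab), hk]

/-- Proportional tensors of invertible factors have proportional factors. -/
lemma tens_factor {a b : Fin t → Matrix (Fin d) (Fin d) F} {c : F} (ha : ∀ i, IsUnit (a i))
    (h : tens a = c • tens b) (hd : 0 < d) (i : Fin t) :
    ∃ s : F, s ≠ 0 ∧ a i = s • b i := by
  classical
  have hne : ∀ j, ∃ p q, a j p q ≠ 0 := fun j => by
    by_contra hcon
    push Not at hcon
    have : Nontrivial (Matrix (Fin d) (Fin d) F) := by
      have : Nonempty (Fin d) := ⟨⟨0, hd⟩⟩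
      infer_instance
    exact (ha j).ne_zero (Matrix.ext hcon)
  choose x y hxy using hne
  have key : ∀ p q, a i p q * ∏ j ∈ Finset.univ.erase i, a j (x j) (y j) =
      b i p q * (c * ∏ j ∈ Finset.univ.erase i, b j (x j) (y j)) := by
    intro p q
    have h1 := congrFun (congrFun h (Function.update x i p)) (Function.update y i q)
    simp only [tens, Matrix.smul_apply, Matrix.of_apply, smul_eq_mul] at h1
    rw [← Finset.mul_prod_erase _ _ (Finset.mem_univ i), ← Finset.mul_prod_erase _ _ (Finset.mem_univ i),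
      Function.update_self, Function.update_self] at h1
    rw [Finset.prod_congr rfl fun j hj => by rw [Function.update_of_ne (Finset.ne_of_mem_erase hj),
      Function.update_of_ne (Finset.ne_of_mem_erase hj)]] at h1
    rw [h1, Finset.prod_congr rfl fun j hj => by rw [Function.update_of_ne (Finset.ne_of_mem_erase hj),
      Function.update_of_ne (Finset.ne_of_mem_erase hj)]]
    ring
  have hA : ∏ j ∈ Finset.univ.erase i, a j (x j) (y j) ≠ 0 := Finset.prod_ne_zero_iff.mpr fun j _ => hxy j
  refine ⟨c * (∏ j ∈ Finset.univ.erase i, b j (x j) (y j)) / ∏ j ∈ Finset.univ.erase i, a j (x j) (y j), ?_, ?_⟩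
  · intro h0
    have h2 := key (x i) (y i)
    rw [(div_eq_zero_iff.mp h0).resolve_right hA, mul_zero] at h2
    exact mul_ne_zero (hxy i) hA h2
  · ext p q
    rw [Matrix.smul_apply, smul_eq_mul, div_mul_eq_mul_div, eq_div_iff hA, key]
    ring

lemma tens_update_injective {b : Fin t → Matrix (Fin d) (Fin d) F} (hb : ∀ i, IsUnit (b i)) (hd : 0 < d)
    {i : Fin t} {X : Matrix (Fin d) (Fin d) F} (h : tens (Function.update b i X) = tens b) : X = b i := by
  classical
  have hne : ∀ j, ∃ p q, b j p q ≠ 0 := fun j => by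
    by_contra hcon
    push Not at hcon
    have : Nonempty (Fin d) := ⟨⟨0, hd⟩⟩
    exact (hb j).ne_zero (Matrix.ext hcon)
  choose x y hxy using hne
  ext p q
  have h1 := congrFun (congrFun h (Function.update x i p)) (Function.update y i q)
  simp only [tens, Matrix.of_apply] at h1
  rw [← Finset.mul_prod_erase _ _ (Finset.mem_univ i), ← Finset.mul_prod_erase _ _ (Finset.mem_univ i)] at h1
  simp only [Function.update_self] at h1
  have e1 : ∀ w : Fin t → Matrix (Fin d) (Fin d) F, (∀ j, j ≠ i → w j = b j) →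
      ∏ j ∈ Finset.univ.erase i, w j (Function.update x i p j) (Function.update y i q j) =
        ∏ j ∈ Finset.univ.erase i, b j (x j) (y j) := fun w hw => Finset.prod_congr rfl fun j hj => by
    rw [Function.update_of_ne (Finset.ne_of_mem_erase hj), Function.update_of_ne (Finset.ne_of_mem_erase hj),
      hw j (Finset.ne_of_mem_erase hj)]
  rw [e1 _ (fun j hj => Function.update_of_ne hj _ _), e1 _ (fun j _ => rfl)] at h1
  exact mul_right_cancel₀ (Finset.prod_ne_zero_iff.mpr fun j _ => hxy j) h1

lemma slot_injective {i : Fin t} (hd : 0 < d) {M M' : Matrix (Fin d) (Fin d) F} (h : slot i M = slot i M') :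
    M = M' := by
  ext p q
  have := congrFun (congrFun h (Function.update (fun _ => ⟨0, hd⟩) i p)) (Function.update (fun _ => ⟨0, hd⟩) i q)
  rw [slot_apply, slot_apply, if_pos (fun l hl => by simp [Function.update_of_ne hl]),
    if_pos (fun l hl => by simp [Function.update_of_ne hl]), Function.update_self, Function.update_self] at this
  exact this

lemma slot_mul (i : Fin t) (M M' : Matrix (Fin d) (Fin d) F) : slot i M * slot i M' = slot i (M * M') := by
  rw [slot, slot, slot, tens_mul]
  congr 1
  funext l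
  by_cases hl : l = i
  · subst hl; simp
  · simp [Function.update_of_ne hl]

lemma slot_one (i : Fin t) : slot i (1 : Matrix (Fin d) (Fin d) F) = 1 := by
  rw [slot, Function.update_eq_self_iff.mpr rfl, tens_one]

lemma slot_map (σ : F ≃+* F) (i : Fin t) (M : Matrix (Fin d) (Fin d) F) : (slot i M).map σ = slot i (M.map σ) := by
  ext x y
  simp only [Matrix.map_apply, slot_apply, apply_ite σ, map_zero]

lemma tens_map (σ : F ≃+* F) (a : Fin t → Matrix (Fin d) (Fin d) F) :
    (tens a).map σ = tens fun i => (a i).map σ := by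
  ext x y
  simp [tens, map_prod]

lemma permMat_map (σ : F ≃+* F) (π : Equiv.Perm (Fin t)) :
    (permMat d π : Matrix _ _ F).map σ = permMat d π := by
  ext x y
  simp [permMat, apply_ite σ]

lemma HasTensForm.mem_wreath (ht : 0 < t) {e : ι ≃ (Fin t → Fin d)} {P h : GL ι F} {gs : Fin t → GL (Fin d) F}
    {π : Equiv.Perm (Fin t)} (hT : HasTensForm e P h gs π) : h ∈ tensorWreathSubgroup d t e P := by
  obtain ⟨c, hc0, hK⟩ := hT
  let z0 : Fin t := ⟨0, ht⟩
  let s : Fin t → F := fun i => if i = z0 then c else 1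
  let sc : GL (Fin d) F := Units.map (Matrix.scalar (Fin d) : F →+* Matrix (Fin d) (Fin d) F).toMonoidHom (Units.mk0 c hc0)
  refine mem_tensorWreathSubgroup e P (fun i => if i = z0 then sc * gs i else gs i) π ?_
  rw [hK]
  have hval : (fun i => (((if i = z0 then sc * gs i else gs i) : GL (Fin d) F) : Matrix (Fin d) (Fin d) F)) =
      fun i => s i • (gs i : Matrix (Fin d) (Fin d) F) := by
    funext i
    by_cases hi : i = z0
    · simp [hi, s, sc, Matrix.scalar_apply, ← Matrix.smul_one_eq_diagonal]
    · simp [hi, s]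
  rw [hval, tens_smul, smul_mul_assoc]
  simp [s]
  rfl

/-- The form is a tensor power in coordinates preserved up to permutations of the factors. -/
structure IsPowerGram (σ : F ≃+* F) (f : (ι → F) → (ι → F) → F) (G : Subgroup (GL ι F))
    (e : ι ≃ (Fin t → Fin d)) (P : GL ι F) (B : Matrix (Fin d) (Fin d) F) (c : F) : Prop where
  ne_zero : c ≠ 0
  unit : IsUnit B
  gram : (P : Matrix ι ι F)ᵀ * gramMatrix f * (P : Matrix ι ι F).map σ = c • (tens fun _ => B).submatrix e e
  form : ∀ h ∈ G, ∃ gs π, HasTensForm e P h gs π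

namespace IsRefl

variable {σ : F ≃+* F} {ε : F} {f : (ι → F) → (ι → F) → F}

lemma gram_coords (hf : IsRefl σ ε f) (x y P : Matrix ι ι F) (hP : IsUnit P)
    (h : xᵀ * gramMatrix f = gramMatrix f * y.map σ) (X Y : Matrix ι ι F) (hX : x * P = P * X) (hY : y * P = P * Y) :
    Xᵀ * (Pᵀ * gramMatrix f * P.map σ) = Pᵀ * gramMatrix f * P.map σ * Y.map σ := by
  calc Xᵀ * (Pᵀ * gramMatrix f * P.map σ) = (P * X)ᵀ * gramMatrix f * P.map σ := by
        rw [transpose_mul]; simp only [mul_assoc]
    _ = Pᵀ * (xᵀ * gramMatrix f) * P.map σ := by rw [← hX, transpose_mul]; simp only [mul_assoc]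
    _ = Pᵀ * gramMatrix f * (y * P).map σ := by rw [h, Matrix.map_mul]; simp only [mul_assoc]
    _ = _ := by rw [hY, Matrix.map_mul]; simp only [mul_assoc]

variable [Fintype F]

/-- A tensor power decomposition of a group of isometries is a tensor power of a form, and a factor carries a
non-trivial perfect group of isometries. -/
theorem exists_powerGram (hf : IsRefl σ ε f) [Nonempty ι] {G N : Subgroup (GL ι F)}
    (hfix : FixesForm (matrixSet G) f) (hN : N ≤ G) {e : ι ≃ (Fin t → Fin d)} {P : GL ι F}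
    (hD : IsPowerDecomp G N e P) :
    ∃ (P' : GL ι F) (B : Matrix (Fin d) (Fin d) F) (c : F), IsPowerGram σ f G e P' B c ∧
      ∃ K : Subgroup (GL (Fin d) F), K ≠ ⊥ ∧ ⁅K, K⁆ = K ∧
        ∀ g ∈ K, (g : Matrix (Fin d) (Fin d) F)ᵀ * B * (g : Matrix (Fin d) (Fin d) F).map σ = B := by
  classical
  have hd : 0 < d := by have := hD.two_le_dim; omega
  set Pm : Matrix ι ι F := (P : Matrix ι ι F) with hPm
  set Q : Matrix ι ι F := ((P⁻¹ : GL ι F) : Matrix ι ι F) with hQ
  set Γ₀ : Matrix ι ι F := Pmᵀ * gramMatrix f * Pm.map σ with hΓ₀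
  have hΓu : IsUnit Γ₀ :=
    (((Matrix.isUnit_transpose _).mpr P.isUnit).mul (gram_isUnit hf.sesq hf.nd)).mul
      (P.isUnit.map (σ : F →+* F).mapMatrix)
  have hcoord : ∀ (x X : Matrix ι ι F), Q * x * Pm = X → x * Pm = Pm * X := fun x X h => by
    rw [← h, hPm, hQ]; simp [← mul_assoc]
  obtain ⟨c, Bs, hc, hBs, hΓ⟩ : ∃ (c : F) (Bs : Fin t → Matrix (Fin d) (Fin d) F),
      c ≠ 0 ∧ (∀ i, IsUnit (Bs i)) ∧ Γ₀ = c • (tens Bs).submatrix e e := by
    obtain ⟨c, Bs, hc, hBs, h⟩ := exists_tens_of_slots (Γ := Γ₀.submatrix e.symm e.symm)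
      (fun h0 => hΓu.ne_zero (Matrix.ext fun i j => by simpa using congrFun (congrFun h0 (e i)) (e j)))
      (fun i M => by
        obtain ⟨A, hAN, -, -, hA1, hA2⟩ := hD.slots i
        have hxA := hA2 M
        obtain ⟨M', hM'⟩ := hA1 _ (hf.adjoin_adjClosed
          (fun s hs u v => hfix s (by obtain ⟨a, ha, rfl⟩ := hs; exact coe_mem_matrixSet (hN (hAN ha))) u v) hxA)
        refine ⟨M'.map σ, ?_⟩
        have h1 := hf.gram_coords _ _ Pm P.isUnit (hf.gram_adj _) _ _
          (hcoord _ ((slot i M).submatrix e e) (by rw [hPm, hQ]; simp [← mul_assoc])) (hcoord _ _ hM')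
        rw [← hΓ₀] at h1
        have h2 := congrArg (fun X : Matrix ι ι F => X.submatrix e.symm e.symm) h1
        simp only [← submatrix_mul_equiv _ _ (e.symm) (e.symm) (e.symm), transpose_submatrix, submatrix_submatrix,
          ← Matrix.submatrix_map, Equiv.self_comp_symm, submatrix_id_id, slot_map] at h2
        exact h2)
    refine ⟨c, Bs, hc, hBs, ?_⟩
    have := congrArg (fun X : Matrix _ _ F => X.submatrix e e) h
    simpa [submatrix_submatrix, Matrix.submatrix_smul] using this
  -- isometries in coordinates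
  have hiso : ∀ h ∈ G, ∀ X : Matrix (Fin t → Fin d) (Fin t → Fin d) F, Q * (h : Matrix ι ι F) * Pm = X.submatrix e e →
      Xᵀ * tens Bs * X.map σ = tens Bs := by
    intro h hh X hX
    have h1 := (fixes_iff hf.sesq _).mp (fun u v => hfix _ (coe_mem_matrixSet hh) u v)
    have h2 : (X.submatrix e e)ᵀ * Γ₀ * (X.submatrix e e).map σ = Γ₀ := by
      calc _ = (Pm * X.submatrix e e)ᵀ * gramMatrix f * (Pm * X.submatrix e e).map σ := by
            rw [hΓ₀, transpose_mul, Matrix.map_mul]; simp only [mul_assoc]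
        _ = Pmᵀ * ((h : Matrix ι ι F)ᵀ * gramMatrix f * (h : Matrix ι ι F).map σ) * Pm.map σ := by
            rw [← hcoord _ _ hX, transpose_mul, Matrix.map_mul]; simp only [mul_assoc]
        _ = _ := by rw [h1]
    rw [hΓ, transpose_submatrix, ← Matrix.submatrix_map, mul_smul_comm, smul_mul_assoc, submatrix_mul_equiv,
      submatrix_mul_equiv] at h2
    have h3 := smul_right_injective _ hc h2
    have h4 := congrArg (fun X : Matrix ι ι F => X.submatrix e.symm e.symm) h3
    simpa [submatrix_submatrix] using h4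
  have hrel : ∀ h ∈ G, ∀ gs π, HasTensForm e P h gs π → ∀ i, ∃ s : F, s ≠ 0 ∧
      (gs (π i) : Matrix (Fin d) (Fin d) F)ᵀ * Bs (π i) * (gs (π i) : Matrix (Fin d) (Fin d) F).map σ = s • Bs i := by
    intro h hh gs π hT i
    obtain ⟨a, ha, hK⟩ := hT
    have h1 := hiso h hh (a • (tens (fun i => (gs i : Matrix (Fin d) (Fin d) F)) * permMat d π))
      (hK.trans (by ext u v; simp))
    have hm : (a • (tens (fun i => (gs i : Matrix (Fin d) (Fin d) F)) * permMat d π)).map σ =
        σ a • ((tens (fun i => (gs i : Matrix (Fin d) (Fin d) F)) * permMat d π).map σ) := by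
      ext x y; simp only [Matrix.map_apply, Matrix.smul_apply, smul_eq_mul, map_mul]
    rw [hm, transpose_smul, smul_mul_assoc, smul_mul_assoc, mul_smul_comm, smul_smul, Matrix.map_mul,
      transpose_mul, tens_transpose, tens_map, permMat_map, permMat_transpose] at h1
    have e1 : (permMat d π.symm : Matrix _ _ F) * tens (fun i => (gs i : Matrix (Fin d) (Fin d) F)ᵀ) * tens Bs *
        (tens (fun i => (gs i : Matrix (Fin d) (Fin d) F).map σ) * permMat d π) =
        tens (fun i => (gs (π i) : Matrix (Fin d) (Fin d) F)ᵀ * Bs (π i) *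
          (gs (π i) : Matrix (Fin d) (Fin d) F).map σ) := by
      calc _ = (permMat d π.symm : Matrix _ _ F) * (tens (fun i => (gs i : Matrix (Fin d) (Fin d) F)ᵀ) * tens Bs *
            tens (fun i => (gs i : Matrix (Fin d) (Fin d) F).map σ)) * permMat d π := by simp only [mul_assoc]
        _ = _ := by
          rw [tens_mul, tens_mul, permMat_mul_tens, mul_assoc]
          have h2 := permMat_mul_inv (m := d) (F := F) π.symm
          rw [Equiv.symm_symm] at h2
          rw [h2, mul_one]
          simp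
    rw [e1] at h1
    have h2 : tens (fun i => (gs (π i) : Matrix (Fin d) (Fin d) F)ᵀ * Bs (π i) *
        (gs (π i) : Matrix (Fin d) (Fin d) F).map σ) = (a * σ a)⁻¹ • tens Bs := by
      rw [eq_inv_smul_iff₀ (mul_ne_zero ha (by simpa using ha))]
      exact h1
    exact tens_factor (fun j => (((Matrix.isUnit_transpose _).mpr (gs (π j)).isUnit).mul (hBs _)).mul
      ((gs (π j)).isUnit.map (σ : F →+* F).mapMatrix)) h2 hd i
  let i0 : Fin t := ⟨0, by have := hD.two_le_count; omega⟩
  have hg : ∀ i, ∃ (g : GL (Fin d) F) (s : F), s ≠ 0 ∧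
      (g : Matrix (Fin d) (Fin d) F)ᵀ * Bs i * (g : Matrix (Fin d) (Fin d) F).map σ = s • Bs i0 := by
    intro i
    obtain ⟨h, hh, gs, π, hT, hπ⟩ := hD.transitive i0 i
    obtain ⟨s, hs, h1⟩ := hrel h hh gs π hT i0
    rw [hπ] at h1
    exact ⟨gs i, s, hs, h1⟩
  choose g s hs hgB using hg
  set T : GL ι F := glReindex e.symm (tensUnit g) with hTdef
  have hTv : (T : Matrix ι ι F) = (tens fun i => (g i : Matrix (Fin d) (Fin d) F)).submatrix e e := rfl
  have hTi : ((T⁻¹ : GL ι F) : Matrix ι ι F) =
      (tens fun i => (((g i)⁻¹ : GL (Fin d) F) : Matrix (Fin d) (Fin d) F)).submatrix e e := rfl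
  refine ⟨P * T, Bs i0, c * ∏ i, s i, ⟨mul_ne_zero hc (Finset.prod_ne_zero_iff.mpr fun i _ => hs i), hBs i0, ?_,
    fun h hh => ?_⟩, ?_⟩
  · rw [Units.val_mul, ← hPm]
    calc _ = (T : Matrix ι ι F)ᵀ * Γ₀ * (T : Matrix ι ι F).map σ := by
          rw [hΓ₀, transpose_mul, Matrix.map_mul]; simp only [mul_assoc]
      _ = _ := by
        rw [hΓ, hTv, transpose_submatrix, ← Matrix.submatrix_map, mul_smul_comm, smul_mul_assoc, submatrix_mul_equiv,
          submatrix_mul_equiv, tens_transpose, tens_map, tens_mul, tens_mul, mul_smul, funext hgB, tens_smul]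
        rfl
  · obtain ⟨gs, π, a, ha, hK⟩ := hD.form h hh
    refine ⟨fun i => (g i)⁻¹ * gs i * g (π.symm i), π, a, ha, ?_⟩
    calc _ = ((T⁻¹ : GL ι F) : Matrix ι ι F) * (Q * (h : Matrix ι ι F) * Pm) * (T : Matrix ι ι F) := by
          rw [hQ, hPm, _root_.mul_inv_rev, Units.val_mul, Units.val_mul]; simp only [mul_assoc]
      _ = _ := by
        rw [hQ, hPm, hK, hTi, hTv, mul_smul_comm, smul_mul_assoc, submatrix_mul_equiv, submatrix_mul_equiv]
        congr 2
        rw [mul_assoc, mul_assoc, permMat_mul_tens, ← mul_assoc, ← mul_assoc, tens_mul, tens_mul]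
        simp [Units.val_mul]
  obtain ⟨A, hAN, hAp, hAs, hA1, -⟩ := hD.slots i0
  have hM : ∀ a : A, ∃ M, Q * ((a : GL ι F) : Matrix ι ι F) * Pm = (slot i0 M).submatrix e e :=
    fun a => hA1 _ (Algebra.subset_adjoin (coe_mem_matrixSet a.2))
  choose M hM using hM
  have hinjS : ∀ X Y : Matrix (Fin d) (Fin d) F, (slot i0 X).submatrix e e = (slot i0 Y).submatrix e e → X = Y := by
    intro X Y hXY
    have h4 := congrArg (fun X : Matrix ι ι F => X.submatrix e.symm e.symm) hXY
    exact slot_injective hd (by simpa [submatrix_submatrix] using h4)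
  let ψ : A →* Matrix (Fin d) (Fin d) F :=
    { toFun := M
      map_one' := hinjS _ _ (by rw [← hM, slot_one, submatrix_one_equiv]; simp [hQ, hPm])
      map_mul' := fun a b => hinjS _ _ (by
        rw [← slot_mul, ← submatrix_mul_equiv _ _ _ e, ← hM, ← hM, ← hM, hQ, hPm]
        simp [mul_assoc]) }
  let φ : A →* GL (Fin d) F := ψ.toHomUnits
  refine ⟨φ.range, ?_, ?_, ?_⟩
  · intro h0
    refine hAs fun a ha => ?_
    have h1 : φ ⟨a, ha⟩ = 1 := Subgroup.mem_bot.mp (h0 ▸ ⟨_, rfl⟩)
    have h2 : M ⟨a, ha⟩ = 1 := congrArg Units.val h1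
    have h3 := hcoord _ _ (hM ⟨a, ha⟩)
    rw [h2, slot_one, submatrix_one_equiv, mul_one] at h3
    have h4 : a * P = P := Units.ext h3
    have : a = 1 := mul_eq_right.mp h4
    rw [this]
    exact Subgroup.one_mem _
  · have htop : ⁅(⊤ : Subgroup A), (⊤ : Subgroup A)⁆ = ⊤ := by
      apply Subgroup.map_injective A.subtype_injective
      rw [Subgroup.map_commutator, ← MonoidHom.range_eq_map, Subgroup.range_subtype, hAp]
    rw [MonoidHom.range_eq_map, ← Subgroup.map_commutator, htop]
  · rintro _ ⟨a, rfl⟩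
    have h1 := hiso _ (hN (hAN a.2)) _ (hM a)
    refine tens_update_injective hBs hd (i := i0) ?_
    rw [slot_map, slot, slot, tens_transpose, tens_mul, tens_mul] at h1
    refine Eq.trans ?_ h1
    congr 1
    funext l
    by_cases hl : l = i0
    · subst hl
      simp [φ, ψ]
    · simp [Function.update_of_ne hl]

end IsRefl

end CfsgLib.Aschbacher
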