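import Cfsg.Prelude.Def_GeometricClasses
import Mathlib.Data.ZMod.Basic
import Mathlib.Tactic

/-!
The central product of a quaternion and a dihedral group of order eight, as an abstract group and as a group
of matrices in dimension four over three elements.
-/
set_option autoImplicit false

namespace CfsgLib.Aschbacher

open Matrix Cfsg Cfsg.Geo

namespace QD

/-- The central product of a quaternion and a dihedral group: a sign and an index for each factor. -/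
@[ext]
structure E where
  /-- the central sign -/
  s : ZMod 2
  /-- the index in the quaternion factor -/
  a : Fin 4
  /-- the index in the dihedral factor -/
  b : Fin 4
deriving DecidableEq

instance : Fintype E :=
  Fintype.ofEquiv (ZMod 2 × Fin 4 × Fin 4)
    { toFun := fun p => ⟨p.1, p.2.1, p.2.2⟩, invFun := fun x => (x.s, x.a, x.b),
      left_inv := fun _ => rfl, right_inv := fun _ => rfl }

/-- The product of two indices. -/
def idx : Fin 4 → Fin 4 → Fin 4 := ![![0, 1, 2, 3], ![1, 0, 3, 2], ![2, 3, 0, 1], ![3, 2, 1, 0]]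
/-- The sign in the quaternion factor. -/
def sX : Fin 4 → Fin 4 → ZMod 2 := ![![0, 0, 0, 0], ![0, 1, 0, 1], ![0, 1, 1, 0], ![0, 0, 1, 1]]
/-- The sign in the dihedral factor. -/
def sB : Fin 4 → Fin 4 → ZMod 2 := ![![0, 0, 0, 0], ![0, 1, 0, 1], ![0, 1, 0, 1], ![0, 0, 0, 0]]

lemma idx_assoc : ∀ a b c, idx (idx a b) c = idx a (idx b c) := by decide +kernel
lemma sX_cocycle : ∀ a b c, sX a b + sX (idx a b) c = sX a (idx b c) + sX b c := by decide +kernel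
lemma sB_cocycle : ∀ a b c, sB a b + sB (idx a b) c = sB a (idx b c) + sB b c := by decide +kernel

instance : Mul E := ⟨fun x y => ⟨x.s + y.s + sX x.a y.a + sB x.b y.b, idx x.a y.a, idx x.b y.b⟩⟩
instance : One E := ⟨⟨0, 0, 0⟩⟩
instance : Inv E := ⟨fun x => ⟨x.s + sX x.a x.a + sB x.b x.b, x.a, x.b⟩⟩

lemma mul_def (x y : E) : x * y = ⟨x.s + y.s + sX x.a y.a + sB x.b y.b, idx x.a y.a, idx x.b y.b⟩ := rfl

instance : Group E where
  mul_assoc x y z := by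
    simp only [mul_def, idx_assoc, E.ext_iff, and_true]
    linear_combination sX_cocycle x.a y.a z.a + sB_cocycle x.b y.b z.b
  one_mul := by decide +kernel
  mul_one := by decide +kernel
  inv_mul_cancel := by decide +kernel

lemma card_E : Nat.card E = 32 := by rw [Nat.card_eq_fintype_card]; decide +kernel

lemma pow_four : ∀ x : E, (x * x) * (x * x) = 1 := by decide +kernel

lemma exponent_E : Monoid.exponent E = 4 := by
  obtain ⟨k, hk, h⟩ := (Nat.dvd_prime_pow Nat.prime_two).mp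
    (show Monoid.exponent E ∣ 2 ^ 2 from Monoid.exponent_dvd_of_forall_pow_eq_one fun x => by
      simpa [pow_succ, mul_assoc] using pow_four x)
  have hne : (⟨0, 1, 0⟩ : E) ^ 2 ≠ 1 := by rw [sq]; decide +kernel
  have := Monoid.pow_exponent_eq_one (⟨0, 1, 0⟩ : E)
  interval_cases k
  · rw [h] at this
    exact absurd this (by decide +kernel)
  · rw [h] at this
    exact absurd this hne
  · exact h

lemma mem_center_iff' : ∀ x : E, (∀ y, y * x = x * y) ↔ x.a = 0 ∧ x.b = 0 := by decide +kernel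

lemma card_center : Nat.card (Subgroup.center E) = 2 := by
  have h : ∀ x, x ∈ Subgroup.center E ↔ x.a = 0 ∧ x.b = 0 := fun x => by
    rw [Subgroup.mem_center_iff]
    exact mem_center_iff' x
  rw [Nat.card_congr (Equiv.subtypeEquivRight h), Nat.card_eq_fintype_card]
  decide +kernel

lemma commuting_involutions : ∀ x y : E, (x * x = 1 ∧ y * y = 1 ∧ x * y = y * x) →
    (x.a = 0 ∧ x.b = 0) ∨ (y.a = 0 ∧ y.b = 0) ∨ (y.a = x.a ∧ y.b = x.b) := by decide +kernel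

lemma card_lt (A : Subgroup E) (hA : IsMulCommutative A) (h2 : ∀ x ∈ A, x * x = 1) : Nat.card A < 2 ^ (2 + 1) := by
  classical
  have hc : ∀ x ∈ A, ∀ y ∈ A, x * y = y * x := fun x hx y hy =>
    congrArg Subtype.val (hA.is_comm.comm ⟨x, hx⟩ ⟨y, hy⟩)
  obtain ⟨a, b, hab⟩ : ∃ a b : Fin 4, ∀ y ∈ A, (y.a = 0 ∧ y.b = 0) ∨ (y.a = a ∧ y.b = b) := by
    by_cases h : ∀ y ∈ A, y.a = 0 ∧ y.b = 0
    · exact ⟨0, 0, fun y hy => Or.inl (h y hy)⟩
    push Not at h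
    obtain ⟨x, hx, hne⟩ := h
    refine ⟨x.a, x.b, fun y hy => ?_⟩
    rcases commuting_involutions x y ⟨h2 x hx, h2 y hy, hc x hx y hy⟩ with h | h | h
    · exact absurd h.2 (hne h.1)
    · exact Or.inl h
    · exact Or.inr h
  have hle : Nat.card A ≤ Nat.card (ZMod 2 × Bool) :=
    Nat.card_le_card_of_injective (fun y => ((y : E).s, decide ((y : E).a = 0 ∧ (y : E).b = 0))) fun y z h => by
      obtain ⟨h1, h3⟩ := Prod.mk.injEq .. ▸ h
      rw [decide_eq_decide] at h3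
      apply Subtype.ext
      rcases hab y y.2 with hy | hy
      · exact E.ext h1 (hy.1.trans (h3.mp hy).1.symm) (hy.2.trans (h3.mp hy).2.symm)
      · rcases hab z z.2 with hz | hz
        · exact E.ext h1 ((h3.mpr hz).1.trans hz.1.symm) ((h3.mpr hz).2.trans hz.2.symm)
        · exact E.ext h1 (hy.1.trans hz.1.symm) (hy.2.trans hz.2.symm)
  simp only [Nat.card_eq_fintype_card, Fintype.card_prod, ZMod.card, Fintype.card_bool] at hle ⊢
  omega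

/-- The place of an element in the tables. -/
def pos (x : E) : Fin 32 := ⟨(x.s.val * 16 + x.a.val * 4 + x.b.val) % 32, Nat.mod_lt _ (by norm_num)⟩
/-- The table of the first automorphism. -/
def tab₁ : Fin 32 → E := ![⟨0, 0, 0⟩, ⟨1, 1, 0⟩, ⟨1, 3, 1⟩, ⟨1, 2, 1⟩, ⟨0, 0, 1⟩, ⟨1, 1, 1⟩, ⟨0, 3, 0⟩, ⟨0, 2, 0⟩, ⟨0, 1, 2⟩, ⟨0, 0, 2⟩, ⟨1, 2, 3⟩, ⟨0, 3, 3⟩, ⟨0, 1, 3⟩, ⟨0, 0, 3⟩, ⟨0, 2, 2⟩, ⟨1, 3, 2⟩, ⟨1, 0, 0⟩, ⟨0, 1, 0⟩, ⟨0, 3, 1⟩, ⟨0, 2, 1⟩, ⟨1, 0, 1⟩, ⟨0, 1, 1⟩, ⟨1, 3, 0⟩, ⟨1, 2, 0⟩, ⟨1, 1, 2⟩, ⟨1, 0, 2⟩, ⟨0, 2, 3⟩, ⟨1, 3, 3⟩, ⟨1, 1, 3⟩, ⟨1, 0, 3⟩, ⟨1, 2, 2⟩, ⟨0, 3, 2⟩]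
/-- The table of the second automorphism. -/
def tab₂ : Fin 32 → E := ![⟨0, 0, 0⟩, ⟨0, 2, 3⟩, ⟨1, 2, 1⟩, ⟨0, 0, 2⟩, ⟨0, 2, 0⟩, ⟨1, 0, 3⟩, ⟨0, 0, 1⟩, ⟨0, 2, 2⟩, ⟨0, 1, 2⟩, ⟨1, 3, 1⟩, ⟨0, 3, 3⟩, ⟨0, 1, 0⟩, ⟨1, 3, 2⟩, ⟨1, 1, 1⟩, ⟨0, 1, 3⟩, ⟨1, 3, 0⟩, ⟨1, 0, 0⟩, ⟨1, 2, 3⟩, ⟨0, 2, 1⟩, ⟨1, 0, 2⟩, ⟨1, 2, 0⟩, ⟨0, 0, 3⟩, ⟨1, 0, 1⟩, ⟨1, 2, 2⟩, ⟨1, 1, 2⟩, ⟨0, 3, 1⟩, ⟨1, 3, 3⟩, ⟨1, 1, 0⟩, ⟨0, 3, 2⟩, ⟨0, 1, 1⟩, ⟨1, 1, 3⟩, ⟨0, 3, 0⟩]

lemma tab₁_mul : ∀ x y : E, tab₁ (pos (x * y)) = tab₁ (pos x) * tab₁ (pos y) := by decide +kernel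
lemma tab₂_mul : ∀ x y : E, tab₂ (pos (x * y)) = tab₂ (pos x) * tab₂ (pos y) := by decide +kernel
lemma tab₁_inj : ∀ x : E, tab₁ (pos x) = 1 → x = 1 := by decide +kernel
lemma tab₂_inj : ∀ x : E, tab₂ (pos x) = 1 → x = 1 := by decide +kernel
lemma moved : ∀ x : E, ¬ (x.a = 0 ∧ x.b = 0) →
    x * tab₁ (pos x) ≠ tab₁ (pos x) * x ∨ x * tab₂ (pos x) ≠ tab₂ (pos x) * x := by decide +kernel

/-- The automorphism with a given table. -/
noncomputable def autOf (T : Fin 32 → E) (hm : ∀ x y, T (pos (x * y)) = T (pos x) * T (pos y))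
    (hi : ∀ x, T (pos x) = 1 → x = 1) : E ≃* E :=
  MulEquiv.ofBijective (MonoidHom.mk' (fun x => T (pos x)) hm)
    (Finite.injective_iff_bijective.mp ((injective_iff_map_eq_one _).mpr hi))

lemma cyclic_of_characteristic (A : Subgroup E) (hA : A.Characteristic) (hAc : IsMulCommutative A) : IsCyclic A := by
  have hc : ∀ x ∈ A, ∀ y ∈ A, x * y = y * x := fun x hx y hy =>
    congrArg Subtype.val (hAc.is_comm.comm ⟨x, hx⟩ ⟨y, hy⟩)
  have hle : A ≤ Subgroup.center E := by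
    intro x hx
    rw [Subgroup.mem_center_iff]
    refine (mem_center_iff' x).mpr ?_
    by_contra hne
    have himg : ∀ φ : E ≃* E, φ x ∈ A := fun φ => by
      have h := hA.fixed φ
      rw [← h] at hx
      exact hx
    rcases moved x hne with h | h
    · exact h (hc x hx _ (himg (autOf tab₁ tab₁_mul tab₁_inj)))
    · exact h (hc x hx _ (himg (autOf tab₂ tab₂_mul tab₂_inj)))
  have : Fact (Nat.Prime 2) := ⟨Nat.prime_two⟩
  have : IsCyclic (Subgroup.center E) := isCyclic_of_prime_card card_center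
  exact isCyclic_of_injective (Subgroup.inclusion hle) (Subgroup.inclusion_injective hle)

end QD

end CfsgLib.Aschbacher
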