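import Cfsg.Agent.Aschbacher.Form.QuaternionDihedral

/-!
The matrix model over three elements of the central product of a quaternion and a dihedral group, and the
symplectic matrices commuting with the standard square root of minus one.
-/
set_option autoImplicit false

namespace CfsgLib.Aschbacher.QD

open Matrix

/-- The product of two matrices of size two, in blocks. -/
def tp {R : Type*} [CommRing R] (A B : Matrix (Fin 2) (Fin 2) R) : Matrix (Fin 2 ⊕ Fin 2) (Fin 2 ⊕ Fin 2) R :=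
  fromBlocks (A 0 0 • B) (A 0 1 • B) (A 1 0 • B) (A 1 1 • B)

lemma tp_mul {R : Type*} [CommRing R] (A B C D : Matrix (Fin 2) (Fin 2) R) :
    tp A B * tp C D = tp (A * C) (B * D) := by
  simp only [tp, fromBlocks_multiply, smul_mul_assoc, mul_smul_comm, smul_smul, Matrix.mul_apply, Fin.sum_univ_two,
    add_smul, mul_comm]

lemma tp_smul_left {R : Type*} [CommRing R] (c : R) (A B : Matrix (Fin 2) (Fin 2) R) : tp (c • A) B = c • tp A B := by
  simp only [tp, fromBlocks_smul, Matrix.smul_apply, smul_smul, smul_eq_mul]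

lemma tp_smul_right {R : Type*} [CommRing R] (c : R) (A B : Matrix (Fin 2) (Fin 2) R) : tp A (c • B) = c • tp A B := by
  simp only [tp, fromBlocks_smul, smul_smul, mul_comm]

/-- The element of square minus one. -/
def i2 : Matrix (Fin 2) (Fin 2) (ZMod 3) := !![0, -1; 1, 0]
/-- The second quaternion generator. -/
def k2 : Matrix (Fin 2) (Fin 2) (ZMod 3) := !![1, 1; 1, -1]
/-- The reflection. -/
def u2 : Matrix (Fin 2) (Fin 2) (ZMod 3) := !![1, 0; 0, -1]
/-- The quaternion factor. -/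
def Xm : Fin 4 → Matrix (Fin 2) (Fin 2) (ZMod 3) := ![1, i2, k2, i2 * k2]
/-- The dihedral factor. -/
def Bm : Fin 4 → Matrix (Fin 2) (Fin 2) (ZMod 3) := ![1, i2, u2, i2 * u2]
/-- The sign. -/
def sgn (s : ZMod 2) : ZMod 3 := if s = 0 then 1 else -1
/-- The element of the centraliser field. -/
def kq (p : ZMod 3 × ZMod 3) : Matrix (Fin 2) (Fin 2) (ZMod 3) := !![p.1, -p.2; p.2, p.1]
/-- The matrix of an element. -/
def φ0 (x : E) : Matrix (Fin 2 ⊕ Fin 2) (Fin 2 ⊕ Fin 2) (ZMod 3) := sgn x.s • tp (Xm x.a) (Bm x.b)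
/-- The standard square root of minus one. -/
def J1 : Matrix (Fin 2 ⊕ Fin 2) (Fin 2 ⊕ Fin 2) (ZMod 3) := tp 1 i2
/-- The reflection in the model. -/
def U1 : Matrix (Fin 2 ⊕ Fin 2) (Fin 2 ⊕ Fin 2) (ZMod 3) := tp 1 u2

lemma Xm_mul : ∀ a b, Xm a * Xm b = sgn (sX a b) • Xm (idx a b) := by decide +kernel
lemma Bm_mul : ∀ a b, Bm a * Bm b = sgn (sB a b) • Bm (idx a b) := by decide +kernel
lemma sgn_add : ∀ s t, sgn (s + t) = sgn s * sgn t := by decide +kernel

lemma φ0_one : φ0 1 = 1 := by decide +kernel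

lemma φ0_mul (x y : E) : φ0 (x * y) = φ0 x * φ0 y := by
  simp only [φ0, mul_def, smul_mul_assoc, mul_smul_comm, tp_mul, Xm_mul, Bm_mul, tp_smul_left, tp_smul_right,
    smul_smul, sgn_add]
  congr 1
  ring

lemma φ0_eq_one : ∀ x, φ0 x = 1 → x = 1 := by decide +kernel
lemma φ0_form : ∀ x, (φ0 x)ᵀ * J (Fin 2) (ZMod 3) * φ0 x = J (Fin 2) (ZMod 3) := by decide +kernel

lemma single_eq : ∀ p q : Fin 2 ⊕ Fin 2, Matrix.single p q (1 : ZMod 3) =
    ∑ ab : Fin 4 × Fin 4, φ0 (⟨0, ab.1, ab.2⟩⁻¹) q p • φ0 ⟨0, ab.1, ab.2⟩ := by decide +kernel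

lemma commute_i2 : ∀ a b c d : ZMod 3, !![a, b; c, d] * i2 = i2 * !![a, b; c, d] →
    !![a, b; c, d] = kq (a, c) := by decide +kernel

lemma exists_kq {M : Matrix (Fin 2) (Fin 2) (ZMod 3)} (h : M * i2 = i2 * M) : ∃ p, M = kq p :=
  ⟨(M 0 0, M 1 0), by
    have := commute_i2 (M 0 0) (M 0 1) (M 1 0) (M 1 1)
    rw [← Matrix.eta_fin_two M] at this
    exact this h⟩

/-- The four directions of the centraliser field. -/
def dirs : Fin 4 → ZMod 3 × ZMod 3 := ![(1, 0), (0, 1), (1, 1), (1, -1)]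

set_option synthInstance.maxSize 20000 in
set_option synthInstance.maxHeartbeats 200000 in
lemma directions : ∀ a c : ZMod 3 × ZMod 3, a.1 * c.2 - a.2 * c.1 = 0 →
    ∀ b d : ZMod 3 × ZMod 3,
      (b.1 * d.2 - b.2 * d.1 = 0 ∧ a.1 * d.1 + a.2 * d.2 - (c.1 * b.1 + c.2 * b.2) = 1 ∧
        a.1 * d.2 - a.2 * d.1 - (c.1 * b.2 - c.2 * b.1) = 0) →
      ∃ i, (∃ x : ZMod 3, a = x • dirs i) ∧ (∃ x : ZMod 3, b = x • dirs i) ∧
        (∃ x : ZMod 3, c = x • dirs i) ∧ (∃ x : ZMod 3, d = x • dirs i) := by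
  decide +kernel

lemma conds : ∀ a b c d : ZMod 3 × ZMod 3,
    (fromBlocks (kq a) (kq b) (kq c) (kq d))ᵀ * J (Fin 2) (ZMod 3) * fromBlocks (kq a) (kq b) (kq c) (kq d) =
      J (Fin 2) (ZMod 3) →
    a.1 * c.2 - a.2 * c.1 = 0 ∧ b.1 * d.2 - b.2 * d.1 = 0 ∧
      a.1 * d.1 + a.2 * d.2 - (c.1 * b.1 + c.2 * b.2) = 1 ∧
      a.1 * d.2 - a.2 * d.1 - (c.1 * b.2 - c.2 * b.1) = 0 := by
  intro a b c d h
  have e1 := congrFun (congrFun h (Sum.inl 0)) (Sum.inl 1)
  have e2 := congrFun (congrFun h (Sum.inr 0)) (Sum.inr 1)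
  have e3 := congrFun (congrFun h (Sum.inl 0)) (Sum.inr 0)
  have e4 := congrFun (congrFun h (Sum.inl 0)) (Sum.inr 1)
  simp [Matrix.mul_apply, Fintype.sum_sum_type, kq, Matrix.J, Fin.sum_univ_two] at e1 e2 e3 e4
  have h3 : (3 : ZMod 3) = 0 := by decide
  exact ⟨by linear_combination (-1 : ZMod 3) * e1 + (a.1 * c.2 - a.2 * c.1) * h3,
    by linear_combination (-1 : ZMod 3) * e2 + (b.1 * d.2 - b.2 * d.1) * h3,
    by linear_combination (-1 : ZMod 3) * e3, by linear_combination e4⟩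

lemma kq_smul (x : ZMod 3) (p : ZMod 3 × ZMod 3) : kq (x • p) = x • kq p := by
  ext i j; fin_cases i <;> fin_cases j <;> simp [kq]

lemma quaternion_normal : ∀ a b c d : ZMod 3, a * d - b * c ≠ 0 → ∀ i, ∃ s j,
    !![a, b; c, d] * Xm i = sgn s • (Xm j * !![a, b; c, d]) := by decide +kernel

lemma dihedral_normal : ∀ k i, ∃ s j, kq (dirs k) * Bm i = sgn s • (Bm j * kq (dirs k)) := by decide +kernel

/-- A symplectic matrix commuting with the square root of minus one permutes the elements of the model. -/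
lemma normal_of_commute {g : Matrix (Fin 2 ⊕ Fin 2) (Fin 2 ⊕ Fin 2) (ZMod 3)}
    (hg : gᵀ * J (Fin 2) (ZMod 3) * g = J (Fin 2) (ZMod 3)) (hc : g * J1 = J1 * g) (x : E) :
    ∃ y, g * φ0 x = φ0 y * g := by
  have hJ1 : J1 = fromBlocks i2 0 0 i2 := by simp [J1, tp]
  rw [← fromBlocks_toBlocks g, hJ1, fromBlocks_multiply, fromBlocks_multiply] at hc
  simp only [Matrix.mul_zero, Matrix.zero_mul, add_zero, zero_add, fromBlocks_inj] at hc
  obtain ⟨h11, h12, h21, h22⟩ := hc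
  obtain ⟨a, ha⟩ := exists_kq h11
  obtain ⟨b, hb⟩ := exists_kq h12
  obtain ⟨c, hc'⟩ := exists_kq h21
  obtain ⟨d, hd⟩ := exists_kq h22
  have hgb : g = fromBlocks (kq a) (kq b) (kq c) (kq d) := by rw [← fromBlocks_toBlocks g, ha, hb, hc', hd]
  rw [hgb] at hg
  obtain ⟨h1, h2, h3, h4⟩ := conds a b c d hg
  obtain ⟨i, ⟨xa, rfl⟩, ⟨xb, rfl⟩, ⟨xc, rfl⟩, ⟨xd, rfl⟩⟩ := directions a c h1 b d ⟨h2, h3, h4⟩
  have hgt : g = tp !![xa, xb; xc, xd] (kq (dirs i)) := by
    rw [hgb]; simp [tp, kq_smul]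
  have hdet : xa * xd - xb * xc ≠ 0 := by
    intro h0
    apply zero_ne_one (α := ZMod 3)
    simp only [Prod.smul_fst, Prod.smul_snd, smul_eq_mul] at h3
    linear_combination h3 - ((dirs i).1 * (dirs i).1 + (dirs i).2 * (dirs i).2) * h0
  obtain ⟨s, j, hs⟩ := quaternion_normal xa xb xc xd hdet x.a
  obtain ⟨t, l, ht⟩ := dihedral_normal i x.b
  refine ⟨⟨x.s + s + t, j, l⟩, ?_⟩
  rw [hgt]
  simp only [φ0, mul_smul_comm, smul_mul_assoc, tp_mul, hs, ht, tp_smul_left, tp_smul_right, smul_smul, sgn_add]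
  congr 1
  ring

lemma U1_eq : U1 = φ0 ⟨0, 0, 2⟩ := by decide +kernel
lemma U1_sq : U1 * U1 = 1 := by decide +kernel
lemma U1_J1 : U1 * J1 = -(J1 * U1) := by decide +kernel
lemma U1_form : U1ᵀ * J (Fin 2) (ZMod 3) * U1 = J (Fin 2) (ZMod 3) := by decide +kernel

/-- A symplectic matrix normalising the square root of minus one permutes the elements of the model. -/
lemma normal_of_normalize {g : Matrix (Fin 2 ⊕ Fin 2) (Fin 2 ⊕ Fin 2) (ZMod 3)}
    (hg : gᵀ * J (Fin 2) (ZMod 3) * g = J (Fin 2) (ZMod 3)) (hc : g * J1 = J1 * g ∨ g * J1 = -(J1 * g)) (x : E) :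
    ∃ y, g * φ0 x = φ0 y * g := by
  rcases hc with hc | hc
  · exact normal_of_commute hg hc x
  set u : E := ⟨0, 0, 2⟩
  obtain ⟨y, hy⟩ := normal_of_commute (g := g * U1) (by
      calc (g * U1)ᵀ * J (Fin 2) (ZMod 3) * (g * U1) = U1ᵀ * (gᵀ * J (Fin 2) (ZMod 3) * g) * U1 := by
            rw [transpose_mul]; simp only [Matrix.mul_assoc]
        _ = _ := by rw [hg, U1_form])
    (by rw [mul_assoc, U1_J1, mul_neg, ← mul_assoc, hc, neg_mul, neg_neg, mul_assoc]) (u * x * u)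
  refine ⟨y, ?_⟩
  have hu : u * (u * x * u) = x * u := by
    rw [← mul_assoc, ← mul_assoc, show u * u = 1 from by decide +kernel, one_mul]
  rw [U1_eq, mul_assoc, ← φ0_mul, hu, φ0_mul, ← U1_eq, ← mul_assoc, ← mul_assoc] at hy
  have := congrArg (· * U1) hy
  simpa only [mul_assoc, U1_sq, mul_one] using this

end CfsgLib.Aschbacher.QD
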