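import Cfsg.Agent.Aschbacher.General.Structure

/-!
Reflexive sesquilinear forms (hermitian, symmetric, alternating): complements, adjoints, and the
compatibility of reducible groups of isometries with the form.
-/
set_option autoImplicit false

namespace CfsgLib.Aschbacher

open Matrix Cfsg.Geo CfsgLib.GeoClifford
open scoped MatrixGroups

variable {ι : Type} [Fintype ι] [DecidableEq ι] {F : Type*} [Field F]

/-- A non-degenerate sesquilinear form that is symmetric up to `σ` and the sign `ε`. -/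
structure IsRefl (σ : F ≃+* F) (ε : F) (f : (ι → F) → (ι → F) → F) : Prop where
  sesq : IsSesq σ f
  invol : ∀ a, σ (σ a) = a
  swap : ∀ u v, f v u = ε * σ (f u v)
  nd : IsNondegenerateForm f

lemma isRefl_of_unitary {σ : F ≃+* F} {f : (ι → F) → (ι → F) → F} (hf : IsUnitaryForm σ f) : IsRefl σ 1 f :=
  ⟨isSesq_of_unitary hf, hf.involutive, fun u v => by rw [one_mul]; exact hf.herm v u, hf.nondegenerate⟩

lemma isRefl_of_symplectic {f : (ι → F) → (ι → F) → F} (hf : IsSymplecticForm f) :
    IsRefl (RingEquiv.refl F) (-1) f :=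
  ⟨isSesq_of_bilinear hf.bilinear, fun _ => rfl, fun u v => by
    rw [neg_one_mul, RingEquiv.refl_apply]; exact hf.skew v u, hf.nondegenerate⟩

lemma isRefl_of_symmetric {f : (ι → F) → (ι → F) → F} (hf : IsSymmetricForm f) : IsRefl (RingEquiv.refl F) 1 f :=
  ⟨isSesq_of_bilinear hf.bilinear, fun _ => rfl, fun u v => by
    rw [one_mul, RingEquiv.refl_apply]; exact hf.symm v u, hf.nondegenerate⟩

/-- A stabilised decomposition compatible with the form: orthogonal non-degenerate, or two totally singular halves. -/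
def HasFormDecomposition (f : (ι → F) → (ι → F) → F) (G : Subgroup (GL ι F)) : Prop :=
  (∃ (t m : ℕ) (D : Fin t → Submodule F (ι → F)), IsNondegenerateMDecomposition f m D ∧
      G ≤ decompositionStabilizer D) ∨
  (∃ (m : ℕ) (D : Fin 2 → Submodule F (ι → F)), 2 * m = Fintype.card ι ∧ IsMDecomposition m D ∧
      (∀ i, IsTotallySingularFor f (D i)) ∧ G ≤ decompositionStabilizer D)

/-- A stabilised subspace compatible with the form. -/
def HasFormSubspace (f : (ι → F) → (ι → F) → F) (G : Subgroup (GL ι F)) : Prop :=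
  (∃ W : Submodule F (ι → F), W ≠ ⊥ ∧ IsTotallySingularFor f W ∧ G ≤ subspaceStabilizer W) ∨
  ∃ W : Submodule F (ι → F), W ≠ ⊥ ∧ IsNondegenerateOn f W ∧ 2 * Module.finrank F W < Fintype.card ι ∧
      G ≤ subspaceStabilizer W

namespace IsRefl

variable {σ : F ≃+* F} {ε : F} {f : (ι → F) → (ι → F) → F}

lemma comm_zero (hf : IsRefl σ ε f) {u v : ι → F} (h : f u v = 0) : f v u = 0 := by
  rw [hf.swap, h, map_zero, mul_zero]

lemma eps_norm (hf : IsRefl σ ε f) [Nonempty ι] : ε * σ ε = 1 := by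
  obtain ⟨⟨x, hx⟩, -⟩ := hf.nd (fun _ => 1) (fun h => one_ne_zero (congrFun h (Classical.arbitrary ι)))
  have h := hf.swap (fun _ => 1) x
  rw [hf.swap x (fun _ => 1), map_mul, hf.invol, ← mul_assoc] at h
  exact (mul_eq_right₀ hx).mp h.symm

/-- The orthogonal complement. -/
def perp (hf : IsRefl σ ε f) (W : Submodule F (ι → F)) : Submodule F (ι → F) where
  carrier := {v | ∀ w ∈ W, f v w = 0}
  add_mem' := fun {a b} ha hb w hw => by rw [hf.sesq.add_left, ha w hw, hb w hw, add_zero]
  zero_mem' := fun w _ => hf.sesq.zero_left w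
  smul_mem' := fun c a ha w hw => by rw [hf.sesq.smul_left, ha w hw, mul_zero]

lemma card_le_finrank_add_perp (hf : IsRefl σ ε f) (W : Submodule F (ι → F)) :
    Fintype.card ι ≤ Module.finrank F W + Module.finrank F (hf.perp W) := by
  let b := Module.finBasis F W
  let R : (ι → F) →ₗ[F] (Fin (Module.finrank F W) → F) :=
    { toFun := fun v j => f v (b j : ι → F)
      map_add' := fun x y => funext fun j => hf.sesq.add_left _ _ _
      map_smul' := fun c x => funext fun j => hf.sesq.smul_left _ _ _ }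
  have hker : LinearMap.ker R ≤ hf.perp W := by
    intro v hv w hw
    have hv' : ∀ j, f v (b j : ι → F) = 0 := fun j => congrFun (LinearMap.mem_ker.mp hv) j
    have hW : W ≤ Submodule.span F (Set.range fun j => (b j : ι → F)) := by
      intro x hx
      have h := congrArg Subtype.val (b.sum_repr ⟨x, hx⟩)
      simp only [AddSubmonoidClass.coe_finsetSum, Submodule.coe_smul_of_tower] at h
      rw [← h]
      exact Submodule.sum_mem _ fun j _ => Submodule.smul_mem _ _ (Submodule.subset_span ⟨j, rfl⟩)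
    have := hW hw
    clear hw
    induction this using Submodule.span_induction with
    | mem x hx => obtain ⟨j, rfl⟩ := hx; exact hv' j
    | zero => exact hf.sesq.zero_right v
    | add x y _ _ hx hy => rw [hf.sesq.add_right, hx, hy, add_zero]
    | smul c x _ hx => rw [hf.sesq.smul_right, hx, mul_zero]
  have h1 := LinearMap.finrank_range_add_finrank_ker R
  have h2 : Module.finrank F (LinearMap.range R) ≤ Module.finrank F W := by
    simpa using Submodule.finrank_le (LinearMap.range R)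
  have h3 := Submodule.finrank_mono hker
  rw [Module.finrank_fintype_fun_eq_card] at h1
  omega

lemma perp_stable (hf : IsRefl σ ε f) {G : Subgroup (GL ι F)} (hG : FixesForm (matrixSet G) f)
    {W : Submodule F (ι → F)} (hW : G ≤ subspaceStabilizer W) : G ≤ subspaceStabilizer (hf.perp W) := by
  intro g hg
  refine CfsgLib.Geo.mem_subspaceStabilizer.mpr fun v hv w hw => ?_
  have hw' : ((g⁻¹ : GL ι F) : Matrix ι ι F) *ᵥ w ∈ W :=
    CfsgLib.Geo.mem_subspaceStabilizer.mp (hW (G.inv_mem hg)) w hw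
  have h := hG _ (coe_mem_matrixSet hg) v (((g⁻¹ : GL ι F) : Matrix ι ι F) *ᵥ w)
  rw [hv _ hw', mulVec_mulVec, ← Units.val_mul, mul_inv_cancel, Units.val_one, one_mulVec] at h
  exact h

/-- A reducible group of isometries respects a subspace or a decomposition compatible with the form. -/
theorem reducible_cases (hf : IsRefl σ ε f) {G : Subgroup (GL ι F)}
    (hG : FixesForm (matrixSet G) f) (hred : ¬ ActsIrreducibly (matrixSet G)) :
    HasFormSubspace f G ∨ (HasFormDecomposition f G ∧ Even (Fintype.card ι)) := by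
  obtain ⟨W, h0, h1, hW⟩ := exists_subspace_of_not_irreducible hred
  by_cases hWW : W ⊓ hf.perp W = ⊥
  swap
  · refine Or.inl (Or.inl ⟨_, hWW, fun u hu v hv => hu.2 v hv.1, fun g hg => ?_⟩)
    refine CfsgLib.Geo.mem_subspaceStabilizer.mpr fun v hv => ⟨?_, ?_⟩
    · exact CfsgLib.Geo.mem_subspaceStabilizer.mp (hW hg) v hv.1
    · exact CfsgLib.Geo.mem_subspaceStabilizer.mp (hf.perp_stable hG hW hg) v hv.2
  have hle := hf.card_le_finrank_add_perp W
  set P := hf.perp W with hP
  have hsum := Submodule.finrank_sup_add_finrank_inf_eq W P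
  have hsup : Module.finrank F (W ⊔ P : Submodule F (ι → F)) ≤ Fintype.card ι := by
    rw [← Module.finrank_fintype_fun_eq_card F]; exact Submodule.finrank_le _
  rw [hWW, finrank_bot] at hsum
  have htop : W ⊔ P = ⊤ := Submodule.eq_top_of_finrank_eq (by rw [Module.finrank_fintype_fun_eq_card]; omega)
  have key : ∀ U U' : Submodule F (ι → F), U ⊔ U' = ⊤ → (∀ u ∈ U, ∀ u' ∈ U', f u' u = 0) →
      IsNondegenerateOn f U := by
    intro U U' hUU horth u hu hu0
    obtain ⟨⟨x, hx⟩, -⟩ := hf.nd u hu0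
    obtain ⟨a, ha, b, hb, rfl⟩ := Submodule.mem_sup.mp (hUU ▸ Submodule.mem_top : x ∈ U ⊔ U')
    rw [hf.sesq.add_left, horth u hu b hb, add_zero] at hx
    exact ⟨⟨a, ha, hx⟩, a, ha, fun h => hx (hf.comm_zero h)⟩
  have hndW : IsNondegenerateOn f W := key W P htop fun u hu v hv => hv u hu
  have hndP : IsNondegenerateOn f P := key P W (sup_comm W P ▸ htop) fun u hu v hv => hf.comm_zero (hu v hv)
  have hPW : G ≤ subspaceStabilizer P := hf.perp_stable hG hW
  have hPne : P ≠ ⊥ := fun h => h1 (by rwa [h, sup_bot_eq] at htop)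
  rcases lt_trichotomy (2 * Module.finrank F W) (Fintype.card ι) with h | h | h
  · exact Or.inl (Or.inr ⟨W, h0, hndW, h, hW⟩)
  · refine Or.inr ⟨Or.inl ?_, ⟨Module.finrank F W, by omega⟩⟩
    refine ⟨2, Module.finrank F W, ![W, P], ⟨⟨le_rfl, ?_, ?_, ?_, ?_⟩, ?_, ?_⟩, ?_⟩
    · exact Nat.pos_of_ne_zero fun h => h0 (Submodule.finrank_eq_zero.mp h)
    · intro i
      fin_cases i
      · rfl
      · show Module.finrank F P = Module.finrank F W
        omega
    · rw [iSupIndep_pair (i := (0 : Fin 2)) (j := 1) (by decide) (fun k => by fin_cases k <;> simp)]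
      exact disjoint_iff.mpr hWW
    · rw [eq_top_iff, ← htop]
      exact sup_le (le_iSup ![W, P] 0) (le_iSup ![W, P] 1)
    · intro i
      fin_cases i
      · exact hndW
      · exact hndP
    · intro i j hij
      fin_cases i <;> fin_cases j <;>
        first | exact absurd rfl hij | exact fun u hu v hv => hf.comm_zero (hv u hu) | exact fun u hu v hv => hu v hv
    · intro g hg
      refine ⟨1, fun i => ?_⟩
      have hmap : ∀ U : Submodule F (ι → F), G ≤ subspaceStabilizer U →
          U.map (Matrix.toLin' (g : Matrix ι ι F)) = U := by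
        intro U hU
        refine le_antisymm ?_ fun v hv => ?_
        · rintro _ ⟨v, hv, rfl⟩
          exact CfsgLib.Geo.mem_subspaceStabilizer.mp (hU hg) v hv
        · refine ⟨((g⁻¹ : GL ι F) : Matrix ι ι F) *ᵥ v,
            CfsgLib.Geo.mem_subspaceStabilizer.mp (hU (G.inv_mem hg)) v hv, ?_⟩
          rw [Matrix.toLin'_apply, mulVec_mulVec, ← Units.val_mul, mul_inv_cancel, Units.val_one, one_mulVec]
      fin_cases i
      · exact hmap W hW
      · exact hmap P hPW
  · exact Or.inl (Or.inr ⟨P, hPne, hndP, by omega, hPW⟩)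

lemma exists_adjoint (hf : IsRefl σ ε f) (k : Matrix ι ι F) :
    ∃ k' : Matrix ι ι F, ∀ u v, f (k *ᵥ u) v = f u (k' *ᵥ v) := by
  obtain ⟨A', hA'⟩ := (gram_isUnit hf.sesq hf.nd).exists_right_inv
  refine ⟨(A' * kᵀ * gramMatrix f).map σ, fun u v => ?_⟩
  have e : ((A' * kᵀ * gramMatrix f).map σ).map σ = A' * kᵀ * gramMatrix f := by
    ext i j; exact hf.invol _
  rw [hf.sesq.eq_gram, hf.sesq.eq_gram, comp_mulVec, e, mulVec_mulVec, ← mul_assoc, ← mul_assoc, hA', one_mul,
    ← mulVec_mulVec, dotProduct_mulVec u kᵀ, vecMul_transpose]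

lemma eq_of_right (hf : IsRefl σ ε f) {x y : ι → F} (h : ∀ u, f u x = f u y) : x = y := by
  by_contra hne
  obtain ⟨⟨u, hu⟩, -⟩ := hf.nd _ (sub_ne_zero.mpr hne)
  apply hu
  have := hf.sesq.add_right u (x - y) y
  rw [sub_add_cancel, h] at this
  linear_combination -this

/-- The adjoint matrix. -/
noncomputable def adj (hf : IsRefl σ ε f) (k : Matrix ι ι F) : Matrix ι ι F := (hf.exists_adjoint k).choose

lemma adj_spec (hf : IsRefl σ ε f) (k : Matrix ι ι F) (u v : ι → F) : f (k *ᵥ u) v = f u (hf.adj k *ᵥ v) :=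
  (hf.exists_adjoint k).choose_spec u v

lemma adj_eq (hf : IsRefl σ ε f) {k k' : Matrix ι ι F} (h : ∀ u v, f (k *ᵥ u) v = f u (k' *ᵥ v)) :
    hf.adj k = k' :=
  Matrix.ext_of_mulVec_single fun i => hf.eq_of_right fun u => by rw [← hf.adj_spec, h]

lemma adj_spec' (hf : IsRefl σ ε f) (k : Matrix ι ι F) (u v : ι → F) : f (hf.adj k *ᵥ u) v = f u (k *ᵥ v) := by
  rw [hf.swap, ← hf.adj_spec, ← hf.swap]

lemma adj_adj (hf : IsRefl σ ε f) (k : Matrix ι ι F) : hf.adj (hf.adj k) = k := hf.adj_eq (hf.adj_spec' k)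

lemma adj_one (hf : IsRefl σ ε f) : hf.adj 1 = 1 := hf.adj_eq fun u v => by rw [one_mulVec, one_mulVec]

lemma adj_mul (hf : IsRefl σ ε f) (a b : Matrix ι ι F) : hf.adj (a * b) = hf.adj b * hf.adj a :=
  hf.adj_eq fun u v => by rw [← mulVec_mulVec, hf.adj_spec, hf.adj_spec, mulVec_mulVec]

lemma adj_add (hf : IsRefl σ ε f) (a b : Matrix ι ι F) : hf.adj (a + b) = hf.adj a + hf.adj b :=
  hf.adj_eq fun u v => by rw [add_mulVec, add_mulVec, hf.sesq.add_left, hf.sesq.add_right, hf.adj_spec, hf.adj_spec]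

lemma adj_smul (hf : IsRefl σ ε f) (c : F) (a : Matrix ι ι F) : hf.adj (c • a) = σ c • hf.adj a :=
  hf.adj_eq fun u v => by rw [smul_mulVec, smul_mulVec, hf.sesq.smul_left, hf.sesq.smul_right, hf.invol, hf.adj_spec]

lemma adj_zero (hf : IsRefl σ ε f) : hf.adj 0 = 0 := by
  simpa using hf.adj_smul 0 (0 : Matrix ι ι F)

lemma adj_inv_of_fixes (hf : IsRefl σ ε f) {G : Subgroup (GL ι F)} (hG : FixesForm (matrixSet G) f)
    {g : GL ι F} (hg : g ∈ G) : hf.adj (g : Matrix ι ι F) = ((g⁻¹ : GL ι F) : Matrix ι ι F) := by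
  refine hf.adj_eq fun u v => ?_
  have h := hG _ (coe_mem_matrixSet hg) u (((g⁻¹ : GL ι F) : Matrix ι ι F) *ᵥ v)
  rw [mulVec_mulVec, ← Units.val_mul, mul_inv_cancel, Units.val_one, one_mulVec] at h
  exact h

lemma adj_conj (hf : IsRefl σ ε f) {G : Subgroup (GL ι F)} (hG : FixesForm (matrixSet G) f)
    {g : GL ι F} (hg : g ∈ G) (k : Matrix ι ι F) :
    hf.adj ((g : Matrix ι ι F) * k * ((g⁻¹ : GL ι F) : Matrix ι ι F)) =
      (g : Matrix ι ι F) * hf.adj k * ((g⁻¹ : GL ι F) : Matrix ι ι F) := by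
  rw [hf.adj_mul, hf.adj_mul, hf.adj_inv_of_fixes hG hg, hf.adj_inv_of_fixes hG (G.inv_mem hg), inv_inv, mul_assoc]

/-- The algebra generated by isometries is closed under adjoints. -/
lemma adjoin_adjClosed (hf : IsRefl σ ε f) {N : Subgroup (GL ι F)} (hN : FixesForm (matrixSet N) f)
    {x : Matrix ι ι F} (hx : x ∈ Algebra.adjoin F (matrixSet N)) : hf.adj x ∈ Algebra.adjoin F (matrixSet N) := by
  induction hx using Algebra.adjoin_induction with
  | mem x hx =>
    obtain ⟨n, hn, rfl⟩ := hx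
    rw [hf.adj_inv_of_fixes hN hn]
    exact Algebra.subset_adjoin (coe_mem_matrixSet (N.inv_mem hn))
  | algebraMap r =>
    rw [Algebra.algebraMap_eq_smul_one, hf.adj_smul, hf.adj_one]
    exact Subalgebra.smul_mem _ (Subalgebra.one_mem _) _
  | add x y _ _ hx hy => rw [hf.adj_add]; exact Subalgebra.add_mem _ hx hy
  | mul x y _ _ hx hy => rw [hf.adj_mul]; exact Subalgebra.mul_mem _ hy hx

/-- The commutant of a group of isometries is closed under adjoints. -/
lemma commutant_adjClosed (hf : IsRefl σ ε f) {N : Subgroup (GL ι F)} (hN : FixesForm (matrixSet N) f)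
    {x : Matrix ι ι F} (hx : x ∈ commutant N) : hf.adj x ∈ commutant N := by
  refine mem_commutant.mpr fun n hn => ?_
  have h := congrArg hf.adj ((mem_commutant.mp hx) n⁻¹ (N.inv_mem hn))
  rw [hf.adj_mul, hf.adj_mul, hf.adj_inv_of_fixes hN (N.inv_mem hn), inv_inv] at h
  exact h.symm

lemma isAdjointClosedFor (hf : IsRefl σ ε f) {K : Subalgebra F (Matrix ι ι F)} (h : ∀ k ∈ K, hf.adj k ∈ K) :
    IsAdjointClosedFor f K := fun k hk => ⟨hf.adj k, h k hk, hf.adj_spec k⟩

lemma isSelfAdjointFor (hf : IsRefl σ ε f) {K : Subalgebra F (Matrix ι ι F)} (h : ∀ k ∈ K, hf.adj k = k) :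
    IsSelfAdjointFor f K := fun k hk u v => by rw [hf.adj_spec, h k hk]

end IsRefl

end CfsgLib.Aschbacher
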