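import Cfsg.Agent.Aschbacher.Form.QuaternionFour
import Cfsg.Agent.Aschbacher.Form.Members
import Cfsg.Agent.Aschbacher.Form.SymplecticStd
import Cfsg.Agent.Geo.SympTv

/-!
Over three elements the normaliser in the symplectic group of dimension four of a quadratic field that is not
self-adjoint normalises a group of symplectic type.
-/
set_option autoImplicit false

namespace CfsgLib.Aschbacher

open Matrix Cfsg Cfsg.Geo
open scoped MatrixGroups

variable {F : Type*} [Field F]

local notation "II" => (Fin 2 ⊕ Fin 2)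

/-- The symplectic group as a matrix equation. -/
lemma mem_spGL_iff_matrix {m : ℕ} {g : GL (Fin m ⊕ Fin m) F} :
    g ∈ Cfsg.spGL m F ↔ (g : Matrix (Fin m ⊕ Fin m) (Fin m ⊕ Fin m) F)ᵀ * Matrix.J (Fin m) F *
      (g : Matrix (Fin m ⊕ Fin m) (Fin m ⊕ Fin m) F) = Matrix.J (Fin m) F := by
  rw [← SymplecticGroup.mem_iff', CfsgLib.Symp.mem_iff_form]
  rfl

variable [Fintype F]

/-- A quadratic field over three elements is generated by a square root of minus one. -/
lemma exists_sqrt_neg_one {ι : Type} [Fintype ι] [DecidableEq ι] [Nonempty ι] (hq : Fintype.card F = 3)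
    {K : Subalgebra F (Matrix ι ι F)} (hK : IsFieldSubalgebra 2 K) :
    ∃ j ∈ K, j * j = -1 ∧ ∀ k ∈ K, ∃ a b : F, k = a • 1 + b • j := by
  have h3 : (3 : F) = 0 := by
    have := Nat.cast_card_eq_zero F
    rw [hq] at this
    exact_mod_cast this
  have hne : ∀ x : F, x = 0 ∨ x = 1 ∨ x = -1 := by
    intro x
    by_cases hx : x = 0
    · exact Or.inl hx
    have h := FiniteField.pow_card_sub_one_eq_one x hx
    rw [hq] at h
    exact Or.inr (mul_self_eq_one_iff.mp (by rw [← h]; ring))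
  obtain ⟨k, hk, hks⟩ : ∃ k ∈ K, ∀ c : F, k ≠ c • (1 : Matrix ι ι F) := by
    by_contra h
    push Not at h
    have h1 : Subalgebra.toSubmodule K ≤ Submodule.span F {(1 : Matrix ι ι F)} := fun x hx => by
      obtain ⟨c, rfl⟩ := h x hx
      exact Submodule.smul_mem _ _ (Submodule.mem_span_singleton_self _)
    have h2 := (Submodule.finrank_mono h1).trans (finrank_span_singleton (one_ne_zero (α := Matrix ι ι F))).le
    have h4 : Module.finrank F (Subalgebra.toSubmodule K) = 2 := hK.finrank_eq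
    omega
  have hspan : ∀ x ∈ K, ∃ a b : F, x = a • 1 + b • k := by
    intro x hx
    have hli : LinearIndependent F ![(1 : Matrix ι ι F), k] := by
      rw [LinearIndependent.pair_iff]
      intro s t hst
      by_cases ht : t = 0
      · subst ht
        rw [zero_smul, add_zero, smul_eq_zero] at hst
        exact ⟨hst.resolve_right one_ne_zero, rfl⟩
      · exact absurd (eq_neg_of_add_eq_zero_right hst) fun h => hks (-(t⁻¹ * s)) (by
          rw [← inv_smul_smul₀ ht k, h, smul_neg, smul_smul, neg_smul])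
    have hle : Submodule.span F (Set.range ![(1 : Matrix ι ι F), k]) ≤ Subalgebra.toSubmodule K :=
      Submodule.span_le.mpr (by rintro _ ⟨i, rfl⟩; fin_cases i <;> simp [hk, K.one_mem])
    have heq := Submodule.eq_of_le_of_finrank_eq hle (by
      rw [finrank_span_eq_card hli, Fintype.card_fin]; exact hK.finrank_eq.symm)
    have hx' : x ∈ Submodule.span F (Set.range ![(1 : Matrix ι ι F), k]) := heq ▸ hx
    rw [Matrix.range_cons_cons_empty, Submodule.mem_span_pair] at hx'
    obtain ⟨a, b, hab⟩ := hx'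
    exact ⟨a, b, hab.symm⟩
  obtain ⟨a, b, hab⟩ := hspan _ (K.mul_mem hk hk)
  -- complete the square
  have hjK : b • (1 : Matrix ι ι F) + k ∈ K := K.add_mem (K.smul_mem K.one_mem _) hk
  have hjj : (b • (1 : Matrix ι ι F) + k) * (b • (1 : Matrix ι ι F) + k) = (a + b * b) • (1 : Matrix ι ι F) := by
    simp only [add_mul, mul_add, smul_mul_assoc, mul_smul_comm, one_mul, mul_one, hab, smul_smul]
    linear_combination (norm := module) h3 • b • k
  have hjs : ∀ c : F, b • (1 : Matrix ι ι F) + k ≠ c • (1 : Matrix ι ι F) := fun c h =>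
    hks (c - b) (by rw [sub_smul, ← h, add_sub_cancel_left])
  refine ⟨_, hjK, ?_, fun x hx => ?_⟩
  · rw [hjj]
    rcases hne (a + b * b) with h | h | h
    · obtain ⟨y, -, hy⟩ := hK.inv _ hjK fun h0 => hjs 0 (by rw [h0, zero_smul])
      have h0 := congrArg (· * y) hjj
      simp only [mul_assoc, hy, mul_one, h, zero_smul, zero_mul] at h0
      exact absurd h0 fun h0 => hjs 0 (by rw [h0, zero_smul])
    · exfalso
      rw [h, one_smul] at hjj
      set j := b • (1 : Matrix ι ι F) + k
      by_cases h1 : j - 1 = 0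
      · exact hjs 1 (by rw [sub_eq_zero.mp h1, one_smul])
      obtain ⟨y, -, hy⟩ := hK.inv _ (K.sub_mem hjK K.one_mem) h1
      have hy' : y * (j - 1) = 1 := mul_eq_one_comm.mp hy
      have h2 : (j - 1) * (j + 1) = 0 := by rw [sub_mul, mul_add, mul_one, one_mul, hjj]; abel
      have h4 := congrArg (y * ·) h2
      simp only [← mul_assoc, hy', one_mul, mul_zero] at h4
      exact hjs (-1) (by rw [eq_neg_of_add_eq_zero_left h4, neg_smul, one_smul])
    · rw [h, neg_smul, one_smul]
  · obtain ⟨c, d, rfl⟩ := hspan x hx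
    exact ⟨c - d * b, d, by rw [smul_add, smul_smul, sub_smul]; abel⟩

/-- The coordinates adapted to a skew square root of minus one. -/
lemma exists_adapted (hq : Fintype.card F = 3) {j : Matrix II II F} (hj : j * j = -1)
    (hskew : ∀ u v, Cfsg.sympForm 2 F (j *ᵥ u) v = - Cfsg.sympForm 2 F u (j *ᵥ v)) :
    ∃ P ∈ Cfsg.spGL 2 F, j * (P : Matrix II II F) =
      (P : Matrix II II F) * fromBlocks !![0, -1; 1, 0] 0 0 !![0, -1; 1, 0] := by
  classical
  have h3 : (3 : F) = 0 := by
    have := Nat.cast_card_eq_zero F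
    rw [hq] at this
    exact_mod_cast this
  have hne : ∀ x : F, x ≠ 0 → x = 1 ∨ x = -1 := by
    intro x hx
    have h := FiniteField.pow_card_sub_one_eq_one x hx
    rw [hq] at h
    exact mul_self_eq_one_iff.mp (by rw [← h]; ring)
  set f := Cfsg.sympForm 2 F
  have hfs : IsSymplecticForm f := isSymplecticForm_sympForm 2
  have hb := hfs.bilinear
  have hjj : ∀ v, j *ᵥ (j *ᵥ v) = -v := fun v => by rw [mulVec_mulVec, hj, neg_mulVec, one_mulVec]
  let b : (II → F) → (II → F) → F := fun u v => f u (j *ᵥ v)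
  have bsymm : ∀ u v, b u v = b v u := fun u v => by
    show f u (j *ᵥ v) = f v (j *ᵥ u)
    rw [hfs.skew v (j *ᵥ u), hskew]; ring
  have baddl : ∀ u v w, b (u + v) w = b u w + b v w := fun u v w => hb.add_left _ _ _
  have bsmull : ∀ c u w, b (c • u) w = c * b u w := fun c u w => hb.smul_left _ _ _
  have baddr : ∀ u v w, b u (v + w) = b u v + b u w := fun u v w => by
    show f _ (j *ᵥ _) = _; rw [mulVec_add, hb.add_right]
  have bsmulr : ∀ c u w, b u (c • w) = c * b u w := fun c u w => by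
    show f _ (j *ᵥ _) = _; rw [mulVec_smul, hb.smul_right]
  have bj : ∀ u v, b (j *ᵥ u) (j *ᵥ v) = b u v := fun u v => by
    show f (j *ᵥ u) (j *ᵥ (j *ᵥ v)) = f u (j *ᵥ v)
    rw [hskew, hjj, show f u (-(j *ᵥ v)) = - f u (j *ᵥ v) by
      rw [← neg_one_smul F (j *ᵥ v), hb.smul_right]; ring]
    ring
  have bxj : ∀ u, b u (j *ᵥ u) = 0 := fun u => by
    show f u (j *ᵥ (j *ᵥ u)) = 0
    rw [hjj, ← neg_one_smul F u, hb.smul_right]
    simp [hfs.alternating]
  have bnd : ∀ u, (∀ v, b u v = 0) → u = 0 := fun u hu => by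
    by_contra h0
    obtain ⟨-, v, hv⟩ := hfs.nondegenerate u h0
    apply hv
    have h := hu (-(j *ᵥ v))
    rwa [show b u (-(j *ᵥ v)) = f u (j *ᵥ -(j *ᵥ v)) from rfl, mulVec_neg, hjj, neg_neg] at h
  -- make a value one
  have hscale : ∀ y, b y y ≠ 0 → b y y = 1 ∨ b (y + j *ᵥ y) (y + j *ᵥ y) = 1 := fun y hy => by
    refine (hne _ hy).imp id fun h => ?_
    rw [baddl, baddr, baddr, bj, bxj, bsymm (j *ᵥ y) y, bxj, h]
    linear_combination -h3
  obtain ⟨x₁, hx₁⟩ : ∃ x, b x x = 1 := by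
    obtain ⟨y, hy⟩ : ∃ y, b y y ≠ 0 := by
      by_contra h
      push Not at h
      have hzero : ∀ u v, b u v = 0 := fun u v => by
        have h1 := h (u + v)
        rw [baddl, baddr, baddr, h u, h v, bsymm v u] at h1
        linear_combination -h1 + (b u v) * h3
      have := bnd (Pi.single (Sum.inl 0) 1) (hzero _)
      simpa using congrFun this (Sum.inl 0)
    rcases hscale y hy with h | h <;> exact ⟨_, h⟩
  have hj11 : b (j *ᵥ x₁) (j *ᵥ x₁) = 1 := (bj _ _).trans hx₁
  have hj10 : b (j *ᵥ x₁) x₁ = 0 := (bsymm _ _).trans (bxj x₁)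
  let π : (II → F) → (II → F) := fun v => v + (-b x₁ v) • x₁ + (-b (j *ᵥ x₁) v) • (j *ᵥ x₁)
  have hπ : ∀ v, b x₁ (π v) = 0 ∧ b (j *ᵥ x₁) (π v) = 0 := fun v => by
    refine ⟨?_, ?_⟩
    · simp only [π, baddr, bsmulr, hx₁, bxj]; ring
    · simp only [π, baddr, bsmulr, hj10, hj11]; ring
  obtain ⟨x₂, hx₂, h12, hj12⟩ : ∃ x, b x x = 1 ∧ b x₁ x = 0 ∧ b (j *ᵥ x₁) x = 0 := by
    obtain ⟨y, hy, hy1, hy2⟩ : ∃ y, b y y ≠ 0 ∧ b x₁ y = 0 ∧ b (j *ᵥ x₁) y = 0 := by
      by_contra h
      push Not at h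
      have hq0 : ∀ v, b (π v) (π v) = 0 := fun v => by_contra fun hc => h _ hc (hπ v).1 (hπ v).2
      have hπadd : ∀ u v, π (u + v) = π u + π v := fun u v => by
        simp only [π, baddr, neg_add, add_smul]; abel
      have hpi : ∀ v, π v = 0 := fun v => bnd _ fun w => by
        have h1 := hq0 (v + w)
        rw [hπadd, baddl (π v) (π w), baddr (π v) (π v) (π w), baddr (π w) (π v) (π w), hq0, hq0,
          bsymm (π w) (π v)] at h1
        have h2 : b (π v) (π w) = 0 := by linear_combination -h1 + (b (π v) (π w)) * h3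
        have h4 : b (π v) w = b (π v) (π w) := by
          simp only [π, baddr, bsmulr]
          rw [bsymm _ x₁, bsymm _ (j *ᵥ x₁)]
          have h5 := hπ v
          simp only [π] at h5
          rw [h5.1, h5.2]; ring
        rw [h4, h2]
      have hle : (⊤ : Submodule F (II → F)) ≤ Submodule.span F {x₁, j *ᵥ x₁} := fun v _ => by
        rw [Submodule.mem_span_pair]
        refine ⟨b x₁ v, b (j *ᵥ x₁) v, ?_⟩
        have h5 := hpi v
        simp only [π] at h5
        linear_combination (norm := module) -h5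
      have h6 := Submodule.finrank_mono hle
      have h7 : Module.finrank F (Submodule.span F ({x₁, j *ᵥ x₁} : Set (II → F))) ≤ 2 := by
        rw [← Matrix.range_cons_cons_empty x₁ (j *ᵥ x₁) ![]]
        exact (finrank_range_le_card (R := F) _).trans (by simp)
      rw [finrank_top, Module.finrank_fintype_fun_eq_card] at h6
      simp at h6
      omega
    rcases hscale y hy with h | h
    · exact ⟨y, h, hy1, hy2⟩
    · refine ⟨_, h, ?_, ?_⟩
      · rw [baddr, hy1, ← bj x₁ (j *ᵥ y), hjj, ← neg_one_smul F y, bsmulr, hy2]; ring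
      · rw [baddr, hy2, bj, hy1]; ring
  -- the four columns
  set e := x₁ + (x₂ + j *ᵥ x₂) with he
  set h := j *ᵥ (x₁ + (-1 : F) • (x₂ + j *ᵥ x₂)) with hh
  let col : II → (II → F) := Sum.elim ![e, j *ᵥ e] ![h, j *ᵥ h]
  set M : Matrix II II F := Matrix.of fun r c => col c r
  have hcol : ∀ c, M *ᵥ Pi.single c 1 = col c := fun c => by ext r; simp [M]
  have fb : ∀ u v, f u v = - b u (j *ᵥ v) := fun u v => by
    show f u v = - f u (j *ᵥ (j *ᵥ v))
    rw [hjj, ← neg_one_smul F v, hb.smul_right]; ring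
  have bj' : ∀ u v, b u (j *ᵥ v) = - b (j *ᵥ u) v := fun u v => by
    rw [← bj u (j *ᵥ v), hjj, ← neg_one_smul F v, bsmulr]; ring
  have hj21 : b x₂ x₁ = 0 := (bsymm _ _).trans h12
  have hj20 : b (j *ᵥ x₂) x₂ = 0 := (bsymm _ _).trans (bxj x₂)
  have hG : ∀ c d, f (col c) (col d) = Matrix.J (Fin 2) F c d := by
    have hneg : ∀ u v, b (-u) v = - b u v := fun u v => by rw [← neg_one_smul F u, bsmull]; ring
    have hnegr : ∀ u v, b u (-v) = - b u v := fun u v => by rw [← neg_one_smul F v, bsmulr]; ring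
    rintro (c | c) (d | d) <;> fin_cases c <;> fin_cases d <;> rw [fb] <;>
      simp [col, he, hh, Matrix.J, mulVec_add, mulVec_smul, mulVec_neg, hjj, baddl, baddr, bsmull, bsmulr, hneg, hnegr,
        bj', hj10, hj11, hx₁, hx₂, h12, hj12, hj21, hj20, bsymm x₂ (j *ᵥ x₁), bsymm (j *ᵥ x₂) x₁] <;>
      (first | linear_combination h3 | linear_combination -h3 | linear_combination 2 * h3 | linear_combination (-2 : F) * h3)
  have hMmem : M ∈ Matrix.symplecticGroup (Fin 2) F := by
    rw [SymplecticGroup.mem_iff']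
    ext c d
    rw [← hG c d]
    show _ = col c ⬝ᵥ (Matrix.J (Fin 2) F *ᵥ col d)
    simp only [Matrix.mul_apply, dotProduct, mulVec, transpose_apply, M, Matrix.of_apply, Finset.sum_mul, Finset.mul_sum,
      mul_assoc]
    exact Finset.sum_comm
  refine ⟨CfsgLib.Geo.SpTv.toGLHom ⟨M, hMmem⟩, CfsgLib.Geo.SpTv.toGLHom_mem _, ?_⟩
  show j * M = M * _
  refine Matrix.ext_of_mulVec_single fun c => ?_
  have hB : (fromBlocks !![0, -1; 1, 0] 0 0 !![0, -1; 1, 0] : Matrix II II F) *ᵥ Pi.single c 1 =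
      Sum.elim ![Pi.single (Sum.inl 1) 1, -Pi.single (Sum.inl 0) 1] ![Pi.single (Sum.inr 1) 1, -Pi.single (Sum.inr 0) 1] c := by
    ext (r | r) <;> rcases c with c | c <;> fin_cases c <;> fin_cases r <;> simp
  rw [← mulVec_mulVec, ← mulVec_mulVec, hcol, hB]
  rcases c with c | c <;> fin_cases c <;>
    simp only [Sum.elim_inl, Sum.elim_inr, Fin.zero_eta, Fin.mk_one, Matrix.cons_val_zero, Matrix.cons_val_one,
      mulVec_neg, hcol, col, hjj]

/-- The model group over a field with three elements. -/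
noncomputable def qd0 (ψ : ZMod 3 ≃+* F) : QD.E →* GL II F :=
  MonoidHom.toHomUnits
    { toFun := fun x => (QD.φ0 x).map ψ
      map_one' := by rw [QD.φ0_one]; exact map_one ψ.toRingHom.mapMatrix
      map_mul' := fun x y => by rw [QD.φ0_mul]; exact Matrix.map_mul (f := ψ) }

lemma qd0_val (ψ : ZMod 3 ≃+* F) (x : QD.E) : (qd0 ψ x : Matrix II II F) = (QD.φ0 x).map ψ := rfl

/-- The model group in the coordinates given by `P`. -/
noncomputable def qdHom (ψ : ZMod 3 ≃+* F) (P : GL II F) : QD.E →* GL II F :=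
  (MulAut.conj P).toMonoidHom.comp (qd0 ψ)

lemma qdHom_injective (ψ : ZMod 3 ≃+* F) (P : GL II F) : Function.Injective (qdHom ψ P) := by
  rw [injective_iff_map_eq_one]
  intro x hx
  refine QD.φ0_eq_one x (Matrix.map_injective ψ.injective ?_)
  have h1 := (MulAut.conj P).map_eq_one_iff.mp hx
  have h2 := congrArg Units.val h1
  rw [qd0_val, Units.val_one] at h2
  show (QD.φ0 x).map ψ = (1 : Matrix II II (ZMod 3)).map ψ
  rw [show (1 : Matrix II II (ZMod 3)).map ψ = 1 from map_one ψ.toRingHom.mapMatrix]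
  exact h2

lemma qdHom_comm (ψ : ZMod 3 ≃+* F) (P : GL II F) :
    ⁅(qdHom ψ P).range, (qdHom ψ P).range⁆ ≤ scalars II F := by
  have hc : ∀ x y : QD.E, (x * y * x⁻¹ * y⁻¹).a = 0 ∧ (x * y * x⁻¹ * y⁻¹).b = 0 := by decide +kernel
  have hs : ∀ z : QD.E, z.a = 0 ∧ z.b = 0 → z = 1 ∨ QD.φ0 z = -1 := by decide +kernel
  rw [Subgroup.commutator_le]
  rintro _ ⟨x, rfl⟩ _ ⟨y, rfl⟩
  rw [← map_commutatorElement]
  rcases hs _ (hc x y) with h | h
  · rw [commutatorElement_def, h, map_one]; exact one_mem _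
  · rw [mem_scalars_iff]
    refine ⟨-1, ?_⟩
    rw [commutatorElement_def]
    simp only [qdHom, MonoidHom.comp_apply, MulEquiv.coe_toMonoidHom, MulAut.conj_apply, Units.val_mul]
    rw [qd0_val]
    simp [h, Matrix.map_neg _ (map_neg ψ)]

lemma span_qdHom (ψ : ZMod 3 ≃+* F) (P : GL II F) :
    Submodule.span F (matrixSet (qdHom ψ P).range) = ⊤ := by
  rw [eq_top_iff]
  have hmem : ∀ x : QD.E, (P : Matrix II II F) * (QD.φ0 x).map ψ * ((P⁻¹ : GL II F) : Matrix II II F) ∈
      Submodule.span F (matrixSet (qdHom ψ P).range) := fun x =>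
    Submodule.subset_span ⟨qdHom ψ P x, ⟨x, rfl⟩, by simp [qdHom, qd0_val]⟩
  have hsingle : ∀ p q : II, (P : Matrix II II F) * Matrix.single p q (1 : F) * ((P⁻¹ : GL II F) : Matrix II II F) ∈
      Submodule.span F (matrixSet (qdHom ψ P).range) := fun p q => by
    have h := congrArg (fun N : Matrix II II (ZMod 3) => N.map ψ) (QD.single_eq p q)
    rw [Matrix.map_single, map_one] at h
    rw [h, show ((∑ ab : Fin 4 × Fin 4, QD.φ0 (⟨0, ab.1, ab.2⟩⁻¹) q p • QD.φ0 ⟨0, ab.1, ab.2⟩).map ψ) =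
        ∑ ab : Fin 4 × Fin 4, ψ (QD.φ0 (⟨0, ab.1, ab.2⟩⁻¹) q p) • (QD.φ0 ⟨0, ab.1, ab.2⟩).map ψ by
      ext r c; simp [Matrix.sum_apply, map_sum], Finset.mul_sum, Finset.sum_mul]
    refine Submodule.sum_mem _ fun ab _ => ?_
    rw [mul_smul_comm, smul_mul_assoc]
    exact Submodule.smul_mem _ _ (hmem _)
  intro N _
  set N' := ((P⁻¹ : GL II F) : Matrix II II F) * N * (P : Matrix II II F) with hN'
  have hN : N = (P : Matrix II II F) * N' * ((P⁻¹ : GL II F) : Matrix II II F) := by simp [hN', mul_assoc]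
  rw [hN, Matrix.matrix_eq_sum_single N', Finset.mul_sum, Finset.sum_mul]
  refine Submodule.sum_mem _ fun p _ => ?_
  rw [Finset.mul_sum, Finset.sum_mul]
  refine Submodule.sum_mem _ fun q _ => ?_
  rw [show Matrix.single p q (N' p q) = N' p q • Matrix.single p q (1 : F) by simp, mul_smul_comm, smul_mul_assoc]
  exact Submodule.smul_mem _ _ (hsingle p q)

omit [Fintype F] in
/-- A group spanning all matrices is absolutely irreducible. -/
lemma absIrred_of_span_eq_top {ι : Type} [Fintype ι] [DecidableEq ι] {S : Set (Matrix ι ι F)}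
    (h : Submodule.span F S = ⊤) : ActsAbsolutelyIrreducibly S := by
  refine ⟨fun W hW => ?_, fun M hM => ?_⟩
  · rcases eq_or_ne W ⊥ with hb | hb
    · exact Or.inl hb
    refine Or.inr ?_
    obtain ⟨w, hw, hw0⟩ := W.ne_bot_iff.mp hb
    have hall : ∀ N : Matrix ι ι F, N *ᵥ w ∈ W := fun N => by
      have hN : N ∈ Submodule.span F S := h ▸ Submodule.mem_top
      induction hN using Submodule.span_induction with
      | mem x hx => exact hW x hx ⟨w, hw, Matrix.toLin'_apply _ _⟩
      | zero => simp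
      | add x y _ _ hx hy => rw [add_mulVec]; exact W.add_mem hx hy
      | smul c x _ hx => rw [smul_mulVec]; exact W.smul_mem c hx
    obtain ⟨i, hi⟩ := Function.ne_iff.mp hw0
    rw [Submodule.eq_top_iff']
    intro v
    convert hall (Matrix.vecMulVec v (Pi.single i (w i)⁻¹)) using 1
    rw [vecMulVec_mulVec, single_dotProduct, inv_mul_cancel₀ hi]
    simp
  · have hall : ∀ N : Matrix ι ι F, Commute M N := fun N => by
      have hN : N ∈ Submodule.span F S := h ▸ Submodule.mem_top
      induction hN using Submodule.span_induction with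
      | mem x hx => exact hM x hx
      | zero => exact Commute.zero_right _
      | add x y _ _ hx hy => exact hx.add_right hy
      | smul c x _ hx => exact hx.smul_right c
    obtain ⟨c, hc⟩ := Matrix.mem_range_scalar_of_commute_single (M := M) fun i k _ => (hall _).symm
    exact ⟨c, by rw [← hc]; ext a b; simp [Matrix.scalar_apply, Matrix.diagonal, Matrix.one_apply]⟩

set_option maxHeartbeats 1000000 in
/-- Over three elements the normaliser of a quadratic field that is not self-adjoint lies in the normaliser of a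
group of symplectic type. -/
theorem field_to_classSix (hq : Fintype.card F = 3)
    {K : Subalgebra F (Matrix II II F)} (hK : IsFieldSubalgebra 2 K)
    (hac : IsAdjointClosedFor (Cfsg.sympForm 2 F) K) (hsa : ¬ IsSelfAdjointFor (Cfsg.sympForm 2 F) K)
    {H : Subgroup (GL II F)} (hH : H ≤ subalgebraNormalizer K ⊓ Cfsg.spGL 2 F) :
    ∃ R : Subgroup (GL II F), IsSymplecticTypeGroup 2 R ∧ ActsAbsolutelyIrreducibly (matrixSet R) ∧
      ⁅R, R⁆ ≤ scalars II F ∧ R ≤ similarityGroup (Cfsg.sympForm 2 F) ∧ Nat.card R = 32 ∧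
      Nat.card (Subgroup.center R) = 2 ∧ IsOfMinusType 2 R ∧ H ≤ subgroupNormalizer R := by
  classical
  set f := Cfsg.sympForm 2 F
  have hfs : IsSymplecticForm f := isSymplecticForm_sympForm 2
  have hb := hfs.bilinear
  obtain ⟨j, hjK, hj, hspan⟩ := exists_sqrt_neg_one hq hK
  have hroots : ∀ x ∈ K, x * x = -1 → x = j ∨ x = -j := by
    intro x hx hxx
    by_cases h0 : x - j = 0
    · exact Or.inl (sub_eq_zero.mp h0)
    obtain ⟨y, -, hy⟩ := hK.inv _ (K.sub_mem hx hjK) h0
    have h2 : (x - j) * (x + j) = 0 := by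
      rw [sub_mul, mul_add, mul_add, hxx, hj, hK.comm j hjK x hx]; abel
    have h4 := congrArg (y * ·) h2
    simp only [← mul_assoc, mul_eq_one_comm.mp hy, one_mul, mul_zero] at h4
    exact Or.inr (eq_neg_of_add_eq_zero_left h4)
  have hskew : ∀ u v, f (j *ᵥ u) v = - f u (j *ᵥ v) := by
    obtain ⟨j', hj', hadj⟩ := hac j hjK
    have hsq : j' * j' = -1 := by
      refine Matrix.ext_of_mulVec_single fun c => ?_
      rw [← sub_eq_zero]
      by_contra h0
      obtain ⟨⟨u, hu⟩, -⟩ := hfs.nondegenerate _ h0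
      apply hu
      rw [neg_mulVec, sub_neg_eq_add, one_mulVec, hb.add_right, ← mulVec_mulVec, ← hadj, ← hadj, mulVec_mulVec, hj,
        neg_mulVec, one_mulVec, ← neg_one_smul F u, hb.smul_left]
      ring
    intro u v
    rcases hroots j' hj' hsq with rfl | rfl
    · refine absurd ?_ hsa
      intro k hk u v
      obtain ⟨a, b, rfl⟩ := hspan k hk
      simp only [add_mulVec, smul_mulVec, one_mulVec, hb.add_left, hb.add_right, hb.smul_left, hb.smul_right, hadj]
    · rw [hadj, neg_mulVec, ← neg_one_smul F (j *ᵥ v), hb.smul_right]; ring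
  obtain ⟨P, hP, hjP⟩ := exists_adapted hq hj hskew
  let ψ : ZMod 3 ≃+* F := ZMod.ringEquivOfPrime F Nat.prime_three hq
  let φ := qdHom ψ P
  have hφinj := qdHom_injective ψ P
  let eR : QD.E ≃* φ.range := MonoidHom.ofInjective hφinj
  have hmodel : ∀ N : Matrix II II (ZMod 3), Nᵀ * Matrix.J (Fin 2) (ZMod 3) * N = Matrix.J (Fin 2) (ZMod 3) →
      (N.map ψ)ᵀ * Matrix.J (Fin 2) F * N.map ψ = Matrix.J (Fin 2) F := by
    intro N hN
    have hJ : Matrix.J (Fin 2) F = (Matrix.J (Fin 2) (ZMod 3)).map ψ := by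
      ext (a | a) (b | b) <;> simp [Matrix.J, Matrix.one_apply, apply_ite ψ]
    rw [hJ, ← transpose_map, ← Matrix.map_mul, ← Matrix.map_mul, hN]
  have hcardR : Nat.card φ.range = 32 := (Nat.card_congr eR.toEquiv).symm.trans QD.card_E
  refine ⟨φ.range, ⟨Nat.prime_two, ?_, ?_, ?_⟩, absIrred_of_span_eq_top (span_qdHom ψ P), qdHom_comm ψ P, ?_,
    hcardR, ?_, ?_, ?_⟩
  · exact IsPGroup.of_card (n := 5) (by rw [hcardR]; norm_num)
  · intro A hA hAc
    have : (A.comap eR.toMonoidHom).Characteristic := ⟨fun σ => by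
      have h := hA.fixed ((eR.symm.trans σ).trans eR)
      ext x
      have h1 : eR (σ x) ∈ A ↔ eR x ∈ A := by
        conv_rhs => rw [← h]
        simp [Subgroup.mem_comap]
      simpa [Subgroup.mem_comap] using h1⟩
    have hc : IsMulCommutative (A.comap eR.toMonoidHom) := ⟨⟨fun x y => Subtype.ext (eR.injective (by
      rw [Subgroup.coe_mul, Subgroup.coe_mul, map_mul, map_mul]
      exact congrArg Subtype.val (hAc.is_comm.comm ⟨eR x, x.2⟩ ⟨eR y, y.2⟩)))⟩⟩
    have := QD.cyclic_of_characteristic _ this hc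
    let μ : A.comap eR.toMonoidHom →* A :=
      (eR.toMonoidHom.comp (A.comap eR.toMonoidHom).subtype).codRestrict A fun x => x.2
    refine isCyclic_of_surjective μ fun a => ?_
    obtain ⟨z, ha⟩ := a
    obtain ⟨x, hx⟩ := eR.surjective z
    subst hx
    exact ⟨⟨x, ha⟩, rfl⟩
  · rw [← Monoid.exponent_eq_of_mulEquiv eR, QD.exponent_E]; norm_num
  · rintro _ ⟨x, rfl⟩
    have hx : qdHom ψ P x ∈ Cfsg.spGL 2 F := by
      rw [qdHom, MonoidHom.comp_apply, MulEquiv.coe_toMonoidHom, MulAut.conj_apply]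
      refine mul_mem (mul_mem hP (mem_spGL_iff_matrix.mpr ?_)) (inv_mem hP)
      exact hmodel _ (QD.φ0_form x)
    exact ⟨1, fun u v => by rw [Units.val_one, one_mul]; exact hx u v⟩
  · rw [← Nat.card_congr (Subgroup.centerCongr eR).toEquiv, QD.card_center]
  · intro A hA h2
    have hc : IsMulCommutative (A.comap eR.toMonoidHom) := ⟨⟨fun x y => Subtype.ext (eR.injective (by
      rw [Subgroup.coe_mul, Subgroup.coe_mul, map_mul, map_mul]
      exact congrArg Subtype.val (hA.is_comm.comm ⟨eR x, x.2⟩ ⟨eR y, y.2⟩)))⟩⟩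
    rw [← Nat.card_congr (eR.toEquiv.subtypeEquiv (p := fun x => x ∈ A.comap eR.toMonoidHom) (q := fun y => y ∈ A)
      fun _ => Iff.rfl)]
    exact QD.card_lt _ hc fun x hx => eR.injective (by rw [map_mul, map_one]; exact h2 _ hx)
  · intro g hg
    obtain ⟨hgK, hgS⟩ := hH hg
    refine Subgroup.mem_normalizer_fintype ?_
    rintro _ ⟨x, rfl⟩
    set g' : GL II F := P⁻¹ * g * P
    have hg' : g' ∈ Cfsg.spGL 2 F := mul_mem (mul_mem (inv_mem hP) hgS) hP
    set N : Matrix II II (ZMod 3) := (g' : Matrix II II F).map ψ.symm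
    have hNψ : N.map ψ = (g' : Matrix II II F) := by ext a b; simp [N]
    have hN : Nᵀ * Matrix.J (Fin 2) (ZMod 3) * N = Matrix.J (Fin 2) (ZMod 3) := by
      have hJ : Matrix.J (Fin 2) (ZMod 3) = (Matrix.J (Fin 2) F).map ψ.symm := by
        ext (a | a) (b | b) <;> simp [Matrix.J, Matrix.one_apply, apply_ite ψ.symm]
      rw [hJ, ← transpose_map, ← Matrix.map_mul, ← Matrix.map_mul, mem_spGL_iff_matrix.mp hg']
    have hJ1 : fromBlocks !![0, -1; 1, 0] 0 0 !![0, -1; 1, 0] = QD.J1.map ψ := by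
      ext (a | a) (b | b) <;> fin_cases a <;> fin_cases b <;> simp [QD.J1, QD.tp, QD.i2]
    have hconj := (hgK j).mp hjK
    have hsq : ((g : Matrix II II F) * j * ((g⁻¹ : GL II F) : Matrix II II F)) *
        ((g : Matrix II II F) * j * ((g⁻¹ : GL II F) : Matrix II II F)) = -1 := by
      simp only [mul_assoc, ← Units.val_mul, inv_mul_cancel, Units.val_one, one_mul,
        Units.inv_mul_cancel_left, ← mul_assoc j j, hj]
      simp
    have hcomm : N * QD.J1 = QD.J1 * N ∨ N * QD.J1 = -(QD.J1 * N) := by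
      have hinj : Function.Injective (fun M : Matrix II II (ZMod 3) => M.map ψ) := Matrix.map_injective ψ.injective
      have key : ((g' : Matrix II II F)) * QD.J1.map ψ = ((P⁻¹ : GL II F) : Matrix II II F) *
          ((g : Matrix II II F) * j * ((g⁻¹ : GL II F) : Matrix II II F)) * (P : Matrix II II F) * (g' : Matrix II II F) := by
        rw [← hJ1]
        simp only [g', Units.val_mul, mul_assoc, ← hjP]
        simp [← mul_assoc]
      have hjP' : ((P⁻¹ : GL II F) : Matrix II II F) * j * (P : Matrix II II F) = QD.J1.map ψ := by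
        rw [mul_assoc, hjP, hJ1, ← mul_assoc, Units.inv_mul, one_mul]
      rcases hroots _ hconj hsq with h | h <;> rw [h] at key
      · refine Or.inl (hinj ?_)
        show (N * QD.J1).map ψ = (QD.J1 * N).map ψ
        rw [Matrix.map_mul, Matrix.map_mul, hNψ, key, hjP']
      · refine Or.inr (hinj ?_)
        show (N * QD.J1).map ψ = (-(QD.J1 * N)).map ψ
        rw [Matrix.map_mul, Matrix.map_neg _ (map_neg ψ), Matrix.map_mul, hNψ, key, mul_neg, neg_mul, hjP', neg_mul]
    obtain ⟨y, hy⟩ := QD.normal_of_normalize hN hcomm x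
    refine ⟨y, ?_⟩
    have h2 := congrArg (fun M : Matrix II II (ZMod 3) => M.map ψ) hy
    simp only [Matrix.map_mul, hNψ] at h2
    simp only [φ, qdHom, MonoidHom.comp_apply, MulEquiv.coe_toMonoidHom, MulAut.conj_apply]
    have h3 : g' * qd0 ψ x = qd0 ψ y * g' := Units.ext h2
    calc P * qd0 ψ y * P⁻¹ = P * (qd0 ψ y * g') * g'⁻¹ * P⁻¹ := by group
      _ = P * (g' * qd0 ψ x) * g'⁻¹ * P⁻¹ := by rw [h3]
      _ = g * (P * qd0 ψ x * P⁻¹) * g⁻¹ := by simp only [g']; group

end CfsgLib.Aschbacher
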