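import Cfsg.Agent.Aschbacher.Form.SympFourThree
import Cfsg.Agent.Geo.SympLagrangianPair

/-!
Over three elements the stabiliser of two totally isotropic halves in dimension four normalises a self-adjoint
quadratic field.
-/
set_option autoImplicit false

namespace CfsgLib.Aschbacher

open Matrix Cfsg Cfsg.Geo
open scoped MatrixGroups

variable {F : Type*} [Field F]

local notation "II" => (Fin 2 ⊕ Fin 2)

lemma skew_two_congr (A : Matrix (Fin 2) (Fin 2) F) :
    A * !![0, -1; 1, 0] * Aᵀ = A.det • (!![0, -1; 1, 0] : Matrix (Fin 2) (Fin 2) F) := by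
  ext i j; fin_cases i <;> fin_cases j <;> simp [Matrix.mul_apply, Fin.sum_univ_two, Matrix.det_fin_two] <;> ring

/-- The two halves of a symplectic pair of blocks exchange the standard square roots of minus one. -/
lemma dual_blocks (hsq : ∀ x : F, x ≠ 0 → x * x = 1) {A B : Matrix (Fin 2) (Fin 2) F} (h : Aᵀ * B = 1) :
    ∃ c : F, A * !![0, -1; 1, 0] = c • (!![0, -1; 1, 0] * B) ∧ B * !![0, -1; 1, 0] = c • (!![0, -1; 1, 0] * A) := by
  have h' : Bᵀ * A = 1 := by
    have := congrArg Matrix.transpose h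
    rwa [transpose_mul, transpose_transpose, transpose_one] at this
  have hdet : A.det * B.det = 1 := by
    have := congrArg Matrix.det h
    rwa [det_mul, det_transpose, det_one] at this
  have hA0 : A.det ≠ 0 := fun h0 => by simp [h0] at hdet
  have hB : B.det = A.det := by
    calc B.det = (A.det * A.det) * B.det := by rw [hsq _ hA0, one_mul]
      _ = A.det := by rw [mul_assoc, hdet, mul_one]
  refine ⟨A.det, ?_, ?_⟩
  · calc A * !![0, -1; 1, 0] = A * !![0, -1; 1, 0] * (Aᵀ * B) := by rw [h, mul_one]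
      _ = _ := by rw [← mul_assoc, skew_two_congr, smul_mul_assoc]
  · calc B * !![0, -1; 1, 0] = B * !![0, -1; 1, 0] * (Bᵀ * A) := by rw [h', mul_one]
      _ = _ := by rw [← mul_assoc, skew_two_congr, smul_mul_assoc, hB]

variable [Fintype F]

/-- Coordinates adapted to a pair of totally isotropic halves. -/
lemma exists_halves_basis {D : Fin 2 → Submodule F (II → F)} (hD : IsMDecomposition 2 D)
    (hts : ∀ i, IsTotallySingularFor (Cfsg.sympForm 2 F) (D i)) :
    ∃ P ∈ Cfsg.spGL 2 F, (∀ k, (P : Matrix II II F) *ᵥ Pi.single (Sum.inl k) 1 ∈ D 0) ∧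
      (∀ k, (P : Matrix II II F) *ᵥ Pi.single (Sum.inr k) 1 ∈ D 1) := by
  classical
  set f := Cfsg.sympForm 2 F
  have hfs : IsSymplecticForm f := isSymplecticForm_sympForm 2
  have hb := hfs.bilinear
  let bW := Module.finBasisOfFinrankEq F (D 0) (hD.finrank_eq 0)
  let L : D 1 →ₗ[F] (Fin 2 → F) :=
    { toFun := fun u i => f (bW i : II → F) (u : II → F)
      map_add' := fun u v => funext fun i => hb.add_right _ _ _
      map_smul' := fun c u => funext fun i => hb.smul_right _ _ _ }
  have htop : D 0 ⊔ D 1 = ⊤ := by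
    rw [← hD.iSup_eq_top, ← Finset.sup_univ_eq_iSup]
    simp [Fin.univ_succ]
  have hinj : Function.Injective L := by
    rw [← LinearMap.ker_eq_bot, Submodule.eq_bot_iff]
    rintro ⟨u, hu⟩ hker
    rw [LinearMap.mem_ker] at hker
    by_contra h0
    obtain ⟨⟨x, hx⟩, -⟩ := hfs.nondegenerate u fun h => h0 (Subtype.ext h)
    apply hx
    obtain ⟨w, hw, u', hu', rfl⟩ := Submodule.mem_sup.mp (htop.ge (Submodule.mem_top (x := x)))
    rw [hb.add_left, hts 1 u' hu' u hu, add_zero]
    let φ : D 0 →ₗ[F] F :=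
      { toFun := fun w => f (w : II → F) u, map_add' := fun a b => hb.add_left _ _ _,
        map_smul' := fun c a => hb.smul_left _ _ _ }
    have hφ : φ = 0 := bW.ext fun i => congrFun hker i
    exact LinearMap.congr_fun hφ ⟨w, hw⟩
  have hsurj : Function.Surjective L := (LinearMap.injective_iff_surjective_of_finrank_eq_finrank
    (by rw [hD.finrank_eq, Module.finrank_fin_fun])).mp hinj
  choose d hd using fun k : Fin 2 => hsurj (-Pi.single k 1)
  have hd' : ∀ i k, f (bW i : II → F) (d k : II → F) = (-Pi.single k 1 : Fin 2 → F) i :=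
    fun i k => congrFun (hd k) i
  let col : II → (II → F) := Sum.elim (fun k => (bW k : II → F)) (fun k => (d k : II → F))
  set M : Matrix II II F := Matrix.of fun r c => col c r
  have hG : ∀ c c', f (col c) (col c') = Matrix.J (Fin 2) F c c' := by
    rintro (c | c) (c' | c')
    · rw [show f (col (Sum.inl c)) (col (Sum.inl c')) = 0 from hts 0 _ (bW c).2 _ (bW c').2]; simp [Matrix.J]
    · rw [show f (col (Sum.inl c)) (col (Sum.inr c')) = _ from hd' c c']
      simp [Matrix.J, Matrix.one_apply, Pi.single_apply, apply_ite]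
    · rw [hfs.skew, show f (col (Sum.inl c')) (col (Sum.inr c)) = _ from hd' c' c]
      simp [Matrix.J, Matrix.one_apply, Pi.single_apply, eq_comm]
    · rw [show f (col (Sum.inr c)) (col (Sum.inr c')) = 0 from hts 1 _ (d c).2 _ (d c').2]; simp [Matrix.J]
  have hMmem : M ∈ Matrix.symplecticGroup (Fin 2) F := by
    rw [SymplecticGroup.mem_iff']
    ext c d'
    rw [← hG c d']
    show _ = col c ⬝ᵥ (Matrix.J (Fin 2) F *ᵥ col d')
    simp only [Matrix.mul_apply, dotProduct, mulVec, transpose_apply, M, Matrix.of_apply, Finset.sum_mul, Finset.mul_sum,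
      mul_assoc]
    exact Finset.sum_comm
  have hcol : ∀ c, M *ᵥ Pi.single c 1 = col c := fun c => by ext r; simp [M]
  refine ⟨CfsgLib.Geo.SpTv.toGLHom ⟨M, hMmem⟩, CfsgLib.Geo.SpTv.toGLHom_mem _, fun k => ?_, fun k => ?_⟩
  · show M *ᵥ _ ∈ D 0
    rw [hcol]; exact (bW k).2
  · show M *ᵥ _ ∈ D 1
    rw [hcol]; exact (d k).2

/-- Over three elements the stabiliser of two totally isotropic halves normalises a self-adjoint quadratic field. -/
theorem halves_to_field (hq : Fintype.card F = 3) {D : Fin 2 → Submodule F (II → F)} (hD : IsMDecomposition 2 D)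
    (hts : ∀ i, IsTotallySingularFor (Cfsg.sympForm 2 F) (D i)) {H : Subgroup (GL II F)}
    (hH : H ≤ decompositionStabilizer D ⊓ Cfsg.spGL 2 F) :
    ∃ K : Subalgebra F (Matrix II II F), IsFieldSubalgebra 2 K ∧ IsSelfAdjointFor (Cfsg.sympForm 2 F) K ∧
      (∀ k ∈ K, ∀ v, Cfsg.sympForm 2 F (k *ᵥ v) v = 0) ∧ H ≤ subalgebraNormalizer K := by
  classical
  set f := Cfsg.sympForm 2 F
  have hfs : IsSymplecticForm f := isSymplecticForm_sympForm 2
  have hb := hfs.bilinear
  have hsq : ∀ x : F, x ≠ 0 → x * x = 1 := fun x hx => by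
    have h := FiniteField.pow_card_sub_one_eq_one x hx
    rw [hq] at h
    rw [← h]; ring
  have h3 : (3 : F) = 0 := by
    have := Nat.cast_card_eq_zero F
    rw [hq] at this
    exact_mod_cast this
  obtain ⟨P, hP, hP0, hP1⟩ := exists_halves_basis hD hts
  set j0 : Matrix II II F := fromBlocks 0 !![0, -1; 1, 0] !![0, -1; 1, 0] 0 with hj0def
  set j := (P : Matrix II II F) * j0 * ((P⁻¹ : GL II F) : Matrix II II F) with hjdef
  have hj0 : j0 * j0 = -1 := by
    ext (a | a) (b | b) <;> fin_cases a <;> fin_cases b <;> simp [hj0def, fromBlocks_multiply]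
  have hjj : j * j = -1 := by
    calc j * j = (P : Matrix II II F) * (j0 * j0) * ((P⁻¹ : GL II F) : Matrix II II F) := by
          simp [hjdef, mul_assoc]
      _ = -1 := by rw [hj0]; simp
  have hJ0 : j0ᵀ * Matrix.J (Fin 2) F = Matrix.J (Fin 2) F * j0 := by
    ext (a | a) (b | b) <;> fin_cases a <;> fin_cases b <;>
      simp [hj0def, Matrix.J, fromBlocks_transpose, fromBlocks_multiply]
  have hfj0 : ∀ u v, f (j0 *ᵥ u) v = f u (j0 *ᵥ v) := fun u v => by
    show (j0 *ᵥ u) ⬝ᵥ (Matrix.J (Fin 2) F *ᵥ v) = u ⬝ᵥ (Matrix.J (Fin 2) F *ᵥ (j0 *ᵥ v))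
    rw [← vecMul_transpose, ← dotProduct_mulVec, mulVec_mulVec, mulVec_mulVec, hJ0]
  have hPf : ∀ u v, f ((P : Matrix II II F) *ᵥ u) ((P : Matrix II II F) *ᵥ v) = f u v := fun u v => hP u v
  have hPP : ∀ u, (P : Matrix II II F) *ᵥ (((P⁻¹ : GL II F) : Matrix II II F) *ᵥ u) = u := fun u => by
    rw [mulVec_mulVec, Units.mul_inv, one_mulVec]
  have hfj : ∀ u v, f (j *ᵥ u) v = f u (j *ᵥ v) := fun u v => by
    conv_lhs => rw [← hPP v, hjdef, ← mulVec_mulVec, ← mulVec_mulVec, hPf, hfj0, ← hPf, hPP]
    rw [hjdef, ← mulVec_mulVec, ← mulVec_mulVec]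
  -- the field
  let S : Submodule F (Matrix II II F) := Submodule.span F {1, j}
  have hS : ∀ k, k ∈ S ↔ ∃ a b : F, k = a • 1 + b • j := fun k => by
    rw [Submodule.mem_span_pair]; exact ⟨fun ⟨a, b, h⟩ => ⟨a, b, h.symm⟩, fun ⟨a, b, h⟩ => ⟨a, b, h.symm⟩⟩
  let K : Subalgebra F (Matrix II II F) := S.toSubalgebra (Submodule.subset_span (by simp)) (by
    intro x y hx hy
    obtain ⟨a, b, rfl⟩ := (hS x).mp hx
    obtain ⟨c, d, rfl⟩ := (hS y).mp hy
    refine (hS _).mpr ⟨a * c - b * d, a * d + b * c, ?_⟩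
    simp only [add_mul, mul_add, smul_mul_assoc, mul_smul_comm, one_mul, mul_one, hjj, smul_smul]
    module)
  have hnorm : ∀ a b : F, (a • (1 : Matrix II II F) + b • j) * (a • 1 + (-b) • j) = (a * a + b * b) • 1 := by
    intro a b
    simp only [add_mul, mul_add, smul_mul_assoc, mul_smul_comm, one_mul, mul_one, hjj, smul_smul]
    module
  have hab : ∀ a b : F, a * a + b * b = 0 → a = 0 ∧ b = 0 := by
    intro a b h
    by_cases hb0 : b = 0
    · subst hb0
      rw [mul_zero, add_zero, mul_self_eq_zero] at h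
      exact ⟨h, rfl⟩
    exfalso
    rw [hsq b hb0] at h
    by_cases ha0 : a = 0
    · subst ha0; simp at h
    · rw [hsq a ha0] at h
      exact one_ne_zero (α := F) (by linear_combination h3 - h)
  have hli : LinearIndependent F ![(1 : Matrix II II F), j] := by
    rw [LinearIndependent.pair_iff]
    intro s t h
    refine hab s t ?_
    have := hnorm s t
    rw [h, zero_mul] at this
    by_contra hne
    exact smul_ne_zero hne one_ne_zero this.symm
  have hK : IsFieldSubalgebra 2 K := by
    refine ⟨fun x hx y hy => ?_, fun x hx hx0 => ?_, ?_⟩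
    · obtain ⟨a, b, rfl⟩ := (hS x).mp hx
      obtain ⟨c, d, rfl⟩ := (hS y).mp hy
      simp only [add_mul, mul_add, smul_mul_assoc, mul_smul_comm, one_mul, mul_one]
      module
    · obtain ⟨a, b, rfl⟩ := (hS x).mp hx
      have hne : a * a + b * b ≠ 0 := fun h => hx0 (by obtain ⟨rfl, rfl⟩ := hab a b h; simp)
      refine ⟨(a * a + b * b)⁻¹ • (a • 1 + (-b) • j), K.smul_mem ((hS _).mpr ⟨_, _, rfl⟩) _, ?_⟩
      rw [mul_smul_comm, hnorm, inv_smul_smul₀ hne]
    · show Module.finrank F S = 2
      rw [show S = Submodule.span F (Set.range ![(1 : Matrix II II F), j]) by rw [Matrix.range_cons_cons_empty],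
        finrank_span_eq_card hli, Fintype.card_fin]
  refine ⟨K, hK, fun k hk u v => ?_, fun k hk v => ?_, ?_⟩
  · obtain ⟨a, b, rfl⟩ := (hS k).mp hk
    simp only [add_mulVec, smul_mulVec, one_mulVec, hb.add_left, hb.add_right, hb.smul_left, hb.smul_right, hfj]
  · obtain ⟨a, b, rfl⟩ := (hS k).mp hk
    simp only [add_mulVec, smul_mulVec, one_mulVec, hb.add_left, hb.smul_left, hfs.alternating]
    have h0 : f (j *ᵥ v) v = 0 := by
      have h := hfj v v
      rw [hfs.skew v (j *ᵥ v)] at h
      linear_combination (f (j *ᵥ v) v) * h3 - h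
    rw [h0]; ring
  · have hconj : ∀ g ∈ H, ∀ k ∈ K, (g : Matrix II II F) * k * ((g⁻¹ : GL II F) : Matrix II II F) ∈ K := by
      intro g hg k hk
      obtain ⟨hgD, hgS⟩ := hH hg
      obtain ⟨σ, hσ⟩ := CfsgLib.Geo.exists_perm_of_mem hgD
      set g' : GL II F := P⁻¹ * g * P with hg'def
      have hg' : g' ∈ Cfsg.spGL 2 F := mul_mem (mul_mem (inv_mem hP) hgS) hP
      set G := (g' : Matrix II II F)
      have hzero : ∀ i, ∀ w ∈ D i, ∀ r, (if i = 0 then r else r.swap).isRight →
          (((P⁻¹ : GL II F) : Matrix II II F) *ᵥ w) r = 0 := by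
        intro i w hw r hr
        have hsp : ∀ (e : Fin 2 → II), (∀ k, (P : Matrix II II F) *ᵥ Pi.single (e k) 1 ∈ D i) → Function.Injective e →
            (∀ k, e k ≠ r) → (((P⁻¹ : GL II F) : Matrix II II F) *ᵥ w) r = 0 := by
          intro e he hei her
          let v : Fin 2 → D i := fun k => ⟨_, he k⟩
          have hvl : LinearIndependent F v := by
            apply LinearIndependent.of_comp (D i).subtype
            have h1 := (((Pi.basisFun F II).linearIndependent).map' (Matrix.toLin' (P : Matrix II II F))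
              (LinearMap.ker_eq_bot.mpr (mulVec_injective_GL P))).comp e hei
            have h2 : ⇑(D i).subtype ∘ v = (⇑(Matrix.toLin' (P : Matrix II II F)) ∘ ⇑(Pi.basisFun F II)) ∘ e := by
              funext k
              simp [v, Matrix.toLin'_apply]
            rw [h2]
            exact h1
          have hvt : Submodule.span F (Set.range v) = ⊤ := hvl.span_eq_top_of_card_eq_finrank (by simp [hD.finrank_eq])
          obtain ⟨c, hc⟩ := (Submodule.mem_span_range_iff_exists_fun F).mp (hvt ▸ Submodule.mem_top (x := (⟨w, hw⟩ : D i)))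
          have hc' : w = ∑ k, c k • ((P : Matrix II II F) *ᵥ Pi.single (e k) 1) := by
            have h2 := congrArg (D i).subtype hc
            simp only [map_sum, map_smul, Submodule.subtype_apply] at h2
            exact h2.symm
          rw [hc']
          rw [mulVec_sum, Finset.sum_apply]
          refine Finset.sum_eq_zero fun k _ => ?_
          rw [mulVec_smul, mulVec_mulVec, Units.inv_mul, one_mulVec]
          simp [Ne.symm (her k)]
        fin_cases i
        · exact hsp Sum.inl hP0 Sum.inl_injective (fun k h => by subst h; simp at hr)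
        · exact hsp Sum.inr hP1 Sum.inr_injective (fun k h => by subst h; simp at hr)
      have hentry : ∀ r c, G r c = (((P⁻¹ : GL II F) : Matrix II II F) *ᵥ
          ((g : Matrix II II F) *ᵥ ((P : Matrix II II F) *ᵥ Pi.single c 1))) r := fun r c => by
        rw [mulVec_mulVec, mulVec_mulVec, mulVec_single_one, Matrix.col_apply]
        simp [G, hg'def, mul_assoc]
      have hform : Gᵀ * Matrix.J (Fin 2) F * G = Matrix.J (Fin 2) F := mem_spGL_iff_matrix.mp hg'
      obtain ⟨c, hc⟩ : ∃ c : F, G * j0 = c • (j0 * G) := by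
        have hJe : Matrix.J (Fin 2) F = fromBlocks 0 (-1) 1 0 := rfl
        rw [← fromBlocks_toBlocks G] at hform ⊢
        rcases Fin.exists_fin_two.mp ⟨σ 0, rfl⟩ with h0 | h0
        · have h1 : σ 1 = 1 := (Fin.exists_fin_two.mp ⟨σ 1, rfl⟩).resolve_left fun h => by
            simpa using σ.injective (h.trans h0.symm)
          have z1 : G.toBlocks₁₂ = 0 := by
            ext a b; show G (Sum.inl a) (Sum.inr b) = 0
            rw [hentry]; exact hzero 1 _ (h1 ▸ hσ 1 _ (hP1 b)) _ rfl
          have z2 : G.toBlocks₂₁ = 0 := by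
            ext a b; show G (Sum.inr a) (Sum.inl b) = 0
            rw [hentry]; exact hzero 0 _ (h0 ▸ hσ 0 _ (hP0 b)) _ rfl
          rw [z1, z2] at hform ⊢
          simp only [hJe, fromBlocks_transpose, fromBlocks_multiply, transpose_zero, Matrix.mul_zero, Matrix.zero_mul,
            add_zero, zero_add, Matrix.mul_neg, Matrix.neg_mul, Matrix.mul_one, fromBlocks_inj] at hform
          obtain ⟨c, hA, hB⟩ := dual_blocks hsq (neg_injective hform.2.1)
          refine ⟨c, ?_⟩
          simp [hj0def, fromBlocks_multiply, fromBlocks_smul, hA, hB]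
        · have h1 : σ 1 = 0 := (Fin.exists_fin_two.mp ⟨σ 1, rfl⟩).resolve_right fun h => by
            simpa using σ.injective (h.trans h0.symm)
          have z1 : G.toBlocks₁₁ = 0 := by
            ext a b; show G (Sum.inl a) (Sum.inl b) = 0
            rw [hentry]; exact hzero 1 _ (h0 ▸ hσ 0 _ (hP0 b)) _ rfl
          have z2 : G.toBlocks₂₂ = 0 := by
            ext a b; show G (Sum.inr a) (Sum.inr b) = 0
            rw [hentry]; exact hzero 0 _ (h1 ▸ hσ 1 _ (hP1 b)) _ rfl
          rw [z1, z2] at hform ⊢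
          simp only [hJe, fromBlocks_transpose, fromBlocks_multiply, transpose_zero, Matrix.mul_zero, Matrix.zero_mul,
            add_zero, zero_add, Matrix.mul_neg, Matrix.neg_mul, Matrix.mul_one, fromBlocks_inj] at hform
          obtain ⟨c, hA, hB⟩ := dual_blocks hsq (A := G.toBlocks₁₂) (B := -G.toBlocks₂₁)
            (by rw [Matrix.mul_neg]; exact hform.2.2.1)
          rw [Matrix.neg_mul, neg_eq_iff_eq_neg] at hB
          refine ⟨-c, ?_⟩
          rw [hj0def, fromBlocks_multiply, fromBlocks_multiply, fromBlocks_smul]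
          simp only [Matrix.mul_zero, Matrix.zero_mul, add_zero, zero_add, smul_zero, hA, hB, Matrix.mul_neg,
            smul_neg, neg_smul]
      have hgj : (g : Matrix II II F) * j * ((g⁻¹ : GL II F) : Matrix II II F) = c • j := by
        have h1 : (g : Matrix II II F) * j = c • (j * (g : Matrix II II F)) := by
          have h2 := congrArg (fun M => (P : Matrix II II F) * M * ((P⁻¹ : GL II F) : Matrix II II F)) hc
          simp only [mul_smul_comm, smul_mul_assoc] at h2
          simpa [G, hg'def, hjdef, mul_assoc] using h2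
        rw [h1, smul_mul_assoc, mul_assoc, Units.mul_inv, mul_one]
      obtain ⟨a, b, rfl⟩ := (hS k).mp hk
      refine (hS _).mpr ⟨a, b * c, ?_⟩
      rw [mul_add, add_mul, mul_smul_comm, smul_mul_assoc, mul_smul_comm, smul_mul_assoc, mul_one, Units.mul_inv, hgj,
        smul_smul]
    intro g hg k
    refine ⟨hconj g hg k, fun h => ?_⟩
    have h1 := hconj g⁻¹ (inv_mem hg) _ h
    simpa [mul_assoc] using h1

end CfsgLib.Aschbacher
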