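import Cfsg.Agent.Aschbacher.Form.SymplecticStd
import Cfsg.Agent.Aschbacher.Form.Members
import Cfsg.Agent.Aschbacher.Form.SelfAdjointField
import Cfsg.Agent.Geo.SympSubspace

/-!
The maximal subgroups of the symplectic groups.
-/
set_option autoImplicit false

namespace CfsgLib.Aschbacher

open Matrix Cfsg Cfsg.Geo CfsgLib.GeoClifford
open scoped MatrixGroups

variable {F : Type*} [Field F] {m : ℕ}

lemma sympForm_sum (u v : Fin m ⊕ Fin m → F) :
    Cfsg.sympForm m F u v = ∑ i, (u (Sum.inr i) * v (Sum.inl i) - u (Sum.inl i) * v (Sum.inr i)) := by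
  simp [Cfsg.sympForm, Matrix.J, dotProduct, mulVec, Fintype.sum_sum_type, Matrix.one_apply, Finset.sum_sub_distrib]
  ring

/-- The symplectic group fixes no quadratic form polarising to the standard form. -/
theorem spGL_not_le_quad (hm : 2 ≤ m) {Q : (Fin m ⊕ Fin m → F) → F} (hQ : IsNondegenerateQuadraticForm Q)
    (hQf : ∀ u v, QuadraticMap.polar Q u v = Cfsg.sympForm m F u v) : ¬ Cfsg.spGL m F ≤ quadSimilarityGroup Q := by
  intro hle
  have hS := isSymplecticForm_sympForm (F := F) m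
  have hadd : ∀ u v, Q (u + v) = Q u + Q v + Cfsg.sympForm m F u v := fun u v => by
    rw [← hQf]; simp only [QuadraticMap.polar]; ring
  let i : Fin m := ⟨0, by omega⟩
  let j : Fin m := ⟨1, by omega⟩
  have hij : i ≠ j := by simp [i, j]
  have hf : ∀ a b : Fin m ⊕ Fin m, Cfsg.sympForm m F (Pi.single a 1) (Pi.single b 1) =
      Matrix.J (Fin m) F a b := fun a b => by
    simp [Cfsg.sympForm]
  -- two orthogonal vectors, one of them with value different from minus one
  obtain ⟨v, hv0, hv⟩ : ∃ v, v ≠ 0 ∧ Q v + 1 ≠ 0 := by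
    by_contra hcon
    push Not at hcon
    have hu : (Pi.single (Sum.inl i) 1 : Fin m ⊕ Fin m → F) ≠ 0 := by simp
    have hw : (Pi.single (Sum.inl j) 1 : Fin m ⊕ Fin m → F) ≠ 0 := by simp
    have huw : (Pi.single (Sum.inl i) 1 : Fin m ⊕ Fin m → F) + Pi.single (Sum.inl j) 1 ≠ 0 := fun h => by
      simpa [hij] using congrFun h (Sum.inl i)
    have h1 := hcon _ huw
    rw [hadd, hf, show Matrix.J (Fin m) F (Sum.inl i) (Sum.inl j) = 0 by simp [Matrix.J], add_zero] at h1
    exact one_ne_zero (α := F) (by linear_combination hcon _ hu + hcon _ hw - h1)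
  obtain ⟨c, hc⟩ := hle (CfsgLib.Geo.SpTv.stv_mem v 1)
  have himg : ∀ x, Q ((CfsgLib.Geo.SpTv.stv v 1 : Matrix (Fin m ⊕ Fin m) (Fin m ⊕ Fin m) F) *ᵥ x) =
      Q x + Cfsg.sympForm m F x v ^ 2 * (Q v + 1) := fun x => by
    rw [CfsgLib.Geo.SpTv.stv_mulVec, one_mul, hadd, hQ.smul, hS.bilinear.smul_right]
    have : ∀ x y, CfsgLib.Symp.form x y = Cfsg.sympForm m F x y := fun _ _ => rfl
    rw [this]
    ring
  -- the multiplier is one
  obtain ⟨x, hxv, hx⟩ : ∃ x, Cfsg.sympForm m F x v = 0 ∧ Q x ≠ 0 := by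
    by_contra hcon
    push Not at hcon
    let φ := Cfsg.sympForm m F
    obtain ⟨w, hw, hwv⟩ : ∃ w, φ w v = 0 ∧ w ∉ Submodule.span F {v} := by
      by_contra h
      push Not at h
      let L : (Fin m ⊕ Fin m → F) →ₗ[F] F :=
        { toFun := fun w => φ w v, map_add' := fun a b => hS.bilinear.add_left a b v,
          map_smul' := fun c a => hS.bilinear.smul_left c a v }
      have h1 := Submodule.finrank_mono (show LinearMap.ker L ≤ Submodule.span F {v} from fun w hw => h w hw)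
      have h2 := LinearMap.finrank_range_add_finrank_ker L
      have h3 := Submodule.finrank_le (LinearMap.range L)
      rw [finrank_span_singleton hv0] at h1
      rw [Module.finrank_fintype_fun_eq_card, Fintype.card_sum, Fintype.card_fin] at h2
      rw [Module.finrank_self] at h3
      omega
    obtain ⟨y, hy, hwy⟩ := CfsgLib.Geo.SpTv.exists_form_of_notMem (Submodule.span F {v}) hwv
    have hyv : φ y v = 0 := by
      rw [show φ y v = - φ v y from hS.skew y v, neg_eq_zero]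
      exact hy v (Submodule.mem_span_singleton_self v)
    have hsum : φ (w + y) v = 0 := (hS.bilinear.add_left w y v).trans (by
      show φ w v + φ y v = 0
      rw [hw, hyv, add_zero])
    have h1 := hcon _ hsum
    rw [hadd, hcon w hw, hcon y hyv] at h1
    have : φ w y ≠ 0 := fun h0 => by
      apply one_ne_zero (α := F)
      rw [← hwy]; exact h0
    exact this (by simpa using h1)
  have h1 := (himg x).symm.trans (hc x)
  rw [hxv, zero_pow two_ne_zero, zero_mul, add_zero] at h1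
  have hc1 : (c : F) = 1 := (mul_eq_right₀ hx).mp h1.symm
  obtain ⟨⟨y, hy⟩, -⟩ := hS.nondegenerate v hv0
  have h2 := (himg y).symm.trans (hc y)
  rw [hc1, one_mul, add_eq_left] at h2
  exact mul_ne_zero (pow_ne_zero 2 hy) hv h2

lemma even_card_of_symplecticForm {n : ℕ} {f : (Fin n → F) → (Fin n → F) → F} (hf : IsSymplecticForm f) : Even n := by
  have h := even_finrank_of_alternating hf.bilinear hf.alternating ⊤ fun w _ hw =>
    ⟨(hf.nondegenerate w hw).1.imp fun x hx => ⟨trivial, hx⟩, (hf.nondegenerate w hw).2.imp fun x hx => ⟨trivial, hx⟩⟩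
  rwa [finrank_top, Module.finrank_fintype_fun_eq_card, Fintype.card_fin] at h

variable [Fintype F]

/-- Over two elements a decomposition into planes carries a quadratic form. -/
lemma planes_to_quad (hq : Fintype.card F = 2) {f : (Fin m ⊕ Fin m → F) → (Fin m ⊕ Fin m → F) → F}
    (hf : IsSymplecticForm f) {G : Subgroup (GL (Fin m ⊕ Fin m) F)} {t : ℕ}
    {D : Fin t → Submodule F (Fin m ⊕ Fin m → F)} (hD : IsNondegenerateMDecomposition f 2 D)
    (hG : G ≤ decompositionStabilizer D) :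
    ∃ Q : (Fin m ⊕ Fin m → F) → F, IsNondegenerateQuadraticForm Q ∧ (∀ u v, QuadraticMap.polar Q u v = f u v) ∧
      G ≤ quadSimilarityGroup Q := by
  classical
  have hb := hf.bilinear
  have hcompl : ∀ i, IsCompl (D i) (⨆ (j) (_ : j ≠ i), D j) := fun i =>
    ⟨hD.decomp.indep i, codisjoint_iff.mpr (by rw [← hD.decomp.iSup_eq_top, ← iSup_split_single D i])⟩
  let π : Fin t → (Fin m ⊕ Fin m → F) →ₗ[F] (Fin m ⊕ Fin m → F) := fun i =>
    (D i).subtype ∘ₗ Submodule.projectionOnto _ _ (hcompl i)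
  have hmem : ∀ i v, π i v ∈ D i := fun i v => Submodule.coe_mem _
  have hδ : ∀ i j, ∀ x ∈ D j, π i x = if i = j then x else 0 := by
    intro i j x hx
    simp only [π, LinearMap.coe_comp, Function.comp_apply, Submodule.coe_subtype]
    by_cases hij : i = j
    · subst hij
      rw [if_pos rfl]
      exact congrArg Subtype.val (Submodule.projectionOnto_apply_left (hcompl i) ⟨x, hx⟩)
    · rw [if_neg hij, (Submodule.projectionOnto_apply_eq_zero_iff (hcompl i)).mpr
        (Submodule.mem_iSup_of_mem j (Submodule.mem_iSup_of_mem (Ne.symm hij) hx))]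
      rfl
  have huniq : ∀ (w : Fin t → (Fin m ⊕ Fin m → F)), (∀ i, w i ∈ D i) → ∀ i, π i (∑ j, w j) = w i := by
    intro w hw i
    rw [map_sum, Finset.sum_eq_single i (fun j _ hj => by rw [hδ i j _ (hw j), if_neg (Ne.symm hj)]) (by simp),
      hδ i i _ (hw i), if_pos rfl]
  have hsum : ∀ v, ∑ i, π i v = v := by
    intro v
    have hle : (⊤ : Submodule F (Fin m ⊕ Fin m → F)) ≤ LinearMap.eqLocus (∑ i, π i) LinearMap.id := by
      rw [← hD.decomp.iSup_eq_top, iSup_le_iff]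
      intro j x hx
      show (∑ i, π i) x = x
      rw [LinearMap.sum_apply, Finset.sum_eq_single j (fun i _ hi => by rw [hδ i j _ hx, if_neg hi]) (by simp),
        hδ j j _ hx, if_pos rfl]
    have h := hle (Submodule.mem_top (x := v))
    rwa [LinearMap.mem_eqLocus, LinearMap.sum_apply, LinearMap.id_apply] at h
  have h01 : ∀ a : F, a = 0 ∨ a = 1 := eq_zero_or_one_of_card_two hq
  have h11 : (1 : F) + 1 = 0 := (h01 _).resolve_right fun h => one_ne_zero (α := F) (by linear_combination h)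
  let e : (Fin m ⊕ Fin m → F) → F := fun w => if w = 0 then 0 else 1
  have hplane : ∀ i, ∀ a ∈ D i, ∀ b ∈ D i, e (a + b) - e a - e b = f a b := by
    intro i a ha b hb'
    have hz : ∀ w, f 0 w = 0 ∧ f w 0 = 0 := fun w => ⟨by
      rw [show (0 : Fin m ⊕ Fin m → F) = (0 : F) • 0 from (zero_smul _ _).symm, hb.smul_left, zero_mul], by
      rw [show (0 : Fin m ⊕ Fin m → F) = (0 : F) • 0 from (zero_smul _ _).symm, hb.smul_right, zero_mul]⟩
    by_cases ha0 : a = 0
    · simp [e, ha0, (hz b).1]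
    by_cases hb0 : b = 0
    · simp [e, hb0, (hz a).2]
    by_cases hab : a = b
    · subst hab
      have haa : a + a = 0 := by rw [← one_smul F a, ← add_smul, h11, zero_smul]
      simp only [e, haa, if_true, if_neg ha0, hf.alternating]
      linear_combination -h11
    have hs : a + b ≠ 0 := fun h => hab (by
      have haa : b + b = 0 := by rw [← one_smul F b, ← add_smul, h11, zero_smul]
      exact add_right_cancel (h.trans haa.symm))
    have hne : f a b ≠ 0 := by
      intro h0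
      obtain ⟨-, x, hx, hne⟩ := hD.nondegenerate i a ha ha0
      have hli : LinearIndependent F ![a, b] := by
        rw [LinearIndependent.pair_iff]
        intro s u hsu
        rcases h01 s with rfl | rfl <;> rcases h01 u with rfl | rfl <;> simp_all
      have hsp : Submodule.span F {a, b} = D i := by
        refine Submodule.eq_of_le_of_finrank_eq (Submodule.span_le.mpr (by rintro _ (rfl | rfl) <;> assumption)) ?_
        rw [hD.decomp.finrank_eq, ← Matrix.range_cons_cons_empty a b ![], finrank_span_eq_card hli, Fintype.card_fin]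
      rw [← hsp, Submodule.mem_span_pair] at hx
      obtain ⟨s, u, rfl⟩ := hx
      rw [hb.add_right, hb.smul_right, hb.smul_right, hf.alternating, h0] at hne
      simp at hne
    rw [(h01 (f a b)).resolve_left hne]
    simp only [e, if_neg ha0, if_neg hb0, if_neg hs]
    linear_combination -h11
  let Q : (Fin m ⊕ Fin m → F) → F := fun v => ∑ i, e (π i v)
  have horth : ∀ (i : Fin t) (u : Fin m ⊕ Fin m → F), u ∈ D i → ∀ v, f u v = f u (π i v) := by
    intro i u hu v
    conv_lhs => rw [← hsum v]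
    have : ∀ s : Finset (Fin t), f u (∑ j ∈ s, π j v) = ∑ j ∈ s, f u (π j v) := by
      intro s
      induction s using Finset.induction_on with
      | empty =>
        rw [Finset.sum_empty, Finset.sum_empty, show (0 : Fin m ⊕ Fin m → F) = (0 : F) • 0 from (zero_smul _ _).symm,
          hb.smul_right, zero_mul]
      | insert a s ha ih => rw [Finset.sum_insert ha, Finset.sum_insert ha, hb.add_right, ih]
    rw [this]
    exact Finset.sum_eq_single i (fun j _ hj => hD.orthogonal i j (Ne.symm hj) u hu _ (hmem j v)) (by simp)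
  have hpol : ∀ u v, QuadraticMap.polar Q u v = f u v := by
    intro u v
    simp only [QuadraticMap.polar, Q, map_add, ← Finset.sum_sub_distrib]
    rw [Finset.sum_congr rfl fun i _ => hplane i _ (hmem i u) _ (hmem i v)]
    have : ∀ s : Finset (Fin t), f (∑ j ∈ s, π j u) v = ∑ j ∈ s, f (π j u) v := by
      intro s
      induction s using Finset.induction_on with
      | empty =>
        rw [Finset.sum_empty, Finset.sum_empty, show (0 : Fin m ⊕ Fin m → F) = (0 : F) • 0 from (zero_smul _ _).symm,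
          hb.smul_left, zero_mul]
      | insert a s ha ih => rw [Finset.sum_insert ha, Finset.sum_insert ha, hb.add_left, ih]
    conv_rhs => rw [← hsum u, this]
    exact Finset.sum_congr rfl fun i _ => (horth i _ (hmem i u) v).symm
  have hQ : IsNondegenerateQuadraticForm Q := by
    have hp : QuadraticMap.polar Q = f := funext fun u => funext fun v => hpol u v
    refine ⟨fun c v => ?_, hp ▸ hb, hp ▸ hf.nondegenerate⟩
    rcases h01 c with rfl | rfl
    · simp [Q, e]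
    · simp [Q]
  refine ⟨Q, hQ, hpol, fun g hg => ?_⟩
  obtain ⟨p, hp⟩ := hG hg
  refine ⟨1, fun v => ?_⟩
  rw [Units.val_one, one_mul]
  have hin : ∀ i, (g : Matrix (Fin m ⊕ Fin m) (Fin m ⊕ Fin m) F) *ᵥ π (p.symm i) v ∈ D i := fun i => by
    have h := hp (p.symm i)
    rw [Equiv.apply_symm_apply] at h
    rw [← h, Submodule.mem_map]
    exact ⟨_, hmem _ v, Matrix.toLin'_apply _ _⟩
  have hcomp : ∀ i, π i ((g : Matrix (Fin m ⊕ Fin m) (Fin m ⊕ Fin m) F) *ᵥ v) =
      (g : Matrix (Fin m ⊕ Fin m) (Fin m ⊕ Fin m) F) *ᵥ π (p.symm i) v := by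
    intro i
    have : (g : Matrix (Fin m ⊕ Fin m) (Fin m ⊕ Fin m) F) *ᵥ v =
        ∑ j, (g : Matrix (Fin m ⊕ Fin m) (Fin m ⊕ Fin m) F) *ᵥ π (p.symm j) v := by
      rw [Equiv.sum_comp p.symm (fun j => (g : Matrix (Fin m ⊕ Fin m) (Fin m ⊕ Fin m) F) *ᵥ π j v), ← mulVec_sum, hsum]
    rw [this, huniq _ hin]
  have hzero : ∀ w, e ((g : Matrix (Fin m ⊕ Fin m) (Fin m ⊕ Fin m) F) *ᵥ w) = e w := fun w => by
    have : (g : Matrix (Fin m ⊕ Fin m) (Fin m ⊕ Fin m) F) *ᵥ w = 0 ↔ w = 0 :=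
      ⟨fun h => mulVec_injective_GL g (a₁ := w) (a₂ := 0) (by rw [Matrix.toLin'_apply, Matrix.toLin'_apply, mulVec_zero]; exact h),
        fun h => by rw [h, mulVec_zero]⟩
    simp only [e, this]
  show ∑ i, e (π i _) = ∑ i, e (π i v)
  rw [Finset.sum_congr rfl fun i _ => (congrArg e (hcomp i)).trans (hzero _)]
  exact Equiv.sum_comp p.symm (fun j => e (π j v))

/-- Maximal subgroups of the symplectic groups: a member of one of the classes, with the obvious numerical
conditions, or residual. The normaliser of a group of class two is assumed proper. -/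
theorem maximal_symplectic (hm : 2 ≤ m) {H : Subgroup (GL (Fin m ⊕ Fin m) F)}
    (hH : IsMaximalIn (Cfsg.spGL m F) H)
    (hnorm : ∀ R : Subgroup (GL (Fin m ⊕ Fin m) F), ActsAbsolutelyIrreducibly (matrixSet R) →
      ⁅R, R⁆ ≤ scalars (Fin m ⊕ Fin m) F → Odd (Fintype.card F) → ¬ Cfsg.spGL m F ≤ subgroupNormalizer R) :
    let f := Cfsg.sympForm m F
    let S := Cfsg.spGL m F
    (∃ W : Submodule F (Fin m ⊕ Fin m → F), W ≠ ⊥ ∧ IsTotallySingularFor f W ∧ H = subspaceStabilizer W ⊓ S) ∨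
    (∃ W : Submodule F (Fin m ⊕ Fin m → F), W ≠ ⊥ ∧ IsNondegenerateOn f W ∧ Module.finrank F W < m ∧
      H = subspaceStabilizer W ⊓ S) ∨
    (∃ (t k : ℕ) (D : Fin t → Submodule F (Fin m ⊕ Fin m → F)), t * k = 2 * m ∧ 2 ≤ t ∧ Even k ∧ 2 ≤ k ∧
      (k = 2 → 3 ≤ Fintype.card F) ∧ IsNondegenerateMDecomposition f k D ∧ H = decompositionStabilizer D ⊓ S) ∨
    (Odd (Fintype.card F) ∧ ∃ D : Fin 2 → Submodule F (Fin m ⊕ Fin m → F), IsMDecomposition m D ∧
      (∀ i, IsTotallySingularFor f (D i)) ∧ H = decompositionStabilizer D ⊓ S) ∨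
    (∃ (r : ℕ) (K : Subalgebra F (Matrix (Fin m ⊕ Fin m) (Fin m ⊕ Fin m) F)), r.Prime ∧ r ∣ m ∧
      IsFieldSubalgebra r K ∧ IsSelfAdjointFor f K ∧ (∀ k ∈ K, ∀ v, f (k *ᵥ v) v = 0) ∧
      H = subalgebraNormalizer K ⊓ S) ∨
    (Odd (Fintype.card F) ∧ ∃ K : Subalgebra F (Matrix (Fin m ⊕ Fin m) (Fin m ⊕ Fin m) F), IsFieldSubalgebra 2 K ∧
      IsAdjointClosedFor f K ∧ ¬ IsSelfAdjointFor f K ∧ H = subalgebraNormalizer K ⊓ S) ∨
    (∃ (n₁ n₂ : ℕ) (e : (Fin m ⊕ Fin m) ≃ Fin n₁ × Fin n₂) (P : GL (Fin m ⊕ Fin m) F)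
      (f₁ : (Fin n₁ → F) → (Fin n₁ → F) → F) (f₂ : (Fin n₂ → F) → (Fin n₂ → F) → F),
      Odd (Fintype.card F) ∧ 2 ≤ n₁ ∧ Even n₁ ∧ 3 ≤ n₂ ∧ n₁ * n₂ = 2 * m ∧ IsSymplecticForm f₁ ∧
      IsSymmetricForm f₂ ∧ IsTensorFormStructure id f f₁ f₂ e P ∧ H = tensorProductSubgroup n₁ n₂ e P ⊓ S) ∨
    (∃ (F₀ : Subfield F) (r : ℕ) (P : GL (Fin m ⊕ Fin m) F) (ζ : F), r.Prime ∧ Fintype.card F = Nat.card F₀ ^ r ∧
      ζ ≠ 0 ∧ IsFormRationalStructure f F₀ ζ P ∧ H = subfieldSubgroup F₀ P ⊓ S) ∨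
    (∃ (p k : ℕ) (R : Subgroup (GL (Fin m ⊕ Fin m) F)), 2 * m = 2 ^ k ∧ p.Prime ∧ Odd p ∧ Fintype.card F = p ∧
      IsSymplecticTypeGroup 2 R ∧ ActsAbsolutelyIrreducibly (matrixSet R) ∧ R ≤ similarityGroup f ∧
      Nat.card R = 2 ^ (1 + 2 * k) ∧ Nat.card (Subgroup.center R) = 2 ∧ IsOfMinusType k R ∧
      H = subgroupNormalizer R ⊓ S) ∨
    (∃ (k t : ℕ) (e : (Fin m ⊕ Fin m) ≃ (Fin t → Fin k)) (P : GL (Fin m ⊕ Fin m) F)
      (f₁ : (Fin k → F) → (Fin k → F) → F), Odd (Fintype.card F) ∧ Odd t ∧ 3 ≤ t ∧ 2 ≤ k ∧ Even k ∧ k ^ t = 2 * m ∧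
      ¬ (Fintype.card F = 3 ∧ k = 2) ∧ IsSymplecticForm f₁ ∧ IsTensorPowerFormStructure id f f₁ e P ∧
      H = tensorWreathSubgroup k t e P ⊓ S) ∨
    (¬ Odd (Fintype.card F) ∧ ∃ Q : (Fin m ⊕ Fin m → F) → F, IsNondegenerateQuadraticForm Q ∧
      (∀ u v, QuadraticMap.polar Q u v = f u v) ∧ H = quadSimilarityGroup Q ⊓ S) ∨
    InSymplecticResidualClass H := by
  classical
  intro f S
  have hfs : IsSymplecticForm f := isSymplecticForm_sympForm m
  have hfix : FixesForm (matrixSet H) f := fun s hs u v => by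
    obtain ⟨g, hg, rfl⟩ := hs
    exact hH.1.le hg u v
  have hcard : Fintype.card (Fin m ⊕ Fin m) = 2 * m := by
    rw [Fintype.card_sum, Fintype.card_fin]; omega
  rcases symplectic_structure hfs (by omega) hfix with
    ⟨W, h0, hW, hG⟩ | ⟨W, h0, hW, hd, hG⟩ | ⟨t, k, D, hD, hG⟩ | ⟨k, D, ho, hk, hD, hts, hG⟩ |
    ⟨r, K, hr, hK, hsa, hz, hG⟩ | ⟨K, ho, hK, hac, hsa, hG⟩ | ⟨n₁, n₂, e, P, f₁, f₂, ho, h1, h3, hf₁, hf₂, hT, hG⟩ |
    ⟨F₀, r, P, ζ, hr, hc, hζ, hP, hG⟩ | ⟨R, p, k, h1, h2, h3, h4, h5, h6, h7, h8, h9, hcl, hdim, hG⟩ |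
    ⟨k, t, e, P, f₁, ho, hto, ht, hk, hex, hf₁, hT, hG⟩ | ⟨ho, Q, hQ, hQf, hG⟩ | h
  · exact Or.inl ⟨W, h0, hW, eq_inf_of_le hH hG (CfsgLib.Geo.SpTv.singular_proper hW h0)⟩
  · rw [hcard] at hd
    exact Or.inr (Or.inl ⟨W, h0, hW, by omega,
      eq_inf_of_le hH hG (CfsgLib.Geo.SpTv.nondeg_proper hW h0 (by omega))⟩)
  · have hkev : Even k := by
      have hi := even_finrank_of_alternating hfs.bilinear hfs.alternating _
        (hD.nondegenerate ⟨0, by have := hD.decomp.two_le; omega⟩)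
      rwa [hD.decomp.finrank_eq] at hi
    have hk2 : 2 ≤ k := by
      have := hD.decomp.pos
      obtain ⟨j, hj⟩ := hkev
      omega
    by_cases hex : k = 2 ∧ Fintype.card F < 3
    · obtain ⟨rfl, hq⟩ := hex
      have hq2 : Fintype.card F = 2 := by
        have := Fintype.one_lt_card (α := F)
        omega
      obtain ⟨Q, hQ, hQf, hG'⟩ := planes_to_quad hq2 hfs hD hG
      exact Or.inr (Or.inr (Or.inr (Or.inr (Or.inr (Or.inr (Or.inr (Or.inr (Or.inr (Or.inr (Or.inl
        ⟨by rw [hq2]; decide, Q, hQ, hQf, eq_inf_of_le hH hG' (spGL_not_le_quad hm hQ hQf)⟩))))))))))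
    exact Or.inr (Or.inr (Or.inl ⟨t, k, D, by rw [decomposition_card hD.decomp, hcard], hD.decomp.two_le, hkev, hk2,
      fun h => by by_contra hq; exact hex ⟨h, by omega⟩, hD,
      eq_inf_of_le hH hG (spGL_not_le_decomposition hD.decomp hk2)⟩))
  · rw [hcard] at hk
    obtain rfl : k = m := by omega
    exact Or.inr (Or.inr (Or.inr (Or.inl ⟨ho, D, hD, hts, eq_inf_of_le hH hG (spGL_not_le_decomposition hD hm)⟩)))
  · have hdvd := two_mul_dvd_of_selfAdjoint hfs hK hsa hz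
    rw [hcard] at hdvd
    exact Or.inr (Or.inr (Or.inr (Or.inr (Or.inl ⟨r, K, hr, Nat.dvd_of_mul_dvd_mul_left two_pos hdvd, hK, hsa, hz,
      eq_inf_of_le hH hG (spGL_not_le_field hm hr.two_le hK)⟩))))
  · exact Or.inr (Or.inr (Or.inr (Or.inr (Or.inr (Or.inl ⟨ho, K, hK, hac, hsa,
      eq_inf_of_le hH hG (spGL_not_le_field hm le_rfl hK)⟩)))))
  · exact Or.inr (Or.inr (Or.inr (Or.inr (Or.inr (Or.inr (Or.inl ⟨n₁, n₂, e, P, f₁, f₂, ho, h1,
      even_card_of_symplecticForm hf₁, h3, by rw [← hcard]; simp [Fintype.card_congr e], hf₁, hf₂, hT,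
      eq_inf_of_le hH hG (spGL_not_le_tensor (by omega) h1 (by omega) e P)⟩))))))
  · exact Or.inr (Or.inr (Or.inr (Or.inr (Or.inr (Or.inr (Or.inr (Or.inl ⟨F₀, r, P, ζ, hr, hc, hζ, hP,
      eq_inf_of_le hH hG (spGL_not_le_subfield hm (subfield_ne_top hr hc) P)⟩)))))))
  · exact Or.inr (Or.inr (Or.inr (Or.inr (Or.inr (Or.inr (Or.inr (Or.inr (Or.inl ⟨p, k, R, by rw [← hdim, hcard],
      h4, h5, h6, h1, h2, h3, h7, h8, h9,
      eq_inf_of_le hH hG (hnorm R h2 hcl (h6 ▸ h5))⟩))))))))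
  · exact Or.inr (Or.inr (Or.inr (Or.inr (Or.inr (Or.inr (Or.inr (Or.inr (Or.inr (Or.inl ⟨k, t, e, P, f₁, ho, hto,
      ht, hk, even_card_of_symplecticForm hf₁, by rw [← hcard]; simp [Fintype.card_congr e], hex, hf₁, hT,
      eq_inf_of_le hH hG (spGL_not_le_wreath (by omega) hk ht e P)⟩)))))))))
  · exact Or.inr (Or.inr (Or.inr (Or.inr (Or.inr (Or.inr (Or.inr (Or.inr (Or.inr (Or.inr (Or.inl ⟨ho, Q, hQ, hQf,
      eq_inf_of_le hH hG (spGL_not_le_quad hm hQ hQf)⟩))))))))))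
  · exact Or.inr (Or.inr (Or.inr (Or.inr (Or.inr (Or.inr (Or.inr (Or.inr (Or.inr (Or.inr (Or.inr h))))))))))

end CfsgLib.Aschbacher
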