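import Cfsg.Agent.Aschbacher.Form.Commutative

/-!
A normal subgroup of isometries that is not absolutely irreducible gives a decomposition or an extension field
compatible with the form, or a tensor decomposition of the form.
-/
set_option autoImplicit false
set_option maxHeartbeats 1000000

namespace CfsgLib.Aschbacher

open Matrix Cfsg.Geo CfsgLib.GeoClifford
open scoped MatrixGroups Kronecker

variable {ι : Type} [Fintype ι] [DecidableEq ι] {F : Type*} [Field F]

/-- An intertwining matrix for all of `M ↦ M ⊗ 1` is a Kronecker product. -/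
theorem exists_kronecker_gram {κ ν : Type} [Fintype κ] [DecidableEq κ] [Fintype ν] [DecidableEq ν]
    {Γ : Matrix (κ × ν) (κ × ν) F} (hΓ : Γ ≠ 0)
    (h : ∀ M : Matrix κ κ F, ∃ M' : Matrix κ κ F,
      (M ⊗ₖ (1 : Matrix ν ν F))ᵀ * Γ = Γ * (M' ⊗ₖ (1 : Matrix ν ν F))) :
    ∃ (B : Matrix κ κ F) (C : Matrix ν ν F), IsUnit B ∧ Γ = B ⊗ₖ C := by
  classical
  choose τ hτ using h
  let S : ν → ν → Matrix κ κ F := fun x y => Matrix.of fun a b => Γ (a, x) (b, y)
  have hS : ∀ M x y, Mᵀ * S x y = S x y * τ M := by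
    intro M x y
    ext a b
    have h1 := congrFun (congrFun (hτ M) (a, x)) (b, y)
    simp only [Matrix.mul_apply, Fintype.sum_prod_type, transpose_apply, kroneckerMap_apply, Matrix.one_apply,
      mul_ite, mul_one, mul_zero, ite_mul, zero_mul, Finset.sum_ite_eq', Finset.sum_ite_eq, Finset.mem_univ,
      if_true] at h1
    simpa [Matrix.mul_apply, S] using h1
  obtain ⟨x0, y0, hne⟩ : ∃ x y, S x y ≠ 0 := by
    by_contra hcon
    push Not at hcon
    exact hΓ (Matrix.ext fun ⟨a, x⟩ ⟨b, y⟩ => congrFun (congrFun (hcon x y) a) b)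
  set B := S x0 y0 with hB
  have hBu : IsUnit B := by
    rw [← Matrix.vecMul_injective_iff_isUnit]
    intro v v' hv
    by_contra hvv
    set w := v - v'
    have hw0 : w ≠ 0 := sub_ne_zero.mpr hvv
    have hw : w ᵥ* B = 0 := by
      have : v ᵥ* B = v' ᵥ* B := hv
      rw [sub_vecMul, this, sub_self]
    obtain ⟨i, hi⟩ := Function.ne_iff.mp hw0
    apply hne
    ext a b
    have h1 : (Matrix.single a i (1 : F) *ᵥ w) ᵥ* B = 0 := by
      rw [← vecMul_transpose, vecMul_vecMul, hS, ← vecMul_vecMul, hw, zero_vecMul]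
    have h2 := congrFun h1 b
    simp [Matrix.single_mulVec, Matrix.vecMul, dotProduct, Function.update_apply] at h2
    rcases h2 with h2 | h2
    · exact absurd h2 hi
    · exact h2
  obtain ⟨B', hB'1⟩ := hBu.exists_right_inv
  have hB'2 : B' * B = 1 := mul_eq_one_comm.mp hB'1
  have hc : ∀ x y, ∃ c : F, S x y = c • B := by
    intro x y
    have hcomm : ∀ M : Matrix κ κ F, Mᵀ * (S x y * B') = S x y * B' * Mᵀ := fun M => by
      have e : τ M * B' = B' * Mᵀ := by
        calc τ M * B' = B' * (B * τ M) * B' := by rw [← mul_assoc B', hB'2, one_mul]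
          _ = B' * Mᵀ := by rw [← hS, mul_assoc, mul_assoc, hB'1, mul_one]
      rw [← mul_assoc, hS, mul_assoc, e, mul_assoc]
    obtain ⟨c, hc⟩ := Matrix.mem_range_scalar_of_commute_single (M := S x y * B') fun a b _ => by
      have := hcomm (Matrix.single b a 1)
      rwa [Matrix.transpose_single] at this
    refine ⟨c, ?_⟩
    rw [← mul_one (S x y), ← hB'2, ← mul_assoc, ← hc, Matrix.scalar_apply, ← Matrix.smul_one_eq_diagonal,
      smul_mul_assoc, one_mul]
  choose c hc using hc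
  refine ⟨B, Matrix.of c, hBu, Matrix.ext fun ⟨a, x⟩ ⟨b, y⟩ => ?_⟩
  rw [kroneckerMap_apply, Matrix.of_apply]
  exact (congrFun (congrFun (hc x y) a) b).trans (mul_comm _ _)

/-- A stabilised extension field closed under adjoints. -/
def HasFormField {σ : F ≃+* F} {ε : F} {f : (ι → F) → (ι → F) → F} (hf : IsRefl σ ε f) (G : Subgroup (GL ι F)) : Prop :=
  ∃ (r : ℕ) (K : Subalgebra F (Matrix ι ι F)), IsFieldSubalgebra r K ∧ K ≠ ⊥ ∧ ConjStable G K ∧
    ∀ x ∈ K, hf.adj x ∈ K

/-- A stabilised tensor decomposition of the form, given by Gram matrices. -/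
structure IsTensorGram (σ : F ≃+* F) (f : (ι → F) → (ι → F) → F) (G : Subgroup (GL ι F)) {n₁ n₂ : ℕ}
    (e : ι ≃ Fin n₁ × Fin n₂) (P : GL ι F) (B : Matrix (Fin n₁) (Fin n₁) F) (C : Matrix (Fin n₂) (Fin n₂) F) :
    Prop where
  two_le_left : 2 ≤ n₁
  two_le_right : 2 ≤ n₂
  gram : (P : Matrix ι ι F)ᵀ * gramMatrix f * (P : Matrix ι ι F).map σ = (B ⊗ₖ C).submatrix e e
  unit_left : IsUnit B
  unit_right : IsUnit C
  kron : ∀ h ∈ G, ∃ (g : GL (Fin n₁) F) (b : GL (Fin n₂) F),
    ((P⁻¹ : GL ι F) : Matrix ι ι F) * (h : Matrix ι ι F) * (P : Matrix ι ι F) =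
      ((g : Matrix (Fin n₁) (Fin n₁) F) ⊗ₖ (b : Matrix (Fin n₂) (Fin n₂) F)).submatrix e e

lemma kronecker_prodComm {κ ν : Type} {α : Type} (e : α ≃ κ × ν) (B : Matrix κ κ F) (C : Matrix ν ν F) :
    (C ⊗ₖ B).submatrix (e.trans (Equiv.prodComm _ _)) (e.trans (Equiv.prodComm _ _)) = (B ⊗ₖ C).submatrix e e := by
  ext i j
  simp [Matrix.kroneckerMap_apply, mul_comm]

lemma IsTensorGram.swap {σ : F ≃+* F} {f : (ι → F) → (ι → F) → F} {G : Subgroup (GL ι F)} {n₁ n₂ : ℕ}
    {e : ι ≃ Fin n₁ × Fin n₂} {P : GL ι F} {B : Matrix (Fin n₁) (Fin n₁) F} {C : Matrix (Fin n₂) (Fin n₂) F}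
    (h : IsTensorGram σ f G e P B C) : IsTensorGram σ f G (e.trans (Equiv.prodComm _ _)) P C B := by
  refine ⟨h.two_le_right, h.two_le_left, ?_, h.unit_right, h.unit_left, fun x hx => ?_⟩
  · rw [kronecker_prodComm]; exact h.gram
  · obtain ⟨g, b, hgb⟩ := h.kron x hx
    exact ⟨b, g, by rw [kronecker_prodComm]; exact hgb⟩

lemma IsTensorGram.smul {σ : F ≃+* F} {f : (ι → F) → (ι → F) → F} {G : Subgroup (GL ι F)} {n₁ n₂ : ℕ}
    {e : ι ≃ Fin n₁ × Fin n₂} {P : GL ι F} {B : Matrix (Fin n₁) (Fin n₁) F} {C : Matrix (Fin n₂) (Fin n₂) F}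
    (h : IsTensorGram σ f G e P B C) {s : F} (hs : s ≠ 0) : IsTensorGram σ f G e P (s • B) (s⁻¹ • C) := by
  refine ⟨h.two_le_left, h.two_le_right, ?_, ?_, ?_, h.kron⟩
  · rw [Matrix.smul_kronecker, Matrix.kronecker_smul, smul_smul, mul_inv_cancel₀ hs, one_smul]; exact h.gram
  · simpa [Units.smul_def] using h.unit_left.smul (Units.mk0 s hs)
  · simpa [Units.smul_def] using h.unit_right.smul (Units.mk0 s⁻¹ (inv_ne_zero hs))

lemma IsTensorGram.le_tensorProductSubgroup {σ : F ≃+* F} {f : (ι → F) → (ι → F) → F} {G : Subgroup (GL ι F)}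
    {n₁ n₂ : ℕ} {e : ι ≃ Fin n₁ × Fin n₂} {P : GL ι F} {B : Matrix (Fin n₁) (Fin n₁) F}
    {C : Matrix (Fin n₂) (Fin n₂) F} (h : IsTensorGram σ f G e P B C) : G ≤ tensorProductSubgroup n₁ n₂ e P :=
  fun x hx => by
    obtain ⟨g, b, hgb⟩ := h.kron x hx
    exact mem_tensorProductSubgroup e P g b hgb

lemma isUnit_of_kronecker_submatrix {κ ν : Type} [Fintype κ] [DecidableEq κ] [Fintype ν] [DecidableEq ν]
    [Nonempty κ] (e : ι ≃ κ × ν) {B : Matrix κ κ F} {C : Matrix ν ν F} (h : IsUnit ((B ⊗ₖ C).submatrix e e)) :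
    IsUnit C := by
  rw [Matrix.isUnit_iff_isUnit_det, det_submatrix_equiv_self, Matrix.det_kronecker] at h
  rw [Matrix.isUnit_iff_isUnit_det]
  exact (isUnit_pow_iff Fintype.card_ne_zero).mp (IsUnit.mul_iff.mp h).2

namespace IsRefl

variable {σ : F ≃+* F} {ε : F} {f : (ι → F) → (ι → F) → F}

/-- The Gram matrix of an adjoint. -/
lemma gram_adj (hf : IsRefl σ ε f) (x : Matrix ι ι F) :
    xᵀ * gramMatrix f = gramMatrix f * (hf.adj x).map σ := by
  apply Matrix.ext
  intro i j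
  have hs : ∀ b : ι, σ ∘ (Pi.single b 1 : ι → F) = Pi.single b 1 := fun b => by
    ext k; by_cases hk : k = b <;> simp [Pi.single_apply, hk]
  have h := hf.adj_spec x (Pi.single i 1) (Pi.single j 1)
  rw [hf.sesq.eq_gram, hf.sesq.eq_gram, comp_mulVec, hs, mulVec_mulVec, ← vecMul_transpose x (Pi.single i 1),
    ← dotProduct_mulVec, mulVec_mulVec] at h
  simpa using h

/-- The Gram matrix of a reflexive form is symmetric up to `σ` and `ε`. -/
lemma gram_transpose (hf : IsRefl σ ε f) : (gramMatrix f)ᵀ = ε • (gramMatrix f).map σ := by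
  ext i j
  exact hf.swap _ _

/-- The two factors of a tensor decomposition of the form are symmetric up to `σ` and a scalar. -/
lemma tensor_sym (hf : IsRefl σ ε f) {G : Subgroup (GL ι F)} {n₁ n₂ : ℕ} {e : ι ≃ Fin n₁ × Fin n₂} {P : GL ι F}
    {B : Matrix (Fin n₁) (Fin n₁) F} {C : Matrix (Fin n₂) (Fin n₂) F} (h : IsTensorGram σ f G e P B C) :
    ∃ a : F, a * σ a = 1 ∧ Bᵀ = a • B.map σ ∧ a • Cᵀ = ε • C.map σ := by
  classical
  have hP2 : ((P : Matrix ι ι F).map σ).map σ = (P : Matrix ι ι F) := by ext i j; exact hf.invol _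
  have h1 : ((B ⊗ₖ C).submatrix e e)ᵀ = ε • ((B ⊗ₖ C).submatrix e e).map σ := by
    rw [← h.gram, transpose_mul, transpose_mul, transpose_transpose, hf.gram_transpose, Matrix.map_mul,
      Matrix.map_mul, hP2, smul_mul_assoc, mul_smul_comm, ← mul_assoc]
    rfl
  have h2 : Bᵀ ⊗ₖ Cᵀ = ε • (B.map σ ⊗ₖ C.map σ) := by
    ext p q
    have := congrFun (congrFun h1 (e.symm p)) (e.symm q)
    simpa [Matrix.kroneckerMap_apply] using this
  have hne : Nonempty (Fin n₂) := ⟨⟨0, by have := h.two_le_right; omega⟩⟩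
  have hne1 : Nonempty (Fin n₁) := ⟨⟨0, by have := h.two_le_left; omega⟩⟩
  obtain ⟨x, y, hxy⟩ : ∃ x y, C y x ≠ 0 := by
    by_contra hcon
    push Not at hcon
    exact h.unit_right.ne_zero (Matrix.ext fun y x => hcon x y)
  set a := ε * σ (C x y) / C y x with ha
  have hB : Bᵀ = a • B.map σ := by
    ext i j
    have := congrFun (congrFun h2 (i, x)) (j, y)
    simp only [kroneckerMap_apply, Matrix.smul_apply, transpose_apply, Matrix.map_apply, smul_eq_mul] at this
    rw [Matrix.smul_apply, transpose_apply, Matrix.map_apply, smul_eq_mul, ha, div_mul_eq_mul_div, eq_div_iff hxy,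
      this]
    ring
  refine ⟨a, ?_, hB, ?_⟩
  · have h3 : B = (σ a * a) • B := by
      ext i j
      have e1 : ∀ i j, B j i = a * σ (B i j) := fun i j => congrFun (congrFun hB i) j
      have hh := e1 j i
      rw [e1 i j, map_mul, hf.invol] at hh
      rw [Matrix.smul_apply, smul_eq_mul]
      linear_combination hh
    obtain ⟨i, j, hij⟩ : ∃ i j, B i j ≠ 0 := by
      by_contra hcon
      push Not at hcon
      exact h.unit_left.ne_zero (Matrix.ext hcon)
    have := congrFun (congrFun h3 i) j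
    rw [Matrix.smul_apply, smul_eq_mul] at this
    rw [mul_comm]
    exact (mul_eq_right₀ hij).mp this.symm
  · obtain ⟨i, j, hij⟩ : ∃ i j, σ (B i j) ≠ 0 := by
      by_contra hcon
      push Not at hcon
      exact h.unit_left.ne_zero (Matrix.ext fun i j => by simpa using hcon i j)
    ext u v
    have := congrFun (congrFun h2 (i, u)) (j, v)
    simp only [kroneckerMap_apply, Matrix.smul_apply, hB, Matrix.map_apply, smul_eq_mul, transpose_apply] at this
    simp only [Matrix.smul_apply, transpose_apply, Matrix.map_apply, smul_eq_mul]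
    apply mul_left_cancel₀ hij
    linear_combination this

variable [Fintype F]

lemma commutative_cases' (hf : IsRefl σ ε f) [Nonempty ι] {G : Subgroup (GL ι F)}
    (hfix : FixesForm (matrixSet G) f) (hirr : ActsIrreducibly (matrixSet G)) {R : Subalgebra F (Matrix ι ι F)}
    (hcomm : ∀ x ∈ R, ∀ y ∈ R, x * y = y * x) (hstab : ConjStable G R) (hadj : ∀ x ∈ R, hf.adj x ∈ R) (hR : R ≠ ⊥) :
    HasFormDecomposition f G ∨ HasFormField hf G :=
  (hf.commutative_cases hfix hirr hcomm hstab hadj).imp id fun h => ⟨_, R, h, hR, hstab, hadj⟩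

/-- A non-scalar normal subgroup of isometries that is not absolutely irreducible. -/
theorem notClean_cases (hf : IsRefl σ ε f) [Nonempty ι] {G : Subgroup (GL ι F)}
    (hfix : FixesForm (matrixSet G) f) (hirr : ActsIrreducibly (matrixSet G)) {N : Subgroup (GL ι F)}
    (hN : NormSub G N) (hNs : ¬ N ≤ scalars ι F) (hna : ¬ ActsAbsolutelyIrreducibly (matrixSet N)) :
    HasFormDecomposition f G ∨ HasFormField hf G ∨
      ∃ (n₁ n₂ : ℕ) (e : ι ≃ Fin n₁ × Fin n₂) (P : GL ι F) (B : Matrix (Fin n₁) (Fin n₁) F)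
        (C : Matrix (Fin n₂) (Fin n₂) F), IsTensorGram σ f G e P B C := by
  classical
  have hfixN : FixesForm (matrixSet N) f := fun s hs => by
    obtain ⟨n, hn, rfl⟩ := hs
    exact hfix _ (coe_mem_matrixSet (hN.1 hn))
  set A := Algebra.adjoin F (matrixSet N) with hA
  have hAst : ConjStable G A := conjStable_adjoin hN
  set Z := A ⊓ commutant N with hZ
  by_cases hZbot : Z = ⊥
  swap
  · refine Or.elim (hf.commutative_cases' hfix hirr (R := Z) ?_ ?_ ?_ hZbot) Or.inl (fun h => Or.inr (Or.inl h))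
    · intro x hx y hy
      exact commute_adjoin (mem_commutant.mp (Algebra.mem_inf.mp hy).2) (Algebra.mem_inf.mp hx).1
    · intro g hg x hx
      exact Algebra.mem_inf.mpr ⟨hAst g hg x (Algebra.mem_inf.mp hx).1,
        commutant_conjStable hN g hg x (Algebra.mem_inf.mp hx).2⟩
    · intro x hx
      exact Algebra.mem_inf.mpr ⟨hf.adjoin_adjClosed hfixN (Algebra.mem_inf.mp hx).1,
        hf.commutant_adjClosed hfixN (Algebra.mem_inf.mp hx).2⟩
  right; right
  obtain ⟨d, E, hd, hE, hEA, hspan⟩ := exists_munits hirr hAst fun x hx hc =>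
    eq_bot_iff_scalar.mp hZbot x (Algebra.mem_inf.mpr ⟨hx, mem_commutant.mpr fun n hn =>
      (hc _ (Algebra.subset_adjoin (coe_mem_matrixSet hn))).symm⟩)
  obtain ⟨k, e, P, hk, hP⟩ := hE.exists_coords
  have hemb : ∀ x ∈ A, ∃ M, x = hE.emb M := fun x hx => by
    obtain ⟨c, hc⟩ := hspan x hx
    exact ⟨Matrix.of c, hc⟩
  have hd1 : d ≠ 1 := by
    rintro rfl
    refine hNs fun a ha => ?_
    obtain ⟨c, hc⟩ := hspan _ (Algebra.subset_adjoin (coe_mem_matrixSet ha))
    have hE1 := hE.sum_eq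
    simp only [Fin.sum_univ_one] at hc hE1
    rw [hE1] at hc
    refine (mem_scalars_iff a).mpr ⟨Units.mk0 (c 0 0) fun h0 => a.ne_zero (by rw [hc, h0, zero_smul]), hc⟩
  have hembA : ∀ M, hE.emb M ∈ A := fun M =>
    Subalgebra.sum_mem _ fun a _ => Subalgebra.sum_mem _ fun b _ => Subalgebra.smul_mem _ (hEA a b) _
  have hk1 : k ≠ 1 := by
    rintro rfl
    refine hna (absIrred_of_adjoin_eq_top fun X => ?_)
    set M : Matrix (Fin d) (Fin d) F := Matrix.of fun a b =>
      (((P⁻¹ : GL ι F) : Matrix ι ι F) * X * (P : Matrix ι ι F)) (e.symm (a, 0)) (e.symm (b, 0))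
    have h1 : ((P⁻¹ : GL ι F) : Matrix ι ι F) * hE.emb M * (P : Matrix ι ι F) =
        ((P⁻¹ : GL ι F) : Matrix ι ι F) * X * (P : Matrix ι ι F) := by
      rw [hP]
      ext i j
      have e1 : ∀ i, e.symm ((e i).1, 0) = i := fun i => by
        rw [Subsingleton.elim (0 : Fin 1) (e i).2, Prod.mk.eta, Equiv.symm_apply_apply]
      simp [M, Matrix.kroneckerMap_apply, e1, Matrix.one_apply, Subsingleton.elim (e i).2 (e j).2]
    have h2 := congrArg (fun Z => (P : Matrix ι ι F) * Z * ((P⁻¹ : GL ι F) : Matrix ι ι F)) h1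
    simp [mul_assoc] at h2
    rw [← h2]
    exact hembA M
  set Γ : Matrix ι ι F := (P : Matrix ι ι F)ᵀ * gramMatrix f * (P : Matrix ι ι F).map σ with hΓ
  have hPσ : IsUnit ((P : Matrix ι ι F).map σ) := P.isUnit.map (σ : F →+* F).mapMatrix
  have hΓu : IsUnit Γ :=
    (((Matrix.isUnit_transpose _).mpr P.isUnit).mul (gram_isUnit hf.sesq hf.nd)).mul hPσ
  obtain ⟨B, C, hBu, hBC⟩ := exists_kronecker_gram (Γ := Γ.submatrix e.symm e.symm) (κ := Fin d) (ν := Fin k) (by
      intro h0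
      apply hΓu.ne_zero
      ext i j
      have := congrFun (congrFun h0 (e i)) (e j)
      simpa using this) fun M => by
    obtain ⟨M', hM'⟩ := hemb _ (hf.adjoin_adjClosed hfixN (hembA M))
    refine ⟨M'.map σ, ?_⟩
    have h1 := hf.gram_adj (hE.emb M)
    rw [hM'] at h1
    have e1 : ∀ M : Matrix (Fin d) (Fin d) F, (M ⊗ₖ (1 : Matrix (Fin k) (Fin k) F)) =
        (((P⁻¹ : GL ι F) : Matrix ι ι F) * hE.emb M * (P : Matrix ι ι F)).submatrix e.symm e.symm := fun M => by
      rw [hP]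
      ext p q
      simp
    have e2 : M'.map σ ⊗ₖ (1 : Matrix (Fin k) (Fin k) F) = (M' ⊗ₖ (1 : Matrix (Fin k) (Fin k) F)).map σ := by
      ext p q
      by_cases hpq : p.2 = q.2 <;> simp [Matrix.kroneckerMap_apply, Matrix.one_apply, hpq]
    rw [e2, e1, e1, transpose_submatrix, ← Matrix.submatrix_map, submatrix_mul_equiv, submatrix_mul_equiv]
    congr 1
    have hPP : (P : Matrix ι ι F).map σ * ((P⁻¹ : GL ι F) : Matrix ι ι F).map σ = 1 := by
      rw [← Matrix.map_mul, Units.mul_inv, Matrix.map_one _ (map_zero σ) (map_one σ)]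
    calc (((P⁻¹ : GL ι F) : Matrix ι ι F) * hE.emb M * (P : Matrix ι ι F))ᵀ * Γ
        = (P : Matrix ι ι F)ᵀ * ((hE.emb M)ᵀ * ((P : Matrix ι ι F) * ((P⁻¹ : GL ι F) : Matrix ι ι F))ᵀ *
            gramMatrix f) * (P : Matrix ι ι F).map σ := by
          simp only [hΓ, transpose_mul, mul_assoc]
      _ = (P : Matrix ι ι F)ᵀ * (gramMatrix f * (hE.emb M').map σ) * (P : Matrix ι ι F).map σ := by
          rw [Units.mul_inv, transpose_one, mul_one, h1]
      _ = Γ * (((P⁻¹ : GL ι F) : Matrix ι ι F) * hE.emb M' * (P : Matrix ι ι F)).map σ := by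
          simp only [hΓ, Matrix.map_mul, mul_assoc]
          rw [← mul_assoc ((P : Matrix ι ι F).map σ) (((P⁻¹ : GL ι F) : Matrix ι ι F).map σ), hPP, one_mul]
  have hgram : Γ = (B ⊗ₖ C).submatrix e e := by
    rw [← hBC]
    ext i j
    simp
  have : Nonempty (Fin d) := ⟨⟨0, hd⟩⟩
  refine ⟨d, k, e, P, B, C, by omega, by omega, hgram, hBu, isUnit_of_kronecker_submatrix e (hgram ▸ hΓu),
    fun h hh => hE.exists_kronecker e P hP fun a b => hemb _ (hAst h hh _ (hEA a b))⟩

end IsRefl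

end CfsgLib.Aschbacher
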