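import Cfsg.Agent.Aschbacher.Form.UnitaryThreeTwo

/-!
The tensor square of the unitary group in dimension three over four elements normalises an extraspecial group.
-/
set_option autoImplicit false
set_option maxHeartbeats 1000000

namespace CfsgLib.Aschbacher

open Matrix Cfsg.Geo CfsgLib.GeoClifford
open scoped MatrixGroups Kronecker commutatorElement

variable {F : Type*} [Field F] [Fintype F]

namespace FourElements

/-- Monomial matrices with cyclic pattern. -/
def mono (b : Fin 3) (a : Fin 3 → F) : Matrix (Fin 3) (Fin 3) F := Matrix.of fun i j => if i = j + b then a j else 0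

omit [Fintype F] in
lemma mono_mul (b b' : Fin 3) (a a' : Fin 3 → F) :
    mono b a * mono b' a' = mono (b' + b) fun j => a (j + b') * a' j := by
  ext i k
  rw [Matrix.mul_apply, Finset.sum_eq_single (k + b')]
  · simp only [mono, Matrix.of_apply, if_true, ← add_assoc]
    split <;> simp
  · intro j _ hj
    simp [mono, hj]
  · simp

omit [Fintype F] in
lemma mono_zero_one : mono (0 : Fin 3) (fun _ => (1 : F)) = 1 := by
  ext i j; simp [mono, Matrix.one_apply]

omit [Fintype F] in
lemma prod_shift (b : Fin 3) (a : Fin 3 → F) : a (0 + b) * a (1 + b) * a (2 + b) = a 0 * a 1 * a 2 := by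
  fin_cases b <;> simp <;> ring

/-- The cyclic monomial matrices with product of entries one. -/
def InCore (M : Matrix (Fin 3) (Fin 3) F) : Prop :=
  ∃ (b : Fin 3) (a : Fin 3 → F), (∀ i, a i ^ 3 = 1) ∧ a 0 * a 1 * a 2 = 1 ∧ M = mono b a

omit [Fintype F] in
lemma InCore.one : InCore (1 : Matrix (Fin 3) (Fin 3) F) :=
  ⟨0, fun _ => 1, fun _ => one_pow 3, by ring, mono_zero_one.symm⟩

omit [Fintype F] in
lemma InCore.mul {M N : Matrix (Fin 3) (Fin 3) F} (hM : InCore M) (hN : InCore N) : InCore (M * N) := by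
  obtain ⟨b, a, ha, hp, rfl⟩ := hM
  obtain ⟨b', a', ha', hp', rfl⟩ := hN
  refine ⟨b' + b, _, fun i => ?_, ?_, mono_mul b b' a a'⟩
  · rw [mul_pow, ha, ha', one_mul]
  · calc a (0 + b') * a' 0 * (a (1 + b') * a' 1) * (a (2 + b') * a' 2)
        = (a (0 + b') * a (1 + b') * a (2 + b')) * (a' 0 * a' 1 * a' 2) := by ring
      _ = 1 := by rw [prod_shift, hp, hp', one_mul]

omit [Fintype F] in
lemma InCore.cube {M : Matrix (Fin 3) (Fin 3) F} (hM : InCore M) : M * M * M = 1 := by
  obtain ⟨b, a, ha, hp, rfl⟩ := hM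
  rw [mono_mul, mono_mul, ← mono_zero_one]
  congr 1
  · revert b; decide
  · funext j
    have e : ∀ j, a j * a j * a j = 1 := fun j => by rw [← ha j]; ring
    fin_cases b <;> fin_cases j <;> simp <;> first | linear_combination e _ | linear_combination hp

omit [Fintype F] in
/-- The core commutes up to scalars. -/
lemma InCore.comm {M N : Matrix (Fin 3) (Fin 3) F} (hM : InCore M) (hN : InCore N) :
    ∃ s : F, M * N = s • (N * M) := by
  have hratio : ∀ a : Fin 3 → F, (∀ i, a i ^ 3 = 1) → a 0 * a 1 * a 2 = 1 →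
      ∃ ρ : F, ρ ≠ 0 ∧ ∀ j b : Fin 3, a (j + b) = ρ ^ (b : ℕ) * a j := by
    intro a ha hp
    have h0 : ∀ i, a i ≠ 0 := fun i h => zero_ne_one (α := F) (by rw [← ha i, h]; ring)
    refine ⟨a 1 / a 0, div_ne_zero (h0 1) (h0 0), ?_⟩
    have h2 : a 2 = a 1 / a 0 * a 1 := by
      field_simp [h0 0]
      refine mul_left_cancel₀ (h0 1) ?_
      linear_combination hp - ha 1
    have h3 : a 0 = a 1 / a 0 * a 2 := by
      field_simp [h0 0]
      refine mul_left_cancel₀ (h0 0) ?_
      linear_combination ha 0 - hp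
    have h1 : a 1 = a 1 / a 0 * a 0 := (div_mul_cancel₀ _ (h0 0)).symm
    have hs : ∀ j, a (j + 1) = a 1 / a 0 * a j := by
      intro j; fin_cases j
      · exact h1
      · exact h2
      · exact h3
    intro j b
    fin_cases b
    · simp
    · simpa using hs j
    · show a (j + 2) = (a 1 / a 0) ^ 2 * a j
      rw [show j + 2 = j + 1 + 1 by rw [add_assoc]; rfl, hs, hs]; ring
  obtain ⟨b, a, ha, hp, rfl⟩ := hM
  obtain ⟨b', a', ha', hp', rfl⟩ := hN
  obtain ⟨ρ, hρ0, hρ⟩ := hratio a ha hp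
  obtain ⟨ρ', hρ'0, hρ'⟩ := hratio a' ha' hp'
  refine ⟨ρ ^ (b' : ℕ) / ρ' ^ (b : ℕ), ?_⟩
  rw [mono_mul, mono_mul, add_comm b b']
  ext i j
  simp only [mono, Matrix.of_apply, Matrix.smul_apply, smul_eq_mul, hρ, hρ']
  split
  · field_simp
  · simp

variable (hq : Fintype.card F = 4) {σ : F ≃+* F} (hσ : ∀ x, σ x = x ^ 2)

include hq hσ

lemma dot_eq {g : Matrix (Fin 3) (Fin 3) F} (hg : gᵀ * g.map σ = 1) (u v : Fin 3 → F) :
    ∑ i, (g *ᵥ u) i * (g *ᵥ v) i ^ 2 = ∑ i, u i * v i ^ 2 := by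
  have e : ∀ x y : Fin 3 → F, ∑ i, x i * y i ^ 2 = x ⬝ᵥ (σ ∘ y) := fun x y => by simp [dotProduct, hσ]
  rw [e, e, comp_mulVec, ← vecMul_transpose g, ← dotProduct_mulVec, mulVec_mulVec, hg, one_mulVec]

lemma cube_sum_eq {g : Matrix (Fin 3) (Fin 3) F} (hg : gᵀ * g.map σ = 1) (u : Fin 3 → F) :
    ∑ i, (g *ᵥ u) i ^ 3 = ∑ i, u i ^ 3 := by
  have h := dot_eq hq hσ hg u u
  have e : ∀ x : F, x * x ^ 2 = x ^ 3 := fun x => by ring
  simpa only [e] using h

/-- Isometries respect the classes of unit vectors. -/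
lemma class_image {g : Matrix (Fin 3) (Fin 3) F} (hg : gᵀ * g.map σ = 1) {u v : Fin 3 → F}
    (hu : ∑ i, u i ^ 3 = 1) (hv : ∑ i, v i ^ 3 = 1) (huv : u 0 * u 1 * u 2 = v 0 * v 1 * v 2) :
    (g *ᵥ u) 0 * (g *ᵥ u) 1 * (g *ᵥ u) 2 = (g *ᵥ v) 0 * (g *ᵥ v) 1 * (g *ᵥ v) 2 := by
  rcases prop_or_orth hq hu hv huv with ⟨s, hs, rfl⟩ | h
  · rw [mulVec_smul]; exact class_smul hq hs _
  · exact class_eq_of_orth hq (by rw [cube_sum_eq hq hσ hg, hu]) (by rw [cube_sum_eq hq hσ hg, hv])
      ((dot_eq hq hσ hg u v).trans h)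

omit [Fintype F] hq in
lemma InCore.unitary {M : Matrix (Fin 3) (Fin 3) F} (hM : InCore M) : Mᵀ * M.map σ = 1 := by
  obtain ⟨b, a, ha, -, rfl⟩ := hM
  ext i j
  rw [Matrix.mul_apply, Finset.sum_eq_single (i + b)]
  · by_cases h : i = j
    · subst h
      simp only [transpose_apply, Matrix.map_apply, mono, Matrix.of_apply, if_true, hσ, Matrix.one_apply_eq]
      rw [← ha i]; ring
    · simp [mono, Matrix.one_apply_ne h, h]
  · intro l _ hl
    simp [mono, hl]
  · simp

omit [Fintype F] hq hσ in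
lemma InCore.class_eq {M : Matrix (Fin 3) (Fin 3) F} (hM : InCore M) (u : Fin 3 → F) :
    (M *ᵥ u) 0 * (M *ᵥ u) 1 * (M *ᵥ u) 2 = u 0 * u 1 * u 2 := by
  obtain ⟨b, a, -, hp, rfl⟩ := hM
  fin_cases b <;> simp [mono, mulVec, dotProduct, Fin.sum_univ_three] <;>
    linear_combination (u 0 * u 1 * u 2) * hp

lemma inCore_of_class {M : Matrix (Fin 3) (Fin 3) F} (hM : Mᵀ * M.map σ = 1) (h3 : M * M * M = 1)
    (hcl : ∀ u : Fin 3 → F, ∑ i, u i ^ 3 = 1 → (M *ᵥ u) 0 * (M *ᵥ u) 1 * (M *ᵥ u) 2 = u 0 * u 1 * u 2) :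
    InCore M := by
  have hcol : ∀ j, ∃ k, M k j ≠ 0 ∧ ∀ i, i ≠ k → M i j = 0 := by
    intro j
    have hi : ∑ i, (Pi.single j (1 : F) : Fin 3 → F) i ^ 3 = 1 := by simp [Pi.single_apply]
    have h := (class_eq_zero_iff hq (by rw [cube_sum_eq hq hσ hM, hi])).mp
      ((hcl _ hi).trans (by fin_cases j <;> simp))
    simpa using h
  choose p hp hz using hcol
  have hmul : ∀ (A : Matrix (Fin 3) (Fin 3) F) i j, (A * M) i j = A i (p j) * M (p j) j := fun A i j => by
    rw [Matrix.mul_apply, Finset.sum_eq_single (p j) (fun l _ hl => by rw [hz j l hl, mul_zero]) (by simp)]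
  have hppp : ∀ j, p (p (p j)) = j := fun j => by
    by_contra hne
    have h := congrFun (congrFun h3 (p (p (p j)))) j
    rw [hmul, hmul, Matrix.one_apply_ne hne] at h
    exact mul_ne_zero (mul_ne_zero (hp _) (hp _)) (hp _) h
  have hshift : ∀ q : Fin 3 → Fin 3, (∀ j, q (q (q j)) = j) → ∃ b, ∀ j, q j = j + b := by decide
  obtain ⟨b, hb⟩ := hshift p hppp
  refine ⟨b, fun j => M (j + b) j, fun j => cube_eq_one hq (show M (j + b) j ≠ 0 by rw [← hb j]; exact hp j), ?_, ?_⟩
  · have hv : ∀ i, (M *ᵥ fun _ => 1) (i + b) = M (i + b) i := fun i => by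
      simp only [mulVec, dotProduct, mul_one]
      rw [Finset.sum_eq_single i]
      · intro l _ hl
        exact hz l _ (by rw [hb l]; exact fun h => hl (add_right_cancel h).symm)
      · simp
    have h := hcl (fun _ => 1) (by simp [Fin.sum_univ_three]; linear_combination two_eq_zero hq)
    rw [← prod_shift b (M *ᵥ fun _ => 1), hv, hv, hv] at h
    simpa using h
  · ext i j
    simp only [mono, Matrix.of_apply]
    split
    · next h => rw [h]
    · next h => exact hz j i (by rw [hb]; exact h)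

/-- The core is normalised by all isometries. -/
lemma inCore_conj {g : GL (Fin 3) F} (hg : (g : Matrix (Fin 3) (Fin 3) F)ᵀ * (g : Matrix (Fin 3) (Fin 3) F).map σ = 1)
    {M : Matrix (Fin 3) (Fin 3) F} (hM : InCore M) :
    InCore ((g : Matrix (Fin 3) (Fin 3) F) * M * ((g⁻¹ : GL (Fin 3) F) : Matrix (Fin 3) (Fin 3) F)) := by
  set A := (g : Matrix (Fin 3) (Fin 3) F)
  set B := ((g⁻¹ : GL (Fin 3) F) : Matrix (Fin 3) (Fin 3) F)
  have hAB : A * B = 1 := Units.mul_inv g
  have hBA : B * A = 1 := Units.inv_mul g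
  have hB : Bᵀ * B.map σ = 1 := by
    calc Bᵀ * B.map σ = Bᵀ * (Aᵀ * A.map σ) * B.map σ := by rw [hg, mul_one]
      _ = (A * B)ᵀ * (A * B).map σ := by rw [transpose_mul, Matrix.map_mul]; simp only [mul_assoc]
      _ = 1 := by rw [hAB, transpose_one, Matrix.map_one _ (map_zero σ) (map_one σ), one_mul]
  refine inCore_of_class hq hσ ?_ ?_ fun u hu => ?_
  · calc _ = Bᵀ * (Mᵀ * (Aᵀ * A.map σ) * M.map σ) * B.map σ := by
          simp only [transpose_mul, Matrix.map_mul, mul_assoc]
      _ = 1 := by rw [hg, mul_one, hM.unitary hσ, mul_one, hB]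
  · calc _ = A * (M * (B * A) * M * (B * A) * M) * B := by simp only [mul_assoc]
      _ = 1 := by rw [hBA, mul_one, mul_one, hM.cube, mul_one, hAB]
  · rw [← mulVec_mulVec, ← mulVec_mulVec]
    have hv : ∑ i, (B *ᵥ u) i ^ 3 = 1 := by rw [cube_sum_eq hq hσ hB, hu]
    rw [class_image hq hσ hg (by rw [cube_sum_eq hq hσ (hM.unitary hσ), hv]) hv (hM.class_eq _), mulVec_mulVec, hAB,
      one_mulVec]

omit hσ in
lemma exists_root : ∃ w : F, w ≠ 1 ∧ w ≠ 0 ∧ w * w * w = 1 ∧ 1 + w + w * w = 0 := by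
  classical
  obtain ⟨w, hw1, hw0⟩ : ∃ w : F, w ≠ 1 ∧ w ≠ 0 := by
    by_contra h
    push Not at h
    have : Fintype.card F ≤ 2 := by
      rw [← Finset.card_univ]
      refine (Finset.card_le_card (t := {0, 1}) fun x _ => ?_).trans (Finset.card_le_two)
      by_cases hx : x = 1 <;> simp [hx, h]
    omega
  have h3 : w * w * w = 1 := by rw [← cube_eq_one hq hw0]; ring
  refine ⟨w, hw1, hw0, h3, ?_⟩
  have : (w - 1) * (1 + w + w * w) = 0 := by linear_combination h3
  exact (mul_eq_zero.mp this).resolve_left (sub_ne_zero.mpr hw1)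

/-- A non-scalar element of the core has a conjugate not commuting with it. -/
lemma exists_conj_not_commute {M : Matrix (Fin 3) (Fin 3) F} (hM : InCore M)
    (hne : ∀ c : F, M ≠ c • (1 : Matrix (Fin 3) (Fin 3) F)) :
    ∃ g : GL (Fin 3) F, (g : Matrix (Fin 3) (Fin 3) F)ᵀ * (g : Matrix (Fin 3) (Fin 3) F).map σ = 1 ∧
      M * ((g : Matrix (Fin 3) (Fin 3) F) * M * ((g⁻¹ : GL (Fin 3) F) : Matrix (Fin 3) (Fin 3) F)) ≠
        ((g : Matrix (Fin 3) (Fin 3) F) * M * ((g⁻¹ : GL (Fin 3) F) : Matrix (Fin 3) (Fin 3) F)) * M := by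
  obtain ⟨w, hw1, hw0, hw3, hw⟩ := exists_root hq
  have h2 := two_eq_zero hq
  obtain ⟨b, a, ha, hp, rfl⟩ := hM
  have hane : ∀ i, a i ≠ 0 := fun i h => one_ne_zero (α := F) (by rw [← ha i, h]; ring)
  by_cases hb : b = 0
  · subst hb
    set Φ : Matrix (Fin 3) (Fin 3) F := !![1, 1, 1; 1, w, w * w; 1, w * w, w] with hΦ
    have hu : Φᵀ * Φ.map σ = 1 := by
      ext i j
      fin_cases i <;> fin_cases j <;>
        simp [hΦ, Matrix.mul_apply, Fin.sum_univ_three, hσ] <;>
        first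
          | linear_combination h2
          | linear_combination hw
          | linear_combination hw + w * hw3
          | linear_combination h2 + (2 : F) * hw3
          | linear_combination h2 + hw3 * (1 + w * w * w) + hw3
          | grind
    have hΦu : IsUnit Φ := by
      refine (Matrix.isUnit_iff_isUnit_det _).mpr (isUnit_iff_ne_zero.mpr fun h0 => ?_)
      have := congrArg Matrix.det hu
      rw [det_mul, det_transpose, h0, zero_mul, det_one] at this
      exact zero_ne_one this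
    refine ⟨hΦu.unit, by simpa using hu, fun hc => ?_⟩
    set N := ((hΦu.unit : GL (Fin 3) F) : Matrix (Fin 3) (Fin 3) F) * mono 0 a *
      ((hΦu.unit⁻¹ : GL (Fin 3) F) : Matrix (Fin 3) (Fin 3) F) with hN
    have hoff : ∀ i j, a i ≠ a j → N i j = 0 := fun i j hij => by
      have h := congrFun (congrFun hc i) j
      simp only [Matrix.mul_apply, mono, add_zero, Matrix.of_apply, ite_mul, mul_ite, zero_mul, mul_zero,
        Finset.sum_ite_eq, Finset.sum_ite_eq', Finset.mem_univ, if_true] at h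
      have : (a i - a j) * N i j = 0 := by linear_combination h
      exact (mul_eq_zero.mp this).resolve_left (sub_ne_zero.mpr hij)
    have hdist : ∀ i j, i ≠ j → a i ≠ a j := by
      have h01 : a 0 = a 1 → False := fun e => hne (a 0) (by
        have h20 : a 2 = a 0 := by
          have h0 := ha 0
          rw [← e] at hp
          linear_combination a 0 * hp - a 2 * h0
        ext i j
        fin_cases i <;> fin_cases j <;> simp [mono, ← e, h20])
      have h02 : a 0 = a 2 → False := fun e => h01 (by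
        have h0 := ha 0
        rw [← e] at hp
        linear_combination a 1 * h0 - a 0 * hp)
      have h12 : a 1 = a 2 → False := fun e => h01 (by
        have h0 := ha 1
        rw [← e] at hp
        linear_combination a 1 * hp - a 0 * h0)
      intro i j hij h
      fin_cases i <;> fin_cases j <;> first | exact absurd rfl hij | exact h01 h | exact h02 h | exact h12 h | exact h01 h.symm | exact h02 h.symm | exact h12 h.symm
    have hNΦ : N * Φ = Φ * mono 0 a := by
      rw [hN, mul_assoc _ _ Φ]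
      rw [IsUnit.val_inv_mul, mul_one, IsUnit.unit_spec]
    have h0 : ∀ j, N 0 0 = a j := fun j => by
      have h := congrFun (congrFun hNΦ 0) j
      have e1 := hoff 0 1 (hdist 0 1 (by decide))
      have e2 := hoff 0 2 (hdist 0 2 (by decide))
      fin_cases j <;> simpa [hΦ, Matrix.mul_apply, Fin.sum_univ_three, mono, e1, e2] using h
    exact hdist 0 1 (by decide) ((h0 0).symm.trans (h0 1))
  · set d : Fin 3 → F := ![1, 1, w] with hd
    have hd3 : ∀ i, d i * d i * d i = 1 := fun i => by fin_cases i <;> simp [hd, hw3]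
    let g : GL (Fin 3) F := ⟨Matrix.diagonal d, Matrix.diagonal fun i => d i * d i,
      by rw [Matrix.diagonal_mul_diagonal, ← Matrix.diagonal_one]; simp only [← mul_assoc, hd3],
      by rw [Matrix.diagonal_mul_diagonal, ← Matrix.diagonal_one]; simp only [hd3]⟩
    refine ⟨g, ?_, fun hc => ?_⟩
    · show (Matrix.diagonal d)ᵀ * (Matrix.diagonal d).map σ = 1
      rw [Matrix.diagonal_transpose, Matrix.diagonal_map (map_zero σ), Matrix.diagonal_mul_diagonal,
        ← Matrix.diagonal_one]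
      simp only [Function.comp_apply, hσ, pow_two, ← mul_assoc, hd3]
    · have hval : ∀ v : Fin 3 → F, Matrix.diagonal v = mono 0 v := fun v => by
        ext i j; by_cases h : i = j <;> simp [mono, h]
      change _ * (Matrix.diagonal d * mono b a * Matrix.diagonal fun i => d i * d i) =
        (Matrix.diagonal d * mono b a * Matrix.diagonal fun i => d i * d i) * _ at hc
      simp only [hval, mono_mul] at hc
      have h := fun j => congrFun (congrFun hc (j + (b + b))) j
      have h0 := h 0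
      have h1 := h 1
      have h2' := h 2
      clear h
      fin_cases b <;> simp [mono, hd, hane] at h0 h1 h2' hb <;> grind

omit hσ in
lemma single_mem_span (i j : Fin 3) :
    (Matrix.single i j 1 : Matrix (Fin 3) (Fin 3) F) ∈
      Submodule.span F {M : Matrix (Fin 3) (Fin 3) F | InCore M} := by
  obtain ⟨w, hw1, hw0, hw3, hw⟩ := exists_root hq
  have h2 := two_eq_zero hq
  have hwk : ∀ k : ℕ, (w ^ k) ^ 3 = 1 := fun k => by rw [← pow_mul, mul_comm, pow_mul, show w ^ 3 = 1 by rw [← hw3]; ring, one_pow]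
  have e : (Matrix.single i j 1 : Matrix (Fin 3) (Fin 3) F) =
      ∑ k : Fin 3, w ^ (2 * j.val * k.val) • mono (i - j) (fun l => w ^ (l.val * k.val)) := by
    have hz : ∀ y : Fin 3, ∑ k : Fin 3, w ^ (2 * j.val * k.val) * w ^ (y.val * k.val) = if y = j then 1 else 0 := by
      intro y
      rw [Fin.sum_univ_three]
      fin_cases j <;> fin_cases y <;> simp <;> grind
    ext x y
    simp only [Matrix.sum_apply, Matrix.smul_apply, smul_eq_mul, mono, Matrix.of_apply]
    by_cases hxy : x = y + (i - j)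
    · simp only [if_pos hxy, hz]
      by_cases hy : y = j
      · subst hy; simp [hxy]
      · simp [Matrix.single_apply, hy, Ne.symm hy]
    · simp only [if_neg hxy, mul_zero, Finset.sum_const_zero]
      refine Matrix.single_apply_of_ne _ _ _ _ _ ?_
      rintro ⟨rfl, rfl⟩
      exact hxy (by simp)
  rw [e]
  refine Submodule.sum_mem _ fun k _ => Submodule.smul_mem _ _ (Submodule.subset_span ⟨_, _, fun l => hwk _, ?_, rfl⟩)
  rw [← pow_add, ← pow_add, show (0 : Fin 3).val * k.val + (1 : Fin 3).val * k.val + (2 : Fin 3).val * k.val = 3 * k.val by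
    simp; ring, pow_mul, show w ^ 3 = 1 by rw [← hw3]; ring, one_pow]

end FourElements

namespace FourElements

variable (hq : Fintype.card F = 4)

/-- The extraspecial group of order `27`. -/
def core : Subgroup (GL (Fin 3) F) where
  carrier := {g | InCore (g : Matrix (Fin 3) (Fin 3) F)}
  one_mem' := InCore.one
  mul_mem' := fun {a b} (ha : InCore _) (hb : InCore _) => ha.mul hb
  inv_mem' := fun {a} (ha : InCore _) => by
    have h : ((a⁻¹ : GL (Fin 3) F) : Matrix (Fin 3) (Fin 3) F) = (a : Matrix (Fin 3) (Fin 3) F) * a := by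
      have h3 := ha.cube
      calc ((a⁻¹ : GL (Fin 3) F) : Matrix (Fin 3) (Fin 3) F)
          = ((a : Matrix (Fin 3) (Fin 3) F) * a * a) * ((a⁻¹ : GL (Fin 3) F) : Matrix (Fin 3) (Fin 3) F) := by
            rw [h3, one_mul]
        _ = _ := by rw [mul_assoc _ _ ((a⁻¹ : GL (Fin 3) F) : Matrix (Fin 3) (Fin 3) F), Units.mul_inv, mul_one]
    show InCore ((a⁻¹ : GL (Fin 3) F) : Matrix (Fin 3) (Fin 3) F)
    rw [h]
    exact ha.mul ha

omit [Fintype F] in
lemma mem_core {g : GL (Fin 3) F} : g ∈ core (F := F) ↔ InCore (g : Matrix (Fin 3) (Fin 3) F) := Iff.rfl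

include hq in
lemma units_cube (u : Fˣ) : (u : F) * u * u = 1 := by
  have h := cube_eq_one hq u.ne_zero
  rw [← h]; ring

include hq in
lemma inCore_smul_one (u : Fˣ) : InCore ((u : F) • (1 : Matrix (Fin 3) (Fin 3) F)) :=
  ⟨0, fun _ => u, fun _ => cube_eq_one hq u.ne_zero, units_cube hq u, by
    ext i j; by_cases h : i = j <;> simp [mono, h]⟩

include hq in
lemma card_core : Nat.card (core (F := F)) = 27 := by
  classical
  have hu := fun u : Fˣ => units_cube hq u
  let v : Fˣ × Fˣ → Fin 3 → F := fun p => ![(p.1 : F), (p.2 : F), ((p.1 * p.2)⁻¹ : Fˣ)]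
  have hv : ∀ p, (∀ i, v p i ^ 3 = 1) ∧ v p 0 * v p 1 * v p 2 = 1 := fun p => by
    refine ⟨fun i => ?_, by simp [v, ← Units.val_mul, mul_assoc]⟩
    refine cube_eq_one hq ?_
    fin_cases i <;> simp [v]
  have hc : ∀ x : Fin 3 × Fˣ × Fˣ, InCore (mono x.1 (v x.2)) := fun x => ⟨_, _, (hv x.2).1, (hv x.2).2, rfl⟩
  let mk : Fin 3 × Fˣ × Fˣ → core (F := F) := fun x =>
    ⟨⟨mono x.1 (v x.2), mono x.1 (v x.2) * mono x.1 (v x.2), by rw [← mul_assoc]; exact (hc x).cube, (hc x).cube⟩, hc x⟩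
  have hbij : Function.Bijective mk := by
    refine ⟨fun x y h => ?_, fun g => ?_⟩
    · have hm : mono x.1 (v x.2) = mono y.1 (v y.2) := congrArg (fun g : core (F := F) => (g.1 : Matrix (Fin 3) (Fin 3) F)) h
      have hb : x.1 = y.1 := by
        by_contra hne
        have h0 := congrFun (congrFun hm (0 + x.1)) 0
        simp only [mono, Matrix.of_apply, if_true, add_right_inj, if_neg hne] at h0
        simp [v] at h0
      have hval : v x.2 = v y.2 := funext fun j => by
        have h0 := congrFun (congrFun hm (j + x.1)) j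
        simpa [mono, hb] using h0
      exact Prod.ext hb (Prod.ext (Units.ext (congrFun hval 0)) (Units.ext (congrFun hval 1)))
    · obtain ⟨b, a, ha, hp, hg⟩ := mem_core.mp g.2
      have hne : ∀ i, a i ≠ 0 := fun i h => one_ne_zero (α := F) (by rw [← ha i, h]; ring)
      refine ⟨(b, Units.mk0 _ (hne 0), Units.mk0 _ (hne 1)), Subtype.ext (Units.ext ?_)⟩
      show mono b (v _) = _
      rw [hg]
      congr 1
      funext i
      fin_cases i <;> simp [v]
      rw [← _root_.mul_inv_rev]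
      exact inv_eq_of_mul_eq_one_right hp
  rw [← Nat.card_eq_of_bijective mk hbij, Nat.card_prod, Nat.card_prod, Nat.card_fin, Nat.card_units,
    Nat.card_eq_fintype_card, hq]

end FourElements

open FourElements

variable {ι : Type} [Fintype ι] [DecidableEq ι]

/-- Kronecker products in the coordinates given by `P` and `e`. -/
noncomputable def kronHom {n₁ n₂ : ℕ} (e : ι ≃ Fin n₁ × Fin n₂) (P : GL ι F) :
    GL (Fin n₁) F × GL (Fin n₂) F →* GL ι F :=
  (Units.map
    ({ toFun := fun p => (P : Matrix ι ι F) * (p.1 ⊗ₖ p.2).submatrix e e * ((P⁻¹ : GL ι F) : Matrix ι ι F)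
       map_one' := by simp
       map_mul' := fun p q => by
        rw [Prod.fst_mul, Prod.snd_mul, mul_kronecker_mul, ← submatrix_mul_equiv _ _ _ e]
        simp only [mul_assoc, Units.inv_mul_cancel_left] } :
      Matrix (Fin n₁) (Fin n₁) F × Matrix (Fin n₂) (Fin n₂) F →* Matrix ι ι F)).comp
    MulEquiv.prodUnits.symm.toMonoidHom

omit [Fintype F] in
lemma kronHom_val {n₁ n₂ : ℕ} (e : ι ≃ Fin n₁ × Fin n₂) (P : GL ι F) (a : GL (Fin n₁) F) (b : GL (Fin n₂) F) :
    (kronHom e P (a, b) : Matrix ι ι F) = (P : Matrix ι ι F) *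
      ((a : Matrix (Fin n₁) (Fin n₁) F) ⊗ₖ (b : Matrix (Fin n₂) (Fin n₂) F)).submatrix e e *
        ((P⁻¹ : GL ι F) : Matrix ι ι F) := rfl

omit [Fintype F] in
lemma kronHom_inj {n₁ n₂ : ℕ} [Nonempty (Fin n₁)] [Nonempty (Fin n₂)] {e : ι ≃ Fin n₁ × Fin n₂} {P : GL ι F}
    {a a' : GL (Fin n₁) F} {b b' : GL (Fin n₂) F} (h : kronHom e P (a, b) = kronHom e P (a', b')) :
    ∃ s : F, s ≠ 0 ∧ (b : Matrix (Fin n₂) (Fin n₂) F) = s • (b' : Matrix (Fin n₂) (Fin n₂) F) ∧
      (a : Matrix (Fin n₁) (Fin n₁) F) = s⁻¹ • (a' : Matrix (Fin n₁) (Fin n₁) F) := by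
  have h1 := congrArg (fun x : GL ι F => ((P⁻¹ : GL ι F) : Matrix ι ι F) * (x : Matrix ι ι F) * (P : Matrix ι ι F)) h
  simp only [kronHom_val, mul_assoc, Units.inv_mul_cancel_left, Units.inv_mul, mul_one] at h1
  have h2 := congrArg (fun X : Matrix ι ι F => X.submatrix e.symm e.symm) h1
  simp only [submatrix_submatrix, Equiv.self_comp_symm, submatrix_id_id] at h2
  exact kronecker_factor a'.ne_zero b'.ne_zero h2

lemma card_range_mul_card_ker {A M : Type*} [Group A] [Group M] (φ : A →* M) :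
    Nat.card φ.range * Nat.card φ.ker = Nat.card A := by
  rw [Subgroup.card_eq_card_quotient_mul_card_subgroup φ.ker,
    Nat.card_congr (QuotientGroup.quotientKerEquivRange φ).toEquiv]

attribute [local irreducible] kronHom in
/-- The tensor square of the three-dimensional unitary group over four elements: a class six overgroup. -/
theorem exists_classSix_tensor_nine [Nonempty ι] (hq : Fintype.card F = 4) {σ : F ≃+* F}
    {f : (ι → F) → (ι → F) → F} (hf : IsUnitaryForm σ f) {G : Subgroup (GL ι F)}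
    (hfix : FixesForm (matrixSet G) f) {e : ι ≃ Fin 3 × Fin 3} {P : GL ι F}
    (h : IsTensorGram σ f G e P (1 : Matrix (Fin 3) (Fin 3) F) (1 : Matrix (Fin 3) (Fin 3) F)) :
    ∃ (r : ℕ) (R : Subgroup (GL ι F)) (p d k : ℕ), IsSymplecticTypeGroup r R ∧
      ActsAbsolutelyIrreducibly (matrixSet R) ∧ R ≤ similarityGroup f ∧ r ≠ p ∧
      IsMinimalFieldFor (Nat.card (Subgroup.center R)) p d F ∧
      ((Odd r ∧ Nat.card (Subgroup.center R) = r ∧ 1 ≤ k ∧ Nat.card R = r ^ (1 + 2 * k)) ∨
       (r = 2 ∧ d = 2 ∧ Nat.card (Subgroup.center R) = 4 ∧ Nat.card R = 2 ^ (2 + 2 * k))) ∧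
      ⁅R, R⁆ ≤ scalars ι F ∧ Fintype.card ι = r ^ k ∧ G ≤ subgroupNormalizer R := by
  classical
  have hσ : ∀ x, σ x = x ^ 2 := by
    intro x
    have hc := card_eq_sq_fixSubfield hf.ne_refl hf.involutive
    rw [hq, show (4 : ℕ) = 2 ^ 2 by norm_num] at hc
    have hc2 : Nat.card (fixSubfield σ) = 2 := (Nat.pow_left_injective two_ne_zero hc).symm
    by_cases hx : x = 0
    · simp [hx]
    by_cases h1 : σ x = x
    · have hmem : x ∈ fixSubfield σ := h1
      rw [mem_subfield_iff, hc2] at hmem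
      rw [h1, hmem]
    · have e1 := cube_eq_one hq hx
      have e2 := cube_eq_one hq (show σ x ≠ 0 by simpa using hx)
      have hsum : x + σ x ∈ fixSubfield σ := by show σ _ = _; rw [map_add, hf.involutive, add_comm]
      rw [mem_subfield_iff, hc2] at hsum
      have h2F := two_eq_zero hq
      have hne : x - σ x ≠ 0 := sub_ne_zero.mpr (Ne.symm h1)
      have hquad : x * x + x * σ x + σ x * σ x = 0 := by
        have : (x - σ x) * (x * x + x * σ x + σ x * σ x) = 0 := by linear_combination e1 - e2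
        exact (mul_eq_zero.mp this).resolve_left hne
      have hsum1 : x + σ x = 1 := by
        have : (x + σ x) * ((x + σ x) - 1) = 0 := by linear_combination hsum
        refine sub_eq_zero.mp ((mul_eq_zero.mp this).resolve_left fun h0 => h1 ?_)
        linear_combination h0 - x * h2F
      linear_combination (x + 1) * hsum1 - x * x * h2F + (1 : F) * hquad - (x + σ x + 1) * hsum1
  have hs := isSesq_of_unitary hf
  have hne3 : Nonempty (Fin 3) := ⟨0⟩
  set Φ := kronHom e P with hΦ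
  set R : Subgroup (GL ι F) := ((core (F := F)).prod (core (F := F))).map Φ with hRdef
  have hmemR : ∀ a b : GL (Fin 3) F, a ∈ core (F := F) → b ∈ core (F := F) → Φ (a, b) ∈ R := fun a b ha hb =>
    ⟨(a, b), ⟨ha, hb⟩, rfl⟩
  let sc : Fˣ →* GL (Fin 3) F := Units.map (Matrix.scalar (Fin 3) : F →+* Matrix (Fin 3) (Fin 3) F).toMonoidHom
  have hscv : ∀ u : Fˣ, (sc u : Matrix (Fin 3) (Fin 3) F) = (u : F) • 1 := fun u => by
    show Matrix.scalar (Fin 3) (u : F) = _
    rw [Matrix.scalar_apply, ← Matrix.smul_one_eq_diagonal]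
  have hscR : ∀ u : Fˣ, sc u ∈ core (F := F) := fun u => by
    rw [mem_core, hscv]; exact inCore_smul_one hq u
  have hcl : ⁅R, R⁆ ≤ scalars ι F := by
    rw [Subgroup.commutator_le]
    rintro _ ⟨⟨a, b⟩, ⟨ha, hb⟩, rfl⟩ _ ⟨⟨c, d⟩, ⟨hc, hd⟩, rfl⟩
    obtain ⟨s, hs⟩ := (mem_core.mp ha).comm (mem_core.mp hc)
    obtain ⟨s', hs'⟩ := (mem_core.mp hb).comm (mem_core.mp hd)
    refine mem_scalars_of_eq_smul (c := s * s') ?_
    have e1 : Φ (a, b) * Φ (c, d) = Φ (a * c, b * d) := (map_mul Φ _ _).symm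
    have e2 : (Φ (a, b) * Φ (c, d) : GL ι F).val = (s * s') • (Φ (c, d) * Φ (a, b) : GL ι F).val := by
      rw [e1, ← map_mul, hΦ, kronHom_val, kronHom_val]
      simp only [Prod.fst_mul, Prod.snd_mul, Units.val_mul, hs, hs', Matrix.smul_kronecker, Matrix.kronecker_smul,
        smul_smul, Matrix.submatrix_smul, Pi.smul_apply, mul_smul_comm, smul_mul_assoc, mul_comm s' s]
    calc ((⁅Φ (a, b), Φ (c, d)⁆ : GL ι F) : Matrix ι ι F)
        = (Φ (a, b) * Φ (c, d) : GL ι F).val * ((Φ (c, d) * Φ (a, b))⁻¹ : GL ι F).val := by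
          rw [← Units.val_mul, commutatorElement_def]; congr 1; group
      _ = _ := by rw [e2, smul_mul_assoc, Units.mul_inv]
  have hfixk : ∀ a b : GL (Fin 3) F, (a : Matrix (Fin 3) (Fin 3) F)ᵀ * (a : Matrix (Fin 3) (Fin 3) F).map σ = 1 →
      (b : Matrix (Fin 3) (Fin 3) F)ᵀ * (b : Matrix (Fin 3) (Fin 3) F).map σ = 1 →
      ∀ u v, f ((Φ (a, b) : Matrix ι ι F) *ᵥ u) ((Φ (a, b) : Matrix ι ι F) *ᵥ v) = f u v := by
    intro a b ha hb
    refine (fixes_iff hs _).mpr ?_
    set S := ((a : Matrix (Fin 3) (Fin 3) F) ⊗ₖ (b : Matrix (Fin 3) (Fin 3) F)).submatrix e e with hS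
    set Q := ((P⁻¹ : GL ι F) : Matrix ι ι F) with hQ
    have h1 : Sᵀ * ((P : Matrix ι ι F)ᵀ * gramMatrix f * (P : Matrix ι ι F).map σ) * S.map σ =
        (P : Matrix ι ι F)ᵀ * gramMatrix f * (P : Matrix ι ι F).map σ := by
      rw [h.gram, hS, transpose_submatrix, ← Matrix.kroneckerMap_transpose, map_kronecker_submatrix, coords_mul,
        coords_mul, mul_one, mul_one, ha, hb]
    calc (Φ (a, b) : Matrix ι ι F)ᵀ * gramMatrix f * (Φ (a, b) : Matrix ι ι F).map σ
        = Qᵀ * (Sᵀ * ((P : Matrix ι ι F)ᵀ * gramMatrix f * (P : Matrix ι ι F).map σ) * S.map σ) * Q.map σ := by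
          rw [hΦ, kronHom_val, transpose_mul, transpose_mul, Matrix.map_mul, Matrix.map_mul]; simp only [hQ, hS, mul_assoc]
      _ = ((P : Matrix ι ι F) * Q)ᵀ * gramMatrix f * ((P : Matrix ι ι F) * Q).map σ := by
          rw [h1, transpose_mul, Matrix.map_mul]; simp only [mul_assoc]
      _ = _ := by rw [hQ, Units.mul_inv, transpose_one, one_mul, Matrix.map_one _ (map_zero σ) (map_one σ), mul_one]
  have hconj : ∀ a b : GL (Fin 3) F, (a : Matrix (Fin 3) (Fin 3) F)ᵀ * (a : Matrix (Fin 3) (Fin 3) F).map σ = 1 →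
      (b : Matrix (Fin 3) (Fin 3) F)ᵀ * (b : Matrix (Fin 3) (Fin 3) F).map σ = 1 →
      ∀ x ∈ R, Φ (a, b) * x * (Φ (a, b))⁻¹ ∈ R := by
    rintro a b ha hb _ ⟨⟨c, d⟩, ⟨hc, hd⟩, rfl⟩
    rw [← map_inv, ← map_mul, ← map_mul]
    exact hmemR _ _ (inCore_conj hq hσ ha hc) (inCore_conj hq hσ hb hd)
  have hnorm : ∀ a b : GL (Fin 3) F, (a : Matrix (Fin 3) (Fin 3) F)ᵀ * (a : Matrix (Fin 3) (Fin 3) F).map σ = 1 →
      (b : Matrix (Fin 3) (Fin 3) F)ᵀ * (b : Matrix (Fin 3) (Fin 3) F).map σ = 1 →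
      Φ (a, b) ∈ subgroupNormalizer R := by
    intro a b ha hb
    have hinv : ∀ g : GL (Fin 3) F, (g : Matrix (Fin 3) (Fin 3) F)ᵀ * (g : Matrix (Fin 3) (Fin 3) F).map σ = 1 →
        ((g⁻¹ : GL (Fin 3) F) : Matrix (Fin 3) (Fin 3) F)ᵀ * ((g⁻¹ : GL (Fin 3) F) : Matrix (Fin 3) (Fin 3) F).map σ = 1 := by
      intro g hg
      calc _ = ((g⁻¹ : GL (Fin 3) F) : Matrix (Fin 3) (Fin 3) F)ᵀ *
            ((g : Matrix (Fin 3) (Fin 3) F)ᵀ * (g : Matrix (Fin 3) (Fin 3) F).map σ) *
            ((g⁻¹ : GL (Fin 3) F) : Matrix (Fin 3) (Fin 3) F).map σ := by rw [hg, mul_one]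
        _ = ((g : Matrix (Fin 3) (Fin 3) F) * ((g⁻¹ : GL (Fin 3) F) : Matrix (Fin 3) (Fin 3) F))ᵀ *
            ((g : Matrix (Fin 3) (Fin 3) F) * ((g⁻¹ : GL (Fin 3) F) : Matrix (Fin 3) (Fin 3) F)).map σ := by
            rw [transpose_mul, Matrix.map_mul]; simp only [mul_assoc]
        _ = _ := by rw [Units.mul_inv, transpose_one, Matrix.map_one _ (map_zero σ) (map_one σ), one_mul]
    rw [subgroupNormalizer, Subgroup.mem_normalizer_iff]
    intro x
    refine ⟨fun hx => hconj a b ha hb x hx, fun hx => ?_⟩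
    have := hconj a⁻¹ b⁻¹ (hinv a ha) (hinv b hb) _ hx
    rw [show ((a⁻¹, b⁻¹) : GL (Fin 3) F × GL (Fin 3) F) = (a, b)⁻¹ from rfl, map_inv, inv_inv] at this
    simpa [mul_assoc] using this
  have hG : G ≤ subgroupNormalizer R := by
    intro g hg
    obtain ⟨a, b, hab⟩ := h.kron g hg
    obtain ⟨s, hs0, hb, ha⟩ := h.factor hs hfix hg hab
    rw [mul_one] at ha hb
    have hs1 : s = 1 := by
      have h00 := congrFun (congrFun hb 0) 0
      simp only [Matrix.mul_apply, Fin.sum_univ_three, transpose_apply, Matrix.map_apply, hσ, Matrix.smul_apply,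
        Matrix.one_apply_eq, smul_eq_mul, mul_one] at h00
      have h2F := two_eq_zero hq
      have hid : ∀ x : F, (x * x ^ 2) * (x * x ^ 2) = x * x ^ 2 := fun x => by
        rcases cube_cases hq x with ⟨-, rfl⟩ | ⟨h3, -⟩
        · ring
        · linear_combination (x * x ^ 2) * h3
      have : s * s = s := by
        rw [← h00]
        set y₀ := (b : Matrix (Fin 3) (Fin 3) F) 0 0
        set y₁ := (b : Matrix (Fin 3) (Fin 3) F) 1 0
        set y₂ := (b : Matrix (Fin 3) (Fin 3) F) 2 0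
        linear_combination hid y₀ + hid y₁ + hid y₂ +
          ((y₀ * y₀ ^ 2) * (y₁ * y₁ ^ 2) + (y₀ * y₀ ^ 2) * (y₂ * y₂ ^ 2) + (y₁ * y₁ ^ 2) * (y₂ * y₂ ^ 2)) * h2F
      exact (mul_eq_left₀ hs0).mp this
    rw [hs1, one_smul] at hb
    rw [hs1, inv_one, one_smul] at ha
    have : g = Φ (a, b) := Units.ext (by
      rw [hΦ, kronHom_val, ← hab]; simp [← mul_assoc])
    rw [this]
    exact hnorm a b ha hb
  have hsingle : ∀ i j : Fin 3 × Fin 3, (P : Matrix ι ι F) * (Matrix.single i j (1 : F)).submatrix e e *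
      ((P⁻¹ : GL ι F) : Matrix ι ι F) ∈ Submodule.span F (matrixSet R) := by
    intro i j
    let T : Matrix (Fin 3) (Fin 3) F →ₗ[F] Matrix (Fin 3) (Fin 3) F →ₗ[F] Matrix ι ι F :=
      LinearMap.mk₂ F (fun A B => (P : Matrix ι ι F) * (A ⊗ₖ B).submatrix e e * ((P⁻¹ : GL ι F) : Matrix ι ι F))
        (fun A A' B => by rw [add_kronecker, submatrix_add]; simp [mul_add, add_mul])
        (fun c A B => by rw [smul_kronecker, Matrix.submatrix_smul]; simp [mul_smul_comm, smul_mul_assoc])
        (fun A B B' => by rw [kronecker_add, submatrix_add]; simp [mul_add, add_mul])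
        (fun c A B => by rw [kronecker_smul, Matrix.submatrix_smul]; simp [mul_smul_comm, smul_mul_assoc])
    have e1 : Matrix.single i j (1 : F) = Matrix.single i.1 j.1 1 ⊗ₖ Matrix.single i.2 j.2 1 := by
      rw [single_kronecker_single, one_mul]
    rw [e1]
    have h1 : T (Matrix.single i.1 j.1 1) (Matrix.single i.2 j.2 1) ∈ Submodule.span F (matrixSet R) := by
      refine Submodule.map₂_le.mp ?_ _ (single_mem_span hq i.1 j.1) _ (single_mem_span hq i.2 j.2)
      rw [Submodule.map₂_span_span]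
      refine Submodule.span_mono ?_
      rintro _ ⟨A, hA, B, hB, rfl⟩
      let a : GL (Fin 3) F := ⟨A, A * A, by rw [← mul_assoc]; exact InCore.cube hA, InCore.cube hA⟩
      let b : GL (Fin 3) F := ⟨B, B * B, by rw [← mul_assoc]; exact InCore.cube hB, InCore.cube hB⟩
      exact ⟨Φ (a, b), hmemR a b hA hB, kronHom_val e P a b⟩
    exact h1
  have hRabs : ActsAbsolutelyIrreducibly (matrixSet R) := by
    refine absIrred_of_adjoin_eq_top fun X => Algebra.span_le_adjoin F _ ?_
    set Y := (((P⁻¹ : GL ι F) : Matrix ι ι F) * X * (P : Matrix ι ι F)).submatrix e.symm e.symm with hY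
    have hX : X = ∑ i, ∑ j, Y i j • ((P : Matrix ι ι F) * (Matrix.single i j (1 : F)).submatrix e e *
        ((P⁻¹ : GL ι F) : Matrix ι ι F)) := by
      have h2 : X = (P : Matrix ι ι F) * Y.submatrix e e * ((P⁻¹ : GL ι F) : Matrix ι ι F) := by
        simp [Y, ← mul_assoc]
      conv_lhs => rw [h2, Matrix.matrix_eq_sum_single Y]
      simp only [submatrix_sum' e, Finset.mul_sum, Finset.sum_mul]
      refine Finset.sum_congr rfl fun i _ => Finset.sum_congr rfl fun j _ => ?_
      rw [← smul_mul_assoc, ← mul_smul_comm]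
      congr 2
      ext u v
      simp [Matrix.single_apply, Equiv.symm_apply_eq]
    rw [hX]
    exact Submodule.sum_mem _ fun i _ => Submodule.sum_mem _ fun j _ => Submodule.smul_mem _ _ (hsingle i j)
  have hker : ∀ p : GL (Fin 3) F × GL (Fin 3) F,
      Φ p = 1 ↔ ∃ u : Fˣ, p = (sc u, sc u⁻¹) := by
    rintro ⟨a, b⟩
    constructor
    · intro h1
      obtain ⟨s, hs0, hb, ha⟩ := kronHom_inj (h1.trans (map_one Φ).symm)
      refine ⟨(Units.mk0 s hs0)⁻¹, Prod.ext (Units.ext ?_) (Units.ext ?_)⟩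
      · rw [hscv, ha]; simp
      · rw [inv_inv, hscv, hb]; simp
    · rintro ⟨u, hu⟩
      refine Units.ext ?_
      show (Φ (a, b) : Matrix ι ι F) = _
      rw [show (a, b) = _ from hu, hΦ, kronHom_val, hscv, hscv, Matrix.smul_kronecker, Matrix.kronecker_smul, smul_smul,
        Units.val_inv_eq_inv_val, mul_inv_cancel₀ u.ne_zero, one_smul]
      simp
  have hcardR : Nat.card R = 243 := by
    set φ : (core (F := F)).prod (core (F := F)) →* GL ι F := Φ.comp ((core (F := F)).prod (core (F := F))).subtype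
      with hφdef
    have hφ : ∀ p, φ p = Φ p.1 := fun p => rfl
    have hr : φ.range = R := by rw [hφdef, MonoidHom.range_comp, Subgroup.range_subtype, hRdef]
    clear_value φ
    have hk : Nat.card φ.ker = 3 := by
      let pr : Fˣ → (core (F := F)).prod (core (F := F)) := fun u => ⟨(sc u, sc u⁻¹), hscR u, hscR u⁻¹⟩
      have hpr : ∀ u, pr u ∈ φ.ker := fun u => by
        rw [MonoidHom.mem_ker, hφ]; exact (hker (sc u, sc u⁻¹)).mpr ⟨u, rfl⟩
      let mk : Fˣ → φ.ker := fun u => ⟨pr u, hpr u⟩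
      have hb : Function.Bijective mk := by
        refine ⟨fun u v huv => Units.ext ?_, fun p => ?_⟩
        · have := congrArg (fun p : φ.ker => ((p.1.1.1 : GL (Fin 3) F) : Matrix (Fin 3) (Fin 3) F) 0 0) huv
          simpa [mk, pr, hscv] using this
        · have hp := p.2
          rw [MonoidHom.mem_ker, hφ] at hp
          obtain ⟨u, hu⟩ := (hker p.1.1).mp hp
          exact ⟨u, Subtype.ext (Subtype.ext hu.symm)⟩
      rw [← Nat.card_eq_of_bijective mk hb, Nat.card_units, Nat.card_eq_fintype_card, hq]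
    have hdom : Nat.card ((core (F := F)).prod (core (F := F))) = 729 := by
      rw [Nat.card_congr (Subgroup.prodEquiv _ _).toEquiv, Nat.card_prod, card_core hq]
    have h1 := card_range_mul_card_ker φ
    rw [hk, hdom, show Nat.card φ.range = Nat.card R by rw [hr]] at h1
    omega
  have hscalarR : ∀ u : Fˣ, Φ (sc u, 1) ∈ R ∧ (Φ (sc u, 1) : Matrix ι ι F) = (u : F) • 1 := fun u => by
    refine ⟨hmemR _ _ (hscR u) (core.one_mem), ?_⟩
    rw [hΦ, kronHom_val, hscv, Units.val_one, Matrix.smul_kronecker, one_kronecker_one, Matrix.submatrix_smul,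
      Pi.smul_apply]
    simp
  have hcen : Nat.card (Subgroup.center R) = 3 := by
    let mk : Fˣ → Subgroup.center R := fun u => ⟨⟨_, (hscalarR u).1⟩, Subgroup.mem_center_iff.mpr fun x =>
      Subtype.ext (Units.ext (by simp [(hscalarR u).2]))⟩
    have hb : Function.Bijective mk := by
      refine ⟨fun u v huv => Units.ext ?_, fun z => ?_⟩
      · have h1 := congrArg (fun z : Subgroup.center R => ((z.1.1 : GL ι F) : Matrix ι ι F)) huv
        simp only [mk, (hscalarR u).2, (hscalarR v).2] at h1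
        exact smul_left_injective F one_ne_zero h1
      · obtain ⟨c, hc⟩ := hRabs.2 ((z.1.1 : GL ι F) : Matrix ι ι F) (by
          rintro _ ⟨x, hx, rfl⟩
          exact (congrArg (fun y : R => ((y.1 : GL ι F) : Matrix ι ι F)) (Subgroup.mem_center_iff.mp z.2 ⟨x, hx⟩)).symm)
        have hc0 : c ≠ 0 := fun h0 => (z.1.1).ne_zero (by rw [hc, h0, zero_smul])
        exact ⟨Units.mk0 c hc0, Subtype.ext (Subtype.ext (Units.ext (by rw [hc]; exact (hscalarR _).2)))⟩
    rw [← Nat.card_eq_of_bijective mk hb, Nat.card_units, Nat.card_eq_fintype_card, hq]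
  have hcube : ∀ x : R, x ^ 3 = 1 := by
    rintro ⟨_, ⟨a, b⟩, ⟨ha, hb⟩, rfl⟩
    apply Subtype.ext
    rw [SubmonoidClass.coe_pow, Subgroup.coe_one, ← map_pow]
    have e3 : ∀ c : GL (Fin 3) F, c ∈ core (F := F) → c ^ 3 = 1 := fun c hc => Units.ext (by
      rw [Units.val_pow_eq_pow_val, pow_succ, pow_two]; exact (mem_core.mp hc).cube)
    rw [Prod.pow_mk, e3 a ha, e3 b hb]
    exact map_one Φ
  have hexp : Monoid.exponent R = 3 := by
    rcases (Nat.dvd_prime Nat.prime_three).mp (Monoid.exponent_dvd_of_forall_pow_eq_one hcube) with h1 | h1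
    · exfalso
      have := Monoid.exp_eq_one_iff.mp h1
      have : Nat.card R = 1 := Nat.card_of_subsingleton (1 : R)
      omega
    · exact h1
  have hcyc : ∀ A : Subgroup R, A.Characteristic → IsMulCommutative A → IsCyclic A := by
    intro A hA hAc
    have hle : A ≤ Subgroup.center R := by
      intro x hx
      obtain ⟨⟨a, b⟩, ⟨ha, hb⟩, hab⟩ := x.2
      have hkey : ∀ g₁ g₂ : GL (Fin 3) F,
          (g₁ : Matrix (Fin 3) (Fin 3) F)ᵀ * (g₁ : Matrix (Fin 3) (Fin 3) F).map σ = 1 →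
          (g₂ : Matrix (Fin 3) (Fin 3) F)ᵀ * (g₂ : Matrix (Fin 3) (Fin 3) F).map σ = 1 →
          Φ (a, b) * Φ (g₁ * a * g₁⁻¹, g₂ * b * g₂⁻¹) = Φ (g₁ * a * g₁⁻¹, g₂ * b * g₂⁻¹) * Φ (a, b) := by
        intro g₁ g₂ h1 h2
        set γ := Φ (g₁, g₂)
        have hγ := hnorm g₁ g₂ h1 h2
        rw [subgroupNormalizer, Subgroup.mem_normalizer_iff] at hγ
        let φ : R ≃* R :=
          { toFun := fun y => ⟨γ * y.1 * γ⁻¹, (hγ _).mp y.2⟩
            invFun := fun y => ⟨γ⁻¹ * y.1 * γ, (hγ _).mpr (by simp [γ, mul_assoc, y.2])⟩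
            left_inv := fun y => Subtype.ext (by simp [mul_assoc])
            right_inv := fun y => Subtype.ext (by simp [mul_assoc])
            map_mul' := fun y z => Subtype.ext (by simp [mul_assoc]) }
        have hx' : φ x ∈ A := by
          have := Subgroup.characteristic_iff_comap_eq.mp hA φ
          rw [← this] at hx
          exact hx
        have hcomm := congrArg (fun y : A => (y.1 : R).1) (hAc.is_comm.comm ⟨x, hx⟩ ⟨φ x, hx'⟩)
        simp only [Subgroup.coe_mul] at hcomm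
        have hφ : (φ x : GL ι F) = Φ (g₁ * a * g₁⁻¹, g₂ * b * g₂⁻¹) := by
          show γ * x.1 * γ⁻¹ = _
          rw [← hab]
          exact (by rw [← map_inv, ← map_mul, ← map_mul]; rfl)
        rw [hφ, ← hab] at hcomm
        exact hcomm
      have hone : ((1 : GL (Fin 3) F) : Matrix (Fin 3) (Fin 3) F)ᵀ * ((1 : GL (Fin 3) F) : Matrix (Fin 3) (Fin 3) F).map σ = 1 := by
        simp [Matrix.map_one _ (map_zero σ) (map_one σ)]
      have hsa : ∃ c : F, (a : Matrix (Fin 3) (Fin 3) F) = c • 1 := by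
        by_contra hcon
        push Not at hcon
        obtain ⟨g, hg, hgne⟩ := exists_conj_not_commute hq hσ (mem_core.mp ha) hcon
        have h1 := hkey g 1 hg hone
        rw [← map_mul, ← map_mul, Prod.mk_mul_mk, Prod.mk_mul_mk] at h1
        obtain ⟨s, -, hs2, hs1⟩ := kronHom_inj h1
        simp only [one_mul, mul_one, inv_one] at hs2
        have hs' : s = 1 := by
          refine smul_left_injective F (b * b : GL (Fin 3) F).ne_zero ?_
          show s • _ = (1 : F) • _
          rw [one_smul]; exact hs2.symm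
        rw [hs', inv_one, one_smul, Units.val_mul, Units.val_mul, Units.val_mul, Units.val_mul] at hs1
        exact hgne hs1
      have hsb : ∃ c : F, (b : Matrix (Fin 3) (Fin 3) F) = c • 1 := by
        by_contra hcon
        push Not at hcon
        obtain ⟨g, hg, hgne⟩ := exists_conj_not_commute hq hσ (mem_core.mp hb) hcon
        have h1 := hkey 1 g hone hg
        rw [← map_mul, ← map_mul, Prod.mk_mul_mk, Prod.mk_mul_mk] at h1
        obtain ⟨s, -, hs2, hs1⟩ := kronHom_inj h1
        simp only [one_mul, mul_one, inv_one] at hs1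
        have hs' : s⁻¹ = 1 := by
          refine smul_left_injective F (a * a : GL (Fin 3) F).ne_zero ?_
          show s⁻¹ • _ = (1 : F) • _
          rw [one_smul]; exact hs1.symm
        rw [inv_eq_one.mp hs', one_smul, Units.val_mul, Units.val_mul, Units.val_mul, Units.val_mul] at hs2
        exact hgne hs2
      obtain ⟨c, hc⟩ := hsa
      obtain ⟨c', hc'⟩ := hsb
      refine Subgroup.mem_center_iff.mpr fun y => Subtype.ext (Units.ext ?_)
      simp only [Subgroup.coe_mul, Units.val_mul, ← hab, hΦ, kronHom_val, hc, hc', Matrix.smul_kronecker,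
        Matrix.kronecker_smul, one_kronecker_one, Matrix.submatrix_smul, Pi.smul_apply, submatrix_one_equiv]
      simp
    have : Fact (Nat.Prime 3) := ⟨Nat.prime_three⟩
    have hcyc : IsCyclic (Subgroup.center R) := isCyclic_of_prime_card hcen
    exact isCyclic_of_injective (Subgroup.inclusion hle) (Subgroup.inclusion_injective hle)
  refine ⟨3, R, 2, 2, 2, ⟨Nat.prime_three, fun x => ⟨1, by rw [pow_one]; exact hcube x⟩, hcyc, by rw [hexp]; rfl⟩, hRabs,
    ?_, by norm_num, ?_, Or.inl ⟨by decide, hcen, by norm_num, by rw [hcardR]; norm_num⟩, hcl, by simp [Fintype.card_congr e], hG⟩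
  · rintro _ ⟨⟨a, b⟩, ⟨ha, hb⟩, rfl⟩
    exact ⟨1, fun u v => by
      rw [Units.val_one, one_mul]
      exact hfixk a b ((mem_core.mp ha).unitary hσ) ((mem_core.mp hb).unitary hσ) u v⟩
  · refine ⟨Nat.prime_two, char_two_of_even fun ho => ?_, by rw [hq]; norm_num, by rw [hcen]; norm_num, fun d hd hd2 => ?_⟩
    · rw [hq] at ho; exact absurd ho (by decide)
    · obtain rfl : d = 1 := by omega
      rw [hcen]; norm_num

end CfsgLib.Aschbacher
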