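import Cfsg.Agent.Aschbacher.Form.FourPlanes
import Cfsg.Agent.Aschbacher.Form.Orth

/-!
Over three elements an orthogonal tensor factor of dimension three gives three blocks.
-/
set_option autoImplicit false

namespace CfsgLib.Aschbacher

open Matrix Cfsg.Geo CfsgLib.GeoClifford
open scoped MatrixGroups Kronecker

variable {ι : Type} [Fintype ι] [DecidableEq ι] {F : Type*} [Field F] [Fintype F]

/-- A symmetric tensor factor of dimension three over three elements gives three blocks. -/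
lemma tensor_three_to_blocks (hq : Fintype.card F = 3) {f : (ι → F) → (ι → F) → F}
    (hfb : IsBilinearForm f) {G : Subgroup (GL ι F)} (hfix : FixesForm (matrixSet G) f) {n₁ : ℕ} (hn₁ : 0 < n₁) {e : ι ≃ Fin n₁ × Fin 3} {P : GL ι F}
    {f₁ : (Fin n₁ → F) → (Fin n₁ → F) → F} {f₂ : (Fin 3 → F) → (Fin 3 → F) → F} (hf₁ : IsSymplecticForm f₁)
    (hf₂ : IsSymmetricForm f₂) (hT : IsTensorFormStructure id f f₁ f₂ e P) (hG : G ≤ tensorProductSubgroup n₁ 3 e P) :
    ∃ D : Fin 3 → Submodule F (ι → F), IsNondegenerateMDecomposition f n₁ D ∧ G ≤ decompositionStabilizer D := by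
  classical
  obtain ⟨c, hc, hT⟩ := hT
  have h₁ := isSesq_of_bilinear hf₁.bilinear
  have h₂ := isSesq_of_bilinear hf₂.bilinear
  have key := tensor_form_pure (σ := RingEquiv.refl F) h₁ h₂ hT
  have h2 : (2 : F) ≠ 0 := odd_card_iff_two_ne_zero.mp (by rw [hq]; decide)
  have hG₂t : (gramMatrix f₂)ᵀ = gramMatrix f₂ := by ext a b; exact hf₂.symm _ _
  obtain ⟨X, s, hs, hX⟩ := exists_congr_scalar_one h2 (k := 3) (by decide) (gram_isUnit h₂ hf₂.nondegenerate) hG₂t
  have hfX : ∀ u v, f₂ ((X : Matrix (Fin 3) (Fin 3) F) *ᵥ u) ((X : Matrix (Fin 3) (Fin 3) F) *ᵥ v) = s * (u ⬝ᵥ v) := by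
    intro u v
    have hmap : (X : Matrix (Fin 3) (Fin 3) F).map (RingEquiv.refl F) = (X : Matrix (Fin 3) (Fin 3) F) := by
      ext i j; rfl
    rw [hmap] at hX
    rw [h₂.eq_gram, show (RingEquiv.refl F) ∘ ((X : Matrix (Fin 3) (Fin 3) F) *ᵥ v) = (X : Matrix (Fin 3) (Fin 3) F) *ᵥ v from rfl,
      ← vecMul_transpose, ← dotProduct_mulVec, mulVec_mulVec, mulVec_mulVec, hX, smul_mulVec, one_mulVec,
      dotProduct_smul, smul_eq_mul]
  set b : Fin 3 → (Fin 3 → F) := fun j => (X : Matrix (Fin 3) (Fin 3) F) *ᵥ Pi.single j 1 with hbdef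
  have hb : ∀ j, f₂ (b j) (b j) ≠ 0 := fun j => by rw [hfX]; simp [hs]
  have ho : ∀ i j, i ≠ j → f₂ (b i) (b j) = 0 := fun i j hij => by rw [hfX]; simp [Ne.symm hij]
  let L : (Fin 3 → F) → (Fin n₁ → F) →ₗ[F] (ι → F) := fun y =>
    { toFun := fun x => (P : Matrix ι ι F) *ᵥ ((fun z => x z.1 * y z.2) ∘ e)
      map_add' := fun x x' => by rw [← mulVec_add]; congr 1; funext i; simp [add_mul]
      map_smul' := fun a x => by rw [RingHom.id_apply, ← mulVec_smul]; congr 1; funext i; simp [mul_assoc] }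
  have hbne : ∀ j, b j ≠ 0 := fun j h => hb j (by rw [h]; exact h₂.zero_left _)
  have hL : ∀ j, Function.Injective (L (b j)) := by
    intro j
    rw [← LinearMap.ker_eq_bot, Submodule.eq_bot_iff]
    intro x hx
    have h1 : (fun z => x z.1 * b j z.2) ∘ e = (0 : ι → F) := mulVec_injective_GL P (by
      rw [Matrix.toLin'_apply, Matrix.toLin'_apply, mulVec_zero]; exact hx)
    obtain ⟨k, hk⟩ := Function.ne_iff.mp (hbne j)
    funext i
    have h2 := congrFun h1 (e.symm (i, k))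
    simp only [Function.comp_apply, Equiv.apply_symm_apply, Pi.zero_apply, mul_eq_zero] at h2
    exact h2.resolve_right hk
  let D : Fin 3 → Submodule F (ι → F) := fun j => LinearMap.range (L (b j))
  have hrank : ∀ j, Module.finrank F (D j) = n₁ := fun j => by
    rw [LinearMap.finrank_range_of_inj (hL j), Module.finrank_fintype_fun_eq_card, Fintype.card_fin]
  have hnd : ∀ j, IsNondegenerateOn f (D j) := by
    rintro j _ ⟨x, rfl⟩ hx
    obtain ⟨⟨a, ha⟩, a', ha'⟩ := hf₁.nondegenerate x (fun h => hx (by rw [h, map_zero]))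
    exact ⟨⟨_, ⟨a, rfl⟩, (key _ _ _ _).trans_ne (mul_ne_zero hc (mul_ne_zero ha (hb j)))⟩,
      _, ⟨a', rfl⟩, (key _ _ _ _).trans_ne (mul_ne_zero hc (mul_ne_zero ha' (hb j)))⟩
  have horth : ∀ i j, i ≠ j → AreOrthogonalFor f (D i) (D j) := by
    rintro i j hij _ ⟨x, rfl⟩ _ ⟨x', rfl⟩
    exact (key _ _ _ _).trans (by rw [ho i j hij, mul_zero, mul_zero])
  have hspan : ∀ y : Fin 3 → F, ∀ x, L y x ∈ ⨆ j, D j := by
    intro y x
    have hy : y = ∑ j, (((X⁻¹ : GL (Fin 3) F) : Matrix (Fin 3) (Fin 3) F) *ᵥ y) j • b j := by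
      simp only [hbdef, ← mulVec_smul, ← mulVec_sum]
      conv_lhs => rw [← CfsgLib.Geo.mulVec_inv_mulVec X y]
      congr 1
      funext k
      simp [Finset.sum_apply, Pi.single_apply]
    have hlin : L y x = ∑ j, (((X⁻¹ : GL (Fin 3) F) : Matrix (Fin 3) (Fin 3) F) *ᵥ y) j • L (b j) x := by
      show _ *ᵥ _ = ∑ j, _ • (_ *ᵥ _)
      simp only [← mulVec_smul, ← mulVec_sum]
      congr 1
      funext i
      conv_lhs => rw [Function.comp_apply, hy]
      simp only [Finset.sum_apply, Function.comp_apply, Pi.smul_apply, smul_eq_mul, Finset.mul_sum]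
      exact Finset.sum_congr rfl fun j _ => by ring
    rw [hlin]
    exact Submodule.sum_mem _ fun j _ => Submodule.smul_mem _ _ (Submodule.mem_iSup_of_mem j ⟨x, rfl⟩)
  have htop : iSup D = ⊤ := by
    rw [eq_top_iff]
    intro v _
    have hv : v = ∑ z : Fin n₁ × Fin 3, (((P⁻¹ : GL ι F) : Matrix ι ι F) *ᵥ v) (e.symm z) •
        L (Pi.single z.2 1) (Pi.single z.1 1) := by
      show _ = ∑ z : Fin n₁ × Fin 3, _ • ((P : Matrix ι ι F) *ᵥ _)
      simp only [← mulVec_smul, ← mulVec_sum]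
      conv_lhs => rw [← CfsgLib.Geo.mulVec_inv_mulVec P v]
      congr 1
      funext i
      rw [Finset.sum_apply, Finset.sum_eq_single (e i)]
      · simp
      · intro z _ hz
        obtain ⟨z1, z2⟩ := z
        by_cases h1 : (e i).1 = z1 <;> by_cases h2 : (e i).2 = z2
        · exact absurd (Prod.ext h1.symm h2.symm) hz
        all_goals simp [h1, h2, Pi.single_apply]
      · simp
    rw [hv]
    exact Submodule.sum_mem _ fun z _ => Submodule.smul_mem _ _ (hspan _ _)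
  have hind : iSupIndep D := by
    intro i
    rw [Submodule.disjoint_def]
    intro w hw hw'
    by_contra hw0
    obtain ⟨⟨x, hx, hne⟩, -⟩ := hnd i w hw hw0
    obtain ⟨a, rfl⟩ := hx
    let φ : (ι → F) →ₗ[F] F :=
      { toFun := fun v => f (L (b i) a) v
        map_add' := fun v v' => hfb.add_right _ _ _
        map_smul' := fun r v => hfb.smul_right _ _ _ }
    have hker : (⨆ (j) (_ : j ≠ i), D j) ≤ LinearMap.ker φ := iSup₂_le fun j hj u hu =>
      horth i j (Ne.symm hj) _ ⟨a, rfl⟩ u hu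
    exact hne (hker hw')
  refine ⟨D, ⟨⟨by norm_num, hn₁, hrank, hind, htop⟩, hnd, horth⟩, fun g hg => ?_⟩
  obtain ⟨_, ⟨Y, ⟨A, B, hAB⟩, rfl⟩, hYg⟩ := hG hg
  have hgP : ∀ x y, (g : Matrix ι ι F) *ᵥ L y x =
      L ((B : Matrix _ _ F) *ᵥ y) ((A : Matrix _ _ F) *ᵥ x) := by
    intro x y
    have h1 : (g : Matrix ι ι F) = (P : Matrix ι ι F) * (Y : Matrix _ _ F).submatrix e e * ((P⁻¹ : GL ι F) : Matrix ι ι F) := by
      rw [← hYg]; rfl
    show (g : Matrix ι ι F) *ᵥ ((P : Matrix ι ι F) *ᵥ _) = (P : Matrix ι ι F) *ᵥ _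
    rw [h1, ← mulVec_mulVec, ← mulVec_mulVec, CfsgLib.Geo.inv_mulVec_mulVec, submatrix_mulVec_equiv]
    congr 1
    funext i
    simp only [Function.comp_apply, hAB, mulVec, dotProduct, kroneckerMap_apply, Fintype.sum_prod_type,
      Finset.sum_mul, Finset.mul_sum, Equiv.apply_symm_apply]
    rw [Finset.sum_comm]
    exact Finset.sum_congr rfl fun k _ => Finset.sum_congr rfl fun l _ => by ring
  have hgf : ∀ x x' y y', f₁ ((A : Matrix _ _ F) *ᵥ x) ((A : Matrix _ _ F) *ᵥ x') *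
      f₂ ((B : Matrix _ _ F) *ᵥ y) ((B : Matrix _ _ F) *ᵥ y') = f₁ x x' * f₂ y y' := by
    intro x x' y y'
    have h1 := hfix _ (coe_mem_matrixSet hg) (L y x) (L y' x')
    rw [hgP, hgP] at h1
    exact mul_left_cancel₀ hc (((key _ _ _ _).symm.trans h1).trans (key _ _ _ _))
  obtain ⟨-, x', hx'⟩ := hf₁.nondegenerate (Pi.single ⟨0, hn₁⟩ 1) (by simp)
  set x₀ : Fin n₁ → F := Pi.single ⟨0, hn₁⟩ 1
  set u := f₁ ((A : Matrix _ _ F) *ᵥ x₀) ((A : Matrix _ _ F) *ᵥ x') / f₁ x₀ x' with hu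
  set B' := ((X⁻¹ : GL (Fin 3) F) : Matrix (Fin 3) (Fin 3) F) * (B : Matrix _ _ F) * (X : Matrix (Fin 3) (Fin 3) F)
  have hB' : ∀ z, (B : Matrix (Fin 3) (Fin 3) F) *ᵥ ((X : Matrix (Fin 3) (Fin 3) F) *ᵥ z) =
      (X : Matrix (Fin 3) (Fin 3) F) *ᵥ (B' *ᵥ z) := fun z => by
    simp only [B', ← mulVec_mulVec]
    rw [CfsgLib.Geo.mulVec_inv_mulVec]
  have hu0 : u ≠ 0 := by
    refine div_ne_zero (fun h0 => ?_) hx'
    have := hgf x₀ x' (b 0) (b 0)
    rw [h0, zero_mul] at this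
    exact mul_ne_zero hx' (hb 0) this.symm
  have hBB : B'ᵀ * B' = u⁻¹ • 1 := by
    ext i j
    have h1 := hgf x₀ x' (b i) (b j)
    simp only [hbdef, hB', hfX] at h1
    rw [Matrix.mul_apply, Matrix.smul_apply, Matrix.one_apply, smul_eq_mul]
    have h3 : (B' *ᵥ Pi.single i 1) ⬝ᵥ (B' *ᵥ Pi.single j 1) = ∑ k, B'ᵀ i k * B' k j := by
      simp [dotProduct]
    rw [h3] at h1
    have h4 : (Pi.single i 1 : Fin 3 → F) ⬝ᵥ Pi.single j 1 = if i = j then 1 else 0 := by
      simp [Pi.single_apply, eq_comm]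
    rw [h4] at h1
    have h5 : u * (∑ k, B'ᵀ i k * B' k j) = if i = j then 1 else 0 := by
      refine mul_left_cancel₀ hx' (mul_left_cancel₀ hs ?_)
      rw [hu, ← mul_assoc (f₁ x₀ x'), mul_div_cancel₀ _ hx']
      linear_combination h1
    rw [← h5, ← mul_assoc, inv_mul_cancel₀ hu0, one_mul]
  choose ψ hψ using fun j => monomial_of_three hq (inv_ne_zero hu0) hBB j
  have hmap : ∀ j, (D j).map (Matrix.toLin' (g : Matrix ι ι F)) = D (ψ j) := by
    intro j
    refine Submodule.eq_of_le_of_finrank_eq ?_ ?_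
    · rintro _ ⟨_, ⟨x, rfl⟩, rfl⟩
      refine ⟨B' (ψ j) j • ((A : Matrix _ _ F) *ᵥ x), ?_⟩
      rw [Matrix.toLin'_apply, hgP]
      have hcol : B' *ᵥ Pi.single j 1 = B' (ψ j) j • Pi.single (ψ j) 1 := by
        funext l
        by_cases hl : l = ψ j
        · subst hl; simp
        · simp [(hψ j).2 l hl, hl]
      simp only [hbdef, hB', hcol, mulVec_smul]
      show _ *ᵥ _ = _ *ᵥ _
      congr 1
      funext i
      simp; ring
    · rw [← (Submodule.equivMapOfInjective _ (mulVec_injective_GL g) _).finrank_eq, hrank, hrank]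
  have hinj : Function.Injective ψ := by
    intro x y hxy
    by_contra hne
    have h1 := Submodule.map_injective_of_injective (mulVec_injective_GL g)
      (((hmap x).trans (congrArg D hxy)).trans (hmap y).symm)
    have h2 := disjoint_iff.mp (hind.pairwiseDisjoint hne)
    rw [h1, inf_idem] at h2
    have := hrank y
    rw [h2, finrank_bot] at this
    omega
  exact ⟨Equiv.ofBijective ψ ⟨hinj, Finite.surjective_of_injective hinj⟩, hmap⟩

end CfsgLib.Aschbacher
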