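import Cfsg.Agent.Aschbacher.Form.TensorNine

/-!
Aschbacher's theorem for groups of isometries of a unitary form.
-/
set_option autoImplicit false
set_option maxHeartbeats 1000000

namespace CfsgLib.Aschbacher

open Matrix Cfsg.Geo CfsgLib.GeoClifford
open scoped MatrixGroups Kronecker commutatorElement

variable {ι : Type} [Fintype ι] [DecidableEq ι] {F : Type*} [Field F] [Fintype F]

/-- The outcomes of Aschbacher's theorem for a unitary form. -/
def UnitaryOutcome (σ : F ≃+* F) (f : (ι → F) → (ι → F) → F) (G : Subgroup (GL ι F)) : Prop :=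
  (∃ W : Submodule F (ι → F), W ≠ ⊥ ∧ IsTotallySingularFor f W ∧ G ≤ subspaceStabilizer W) ∨
  (∃ W : Submodule F (ι → F), W ≠ ⊥ ∧ IsNondegenerateOn f W ∧ 2 * Module.finrank F W < Fintype.card ι ∧
    G ≤ subspaceStabilizer W) ∨
  (∃ (t m : ℕ) (D : Fin t → Submodule F (ι → F)), IsNondegenerateMDecomposition f m D ∧
    G ≤ decompositionStabilizer D) ∨
  (∃ (m : ℕ) (D : Fin 2 → Submodule F (ι → F)), 2 * m = Fintype.card ι ∧ IsMDecomposition m D ∧
    (∀ i, IsTotallySingularFor f (D i)) ∧ G ≤ decompositionStabilizer D) ∨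
  (∃ (r : ℕ) (K : Subalgebra F (Matrix ι ι F)), r.Prime ∧ Odd r ∧ IsFieldSubalgebra r K ∧
    IsAdjointClosedFor f K ∧ G ≤ subalgebraNormalizer K) ∨
  (∃ (n₁ n₂ : ℕ) (e : ι ≃ Fin n₁ × Fin n₂) (P : GL ι F) (f₁ : (Fin n₁ → F) → (Fin n₁ → F) → F)
      (f₂ : (Fin n₂ → F) → (Fin n₂ → F) → F), 2 ≤ n₁ ∧ n₁ < n₂ ∧ IsUnitaryForm σ f₁ ∧ IsUnitaryForm σ f₂ ∧
      IsTensorFormStructure σ f f₁ f₂ e P ∧ G ≤ tensorProductSubgroup n₁ n₂ e P) ∨
  (∃ (F₀ : Subfield F) (r : ℕ) (P : GL ι F) (ζ : F), r.Prime ∧ Fintype.card F = Nat.card F₀ ^ r ∧ ζ ≠ 0 ∧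
      IsFormRationalStructure f F₀ ζ P ∧ G ≤ subfieldSubgroup F₀ P ∧
      ((ζ = 1 ∧ (Odd r ∨ (r = 2 ∧ Odd (Fintype.card F)))) ∨
       (r = 2 ∧ Even (Fintype.card ι) ∧ ζ + σ ζ = 0 ∧
        ∀ u : ι → F, (∀ i, u i ∈ F₀) → f ((P : Matrix ι ι F) *ᵥ u) ((P : Matrix ι ι F) *ᵥ u) = 0))) ∨
  (∃ (r : ℕ) (R : Subgroup (GL ι F)) (p e k : ℕ), IsSymplecticTypeGroup r R ∧
      ActsAbsolutelyIrreducibly (matrixSet R) ∧ R ≤ similarityGroup f ∧ r ≠ p ∧
      IsMinimalFieldFor (Nat.card (Subgroup.center R)) p e F ∧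
      ((Odd r ∧ Nat.card (Subgroup.center R) = r ∧ 1 ≤ k ∧ Nat.card R = r ^ (1 + 2 * k)) ∨
       (r = 2 ∧ e = 2 ∧ Nat.card (Subgroup.center R) = 4 ∧ Nat.card R = 2 ^ (2 + 2 * k))) ∧
      ⁅R, R⁆ ≤ scalars ι F ∧ Fintype.card ι = r ^ k ∧ G ≤ subgroupNormalizer R) ∨
  (∃ (k t : ℕ) (e : ι ≃ (Fin t → Fin k)) (P : GL ι F) (f₁ : (Fin k → F) → (Fin k → F) → F),
      3 ≤ k ∧ 2 ≤ t ∧ ¬ (Fintype.card F = 4 ∧ k = 3) ∧ IsUnitaryForm σ f₁ ∧
      IsTensorPowerFormStructure σ f f₁ e P ∧ G ≤ tensorWreathSubgroup k t e P) ∨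
  InUnitaryResidualClass G

/-- Changing coordinates in both factors. -/
lemma IsTensorGram.congr {σ : F ≃+* F} {f : (ι → F) → (ι → F) → F} {G : Subgroup (GL ι F)} {n₁ n₂ : ℕ}
    {e : ι ≃ Fin n₁ × Fin n₂} {P : GL ι F} {B : Matrix (Fin n₁) (Fin n₁) F} {C : Matrix (Fin n₂) (Fin n₂) F}
    (h : IsTensorGram σ f G e P B C) (X : GL (Fin n₁) F) (Y : GL (Fin n₂) F) {B' : Matrix (Fin n₁) (Fin n₁) F}
    {C' : Matrix (Fin n₂) (Fin n₂) F} (hB' : IsUnit B') (hC' : IsUnit C')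
    (hX : (X : Matrix (Fin n₁) (Fin n₁) F)ᵀ * B * (X : Matrix (Fin n₁) (Fin n₁) F).map σ = B')
    (hY : (Y : Matrix (Fin n₂) (Fin n₂) F)ᵀ * C * (Y : Matrix (Fin n₂) (Fin n₂) F).map σ = C') :
    ∃ P' : GL ι F, IsTensorGram σ f G e P' B' C' := by
  let XY : GL (Fin n₁ × Fin n₂) F :=
    ⟨(X : Matrix (Fin n₁) (Fin n₁) F) ⊗ₖ (Y : Matrix (Fin n₂) (Fin n₂) F),
      ((X⁻¹ : GL (Fin n₁) F) : Matrix (Fin n₁) (Fin n₁) F) ⊗ₖ ((Y⁻¹ : GL (Fin n₂) F) : Matrix (Fin n₂) (Fin n₂) F),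
      by rw [← mul_kronecker_mul, Units.mul_inv, Units.mul_inv, one_kronecker_one],
      by rw [← mul_kronecker_mul, Units.inv_mul, Units.inv_mul, one_kronecker_one]⟩
  set T : GL ι F := glReindex e.symm XY with hT
  have hTv : (T : Matrix ι ι F) =
      ((X : Matrix (Fin n₁) (Fin n₁) F) ⊗ₖ (Y : Matrix (Fin n₂) (Fin n₂) F)).submatrix e e := rfl
  have hTi : ((T⁻¹ : GL ι F) : Matrix ι ι F) = (((X⁻¹ : GL (Fin n₁) F) : Matrix (Fin n₁) (Fin n₁) F) ⊗ₖ
      ((Y⁻¹ : GL (Fin n₂) F) : Matrix (Fin n₂) (Fin n₂) F)).submatrix e e := rfl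
  refine ⟨P * T, h.two_le_left, h.two_le_right, ?_, hB', hC', fun x hx => ?_⟩
  · rw [Units.val_mul]
    calc _ = (T : Matrix ι ι F)ᵀ * ((P : Matrix ι ι F)ᵀ * gramMatrix f * (P : Matrix ι ι F).map σ) *
          (T : Matrix ι ι F).map σ := by rw [transpose_mul, Matrix.map_mul]; simp only [mul_assoc]
      _ = _ := by
        rw [h.gram, hTv, transpose_submatrix, ← Matrix.kroneckerMap_transpose, map_kronecker_submatrix, coords_mul,
          coords_mul, hX, hY]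
  · obtain ⟨g, b, hgb⟩ := h.kron x hx
    refine ⟨X⁻¹ * g * X, Y⁻¹ * b * Y, ?_⟩
    calc _ = ((T⁻¹ : GL ι F) : Matrix ι ι F) * (((P⁻¹ : GL ι F) : Matrix ι ι F) * (x : Matrix ι ι F) *
          (P : Matrix ι ι F)) * (T : Matrix ι ι F) := by
          rw [_root_.mul_inv_rev, Units.val_mul, Units.val_mul]; simp only [mul_assoc]
      _ = _ := by rw [hgb, hTi, hTv, coords_mul, coords_mul]; simp only [Units.val_mul]

/-- Two equal factors with the same Gram matrix form a tensor square. -/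
lemma IsTensorGram.toPower {σ : F ≃+* F} {f : (ι → F) → (ι → F) → F} {G : Subgroup (GL ι F)} {k : ℕ}
    {e : ι ≃ Fin k × Fin k} {P : GL ι F} {B : Matrix (Fin k) (Fin k) F} (h : IsTensorGram σ f G e P B B) :
    IsPowerGram σ f G (e.trans (piFinTwoEquiv fun _ : Fin 2 => Fin k).symm) P B (1 : F) := by
  refine ⟨one_ne_zero, h.unit_left, ?_, fun x hx => ?_⟩
  · rw [h.gram, one_smul]
    ext i j
    simp [tens, Fin.prod_univ_two, Matrix.kroneckerMap_apply]
  · obtain ⟨g, b, hgb⟩ := h.kron x hx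
    refine ⟨![g, b], 1, 1, one_ne_zero, ?_⟩
    rw [hgb, one_smul]
    ext i j
    simp [mul_permMat_apply, Equiv.Perm.one_def, tens, Fin.prod_univ_two, Matrix.kroneckerMap_apply]

/-- Aschbacher's theorem for groups of isometries of a unitary form. -/
theorem unitary_structure {σ : F ≃+* F} {f : (ι → F) → (ι → F) → F} (hf : IsUnitaryForm σ f)
    (hn : 3 ≤ Fintype.card ι) {G : Subgroup (GL ι F)} (hfix : FixesForm (matrixSet G) f) :
    UnitaryOutcome σ f G := by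
  classical
  have : Nonempty ι := Fintype.card_pos_iff.mp (by omega)
  have hR := isRefl_of_unitary hf
  have hfixN : ∀ {N : Subgroup (GL ι F)}, N ≤ G → FixesForm (matrixSet N) f := fun hN s hs => by
    obtain ⟨x, hx, rfl⟩ := hs
    exact hfix _ (coe_mem_matrixSet (hN hx))
  have hσ := hf.ne_refl
  have hinv := hf.involutive
  have hsub : ∀ (F₁ : Subfield F) (r : ℕ) (P : GL ι F) (ζ : F), r.Prime → Fintype.card F = Nat.card F₁ ^ r → ζ ≠ 0 →
      IsFormRationalStructure f F₁ ζ P → G ≤ subfieldSubgroup F₁ P →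
      ((ζ = 1 ∧ (Odd r ∨ (r = 2 ∧ Odd (Fintype.card F)))) ∨
       (r = 2 ∧ Even (Fintype.card ι) ∧ ζ + σ ζ = 0 ∧
        ∀ u : ι → F, (∀ i, u i ∈ F₁) → f ((P : Matrix ι ι F) *ᵥ u) ((P : Matrix ι ι F) *ᵥ u) = 0)) →
      UnitaryOutcome σ f G := fun F₁ r P ζ h1 h2 h3 h4 h5 h6 =>
    Or.inr (Or.inr (Or.inr (Or.inr (Or.inr (Or.inr (Or.inl ⟨F₁, r, P, ζ, h1, h2, h3, h4, h5, h6⟩))))))
  have hsubfield : ∀ N, NormSub G N → ActsAbsolutelyIrreducibly (matrixSet N) → ∀ F₀ : Subfield F, F₀ ≠ ⊤ →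
      RealisableOver F₀ (matrixSet N) → UnitaryOutcome σ f G := fun N hN habs F₀ h0 hre => by
    obtain ⟨F₁, r, P, ζ, h1, h2, h3, h4, h5, h6⟩ :=
      exists_formRational_unitary' (by omega) hf habs hN (hfixN hN.1) h0 hre
    exact hsub F₁ r P ζ h1 h2 h3 h4 h5 h6
  have hdecomp : HasFormDecomposition f G → UnitaryOutcome σ f G := by
    rintro (⟨t, m, D, hD, hG⟩ | ⟨m, D, hm, hD, hts, hG⟩)
    · exact Or.inr (Or.inr (Or.inl ⟨t, m, D, hD, hG⟩))
    · exact Or.inr (Or.inr (Or.inr (Or.inl ⟨m, D, hm, hD, hts, hG⟩)))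
  -- a tensor power whose factor is the standard form
  have hpow : ∀ {k t : ℕ} {e : ι ≃ (Fin t → Fin k)} {P : GL ι F} {c : F}, 2 ≤ t → 2 ≤ k →
      IsPowerGram σ f G e P (1 : Matrix (Fin k) (Fin k) F) c → ¬ (Fintype.card F = 4 ∧ k = 3) →
      UnitaryOutcome σ f G := by
    intro k t e P c ht hk hP hex
    by_cases hk3 : 3 ≤ k
    · exact Or.inr (Or.inr (Or.inr (Or.inr (Or.inr (Or.inr (Or.inr (Or.inr (Or.inl
        ⟨k, t, e, P, _, hk3, ht, hex,
          isUnitaryForm_formOf hσ hinv isUnit_one (by rw [transpose_one, Matrix.map_one _ (map_zero σ) (map_one σ)]),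
          hP.structure_eq hR.sesq, hP.le_wreath (by omega)⟩))))))))
    · obtain rfl : k = 2 := by omega
      obtain ⟨F₁, r, P', ζ, h1, h2, h3, h4, h5, h6⟩ := exists_formRational_power_two (by omega) hf hfix hP
      exact hsub F₁ r P' ζ h1 h2 h3 h4 h5 h6
  rcases hR.form_structure hn hfix (Or.inl hσ) with
    (⟨W, h0, hW, hGW⟩ | ⟨W, h0, hW, hd, hGW⟩) | ⟨hD, -⟩ | ⟨hirr, h⟩
  · exact Or.inl ⟨W, h0, hW, hGW⟩
  · exact Or.inr (Or.inl ⟨W, h0, hW, hd, hGW⟩)
  · exact hdecomp hD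
  rcases h with ⟨r, K, hK, hK0, hst, hadj⟩ | ⟨n₁, n₂, e, P, B, C, hT⟩ |
    ⟨t, d, e, P, B, c, ht, hd, hP, K, hK0, hKp, hKf⟩ | ⟨N, hN, habs, h⟩
  · have hodd := hR.odd_field_degree hσ hK hadj
    have hr1 : r ≠ 1 := by rintro rfl; exact hK0 (fieldSubalgebra_eq_bot hK.finrank_eq)
    obtain ⟨s, hs, hsr⟩ := Nat.exists_prime_and_dvd hr1
    obtain ⟨L, hL, hle, hmem⟩ := exists_subfield_algebra' hK hsr hs.pos
    refine Or.inr (Or.inr (Or.inr (Or.inr (Or.inl ⟨s, L, hs, hodd.of_dvd_nat hsr, hL, hR.isAdjointClosedFor ?_,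
      le_subalgebraNormalizer fun g hg x hx => ?_⟩))))
    · exact fun x hx => (hmem _ (hadj x (hle hx))).mp (by rw [← hR.adj_pow, (hmem x (hle hx)).mpr hx])
    · exact (hmem _ (hst g hg x (hle hx))).mp (by rw [Units.conj_pow, (hmem x (hle hx)).mpr hx])
  · obtain ⟨a, ha, hB, hC⟩ := hR.tensor_sym hT
    rw [one_smul] at hC
    obtain ⟨s, hs0, hs⟩ := exists_herm_scalar hσ hinv ha
    have ha0 : a ≠ 0 := fun h0 => by simp [h0] at ha
    have hT' := hT.smul hs0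
    have hBh := smul_herm hinv hB hs
    have hCh : (s⁻¹ • C)ᵀ = (s⁻¹ • C).map σ := by
      ext i j
      have e1 := congrFun (congrFun hC i) j
      simp only [transpose_apply, Matrix.smul_apply, Matrix.map_apply, smul_eq_mul] at e1 ⊢
      rw [map_mul, map_inv₀, hs, ← e1, mul_inv, mul_assoc, ← mul_assoc a⁻¹, inv_mul_cancel₀ ha0, one_mul]
    rcases lt_trichotomy n₁ n₂ with hlt | heq | hgt
    · exact Or.inr (Or.inr (Or.inr (Or.inr (Or.inr (Or.inl ⟨n₁, n₂, e, P, _, _, hT.two_le_left, hlt,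
        isUnitaryForm_formOf hσ hinv hT'.unit_left hBh, isUnitaryForm_formOf hσ hinv hT'.unit_right hCh,
        hT'.structure_eq hR.sesq, hT'.le_tensorProductSubgroup⟩)))))
    · subst heq
      obtain ⟨X, hX⟩ := exists_congr_one hσ hinv hT'.unit_left hBh
      obtain ⟨Y, hY⟩ := exists_congr_one hσ hinv hT'.unit_right hCh
      obtain ⟨P', hT1⟩ := hT'.congr X Y isUnit_one isUnit_one hX hY
      by_cases hex : Fintype.card F = 4 ∧ n₁ = 3
      · obtain ⟨hq, rfl⟩ := hex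
        exact Or.inr (Or.inr (Or.inr (Or.inr (Or.inr (Or.inr (Or.inr (Or.inl
          (exists_classSix_tensor_nine hq hf hfix hT1))))))))
      · exact hpow le_rfl hT.two_le_left hT1.toPower hex
    · have hT2 := hT'.swap
      exact Or.inr (Or.inr (Or.inr (Or.inr (Or.inr (Or.inl ⟨n₂, n₁, _, P, _, _, hT.two_le_right, hgt,
        isUnitaryForm_formOf hσ hinv hT2.unit_left hCh, isUnitaryForm_formOf hσ hinv hT2.unit_right hBh,
        hT2.structure_eq hR.sesq, hT2.le_tensorProductSubgroup⟩)))))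
  · obtain ⟨a, ha, hB, -⟩ := hP.sym hR (by omega) (by omega)
    obtain ⟨s, hs0, hs⟩ := exists_herm_scalar hσ hinv ha
    have hsBu : IsUnit (s • B) := by simpa [Units.smul_def] using hP.unit.smul (Units.mk0 s hs0)
    obtain ⟨X, hX⟩ := exists_congr_one hσ hinv hsBu (smul_herm hinv hB hs)
    rw [mul_smul_comm, smul_mul_assoc] at hX
    have hX1 : (X : Matrix (Fin d) (Fin d) F)ᵀ * B * (X : Matrix (Fin d) (Fin d) F).map σ = s⁻¹ • 1 := by
      rw [← hX, smul_smul, inv_mul_cancel₀ hs0, one_smul]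
    obtain ⟨P', c', hP'⟩ := hP.congr X isUnit_one (inv_ne_zero hs0) hX1
    refine hpow ht hd hP' ?_
    rintro ⟨hq, rfl⟩
    -- no perfect isometries in dimension three over four elements
    apply hK0
    have hmap : K.map (MulAut.conj X⁻¹).toMonoidHom = ⊥ := by
      refine perfect_eq_bot_of_GU_three_two hq (σ := σ) ?_ (by rw [← Subgroup.map_commutator, hKp]) ?_
      · intro x
        by_cases hx : x = 0
        · simp [hx]
        have h3 := FourElements.cube_eq_one hq hx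
        have hc := card_eq_sq_fixSubfield hσ hinv
        rw [hq, show (4 : ℕ) = 2 ^ 2 by norm_num] at hc
        have hc2 : Nat.card (fixSubfield σ) = 2 := (Nat.pow_left_injective two_ne_zero hc).symm
        have hnorm : x * σ x ∈ fixSubfield σ := by show σ _ = _; rw [map_mul, hinv, mul_comm]
        rw [mem_subfield_iff, hc2, pow_two] at hnorm
        have hσx : σ x ≠ 0 := by simpa using hx
        have h1 : x * σ x = 1 := (mul_eq_left₀ (mul_ne_zero hx hσx)).mp hnorm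
        calc σ x = x ^ 3 * σ x := by rw [h3, one_mul]
          _ = x ^ 2 * (x * σ x) := by ring
          _ = x ^ 2 := by rw [h1, mul_one]
      · rintro _ ⟨g, hg, rfl⟩
        show ((X⁻¹ * g * X⁻¹⁻¹ : GL (Fin 3) F) : Matrix (Fin 3) (Fin 3) F)ᵀ *
          ((X⁻¹ * g * X⁻¹⁻¹ : GL (Fin 3) F) : Matrix (Fin 3) (Fin 3) F).map σ = 1
        set A := (X : Matrix (Fin 3) (Fin 3) F)
        set A' := ((X⁻¹ : GL (Fin 3) F) : Matrix (Fin 3) (Fin 3) F)
        have hA : A * A' = 1 := Units.mul_inv X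
        have h1 : (A'ᵀ * A'.map σ) = s • B := by
          calc A'ᵀ * A'.map σ = A'ᵀ * (Aᵀ * (s • B) * A.map σ) * A'.map σ := by
                rw [mul_smul_comm, smul_mul_assoc, hX, mul_one]
            _ = (A * A')ᵀ * (s • B) * (A * A').map σ := by rw [transpose_mul, Matrix.map_mul]; simp only [mul_assoc]
            _ = _ := by rw [hA, transpose_one, one_mul, Matrix.map_one _ (map_zero σ) (map_one σ), mul_one]
        rw [inv_inv, Units.val_mul, Units.val_mul]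
        calc _ = Aᵀ * ((g : Matrix (Fin 3) (Fin 3) F)ᵀ * (A'ᵀ * A'.map σ) * (g : Matrix (Fin 3) (Fin 3) F).map σ) *
              A.map σ := by simp only [transpose_mul, Matrix.map_mul, mul_assoc]; rfl
          _ = 1 := by
            rw [h1, mul_smul_comm, smul_mul_assoc, hKf g hg, mul_smul_comm, smul_mul_assoc, hX]
    rwa [Subgroup.map_eq_bot_iff_of_injective K (MulAut.conj X⁻¹).injective] at hmap
  rcases h with ⟨F₀, h0, hre⟩ | ⟨hσ1, -⟩ | ⟨-, r, p, e, k, hS, hrp, hmin, hdata, hcl, hdim⟩ | hcore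
  · exact hsubfield N hN habs F₀ h0 hre
  · exact absurd hσ1 hσ
  · exact Or.inr (Or.inr (Or.inr (Or.inr (Or.inr (Or.inr (Or.inr (Or.inl
      ⟨r, N, p, e, k, hS, habs, fun g hg => ⟨1, fun u v => by
        rw [Units.val_one, one_mul]; exact hfixN hN.1 _ (coe_mem_matrixSet hg) u v⟩,
        hrp, hmin, hdata, hcl, hdim, subgroupNormalizer_of_normSub hN⟩)))))))
  by_cases hQ : ∃ Q : (ι → F) → F, IsNondegenerateQuadraticForm Q ∧ FixesQuadForm (matrixSet N) Q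
  · obtain ⟨Q, hQ, hQfix⟩ := hQ
    exact hsubfield N hN habs (fixSubfield σ) (fixSubfield_ne_top hσ)
      (realisable_of_two_forms habs hf (hfixN hN.1) hQ.polar_bilinear hQ.nondegenerate fun s hs u v => by
        simp only [QuadraticMap.polar, ← mulVec_add, hQfix s hs])
  by_cases hS : ∃ g : (ι → F) → (ι → F) → F, IsSymplecticForm g ∧ FixesForm (matrixSet N) g
  · obtain ⟨g, hg, hgfix⟩ := hS
    exact hsubfield N hN habs (fixSubfield σ) (fixSubfield_ne_top hσ)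
      (realisable_of_two_forms habs hf (hfixN hN.1) hg.bilinear hg.nondegenerate hgfix)
  exact Or.inr (Or.inr (Or.inr (Or.inr (Or.inr (Or.inr (Or.inr (Or.inr (Or.inr ⟨N, hcore, hQ, hS⟩))))))))

end CfsgLib.Aschbacher
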