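import Mathlib.Data.List.Basic

/-!
Concrete data for the normaliser of a field of degree five in the unitary group of dimension five over four elements:
the companion matrix `comp5` of an element of order eleven, the Frobenius `frb`, a further involution `invo` and an
orbit of points they preserve.
-/
set_option autoImplicit false
set_option maxRecDepth 20000

namespace CfsgLib.Aschbacher.FiveData

/-- The four elements: zero, one, a cube root of unity and its square. -/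
inductive Q4
  | z | o | u | w
  deriving DecidableEq

namespace Q4

/-- Sum. -/
def add : Q4 → Q4 → Q4
  | z, b => b
  | a, z => a
  | o, o => z
  | o, u => w
  | o, w => u
  | u, o => w
  | u, u => z
  | u, w => o
  | w, o => u
  | w, u => o
  | w, w => z

/-- Product. -/
def mul : Q4 → Q4 → Q4
  | z, _ => z
  | _, z => z
  | o, b => b
  | a, o => a
  | u, u => w
  | u, w => o
  | w, u => o
  | w, w => u

/-- The involution. -/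
def conj : Q4 → Q4
  | u => w
  | w => u
  | a => a

/-- All elements. -/
def all : List Q4 := [z, o, u, w]

theorem mem_all (a : Q4) : a ∈ all := by cases a <;> decide

end Q4

/-- A vector with five coordinates. -/
structure V5 where
  a : Q4
  b : Q4
  c : Q4
  d : Q4
  e : Q4
  deriving DecidableEq

/-- Five columns. -/
structure M5 where
  a : V5
  b : V5
  c : V5
  d : V5
  e : V5
  deriving DecidableEq

namespace V5

/-- Sum. -/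
def add (x y : V5) : V5 := ⟨x.a.add y.a, x.b.add y.b, x.c.add y.c, x.d.add y.d, x.e.add y.e⟩

/-- Scalar multiple. -/
def smul (s : Q4) (x : V5) : V5 := ⟨s.mul x.a, s.mul x.b, s.mul x.c, s.mul x.d, s.mul x.e⟩

/-- Coordinatewise involution. -/
def conj (x : V5) : V5 := ⟨x.a.conj, x.b.conj, x.c.conj, x.d.conj, x.e.conj⟩

/-- Bilinear pairing. -/
def dot (x y : V5) : Q4 := ((((x.a.mul y.a).add (x.b.mul y.b)).add (x.c.mul y.c)).add (x.d.mul y.d)).add (x.e.mul y.e)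

/-- All vectors. -/
def all : List V5 :=
  Q4.all.flatMap fun a => Q4.all.flatMap fun b => Q4.all.flatMap fun c => Q4.all.flatMap fun d => Q4.all.map fun e =>
    ⟨a, b, c, d, e⟩

theorem mem_all (x : V5) : x ∈ all := by
  cases x
  simp only [all, List.mem_flatMap, List.mem_map]
  exact ⟨_, Q4.mem_all _, _, Q4.mem_all _, _, Q4.mem_all _, _, Q4.mem_all _, _, Q4.mem_all _, rfl⟩

end V5

namespace M5

/-- Image of a vector. -/
def mv (A : M5) (x : V5) : V5 :=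
  ((((V5.smul x.a A.a).add (V5.smul x.b A.b)).add (V5.smul x.c A.c)).add (V5.smul x.d A.d)).add (V5.smul x.e A.e)

/-- Product. -/
def mul (A B : M5) : M5 := ⟨A.mv B.a, A.mv B.b, A.mv B.c, A.mv B.d, A.mv B.e⟩

/-- The identity. -/
def one : M5 := ⟨⟨.o, .z, .z, .z, .z⟩, ⟨.z, .o, .z, .z, .z⟩, ⟨.z, .z, .o, .z, .z⟩, ⟨.z, .z, .z, .o, .z⟩, ⟨.z, .z, .z, .z, .o⟩⟩

/-- Powers. -/
def pow (A : M5) : Nat → M5
  | 0 => one
  | n + 1 => A.mul (A.pow n)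

end M5

/-- The form of a Gram matrix. -/
def form (G : M5) (x y : V5) : Q4 := x.dot (G.mv y.conj)

/-- The Toeplitz matrix of five values. -/
def toep (c : V5) : M5 :=
  ⟨⟨c.a, c.b, c.c, c.d, c.e⟩, ⟨c.b.conj, c.a, c.b, c.c, c.d⟩, ⟨c.c.conj, c.b.conj, c.a, c.b, c.c⟩,
    ⟨c.d.conj, c.c.conj, c.b.conj, c.a, c.b⟩, ⟨c.e.conj, c.d.conj, c.c.conj, c.b.conj, c.a⟩⟩

/-- The companion matrix. -/
def comp5 : M5 := ⟨⟨.z, .o, .z, .z, .z⟩, ⟨.z, .z, .o, .z, .z⟩, ⟨.z, .z, .z, .o, .z⟩, ⟨.z, .z, .z, .z, .o⟩, ⟨.o, .w, .o, .o, .u⟩⟩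

/-- The Frobenius. -/
def frb : M5 := ⟨⟨.o, .z, .z, .z, .z⟩, ⟨.z, .z, .z, .z, .o⟩, ⟨.z, .u, .w, .u, .w⟩, ⟨.z, .o, .z, .z, .z⟩, ⟨.o, .w, .o, .o, .u⟩⟩

/-- An involution outside the normaliser. -/
def invo : M5 := ⟨⟨.o, .z, .z, .z, .z⟩, ⟨.u, .o, .o, .u, .o⟩, ⟨.z, .w, .o, .o, .u⟩, ⟨.w, .w, .u, .w, .z⟩, ⟨.o, .u, .w, .u, .w⟩⟩

/-- The standard Gram values. -/
def std : V5 := ⟨.o, .u, .w, .u, .u⟩

/-- The standard Gram matrix. -/
def gram5 : M5 := toep std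

/-- Its inverse. -/
def gramInv : M5 := ⟨⟨.z, .z, .u, .w, .z⟩, ⟨.z, .z, .o, .z, .w⟩, ⟨.w, .o, .o, .o, .u⟩, ⟨.u, .z, .o, .z, .z⟩, ⟨.z, .u, .w, .z, .z⟩⟩

/-- An isotropic vector. -/
def iso : V5 := ⟨.z, .z, .o, .o, .o⟩

/-- The first basis vector. -/
def first : V5 := ⟨.o, .z, .z, .z, .z⟩

/-- Witnesses of normalisation. -/
def witnesses : List V5 := [⟨.z, .o, .z, .z, .u⟩, ⟨.z, .z, .o, .u, .o⟩, ⟨.z, .o, .z, .o, .u⟩, ⟨.z, .o, .o, .w, .o⟩, ⟨.z, .o, .z, .z, .o⟩, ⟨.z, .z, .o, .z, .w⟩, ⟨.z, .z, .o, .z, .u⟩, ⟨.z, .z, .z, .o, .u⟩, ⟨.z, .z, .o, .w, .u⟩, ⟨.z, .o, .o, .o, .u⟩, ⟨.z, .z, .o, .z, .o⟩, ⟨.z, .z, .z, .z, .o⟩, ⟨.z, .z, .z, .o, .w⟩, ⟨.z, .o, .u, .o, .w⟩, ⟨.z, .z, .o, .u, .w⟩, ⟨.z, .z, .z, .o, .o⟩]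

/-- The orbit of points. -/
def orbit : List V5 := [
  ⟨.z, .z, .z, .z, .o⟩, ⟨.z, .z, .z, .o, .z⟩, ⟨.z, .z, .z, .o, .o⟩, ⟨.z, .z, .o, .z, .z⟩,
  ⟨.z, .z, .o, .z, .o⟩, ⟨.z, .z, .o, .o, .z⟩, ⟨.z, .o, .z, .z, .z⟩, ⟨.z, .o, .z, .z, .o⟩,
  ⟨.z, .o, .z, .o, .z⟩, ⟨.z, .o, .z, .w, .w⟩, ⟨.z, .o, .o, .z, .z⟩, ⟨.z, .o, .o, .z, .w⟩,
  ⟨.z, .o, .o, .o, .u⟩, ⟨.z, .o, .o, .w, .o⟩, ⟨.z, .o, .u, .o, .o⟩, ⟨.z, .o, .u, .o, .u⟩,
  ⟨.z, .o, .u, .u, .u⟩, ⟨.z, .o, .u, .u, .w⟩, ⟨.o, .z, .z, .z, .z⟩, ⟨.o, .z, .z, .z, .o⟩,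
  ⟨.o, .z, .z, .o, .z⟩, ⟨.o, .z, .z, .u, .o⟩, ⟨.o, .z, .o, .z, .z⟩, ⟨.o, .z, .o, .w, .w⟩,
  ⟨.o, .z, .u, .o, .w⟩, ⟨.o, .z, .u, .w, .u⟩, ⟨.o, .z, .w, .o, .o⟩, ⟨.o, .z, .w, .u, .o⟩,
  ⟨.o, .z, .w, .u, .u⟩, ⟨.o, .z, .w, .w, .z⟩, ⟨.o, .o, .z, .z, .z⟩, ⟨.o, .o, .z, .o, .w⟩,
  ⟨.o, .o, .z, .u, .u⟩, ⟨.o, .o, .z, .w, .z⟩, ⟨.o, .o, .o, .u, .z⟩, ⟨.o, .o, .o, .w, .w⟩,
  ⟨.o, .o, .u, .z, .o⟩, ⟨.o, .o, .u, .w, .o⟩, ⟨.o, .o, .w, .z, .u⟩, ⟨.o, .o, .w, .z, .w⟩,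
  ⟨.o, .o, .w, .o, .z⟩, ⟨.o, .o, .w, .w, .w⟩, ⟨.o, .u, .z, .w, .o⟩, ⟨.o, .u, .z, .w, .u⟩,
  ⟨.o, .u, .o, .o, .z⟩, ⟨.o, .u, .o, .o, .u⟩, ⟨.o, .u, .o, .u, .z⟩, ⟨.o, .u, .o, .u, .w⟩,
  ⟨.o, .u, .u, .o, .u⟩, ⟨.o, .u, .u, .u, .z⟩, ⟨.o, .u, .u, .w, .z⟩, ⟨.o, .u, .u, .w, .u⟩,
  ⟨.o, .u, .w, .o, .o⟩, ⟨.o, .u, .w, .u, .w⟩, ⟨.o, .w, .z, .z, .o⟩, ⟨.o, .w, .z, .o, .u⟩,
  ⟨.o, .w, .z, .w, .w⟩, ⟨.o, .w, .o, .z, .u⟩, ⟨.o, .w, .o, .o, .u⟩, ⟨.o, .w, .o, .o, .w⟩,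
  ⟨.o, .w, .u, .z, .o⟩, ⟨.o, .w, .u, .z, .w⟩, ⟨.o, .w, .u, .u, .o⟩, ⟨.o, .w, .w, .o, .w⟩,
  ⟨.o, .w, .w, .u, .o⟩, ⟨.o, .w, .w, .w, .u⟩]

/-- The five consecutive values of a form along powers of the companion matrix. -/
def vals (G : M5) (y : V5) : V5 :=
  let y1 := comp5.mv y
  let y2 := comp5.mv y1
  let y3 := comp5.mv y2
  let y4 := comp5.mv y3
  ⟨form G y y, form G y1 y, form G y2 y, form G y3 y, form G y4 y⟩

/-- A point lies in the orbit. -/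
def inOrbit (x : V5) : Bool := [Q4.o, Q4.u, Q4.w].any fun s => decide (V5.smul s x ∈ orbit)

theorem normalisable : ∀ c ∈ V5.all, c.a = .o →
    form (toep c) comp5.e comp5.a = c.e → form (toep c) comp5.e comp5.b = c.d → form (toep c) comp5.e comp5.c = c.c →
    form (toep c) comp5.e comp5.d = c.b → form (toep c) comp5.e comp5.e = c.a →
    (witnesses.any fun y => decide (vals (toep c) y = std)) = true := by
  decide +kernel

theorem commutant_unitary : ∀ y ∈ V5.all, vals gram5 y = std →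
    ∃ i ∈ List.range 11, ∃ s ∈ [Q4.o, Q4.u, Q4.w], y = V5.smul s ((comp5.pow i).mv first) := by
  decide +kernel

theorem gram_inv : gram5.mul gramInv = M5.one := by decide +kernel

/-- The Gram matrix in a new basis. -/
def pull (G A : M5) : M5 :=
  let cl := fun y => (⟨form G A.a y, form G A.b y, form G A.c y, form G A.d y, form G A.e y⟩ : V5)
  ⟨cl A.a, cl A.b, cl A.c, cl A.d, cl A.e⟩

theorem isometries : pull gram5 comp5 = gram5 ∧ pull gram5 frb = gram5 ∧ pull gram5 invo = gram5 := by decide +kernel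

theorem frb_conj : frb.mul comp5 = (comp5.pow 4).mul frb := by decide +kernel

theorem inv_sq : invo.mul invo = M5.one := by decide +kernel

theorem cmp_pow_eleven : comp5.pow 11 = M5.one := by decide +kernel

theorem cmp_ne_one : comp5 ≠ M5.one := by decide +kernel

/-- The value of the minimal polynomial at a power of the companion matrix, on the first vector. -/
def polyAt (a : Nat) : V5 :=
  let A := comp5.pow a
  let y1 := A.mv first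
  let y2 := A.mv y1
  let y3 := A.mv y2
  let y4 := A.mv y3
  let y5 := A.mv y4
  (((((V5.smul comp5.e.a first).add (V5.smul comp5.e.b y1)).add (V5.smul comp5.e.c y2)).add (V5.smul comp5.e.d y3)).add
    (V5.smul comp5.e.e y4)).add y5

theorem poly_roots : ∀ a ∈ List.range 11, polyAt a = ⟨.z, .z, .z, .z, .z⟩ → a ∈ [1, 4, 5, 9, 3] := by decide +kernel

theorem inv_not_normal : (invo.mul (comp5.mul invo)).mul comp5 ≠ comp5.mul (invo.mul (comp5.mul invo)) := by decide +kernel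

theorem orbit_stable : ∀ x ∈ orbit, inOrbit (comp5.mv x) = true ∧ inOrbit (frb.mv x) = true ∧
    inOrbit (invo.mv x) = true := by
  decide +kernel

theorem first_mem : inOrbit first = true := by decide +kernel

theorem iso_isotropic : form gram5 iso iso = .z := by decide +kernel

theorem moved : inOrbit (first.add (V5.smul (form gram5 first iso) iso)) = false := by decide +kernel

end CfsgLib.Aschbacher.FiveData

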