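import Cfsg.Agent.Aschbacher.Form.UnitaryMaximal
import Cfsg.Agent.Aschbacher.Form.UnitaryFiveData

/-!
The normaliser of a field of degree five in the special unitary group of dimension five over four elements is
not maximal: it stabilises, with a further involution, an orbit of sixty-six points.
-/
set_option autoImplicit false
set_option maxHeartbeats 1000000

namespace CfsgLib.Aschbacher

open Matrix Cfsg Cfsg.Geo CfsgLib.GeoClifford CfsgLib.Geo
open scoped MatrixGroups

namespace FiveData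

variable {F : Type*} [Field F] {ω : F}

/-- An element as a field element, for a chosen cube root of unity. -/
def phi (ω : F) : Q4 → F
  | .z => 0
  | .o => 1
  | .u => ω
  | .w => ω + 1

/-- A vector as a field vector. -/
def tov (ω : F) (x : V5) : Fin 5 → F := ![phi ω x.a, phi ω x.b, phi ω x.c, phi ω x.d, phi ω x.e]

/-- Five columns as a matrix. -/
def toM (ω : F) (A : M5) : Matrix (Fin 5) (Fin 5) F :=
  Matrix.of fun i j => ![tov ω A.a, tov ω A.b, tov ω A.c, tov ω A.d, tov ω A.e] j i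

section Hom

variable (h2 : (2 : F) = 0) (hω : ω * ω + ω + 1 = 0)
include h2 hω

lemma phi_add (a b : Q4) : phi ω (a.add b) = phi ω a + phi ω b := by
  cases a <;> cases b <;> simp only [Q4.add, phi] <;>
    first
      | ring1
      | linear_combination -h2
      | linear_combination (-ω) * h2
      | linear_combination -(ω + 1) * h2
      | linear_combination h2

lemma phi_mul (a b : Q4) : phi ω (a.mul b) = phi ω a * phi ω b := by
  cases a <;> cases b <;> simp only [Q4.mul, phi] <;>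
    first
      | ring1
      | linear_combination (ω + 1) * h2 - hω
      | linear_combination -hω
      | linear_combination h2 - hω
      | linear_combination -hω + (-ω) * h2

lemma phi_conj (a : Q4) : phi ω a.conj = phi ω a ^ 2 := by
  cases a <;> simp only [Q4.conj, phi] <;>
    first
      | ring1
      | linear_combination (ω + 1) * h2 - hω
      | linear_combination -hω
      | linear_combination -hω + (-ω) * h2

lemma phi_eq_zero {a : Q4} (h : phi ω a = 0) : a = .z := by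
  cases a
  · rfl
  · exact absurd h one_ne_zero
  · have h' : ω = 0 := h
    rw [h'] at hω
    simp at hω
  · have h' : ω + 1 = 0 := h
    exact absurd (show (1 : F) = 0 by linear_combination hω - ω * h') one_ne_zero

lemma phi_inj : Function.Injective (phi ω) := by
  intro a b hab
  have h := phi_eq_zero h2 hω (a := a.add b) (by
    rw [phi_add h2 hω, hab]; linear_combination (phi ω b) * h2)
  cases a <;> cases b <;> simp [Q4.add] at h ⊢

lemma tov_inj : Function.Injective (tov ω) := by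
  intro x y h
  cases x; cases y
  have e := fun i => congrFun h i
  have hi := phi_inj h2 hω
  simp only [V5.mk.injEq]
  exact ⟨hi (e 0), hi (e 1), hi (e 2), hi (e 3), hi (e 4)⟩

lemma tov_add (x y : V5) : tov ω (x.add y) = tov ω x + tov ω y := by
  funext i; fin_cases i <;> simp [tov, V5.add, phi_add h2 hω]

lemma tov_smul (s : Q4) (x : V5) : tov ω (V5.smul s x) = phi ω s • tov ω x := by
  funext i; fin_cases i <;> simp [tov, V5.smul, phi_mul h2 hω]

lemma toM_mv (A : M5) (x : V5) : toM ω A *ᵥ tov ω x = tov ω (A.mv x) := by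
  funext i
  fin_cases i <;>
    simp [Matrix.mulVec, dotProduct, Fin.sum_univ_five, toM, M5.mv, tov, V5.add, V5.smul, phi_add h2 hω,
      phi_mul h2 hω] <;> ring

lemma toM_mul (A B : M5) : toM ω (A.mul B) = toM ω A * toM ω B := by
  have key : ∀ j : Fin 5, (toM ω A * toM ω B) *ᵥ Pi.single j 1 = toM ω (A.mul B) *ᵥ Pi.single j 1 := by
    intro j
    rw [← mulVec_mulVec, mulVec_single_one, mulVec_single_one]
    fin_cases j
    · exact toM_mv h2 hω A B.a
    · exact toM_mv h2 hω A B.b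
    · exact toM_mv h2 hω A B.c
    · exact toM_mv h2 hω A B.d
    · exact toM_mv h2 hω A B.e
  ext i j
  simpa using (congrFun (key j) i).symm

omit h2 hω in
lemma toM_one : toM ω M5.one = 1 := by
  ext i j; fin_cases i <;> fin_cases j <;> simp [toM, tov, M5.one, phi]

lemma toM_pow (A : M5) : ∀ n, toM ω (A.pow n) = toM ω A ^ n
  | 0 => by rw [M5.pow, toM_one, pow_zero]
  | n + 1 => by rw [M5.pow, toM_mul h2 hω, toM_pow A n, pow_succ']

lemma tov_dot (x y : V5) : phi ω (x.dot y) = tov ω x ⬝ᵥ tov ω y := by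
  simp [dotProduct, Fin.sum_univ_five, V5.dot, tov, phi_add h2 hω, phi_mul h2 hω]

lemma tov_conj (x : V5) : tov ω x.conj = fun i => tov ω x i ^ 2 := by
  funext i; fin_cases i <;> simp [tov, V5.conj, phi_conj h2 hω]

lemma phi_form (G : M5) (x y : V5) : phi ω (form G x y) = tov ω x ⬝ᵥ (toM ω G *ᵥ fun i => tov ω y i ^ 2) := by
  rw [form, tov_dot h2 hω, ← toM_mv h2 hω, tov_conj h2 hω]

variable [Fintype F]

lemma phi_surj (hF : Fintype.card F = 4) (x : F) : ∃ a, phi ω a = x := by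
  by_cases hx : x = 0
  · exact ⟨.z, hx.symm⟩
  have h3 : x ^ 3 = 1 := by
    have := FiniteField.pow_card_sub_one_eq_one x hx
    rwa [hF] at this
  have h : (x - 1) * ((x - ω) * (x + ω + 1)) = 0 := by linear_combination h3 - (x - 1) * hω
  rcases mul_eq_zero.mp h with h | h
  · exact ⟨.o, (sub_eq_zero.mp h).symm⟩
  rcases mul_eq_zero.mp h with h | h
  · exact ⟨.u, (sub_eq_zero.mp h).symm⟩
  · exact ⟨.w, show ω + 1 = x by linear_combination (ω + 1) * h2 - h⟩

lemma tov_surj (hF : Fintype.card F = 4) (u : Fin 5 → F) : ∃ x, tov ω x = u := by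
  choose a ha using fun i => phi_surj h2 hω hF (u i)
  exact ⟨⟨a 0, a 1, a 2, a 3, a 4⟩, funext fun i => by fin_cases i <;> simp [tov, ha]⟩

end Hom

/-- The matrix of the first five images of a vector. -/
def basisMat {F : Type*} [Field F] (k : Matrix (Fin 5) (Fin 5) F) (v : Fin 5 → F) : Matrix (Fin 5) (Fin 5) F :=
  Matrix.of fun i j => ((k ^ (j : ℕ)) *ᵥ v) i

lemma basisMat_single {F : Type*} [Field F] (k : Matrix (Fin 5) (Fin 5) F) (v : Fin 5 → F) (j : Fin 5) :
    basisMat k v *ᵥ Pi.single j 1 = (k ^ (j : ℕ)) *ᵥ v := by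
  ext i; simp [basisMat]

end FiveData

open FiveData

variable {F : Type*} [Field F] [Fintype F]

/-- Groups of exponent five and centre of order five in a unitary group need a small field. -/
lemma classSix_five {z p e q : ℕ} (h : IsMinimalFieldFor z p e F) (hz : z = 5) (hq : q ^ 2 = p ^ e) :
    CharP F p ∧ ((q = p ∧ p % 5 = 4) ∨ (q = p ^ 2 ∧ (p % 5 = 2 ∨ p % 5 = 3))) := by
  obtain ⟨hp, hchar, hcard, hdvd, hmin⟩ := h
  refine ⟨hchar, ?_⟩
  subst hz
  have h1 : 1 ≤ p ^ e := Nat.one_le_pow _ _ hp.pos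
  have he0 : 0 < e := by
    rcases Nat.eq_zero_or_pos e with h0 | h0
    · exfalso
      have h2 := Fintype.one_lt_card (α := F)
      rw [hcard, h0, pow_zero] at h2
      omega
    · exact h0
  have h5 : p % 5 ≠ 0 := by
    intro h0
    have : 5 ∣ p ^ e := dvd_pow (Nat.dvd_of_mod_eq_zero h0) he0.ne'
    omega
  have hp4 : 5 ∣ p ^ 4 - 1 := by
    have h2 : p ^ 4 % 5 = 1 := by
      rw [Nat.pow_mod]
      obtain h | h | h | h : p % 5 = 1 ∨ p % 5 = 2 ∨ p % 5 = 3 ∨ p % 5 = 4 := by omega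
      all_goals simp [h]
    omega
  have he4 : e ≤ 4 := by
    by_contra h2
    exact hmin 4 (by omega) (by omega) hp4
  have hd : ∀ d, 0 < d → d < e → p ^ d % 5 ≠ 1 := fun d h1 h2 h3 => hmin d h1 h2 (by
    have := Nat.one_le_pow d p hp.pos
    omega)
  interval_cases e
  · rw [pow_one] at hq
    exact absurd (hq ▸ hp) (Nat.Prime.not_prime_pow (le_refl 2))
  · left
    have hd1 := hd 1 one_pos one_lt_two
    rw [pow_one] at hd1
    refine ⟨Nat.pow_left_injective two_ne_zero hq, ?_⟩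
    have : p ^ 2 % 5 = 1 := by omega
    rw [Nat.pow_mod] at this
    obtain h | h | h | h : p % 5 = 1 ∨ p % 5 = 2 ∨ p % 5 = 3 ∨ p % 5 = 4 := by omega
    all_goals simp [h] at this ⊢
    omega
  · exfalso
    have h1 : (q : ℕ) ^ 2 = p ^ 2 * p := by rw [hq]; ring
    have hdp : p ∣ q := hp.dvd_of_dvd_pow (show p ∣ q ^ 2 by rw [h1]; exact dvd_mul_left _ _)
    obtain ⟨c, rfl⟩ := hdp
    have h2 : c ^ 2 = p := Nat.eq_of_mul_eq_mul_left (pow_pos hp.pos 2) (by rw [← h1]; ring)
    exact Nat.Prime.not_prime_pow (le_refl 2) (h2 ▸ hp)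
  · right
    refine ⟨Nat.pow_left_injective two_ne_zero (hq.trans (by ring)), ?_⟩
    have hd2 := hd 2 two_pos (by omega)
    rw [Nat.pow_mod] at hd2
    obtain h | h | h | h : p % 5 = 1 ∨ p % 5 = 2 ∨ p % 5 = 3 ∨ p % 5 = 4 := by omega
    all_goals simp [h] at hd2 ⊢

/-- The normaliser of a field of degree five is not maximal over four elements. -/
theorem fieldFive_not_maximal (hF : Fintype.card F = 2 ^ 2) {K : Subalgebra F (Matrix (Fin 5) (Fin 5) F)}
    (hK : IsFieldSubalgebra 5 K) (hac : IsAdjointClosedFor (hermForm 5 F 2) K) {H : Subgroup (GL (Fin 5) F)}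
    (hH : IsMaximalIn (Cfsg.GU 5 F 2 ⊓ specialLinear (Fin 5) F) H)
    (hN : H = subalgebraNormalizer K ⊓ (Cfsg.GU 5 F 2 ⊓ specialLinear (Fin 5) F)) : False := by
  classical
  obtain ⟨σ, hf, hσ, -⟩ := exists_hermForm_unitary (n := 5) hF
  set f := hermForm 5 F 2 with hfdef
  have hR := isRefl_of_unitary hf
  have hse := isSesq_of_unitary hf
  have h4 : Fintype.card F = 4 := by rw [hF]; norm_num
  have h2 : (2 : F) = 0 := by
    have h := FiniteField.cast_card_eq_zero F
    rw [hF, Nat.cast_pow, Nat.cast_ofNat] at h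
    exact pow_eq_zero_iff two_ne_zero |>.mp h
  obtain ⟨ω, hω⟩ : ∃ ω : F, ω * ω + ω + 1 = 0 := by
    obtain ⟨x, hx⟩ : ∃ x : F, x ∉ ({0, 1} : Finset F) := by
      by_contra hcon
      push Not at hcon
      have := (Finset.card_le_card (fun x (_ : x ∈ (Finset.univ : Finset F)) => hcon x)).trans Finset.card_le_two
      rw [Finset.card_univ, h4] at this
      omega
    simp only [Finset.mem_insert, Finset.mem_singleton, not_or] at hx
    have h := FiniteField.pow_card_sub_one_eq_one x hx.1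
    rw [h4] at h
    refine ⟨x, ?_⟩
    have h' : (x - 1) * (x * x + x + 1) = 0 := by linear_combination h
    exact (mul_eq_zero.mp h').resolve_left (sub_ne_zero.mpr hx.2)
  -- an element of order eleven with given minimal polynomial
  have hfield : IsField K := ⟨⟨0, 1, zero_ne_one⟩, fun a b => Subtype.ext (hK.comm _ a.2 _ b.2), fun {a} ha => by
    obtain ⟨y, hy, hy1⟩ := hK.inv _ a.2 (fun h => ha (Subtype.ext h))
    exact ⟨⟨y, hy⟩, Subtype.ext hy1⟩⟩
  letI : Field K := hfield.toField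
  have : Fintype K := Fintype.ofFinite _
  have hcardK : Fintype.card K = 1024 := by
    rw [Module.card_eq_pow_finrank (K := F), h4, hK.finrank_eq]
    norm_num
  obtain ⟨k, hk11, hk1, hkP⟩ : ∃ k : K, k ^ 11 = 1 ∧ k ≠ 1 ∧
      k ^ 5 + algebraMap F K ω * k ^ 4 + k ^ 3 + k ^ 2 + algebraMap F K ω ^ 2 * k + 1 = 0 := by
    obtain ⟨u, hu⟩ := exists_prime_orderOf_dvd_card' (G := Kˣ) (hp := ⟨by norm_num⟩) 11 (by
      rw [Nat.card_eq_fintype_card, Fintype.card_units, hcardK]; norm_num)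
    have hx11 : (u : K) ^ 11 = 1 := by
      rw [← Units.val_pow_eq_pow_val, ← hu, pow_orderOf_eq_one, Units.val_one]
    have hx1 : (u : K) ≠ 1 := fun h => by
      rw [Units.val_eq_one.mp h, orderOf_one] at hu
      omega
    generalize (u : K) = x at hx11 hx1
    set i := algebraMap F K ω
    have hi : i * i + i + 1 = 0 := by
      rw [← map_mul, ← map_add, ← map_one (algebraMap F K), ← map_add, hω, map_zero]
    have hK2 : (2 : K) = 0 := by rw [← map_ofNat (algebraMap F K) 2, h2, map_zero]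
    have hsum : x ^ 10 + x ^ 9 + x ^ 8 + x ^ 7 + x ^ 6 + x ^ 5 + x ^ 4 + x ^ 3 + x ^ 2 + x + 1 = 0 := by
      have h : (x - 1) * (x ^ 10 + x ^ 9 + x ^ 8 + x ^ 7 + x ^ 6 + x ^ 5 + x ^ 4 + x ^ 3 + x ^ 2 + x + 1) = 0 := by
        linear_combination hx11
      exact (mul_eq_zero.mp h).resolve_left (sub_ne_zero.mpr hx1)
    have hprod : (x ^ 5 + i * x ^ 4 + x ^ 3 + x ^ 2 + i ^ 2 * x + 1) *
        (x ^ 5 + i ^ 2 * x ^ 4 + x ^ 3 + x ^ 2 + i * x + 1) = 0 := by
      linear_combination hsum + ((x ^ 5 + x ^ 3 + x ^ 2 + 1) * (x ^ 4 + x) + (i - 1) * (x ^ 8 + x ^ 2) +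
        (i ^ 2 - i + 1) * x ^ 5) * hi + (-x ^ 9 + x ^ 8 - x ^ 6 + x ^ 5 - x ^ 4 + x ^ 2 - x) * hK2
    rcases mul_eq_zero.mp hprod with h | h
    · exact ⟨x, hx11, hx1, h⟩
    · have hx0 : x ≠ 0 := fun h0 => by rw [h0] at hx11; simp at hx11
      refine ⟨x⁻¹, by rw [inv_pow, hx11, inv_one], fun h0 => hx1 (inv_eq_one.mp h0), ?_⟩
      field_simp
      linear_combination h
  have hK2 : (2 : K) = 0 := by rw [← map_ofNat (algebraMap F K) 2, h2, map_zero]
  set kM : Matrix (Fin 5) (Fin 5) F := (k : Matrix (Fin 5) (Fin 5) F) with hkM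
  have hadjK : ∀ a ∈ K, hR.adj a ∈ K := fun a ha => by
    obtain ⟨a', ha', h⟩ := hac a ha
    rwa [hR.adj_eq h]
  let J : K → K := fun a => ⟨hR.adj a, hadjK _ a.2⟩
  have hJadd : ∀ a b, J (a + b) = J a + J b := fun a b => Subtype.ext (hR.adj_add _ _)
  have hJmul : ∀ a b, J (a * b) = J a * J b := fun a b => Subtype.ext (by
    show hR.adj ((a : Matrix (Fin 5) (Fin 5) F) * (b : Matrix (Fin 5) (Fin 5) F)) = _
    rw [hR.adj_mul]
    exact hK.comm _ (hadjK _ b.2) _ (hadjK _ a.2))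
  have hJone : J 1 = 1 := Subtype.ext hR.adj_one
  have hJpow : ∀ (a : K) n, J (a ^ n) = J a ^ n := by
    intro a n
    induction n with
    | zero => rw [pow_zero, pow_zero, hJone]
    | succ n ih => rw [pow_succ, pow_succ, hJmul, ih]
  have hJω : J (algebraMap F K ω) = algebraMap F K ω ^ 2 := Subtype.ext (by
    show hR.adj (algebraMap F (Matrix (Fin 5) (Fin 5) F) ω) = (algebraMap F (Matrix (Fin 5) (Fin 5) F) ω) ^ 2
    rw [Algebra.algebraMap_eq_smul_one, hR.adj_smul, hR.adj_one, hσ, smul_pow, one_pow])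
  have hJJ : ∀ a, J (J a) = a := fun a => Subtype.ext (hR.adj_adj _)
  have hkprim : IsPrimitiveRoot k 11 := by
    rw [← orderOf_eq_prime (p := 11) (hp := ⟨by norm_num⟩) hk11 hk1]
    exact IsPrimitiveRoot.orderOf k
  have hJk : J k * k = 1 := by
    obtain ⟨a, ha, hka⟩ := hkprim.eq_pow_of_pow_eq_one (show J k ^ 11 = 1 by rw [← hJpow, hk11, hJone])
    have h := hJJ k
    rw [← hka, hJpow, ← hka, ← pow_mul] at h
    have hmod : a * a % 11 = 1 := by
      have h' : k ^ (a * a % 11) = k ^ 1 := by rw [← pow_eq_pow_mod _ hk11, pow_one, h]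
      exact hkprim.pow_inj (Nat.mod_lt _ (by norm_num)) (by norm_num) h'
    have ha' : a = 1 ∨ a = 10 := by interval_cases a <;> omega
    rcases ha' with rfl | rfl
    · exfalso
      rw [pow_one] at hka
      have h' : J (k ^ 5 + algebraMap F K ω * k ^ 4 + k ^ 3 + k ^ 2 + algebraMap F K ω ^ 2 * k + 1) = 0 := by
        rw [hkP]; exact Subtype.ext hR.adj_zero
      simp only [hJadd, hJmul, hJpow, hJone, hJω, ← hka] at h'
      set i := algebraMap F K ω
      have hi : i * i + i + 1 = 0 := by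
        rw [← map_mul, ← map_add, ← map_one (algebraMap F K), ← map_add, hω, map_zero]
      have h3 : k * (k ^ 3 - 1) = 0 := by
        linear_combination hkP - h' + (k ^ 4 + (i * (i - 1) - 1) * k) * hi + (-i * k ^ 4 + i * k) * hK2
      have hk0 : k ≠ 0 := fun h0 => by rw [h0] at hk11; simp at hk11
      have hk3 : k ^ 3 = 1 := sub_eq_zero.mp ((mul_eq_zero.mp h3).resolve_left hk0)
      have := hkprim.dvd_of_pow_eq_one 3 hk3
      omega
    · rw [← hka, ← pow_succ, hk11]
  have hiso : ∀ u v, f (kM *ᵥ u) (kM *ᵥ v) = f u v := fun u v => by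
    rw [hR.adj_spec, mulVec_mulVec, show hR.adj kM * kM = 1 from congrArg Subtype.val hJk, one_mulVec]
  have hisoP : ∀ (d : ℕ) u v, f ((kM ^ d) *ᵥ u) ((kM ^ d) *ᵥ v) = f u v := by
    intro d
    induction d with
    | zero => simp
    | succ n ih => intro u v; rw [pow_succ', ← mulVec_mulVec, ← mulVec_mulVec, hiso, ih]
  have hkM11 : kM ^ 11 = 1 := by simpa using congrArg Subtype.val hk11
  have hkMP : kM ^ 5 = (1 : F) • 1 + ω ^ 2 • kM + (1 : F) • kM ^ 2 + (1 : F) • kM ^ 3 + ω • kM ^ 4 := by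
    have h : k ^ 5 = 1 + algebraMap F K ω ^ 2 * k + k ^ 2 + k ^ 3 + algebraMap F K ω * k ^ 4 := by
      linear_combination hkP - (1 + algebraMap F K ω ^ 2 * k + k ^ 2 + k ^ 3 + algebraMap F K ω * k ^ 4) * hK2
    have h' := congrArg (Subtype.val : K → Matrix (Fin 5) (Fin 5) F) h
    simpa [← hkM, Algebra.algebraMap_eq_smul_one, smul_pow, smul_smul] using h'
  -- the basis of images of a vector
  have hshift : ∀ (v : Fin 5 → F) (x : V5), kM *ᵥ (basisMat kM v *ᵥ tov ω x) = basisMat kM v *ᵥ tov ω (comp5.mv x) := by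
    intro v x
    rw [← toM_mv h2 hω, mulVec_mulVec, mulVec_mulVec]
    congr 1
    refine Matrix.ext_of_mulVec_single fun j => ?_
    have hlin : ∀ a : Fin 5 → F, basisMat kM v *ᵥ a = ∑ l : Fin 5, a l • ((kM ^ (l : ℕ)) *ᵥ v) := fun a => by
      ext i; simp [basisMat, Matrix.mulVec, dotProduct, Finset.sum_apply, mul_comm]
    rw [← mulVec_mulVec, ← mulVec_mulVec, basisMat_single, mulVec_mulVec, ← pow_succ', mulVec_single_one, hlin,
      Fin.sum_univ_five]
    have hw : ω + 1 = ω ^ 2 := by linear_combination (-1 : F) * hω + (ω + 1) * h2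
    fin_cases j <;> simp [toM, comp5, tov, phi, hkMP, add_mulVec, smul_mulVec, hw]
  have hshiftP : ∀ (v : Fin 5 → F) (d : ℕ) (x : V5),
      (kM ^ d) *ᵥ (basisMat kM v *ᵥ tov ω x) = basisMat kM v *ᵥ tov ω ((comp5.pow d).mv x) := by
    intro v d
    induction d with
    | zero => intro x; rw [pow_zero, one_mulVec, M5.pow, ← toM_mv h2 hω M5.one, toM_one, one_mulVec]
    | succ n ih =>
      intro x
      rw [pow_succ', ← mulVec_mulVec, ih, hshift, M5.pow, ← toM_mv h2 hω comp5, ← toM_mv h2 hω (comp5.mul _),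
        toM_mul h2 hω, ← mulVec_mulVec, toM_mv h2 hω (comp5.pow n)]
  have hfirst : ∀ v, basisMat kM v *ᵥ tov ω first = v := fun v => by
    have : tov ω first = Pi.single (0 : Fin 5) 1 := by funext i; fin_cases i <;> simp [tov, first, phi]
    rw [this, basisMat_single]; simp
  have hvalsTo : ∀ (v : Fin 5 → F) (c : V5), (∀ d : Fin 5, tov ω c d = f ((kM ^ (d : ℕ)) *ᵥ v) v) →
      ∀ x y, f (basisMat kM v *ᵥ tov ω x) (basisMat kM v *ᵥ tov ω y) = phi ω (form (toep c) x y) := by
    intro v c hc x y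
    have hg : IsSesq σ (fun a b => f (basisMat kM v *ᵥ a) (basisMat kM v *ᵥ b)) :=
      ⟨fun a b w => by simp only [mulVec_add, hse.add_left], fun s a w => by simp only [mulVec_smul, hse.smul_left],
        fun w a b => by simp only [mulVec_add, hse.add_right], fun s w a => by simp only [mulVec_smul, hse.smul_right]⟩
    rw [phi_form h2 hω, show f (basisMat kM v *ᵥ tov ω x) (basisMat kM v *ᵥ tov ω y) = _ from hg.eq_gram _ _]
    congr 1
    rw [show (σ ∘ tov ω y) = fun i => tov ω y i ^ 2 from funext fun i => hσ _]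
    congr 1
    have hge : ∀ a b : ℕ, b ≤ a → f ((kM ^ a) *ᵥ v) ((kM ^ b) *ᵥ v) = f ((kM ^ (a - b)) *ᵥ v) v := fun a b hab => by
      conv_lhs => rw [show a = b + (a - b) by omega, pow_add, ← mulVec_mulVec, hisoP]
    have hle : ∀ a b : ℕ, a ≤ b → f ((kM ^ a) *ᵥ v) ((kM ^ b) *ᵥ v) = f ((kM ^ (b - a)) *ᵥ v) v ^ 2 := fun a b hab => by
      rw [hf.herm, hge b a hab, hσ]
    have c0 := hc 0; have c1 := hc 1; have c2 := hc 2; have c3 := hc 3; have c4 := hc 4
    simp [tov] at c0 c1 c2 c3 c4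
    ext i j
    simp only [gramMatrix, Matrix.of_apply, basisMat_single]
    fin_cases i <;> fin_cases j <;>
      first
        | (rw [hge _ _ (by norm_num)]; simp [toM, toep, tov, c0, c1, c2, c3, c4]; done)
        | (rw [hle _ _ (by norm_num)]; simp [toM, toep, tov, phi_conj h2 hω, c0, c1, c2, c3, c4]; done)
  have hvalsOf : ∀ (v : Fin 5 → F) (c y : V5), (∀ d : Fin 5, tov ω c d = f ((kM ^ (d : ℕ)) *ᵥ v) v) →
      ∀ d : Fin 5, tov ω (vals (toep c) y) d =
        f ((kM ^ (d : ℕ)) *ᵥ (basisMat kM v *ᵥ tov ω y)) (basisMat kM v *ᵥ tov ω y) := by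
    intro v c y hc d
    have h := hvalsTo v c hc
    fin_cases d <;>
      simp only [pow_zero, pow_succ, one_mul, one_mulVec, ← mulVec_mulVec, hshift, h] <;> simp [tov, vals]
  -- normalise
  obtain ⟨v, hv⟩ : ∃ v : Fin 5 → F, ∀ d : Fin 5, tov ω std d = f ((kM ^ (d : ℕ)) *ᵥ v) v := by
    set v0 : Fin 5 → F := Pi.single 0 1
    obtain ⟨c, hc⟩ := tov_surj h2 hω h4 fun d : Fin 5 => f ((kM ^ (d : ℕ)) *ᵥ v0) v0
    have hc' : ∀ d : Fin 5, tov ω c d = f ((kM ^ (d : ℕ)) *ᵥ v0) v0 := fun d => congrFun hc d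
    have h := hvalsTo v0 c hc'
    have hca : c.a = .o := phi_inj h2 hω (by
      have := hc' 0
      simp only [Fin.val_zero, pow_zero, one_mulVec] at this
      show tov ω c 0 = 1
      rw [this, hfdef]
      simp [hermForm, v0, Fin.sum_univ_five])
    have step : ∀ x y : V5, phi ω (form (toep c) (comp5.mv x) (comp5.mv y)) = phi ω (form (toep c) x y) := fun x y => by
      rw [← h, ← h, ← hshift, ← hshift, hiso]
    have hwit := List.any_eq_true.mp (normalisable c (V5.mem_all c) hca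
      (phi_inj h2 hω (by
        have hev : ∀ c ∈ V5.all, form (toep c) (⟨.z, .z, .z, .z, .o⟩ : V5) ⟨.o, .z, .z, .z, .z⟩ = c.e := by decide +kernel
        rw [show comp5.e = comp5.mv ⟨.z, .z, .z, .z, .o⟩ by decide +kernel,
          show comp5.a = comp5.mv ⟨.o, .z, .z, .z, .z⟩ by decide +kernel, step, hev c (V5.mem_all c)]))
      (phi_inj h2 hω (by
        have hev : ∀ c ∈ V5.all, form (toep c) (⟨.z, .z, .z, .z, .o⟩ : V5) ⟨.z, .o, .z, .z, .z⟩ = c.d := by decide +kernel
        rw [show comp5.e = comp5.mv ⟨.z, .z, .z, .z, .o⟩ by decide +kernel,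
          show comp5.b = comp5.mv ⟨.z, .o, .z, .z, .z⟩ by decide +kernel, step, hev c (V5.mem_all c)]))
      (phi_inj h2 hω (by
        have hev : ∀ c ∈ V5.all, form (toep c) (⟨.z, .z, .z, .z, .o⟩ : V5) ⟨.z, .z, .o, .z, .z⟩ = c.c := by decide +kernel
        rw [show comp5.e = comp5.mv ⟨.z, .z, .z, .z, .o⟩ by decide +kernel,
          show comp5.c = comp5.mv ⟨.z, .z, .o, .z, .z⟩ by decide +kernel, step, hev c (V5.mem_all c)]))
      (phi_inj h2 hω (by
        have hev : ∀ c ∈ V5.all, form (toep c) (⟨.z, .z, .z, .z, .o⟩ : V5) ⟨.z, .z, .z, .o, .z⟩ = c.b := by decide +kernel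
        rw [show comp5.e = comp5.mv ⟨.z, .z, .z, .z, .o⟩ by decide +kernel,
          show comp5.d = comp5.mv ⟨.z, .z, .z, .o, .z⟩ by decide +kernel, step, hev c (V5.mem_all c)]))
      (phi_inj h2 hω (by
        have hev : ∀ c ∈ V5.all, form (toep c) (⟨.z, .z, .z, .z, .o⟩ : V5) ⟨.z, .z, .z, .z, .o⟩ = c.a := by decide +kernel
        rw [show comp5.e = comp5.mv ⟨.z, .z, .z, .z, .o⟩ by decide +kernel,
          step, hev c (V5.mem_all c)])))
    obtain ⟨y, -, hy⟩ := hwit
    exact ⟨basisMat kM v0 *ᵥ tov ω y, fun d => by rw [← of_decide_eq_true hy]; exact hvalsOf v0 c y hc' d⟩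
  set X := basisMat kM v with hXdef
  have hX : ∀ x y, f (X *ᵥ tov ω x) (X *ᵥ tov ω y) = phi ω (form gram5 x y) := hvalsTo v std hv
  have hunit : ∀ Y : Matrix (Fin 5) (Fin 5) F,
      (∀ x y, f (Y *ᵥ tov ω x) (Y *ᵥ tov ω y) = phi ω (form gram5 x y)) → IsUnit Y := by
    intro Y hY
    rw [Matrix.isUnit_iff_isUnit_det, isUnit_iff_ne_zero]
    intro hdet
    obtain ⟨a, ha, ha0⟩ := Matrix.exists_mulVec_eq_zero_iff.mpr hdet
    obtain ⟨x, rfl⟩ := tov_surj h2 hω h4 a
    apply ha
    have hall : ∀ b : V5, tov ω x ⬝ᵥ (toM ω gram5 *ᵥ tov ω b) = 0 := by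
      intro b
      have h := hY x b.conj
      rw [ha0, phi_form h2 hω, show f 0 (Y *ᵥ tov ω b.conj) = 0 by simpa using hse.smul_left 0 0 _] at h
      rw [h, show (fun i => tov ω b.conj i ^ 2) = tov ω b.conj.conj from (tov_conj h2 hω _).symm,
        show b.conj.conj = b by obtain ⟨a, b, c, d, e⟩ := b; cases a <;> cases b <;> cases c <;> cases d <;> cases e <;> rfl]
    refine dotProduct_eq_zero _ fun u => ?_
    obtain ⟨b, rfl⟩ := tov_surj h2 hω h4 u
    have h := hall (gramInv.mv b)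
    rwa [← toM_mv h2 hω gramInv, mulVec_mulVec, ← toM_mul h2 hω, gram_inv, toM_one, one_mulVec] at h
  set Xg : GL (Fin 5) F := (hunit X hX).unit with hXg
  have hXgv : (Xg : Matrix (Fin 5) (Fin 5) F) = X := (hunit X hX).unit_spec
  have hAu : ∀ A : M5, pull gram5 A = gram5 → IsUnit (X * toM ω A) ∧ ∀ x y,
      phi ω (form gram5 (A.mv x) (A.mv y)) = phi ω (form gram5 x y) := by
    intro A hA
    have key : ∀ x y, f ((X * toM ω A) *ᵥ tov ω x) ((X * toM ω A) *ᵥ tov ω y) = phi ω (form gram5 x y) := by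
      intro x y
      have hg : IsSesq σ (fun a b => f ((X * toM ω A) *ᵥ a) ((X * toM ω A) *ᵥ b)) :=
        ⟨fun a b w => by simp only [mulVec_add, hse.add_left], fun s a w => by simp only [mulVec_smul, hse.smul_left],
          fun w a b => by simp only [mulVec_add, hse.add_right], fun s w a => by simp only [mulVec_smul, hse.smul_right]⟩
      rw [phi_form h2 hω, show f ((X * toM ω A) *ᵥ tov ω x) ((X * toM ω A) *ᵥ tov ω y) = _ from hg.eq_gram _ _,
        show (σ ∘ tov ω y) = fun i => tov ω y i ^ 2 from funext fun i => hσ _]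
      congr 2
      conv_rhs => rw [← hA]
      ext i j
      simp only [gramMatrix, Matrix.of_apply, ← mulVec_mulVec, mulVec_single_one]
      fin_cases i <;> fin_cases j <;> exact hX _ _
    refine ⟨hunit _ key, fun x y => ?_⟩
    have h := key x y
    rw [← mulVec_mulVec, ← mulVec_mulVec, toM_mv h2 hω, toM_mv h2 hω, hX] at h
    exact h
  let mk : ∀ A : M5, pull gram5 A = gram5 → GL (Fin 5) F := fun A hA => (hAu A hA).1.unit * Xg⁻¹
  have hmk : ∀ A hA x, (mk A hA : Matrix (Fin 5) (Fin 5) F) *ᵥ (X *ᵥ tov ω x) = X *ᵥ tov ω (A.mv x) := by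
    intro A hA x
    rw [mulVec_mulVec, ← toM_mv h2 hω, mulVec_mulVec]
    congr 1
    show (hAu A hA).1.unit.val * (↑Xg⁻¹ : Matrix (Fin 5) (Fin 5) F) * X = _
    rw [mul_assoc, show (↑Xg⁻¹ : Matrix (Fin 5) (Fin 5) F) * X = 1 from (congrArg (_ * ·) hXgv.symm).trans (Units.inv_mul Xg),
      mul_one, IsUnit.unit_spec]
  have hXsurj : ∀ u, ∃ x, X *ᵥ tov ω x = u := fun u => by
    obtain ⟨x, hx⟩ := tov_surj h2 hω h4 ((↑Xg⁻¹ : Matrix (Fin 5) (Fin 5) F) *ᵥ u)
    exact ⟨x, by rw [hx, mulVec_mulVec, ← hXgv, Units.mul_inv, one_mulVec]⟩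
  have hXinj : ∀ x y, X *ᵥ tov ω x = X *ᵥ tov ω y → x = y := fun x y h => tov_inj h2 hω (by
    have := congrArg (fun u => (↑Xg⁻¹ : Matrix (Fin 5) (Fin 5) F) *ᵥ u) h
    simpa [mulVec_mulVec, ← hXgv] using this)
  have hext : ∀ {A B : Matrix (Fin 5) (Fin 5) F}, (∀ x, A *ᵥ (X *ᵥ tov ω x) = B *ᵥ (X *ᵥ tov ω x)) → A = B :=
    fun {A B} h => Matrix.ext_of_mulVec_single fun j => by
      obtain ⟨x, hx⟩ := hXsurj (Pi.single j 1)
      rw [← hx]; exact h x
  have hmkGU : ∀ A hA, mk A hA ∈ Cfsg.GU 5 F 2 := fun A hA u w => by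
    obtain ⟨x, rfl⟩ := hXsurj u
    obtain ⟨y, rfl⟩ := hXsurj w
    show f ((mk A hA : Matrix (Fin 5) (Fin 5) F) *ᵥ _) ((mk A hA : Matrix (Fin 5) (Fin 5) F) *ᵥ _) = f _ _
    rw [hmk A hA, hmk A hA, hX, (hAu A hA).2, ← hX]
  -- the stabiliser of the orbit
  let O : Submonoid (GL (Fin 5) F) :=
    { carrier := {g | ∀ p ∈ orbit, ∃ p' ∈ orbit, ∃ c : F,
        (g : Matrix (Fin 5) (Fin 5) F) *ᵥ (X *ᵥ tov ω p) = c • (X *ᵥ tov ω p')}
      one_mem' := fun p hp => ⟨p, hp, 1, by simp⟩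
      mul_mem' := by
        intro g g' hg hg' p hp
        obtain ⟨p', hp', c', hc'⟩ := hg' p hp
        obtain ⟨p'', hp'', c'', hc''⟩ := hg p' hp'
        exact ⟨p'', hp'', c' * c'', by rw [Units.val_mul, ← mulVec_mulVec, hc', mulVec_smul, hc'', smul_smul]⟩ }
  let OG : Subgroup (GL (Fin 5) F) :=
    { O with
      inv_mem' := fun {a} ha => by
        obtain ⟨n, hn⟩ : ∃ n : ℕ, a⁻¹ = a ^ n := ⟨orderOf a - 1, by
          have : 0 < orderOf a := orderOf_pos a
          rw [inv_eq_iff_mul_eq_one, ← pow_succ', Nat.sub_add_cancel this, pow_orderOf_eq_one]⟩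
        rw [hn]
        exact O.pow_mem ha n }
  have hin : ∀ y, inOrbit y = true → ∃ p' ∈ orbit, ∃ c : F, X *ᵥ tov ω y = c • (X *ᵥ tov ω p') := by
    intro y hy
    obtain ⟨s, hs, hsy⟩ := List.any_eq_true.mp hy
    have hs0 : phi ω s ≠ 0 := fun h => by
      obtain rfl := phi_eq_zero h2 hω h
      simp at hs
    refine ⟨_, of_decide_eq_true hsy, (phi ω s)⁻¹, ?_⟩
    rw [tov_smul h2 hω, mulVec_smul, smul_smul, inv_mul_cancel₀ hs0, one_smul]
  have hOmk : ∀ A hA, (∀ p ∈ orbit, inOrbit (A.mv p) = true) → mk A hA ∈ OG := fun A hA h p hp => by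
    rw [hmk A hA]; exact hin _ (h p hp)
  have hcomp : ∀ (A B : M5) x, A.mv (B.mv x) = (A.mul B).mv x := fun A B x => tov_inj h2 hω (by
    rw [← toM_mv h2 hω, ← toM_mv h2 hω, ← toM_mv h2 hω, mulVec_mulVec, toM_mul h2 hω])
  have hone : ∀ x, M5.one.mv x = x := fun x => tov_inj h2 hω (by rw [← toM_mv h2 hω, toM_one, one_mulVec])
  set gk := mk comp5 isometries.1 with hgk
  set gs := mk frb isometries.2.1 with hgs
  set gt := mk invo isometries.2.2 with hgt
  have hgkv : (gk : Matrix (Fin 5) (Fin 5) F) = kM := hext fun x => by rw [hgk, hmk comp5 isometries.1, ← hshift]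
  have hsk : (gs : Matrix (Fin 5) (Fin 5) F) * kM = kM ^ 4 * gs := hext fun x => by
    rw [← mulVec_mulVec, ← mulVec_mulVec, hshift, hgs, hmk frb isometries.2.1, hmk frb isometries.2.1, hshiftP,
      hcomp, hcomp, frb_conj]
  have hHM : H ≤ OG := by
    intro g hg
    rw [hN] at hg
    obtain ⟨hgN, hgU, -⟩ := hg
    set k' := (g : Matrix (Fin 5) (Fin 5) F) * kM * (↑g⁻¹ : Matrix (Fin 5) (Fin 5) F) with hk'
    have hk'K : k' ∈ K := (hgN kM).mp k.2
    have hcomm : (g : Matrix (Fin 5) (Fin 5) F) * kM = k' * g := by rw [hk', mul_assoc, Units.inv_mul, mul_one]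
    have hpow : ∀ n : ℕ, (g : Matrix (Fin 5) (Fin 5) F) * kM ^ n = k' ^ n * g := by
      intro n
      induction n with
      | zero => simp
      | succ n ih => rw [pow_succ, ← mul_assoc, ih, mul_assoc, hcomm, ← mul_assoc, ← pow_succ]
    have hk'11 : k' ^ 11 = 1 := by
      have h := hpow 11
      rw [hkM11, mul_one] at h
      have h' := congrArg (fun M => M * (↑g⁻¹ : Matrix (Fin 5) (Fin 5) F)) h
      simpa [mul_assoc] using h'.symm
    obtain ⟨a, ha, hka⟩ := hkprim.eq_pow_of_pow_eq_one (show (⟨k', hk'K⟩ : K) ^ 11 = 1 from Subtype.ext hk'11)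
    have hka' : kM ^ a = k' := by simpa using congrArg Subtype.val hka
    have hroot : polyAt a = ⟨.z, .z, .z, .z, .z⟩ := by
      apply hXinj
      have hy : ∀ n x, ((kM ^ a) ^ n) *ᵥ (X *ᵥ tov ω x) = X *ᵥ tov ω ((fun z => (comp5.pow a).mv z)^[n] x) := by
        intro n
        induction n with
        | zero => simp
        | succ n ih => intro x; rw [pow_succ', ← mulVec_mulVec, ih, hshiftP, Function.iterate_succ_apply']
      have e := fun n => hy n first
      have hP : (kM ^ a) ^ 5 + ω • (kM ^ a) ^ 4 + (kM ^ a) ^ 3 + (kM ^ a) ^ 2 + ω ^ 2 • (kM ^ a) + 1 = 0 := by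
        have h : (g : Matrix (Fin 5) (Fin 5) F) * (kM ^ 5 + ω • kM ^ 4 + kM ^ 3 + kM ^ 2 + ω ^ 2 • kM + 1) = 0 := by
          have h0 := congrArg (Subtype.val : K → Matrix (Fin 5) (Fin 5) F) hkP
          simp [← hkM, Algebra.algebraMap_eq_smul_one, smul_pow] at h0
          rw [h0, mul_zero]
        simp only [mul_add, mul_smul_comm, hpow, mul_one] at h
        rw [hcomm] at h
        simp only [hka']
        have h' := congrArg (fun M => M * (↑g⁻¹ : Matrix (Fin 5) (Fin 5) F)) h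
        simpa [add_mul, mul_assoc] using h'
      have hP' := congrArg (fun M => M *ᵥ (X *ᵥ tov ω first)) hP
      have e1 : (kM ^ a) *ᵥ (X *ᵥ tov ω first) = X *ᵥ tov ω ((comp5.pow a).mv first) := hshiftP v a first
      simp only [add_mulVec, smul_mulVec, one_mulVec, zero_mulVec, e, e1] at hP'
      simp only [Function.iterate_succ, Function.iterate_zero, Function.comp_apply, id_eq] at hP'
      rw [show tov ω (⟨.z, .z, .z, .z, .z⟩ : V5) = 0 by funext i; fin_cases i <;> simp [tov, phi], mulVec_zero, ← hP']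
      have hw : ω + 1 = ω ^ 2 := by linear_combination (-1 : F) * hω + (ω + 1) * h2
      simp only [polyAt, show comp5.e.a = Q4.o from rfl, show comp5.e.b = Q4.w from rfl, show comp5.e.c = Q4.o from rfl,
        show comp5.e.d = Q4.o from rfl, show comp5.e.e = Q4.u from rfl, tov_add h2 hω, tov_smul h2 hω, phi, mulVec_add,
        mulVec_smul, one_smul, hw]
      abel
    obtain ⟨j, hj⟩ : ∃ j : ℕ, kM ^ (4 ^ j) = k' := by
      have hmem := poly_roots a (List.mem_range.mpr ha) hroot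
      rw [← hka']
      simp only [List.mem_cons, List.not_mem_nil, or_false] at hmem
      rcases hmem with rfl | rfl | rfl | rfl | rfl
      · exact ⟨0, rfl⟩
      · exact ⟨1, rfl⟩
      · exact ⟨2, (pow_eq_pow_mod _ hkM11).trans rfl⟩
      · exact ⟨3, (pow_eq_pow_mod _ hkM11).trans rfl⟩
      · exact ⟨4, (pow_eq_pow_mod _ hkM11).trans rfl⟩
    have hsn : ∀ (s : GL (Fin 5) F), (s : Matrix (Fin 5) (Fin 5) F) * kM = kM ^ 4 * s → ∀ n : ℕ,
        (s : Matrix (Fin 5) (Fin 5) F) * kM ^ n = kM ^ (4 * n) * s := by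
      intro s hs n
      induction n with
      | zero => simp
      | succ n ih => rw [pow_succ, ← mul_assoc, ih, mul_assoc, hs, ← mul_assoc, ← pow_add]; rfl
    have hsj : ∀ j : ℕ, ((gs ^ j : GL (Fin 5) F) : Matrix (Fin 5) (Fin 5) F) * kM = kM ^ (4 ^ j) * (gs ^ j : GL (Fin 5) F) := by
      intro j
      induction j with
      | zero => simp
      | succ j ih =>
        rw [pow_succ', Units.val_mul, mul_assoc, ih, ← mul_assoc, hsn gs hsk, mul_assoc, pow_succ', mul_comm]
    set h := (gs ^ j)⁻¹ * g with hh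
    have hhk : (h : Matrix (Fin 5) (Fin 5) F) * kM = kM * h := by
      rw [hh, Units.val_mul, mul_assoc, hcomm, ← hj]
      refine (Units.mul_right_inj (gs ^ j)).mp ?_
      rw [← mul_assoc, ← mul_assoc, Units.mul_inv, one_mul, ← mul_assoc, hsj, mul_assoc, ← mul_assoc _ (↑(gs ^ j)⁻¹ : Matrix (Fin 5) (Fin 5) F),
        Units.mul_inv, one_mul]
    have hhU : h ∈ Cfsg.GU 5 F 2 :=
      mul_mem (inv_mem (pow_mem (hmkGU frb isometries.2.1) j)) hgU
    have hcl : ∀ d : ℕ, (h : Matrix (Fin 5) (Fin 5) F) * kM ^ d = kM ^ d * h := fun d =>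
      ((Commute.pow_right (show Commute (h : Matrix (Fin 5) (Fin 5) F) kM from hhk)) d).eq
    obtain ⟨y, hy⟩ := hXsurj ((h : Matrix (Fin 5) (Fin 5) F) *ᵥ v)
    have hyv : vals gram5 y = std := tov_inj h2 hω (funext fun d => by
      show tov ω (vals (toep std) y) d = _
      rw [hvalsOf v std y hv d, ← hXdef, hy, mulVec_mulVec, ← hcl, ← mulVec_mulVec, hv]
      exact hhU _ _)
    obtain ⟨i, -, s, -, hys⟩ := commutant_unitary y (V5.mem_all y) hyv
    have hheq : (h : Matrix (Fin 5) (Fin 5) F) = phi ω s • kM ^ i := by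
      have hXe : ∀ l : Fin 5, X *ᵥ Pi.single l 1 = (kM ^ (l : ℕ)) *ᵥ v := basisMat_single kM v
      have hv' : (h : Matrix (Fin 5) (Fin 5) F) *ᵥ v = (phi ω s • kM ^ i) *ᵥ v := by
        rw [← hy, hys, tov_smul h2 hω, mulVec_smul, ← hshiftP, hfirst, smul_mulVec]
      have hX' : (h : Matrix (Fin 5) (Fin 5) F) * X = (phi ω s • kM ^ i) * X :=
        Matrix.ext_of_mulVec_single fun l => by
          rw [← mulVec_mulVec, ← mulVec_mulVec, hXe, mulVec_mulVec, hcl, ← mulVec_mulVec, hv', mulVec_mulVec,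
            mulVec_mulVec, mul_smul_comm, smul_mul_assoc, ← pow_add, ← pow_add, add_comm]
      exact (hunit X hX).mul_right_cancel hX'
    have hgj : g = gs ^ j * h := by rw [hh]; group
    rw [hgj]
    refine mul_mem (pow_mem (hOmk frb isometries.2.1 fun p hp => (orbit_stable p hp).2.1) j) fun p hp => ?_
    have hki : gk ^ i ∈ OG := pow_mem (hOmk comp5 isometries.1 fun p hp => (orbit_stable p hp).1) i
    obtain ⟨p', hp', c, hc⟩ := hki p hp
    refine ⟨p', hp', phi ω s * c, ?_⟩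
    rw [Units.val_pow_eq_pow_val, hgkv] at hc
    rw [hheq, smul_mulVec, hc, smul_smul]
  -- the involution
  have htS : gt ∈ Cfsg.GU 5 F 2 ⊓ specialLinear (Fin 5) F := by
    refine ⟨hmkGU invo isometries.2.2, ?_⟩
    have hsq : (gt : Matrix (Fin 5) (Fin 5) F) * gt = 1 := hext fun x => by
      rw [← mulVec_mulVec, hgt, hmk invo isometries.2.2, hmk invo isometries.2.2, one_mulVec, hcomp, inv_sq, hone]
    have hd := congrArg Matrix.det hsq
    rw [det_mul, det_one] at hd
    refine mem_specialLinear.mpr ?_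
    have : ((gt : Matrix (Fin 5) (Fin 5) F).det - 1) ^ 2 = 0 := by
      linear_combination hd + (1 - (gt : Matrix (Fin 5) (Fin 5) F).det) * h2
    exact sub_eq_zero.mp (pow_eq_zero_iff two_ne_zero |>.mp this)
  have htN : gt ∉ subalgebraNormalizer K := by
    intro ht
    have hin := (ht kM).mp k.2
    have hc := hK.comm _ hin _ k.2
    have hgt2 : (↑gt⁻¹ : Matrix (Fin 5) (Fin 5) F) = gt := by
      have hsq : gt * gt = 1 := Units.ext (hext fun x => by
        rw [Units.val_mul, ← mulVec_mulVec, hgt, hmk invo isometries.2.2, hmk invo isometries.2.2, Units.val_one,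
          one_mulVec, hcomp, inv_sq, hone])
      rw [inv_eq_of_mul_eq_one_right hsq]
    rw [hgt2] at hc
    apply inv_not_normal
    have hh : ∀ x, ((invo.mul (comp5.mul invo)).mul comp5).mv x =
        (comp5.mul (invo.mul (comp5.mul invo))).mv x := fun x => hXinj _ _ (by
      have := congrArg (fun M => M *ᵥ (X *ᵥ tov ω x)) hc
      have hshiftX : ∀ x, kM *ᵥ (X *ᵥ tov ω x) = X *ᵥ tov ω (comp5.mv x) := hshift v
      simp only [← hkM, ← mulVec_mulVec, hshiftX, hgt, hmk invo isometries.2.2] at this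
      simp only [← hcomp]
      exact this)
    have col : ∀ A : M5, A = ⟨A.mv ⟨.o, .z, .z, .z, .z⟩, A.mv ⟨.z, .o, .z, .z, .z⟩, A.mv ⟨.z, .z, .o, .z, .z⟩,
        A.mv ⟨.z, .z, .z, .o, .z⟩, A.mv ⟨.z, .z, .z, .z, .o⟩⟩ := by
      intro A
      rcases A with ⟨⟨a1, a2, a3, a4, a5⟩, ⟨b1, b2, b3, b4, b5⟩, ⟨c1, c2, c3, c4, c5⟩, ⟨d1, d2, d3, d4, d5⟩,
        ⟨e1, e2, e3, e4, e5⟩⟩
      have hm : ∀ a : Q4, Q4.mul .o a = a ∧ Q4.mul .z a = .z ∧ Q4.add a .z = a ∧ Q4.add .z a = a := fun a => by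
        cases a <;> exact ⟨rfl, rfl, rfl, rfl⟩
      simp [M5.mv, V5.smul, V5.add, hm]
    rw [col ((invo.mul (comp5.mul invo)).mul comp5), col (comp5.mul (invo.mul (comp5.mul invo))),
      hh, hh, hh, hh, hh]
  -- a transvection moving the orbit
  have hz : f (X *ᵥ tov ω iso) (X *ᵥ tov ω iso) = 0 := by rw [hX, iso_isotropic]; rfl
  have hc1 : σ (1 : F) = -1 := by rw [map_one]; linear_combination h2
  have htvS := tv_mem_isoSL hf hz hc1
  have hmoved : ¬ Cfsg.GU 5 F 2 ⊓ specialLinear (Fin 5) F ≤ OG := by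
    intro hle
    have hfo : first ∈ orbit := by decide +kernel
    obtain ⟨p', hp', c, hc⟩ := hle htvS first hfo
    rw [tvec_mulVec, smul_dotProduct, (CfsgLib.Geo.Unit.linLeft hf).dot, one_smul, hX,
      ← mulVec_smul, ← mulVec_add, ← tov_smul h2 hω, ← tov_add h2 hω] at hc
    obtain ⟨s, rfl⟩ := phi_surj h2 hω h4 c
    rw [← mulVec_smul, ← tov_smul h2 hω] at hc
    have hm := hXinj _ _ hc
    have hmv := moved
    rw [hm] at hmv
    have hgen : ∀ p ∈ orbit, first.add (V5.smul (form gram5 first iso) iso) ≠ V5.smul .z p ∧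
        inOrbit (V5.smul .o p) = true ∧ inOrbit (V5.smul .u p) = true ∧ inOrbit (V5.smul .w p) = true := by
      decide +kernel
    obtain ⟨g0, g1, g2, g3⟩ := hgen p' hp'
    cases s
    · exact g0 hm
    · rw [g1] at hmv; exact Bool.noConfusion hmv
    · rw [g2] at hmv; exact Bool.noConfusion hmv
    · rw [g3] at hmv; exact Bool.noConfusion hmv
  rcases hH.2 (OG ⊓ (Cfsg.GU 5 F 2 ⊓ specialLinear (Fin 5) F)) (le_inf hHM hH.1.le) inf_le_right with h | h
  · have : gt ∈ H := h ▸ ⟨hOmk invo isometries.2.2 (fun p hp => (orbit_stable p hp).2.2), htS⟩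
    rw [hN] at this
    exact htN this.1
  · exact hmoved (h ▸ inf_le_left)

end CfsgLib.Aschbacher
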