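import Cfsg.Agent.Aschbacher.Form.UnitaryMaximal
import Cfsg.Agent.Geo.SympLagrangianPair

/-!
Over at most nine elements the stabiliser of two totally isotropic halves in dimension four is defined over the
fixed field, up to scalars.
-/
set_option autoImplicit false

namespace CfsgLib.Aschbacher

open Matrix Cfsg Cfsg.Geo
open scoped MatrixGroups

variable {F : Type*} [Field F]

local notation "II" => (Fin 2 ⊕ Fin 2)
local notation "J₂" => (!![(0 : F), -1; 1, 0])

lemma skew_two_congr' (A : Matrix (Fin 2) (Fin 2) F) :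
    A * J₂ * Aᵀ = A.det • J₂ := by
  ext i j; fin_cases i <;> fin_cases j <;> simp [Matrix.mul_apply, Fin.sum_univ_two, Matrix.det_fin_two] <;> ring

lemma skew_two_dual {A B : Matrix (Fin 2) (Fin 2) F} (h : Aᵀ * B = 1) : A * J₂ = A.det • (J₂ * B) := by
  calc A * J₂ = A * J₂ * (Aᵀ * B) := by rw [h, mul_one]
    _ = _ := by rw [← mul_assoc, skew_two_congr', smul_mul_assoc]

/-- The semilinear involution on a pair of halves. -/
def halfT : Matrix II II F := fromBlocks 0 J₂ (-J₂) 0

/-- The fixed points of the semilinear involution. -/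
def halfQ (σ : F ≃+* F) (α : F) : Matrix II II F :=
  fromBlocks !![1, α; 0, 0] !![0, 0; 1, α] !![0, 0; -1, -σ α] !![1, σ α; 0, 0]

lemma halfT_sq : halfT (F := F) * halfT = 1 := by
  ext (a | a) (b | b) <;> fin_cases a <;> fin_cases b <;> simp [halfT, fromBlocks_multiply]

lemma halfQ_map (σ : F ≃+* F) {α : F} (hinv : σ (σ α) = α) : (halfQ σ α).map σ = halfT * halfQ σ α := by
  ext (a | a) (b | b) <;> fin_cases a <;> fin_cases b <;> simp [halfT, halfQ, fromBlocks_multiply, hinv]

lemma halfQ_injective (σ : F ≃+* F) {α : F} (hα : σ α ≠ α) {x : II → F} (h : halfQ σ α *ᵥ x = 0) : x = 0 := by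
  have e1 := congrFun h (Sum.inl 0)
  have e2 := congrFun h (Sum.inl 1)
  have e3 := congrFun h (Sum.inr 0)
  have e4 := congrFun h (Sum.inr 1)
  simp [halfQ, mulVec, dotProduct, Fintype.sum_sum_type, Fin.sum_univ_two, fromBlocks] at e1 e2 e3 e4
  have h1 : (α - σ α) * x (Sum.inl 1) = 0 := by linear_combination e1 + e4
  have h2 : (α - σ α) * x (Sum.inr 1) = 0 := by linear_combination e2 - e3
  have hne : α - σ α ≠ 0 := sub_ne_zero.mpr (Ne.symm hα)
  have z1 := (mul_eq_zero.mp h1).resolve_left hne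
  have z2 := (mul_eq_zero.mp h2).resolve_left hne
  funext i
  rcases i with i | i <;> fin_cases i
  · simpa [z1] using e1
  · exact z1
  · simpa [z2] using e2
  · exact z2

/-- The two blocks of a preserved pair of halves. -/
lemma half_blocks {σ : F ≃+* F} (hinv : ∀ a, σ (σ a) = a) (hone : ∀ x : F, σ x = x → x ≠ 0 → x = 1 ∨ x = -1)
    {A B : Matrix (Fin 2) (Fin 2) F} (h : Aᵀ * B.map σ = 1) (hdet : A.det * B.det = 1) :
    ∃ d : F, (d = 1 ∨ d = -1) ∧ A.map σ * J₂ = d • (J₂ * B) ∧ B.map σ * J₂ = d • (J₂ * A) := by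
  have hd1 : A.det * σ B.det = 1 := by
    have := congrArg Matrix.det h
    rwa [det_mul, det_transpose, det_one, ← RingEquiv.mapMatrix_apply, ← RingEquiv.map_det] at this
  have hA0 : A.det ≠ 0 := fun h0 => by simp [h0] at hdet
  have hfixB : σ B.det = B.det := mul_left_cancel₀ hA0 (hd1.trans hdet.symm)
  have hfixA : σ A.det = A.det := by
    have := congrArg σ hd1
    rw [map_mul, map_one, hinv, ← hdet] at this
    exact mul_right_cancel₀ (fun h0 => by simp [h0] at hdet) this
  have hAd := hone _ hfixA hA0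
  have hBd : B.det = A.det := by
    rcases hAd with h1 | h1
    · rw [h1, one_mul] at hdet
      rw [h1, hdet]
    · rw [h1] at hdet ⊢
      linear_combination -hdet
  refine ⟨A.det, hAd, ?_, ?_⟩
  · have h1 : (A.map σ)ᵀ * B = 1 := by
      have := congrArg (fun M => M.map σ) h
      simp only [Matrix.map_mul, Matrix.map_one _ (map_zero σ) (map_one σ)] at this
      rw [transpose_map, Matrix.map_map, show (σ ∘ σ : F → F) = id from funext hinv, Matrix.map_id] at this
      exact this
    rw [skew_two_dual h1, ← RingEquiv.mapMatrix_apply, ← RingEquiv.map_det, hfixA]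
  · have h1 : (B.map σ)ᵀ * A = 1 := by
      have := congrArg Matrix.transpose h
      rwa [transpose_mul, transpose_transpose, transpose_one] at this
    rw [skew_two_dual h1, ← RingEquiv.mapMatrix_apply, ← RingEquiv.map_det, hfixB, hBd]

variable [Fintype F] {ι : Type} [Fintype ι] [DecidableEq ι] {σ : F ≃+* F} {f : (ι → F) → (ι → F) → F}

/-- A conjugate of a matrix over a subfield, up to scalars, lies in the subfield group. -/
lemma mem_subfieldSubgroup_of {F₀ : Subfield F} {P g : GL ι F} {c : F} (hc : c ≠ 0) {M : Matrix ι ι F}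
    (hM : ∀ i j, M i j ∈ F₀) (hg : ((P⁻¹ * g * P : GL ι F) : Matrix ι ι F) = c • M) : g ∈ subfieldSubgroup F₀ P := by
  let M₀ : Matrix ι ι F₀ := Matrix.of fun i j => ⟨M i j, hM i j⟩
  have hmap : M₀.map F₀.subtype = M := by ext i j; rfl
  have hu : IsUnit M₀ := by
    rw [Matrix.isUnit_iff_isUnit_det, isUnit_iff_ne_zero]
    intro h0
    have h1 : M.det = 0 := by rw [← hmap, ← RingHom.mapMatrix_apply, ← RingHom.map_det, h0, map_zero]
    have h2 := (P⁻¹ * g * P).isUnit
    rw [hg, Matrix.isUnit_iff_isUnit_det, det_smul, h1, mul_zero] at h2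
    exact not_isUnit_zero h2
  refine ⟨P⁻¹ * g * P, ?_, by simp [mul_assoc]⟩
  rw [show P⁻¹ * g * P = Matrix.GeneralLinearGroup.map (F₀.subtype : F₀ →+* F) hu.unit *
      (Units.map (Matrix.scalar ι).toMonoidHom (Units.mk0 c hc)) from Units.ext (by
    rw [hg, Units.val_mul]
    show c • M = M₀.map F₀.subtype * Matrix.scalar ι c
    rw [hmap]
    ext i j
    simp [Matrix.scalar_apply, Matrix.mul_diagonal, mul_comm])]
  exact Subgroup.mul_mem_sup ⟨_, rfl⟩ ⟨_, rfl⟩

/-- Coordinates adapted to a pair of totally isotropic halves. -/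
lemma exists_unitary_halves_basis (hf : IsUnitaryForm σ f) (hn : Fintype.card ι = 4)
    {D : Fin 2 → Submodule F (ι → F)} (hD : IsMDecomposition 2 D) (hts : ∀ i, IsTotallySingularFor f (D i)) :
    ∃ (e : II ≃ ι) (P : GL ι F),
      (Matrix.reindex e.symm e.symm ((P : Matrix ι ι F)ᵀ * gramMatrix f * (P : Matrix ι ι F).map σ) =
        fromBlocks 0 1 1 0) ∧
      (∀ k, (P : Matrix ι ι F) *ᵥ Pi.single (e (Sum.inl k)) 1 ∈ D 0) ∧
      (∀ k, (P : Matrix ι ι F) *ᵥ Pi.single (e (Sum.inr k)) 1 ∈ D 1) := by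
  classical
  have hs := isSesq_of_unitary hf
  obtain ⟨e⟩ : Nonempty (II ≃ ι) := ⟨Fintype.equivOfCardEq (by simp [hn])⟩
  let bW := Module.finBasisOfFinrankEq F (D 0) (hD.finrank_eq 0)
  let L : D 1 →ₗ[F] (Fin 2 → F) :=
    { toFun := fun u i => f (u : ι → F) (bW i : ι → F)
      map_add' := fun u v => funext fun i => hf.add_left _ _ _
      map_smul' := fun c u => funext fun i => hf.smul_left _ _ _ }
  have htop : D 0 ⊔ D 1 = ⊤ := by
    rw [← hD.iSup_eq_top, ← Finset.sup_univ_eq_iSup]
    simp [Fin.univ_succ]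
  have hinj : Function.Injective L := by
    rw [← LinearMap.ker_eq_bot, Submodule.eq_bot_iff]
    rintro ⟨u, hu⟩ hker
    rw [LinearMap.mem_ker] at hker
    by_contra h0
    obtain ⟨-, x, hx⟩ := hf.nondegenerate u fun h => h0 (Subtype.ext h)
    apply hx
    obtain ⟨w, hw, u', hu', rfl⟩ := Submodule.mem_sup.mp (htop.ge (Submodule.mem_top (x := x)))
    rw [hs.add_right, hts 1 u hu u' hu', add_zero, hf.herm]
    let φ : D 0 →ₗ[F] F :=
      { toFun := fun w => f (w : ι → F) u, map_add' := fun a b => hf.add_left _ _ _,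
        map_smul' := fun c a => hf.smul_left _ _ _ }
    have hφ : φ = 0 := bW.ext fun i => by
      show f (bW i : ι → F) u = 0
      rw [hf.herm, show f u (bW i : ι → F) = 0 from congrFun hker i, map_zero]
    rw [show f w u = 0 from LinearMap.congr_fun hφ ⟨w, hw⟩, map_zero]
  have hsurj : Function.Surjective L := (LinearMap.injective_iff_surjective_of_finrank_eq_finrank
    (by rw [hD.finrank_eq, Module.finrank_fin_fun])).mp hinj
  choose d hd using fun k : Fin 2 => hsurj (Pi.single k 1)
  let col : II → (ι → F) := Sum.elim (fun k => (bW k : ι → F)) (fun k => (d k : ι → F))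
  have hG : ∀ c c', f (col c) (col c') = (fromBlocks 0 1 1 0 : Matrix II II F) c c' := by
    rintro (c | c) (c' | c')
    · exact hts 0 _ (bW c).2 _ (bW c').2
    · rw [hf.herm, show f (col (Sum.inr c')) (col (Sum.inl c)) = _ from congrFun (hd c') c]
      simp [Pi.single_apply, Matrix.one_apply, apply_ite σ]
    · rw [show f (col (Sum.inr c)) (col (Sum.inl c')) = _ from congrFun (hd c) c']
      simp [Pi.single_apply, Matrix.one_apply, eq_comm]
    · exact hts 1 _ (d c).2 _ (d c').2
  set M : Matrix ι ι F := Matrix.of fun r c => col (e.symm c) r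
  have hcol : ∀ c, M *ᵥ Pi.single (e c) 1 = col c := fun c => by ext r; simp [M]
  have hgram : Matrix.reindex e.symm e.symm (Mᵀ * gramMatrix f * M.map σ) = fromBlocks 0 1 1 0 := by
    ext c c'
    rw [← hG c c', hs.eq_gram, ← hcol, ← hcol, comp_mulVec, ← vecMul_transpose M, ← dotProduct_mulVec, mulVec_mulVec,
      mulVec_mulVec]
    simp [Function.comp_def, Pi.single_apply, apply_ite σ, Matrix.mulVec, dotProduct, mul_assoc]
  have hu : IsUnit M := by
    rw [Matrix.isUnit_iff_isUnit_det, isUnit_iff_ne_zero]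
    intro h0
    have h1 := congrArg Matrix.det hgram
    rw [Matrix.det_reindex_self, det_mul, det_mul, det_transpose, h0, zero_mul, zero_mul] at h1
    have h2 := congrArg Matrix.det (show (fromBlocks 0 1 1 0 : Matrix II II F) * fromBlocks 0 1 1 0 = 1 by
      simp [fromBlocks_multiply])
    rw [det_mul, ← h1, zero_mul, det_one] at h2
    exact zero_ne_one h2
  refine ⟨e, hu.unit, hgram, fun k => ?_, fun k => ?_⟩
  · show M *ᵥ _ ∈ D 0
    rw [hcol]; exact (bW k).2
  · show M *ᵥ _ ∈ D 1
    rw [hcol]; exact (d k).2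

/-- Over at most nine elements the stabiliser of two totally isotropic halves in the special unitary group of
dimension four lies in a subfield group of symplectic type. -/
theorem unitary_halves_to_subfield (hf : IsUnitaryForm σ f) (hn : Fintype.card ι = 4) (hq : Fintype.card F ≤ 9)
    {D : Fin 2 → Submodule F (ι → F)} (hD : IsMDecomposition 2 D) (hts : ∀ i, IsTotallySingularFor f (D i))
    {H : Subgroup (GL ι F)} (hH : H ≤ decompositionStabilizer D ⊓ isoSL f) :
    ∃ (P : GL ι F) (ζ : F), ζ ≠ 0 ∧ ζ + σ ζ = 0 ∧ IsFormRationalStructure f (fixSubfield σ) ζ P ∧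
      (∀ u : ι → F, (∀ i, u i ∈ fixSubfield σ) → f ((P : Matrix ι ι F) *ᵥ u) ((P : Matrix ι ι F) *ᵥ u) = 0) ∧
      H ≤ subfieldSubgroup (fixSubfield σ) P := by
  classical
  have hs := isSesq_of_unitary hf
  have hinv := hf.involutive
  have hone : ∀ x : F, σ x = x → x ≠ 0 → x = 1 ∨ x = -1 := by
    intro x hx hx0
    have hc := card_eq_sq_fixSubfield hf.ne_refl hinv
    have h3 : Nat.card (fixSubfield σ) ≤ 3 := by nlinarith
    letI := Fintype.ofFinite (fixSubfield σ)
    set y : fixSubfield σ := ⟨x, hx⟩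
    have hy : y ≠ 0 := fun h => hx0 (congrArg Subtype.val h)
    have h := FiniteField.pow_card_sub_one_eq_one y hy
    rw [← Nat.card_eq_fintype_card] at h
    have h2 : 2 ≤ Nat.card (fixSubfield σ) := by
      rw [Nat.card_eq_fintype_card]; exact Fintype.one_lt_card
    interval_cases Nat.card (fixSubfield σ)
    · exact Or.inl (by simpa [y] using congrArg Subtype.val h)
    · exact mul_self_eq_one_iff.mp (by simpa [y, sq] using congrArg Subtype.val h)
  obtain ⟨α, hα⟩ : ∃ α, σ α ≠ α := by
    by_contra h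
    push Not at h
    exact hf.ne_refl (RingEquiv.ext h)
  obtain ⟨e, P₀, hgram, hP0, hP1⟩ := exists_unitary_halves_basis hf hn hD hts
  set Q : Matrix II II F := halfQ σ α with hQdef
  have hQu : IsUnit Q := Matrix.mulVec_injective_iff_isUnit.mp fun x y h => sub_eq_zero.mp
    (halfQ_injective σ hα (by rw [mulVec_sub, sub_eq_zero]; exact h))
  have hQσ : Q.map σ = halfT * Q := halfQ_map σ (hinv α)
  have hQ' : IsUnit (Matrix.reindex e e Q) := (Matrix.isUnit_iff_isUnit_det _).mpr (by
    rw [Matrix.det_reindex_self]; exact (Matrix.isUnit_iff_isUnit_det _).mp hQu)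
  set Qe : GL ι F := hQ'.unit
  set P : GL ι F := P₀ * Qe with hPdef
  have hre : ∀ A B : Matrix ι ι F, (A * B).submatrix e e = A.submatrix e e * B.submatrix e e := fun A B =>
    (Matrix.submatrix_mul_equiv A B e e e).symm
  set ζ := α - σ α with hζ
  have hζσ : σ ζ = -ζ := by rw [hζ, map_sub, hinv]; ring
  have hval : ∀ u v : ι → F, (∀ i, v i ∈ fixSubfield σ) → f ((P : Matrix ι ι F) *ᵥ u) ((P : Matrix ι ι F) *ᵥ v) =
      (u ∘ e) ⬝ᵥ ((Qᵀ * (fromBlocks 0 1 1 0 * halfT) * Q) *ᵥ (v ∘ e)) := by
    intro u v hv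
    have hσv : σ ∘ v = v := funext hv
    rw [hs.eq_gram, comp_mulVec, hσv, ← vecMul_transpose (P : Matrix ι ι F), ← dotProduct_mulVec, mulVec_mulVec,
      mulVec_mulVec]
    have hmid : Matrix.reindex e.symm e.symm ((P : Matrix ι ι F)ᵀ * gramMatrix f * (P : Matrix ι ι F).map σ) =
        Qᵀ * (fromBlocks 0 1 1 0 * halfT) * Q := by
      have h1 : (P : Matrix ι ι F)ᵀ * gramMatrix f * (P : Matrix ι ι F).map σ = (Matrix.reindex e e Q)ᵀ *
          ((P₀ : Matrix ι ι F)ᵀ * gramMatrix f * (P₀ : Matrix ι ι F).map σ) * (Matrix.reindex e e Q).map σ := by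
        rw [hPdef, Units.val_mul, show (Qe : Matrix ι ι F) = Matrix.reindex e e Q from rfl, transpose_mul,
          Matrix.map_mul]
        simp only [mul_assoc]
      rw [← hgram, h1, mul_assoc Qᵀ, mul_assoc _ halfT, ← hQσ]
      simp [hre, Matrix.transpose_submatrix, Matrix.submatrix_map, mul_assoc]
    rw [← hmid]
    simp [dotProduct, mulVec, Matrix.submatrix, ← e.sum_comp, mul_assoc]
  have hrat : ∀ a b, σ ((Qᵀ * (fromBlocks 0 1 1 0 * halfT) * Q : Matrix II II F) a b) =
      - (Qᵀ * (fromBlocks 0 1 1 0 * halfT) * Q : Matrix II II F) a b := by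
    intro a b
    set K : Matrix II II F := fromBlocks 0 1 1 0 * halfT
    have hKσ : K.map σ = K := by
      ext (a | a) (b | b) <;> fin_cases a <;> fin_cases b <;> simp [K, halfT, fromBlocks_multiply]
    have hTK : halfTᵀ * K * halfT = -K := by
      ext (a | a) (b | b) <;> fin_cases a <;> fin_cases b <;>
        simp [K, halfT, fromBlocks_multiply, fromBlocks_transpose, Matrix.mul_apply, Fin.sum_univ_two]
    have h : (Qᵀ * K * Q).map σ = -(Qᵀ * K * Q) := by
      rw [Matrix.map_mul, Matrix.map_mul, hKσ, transpose_map, hQσ, transpose_mul]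
      calc Qᵀ * halfTᵀ * K * (halfT * Q) = Qᵀ * (halfTᵀ * K * halfT) * Q := by simp only [mul_assoc]
        _ = _ := by rw [hTK, Matrix.mul_neg, Matrix.neg_mul]
    exact congrFun (congrFun h a) b
  refine ⟨P, ζ, sub_ne_zero.mpr (Ne.symm hα), by rw [hζσ]; ring, fun u v hu hv => ?_, fun u hu => ?_, fun g hg => ?_⟩
  · show σ _ = _
    rw [map_mul, hζσ, hval u v hv]
    simp only [dotProduct, mulVec, map_sum, map_mul, Function.comp_apply, show ∀ i, σ (u i) = u i from hu,
      show ∀ i, σ (v i) = v i from hv, hrat]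
    simp only [mul_neg, neg_mul, Finset.sum_neg_distrib, neg_neg]
  · rw [hval u u hu]
    have halt : ∀ x : II → F, x ⬝ᵥ ((fromBlocks 0 1 1 0 * halfT : Matrix II II F) *ᵥ x) = 0 := fun x => by
      rw [show fromBlocks 0 1 1 0 * halfT = fromBlocks (-J₂) 0 0 J₂ by simp [halfT, fromBlocks_multiply]]
      simp [dotProduct, mulVec, Fintype.sum_sum_type, fromBlocks, Fin.sum_univ_two]
      ring
    rw [← mulVec_mulVec, ← mulVec_mulVec, dotProduct_mulVec, vecMul_transpose]
    exact halt _
  · obtain ⟨hgD, hgS⟩ := hH hg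
    obtain ⟨π, hπ⟩ := CfsgLib.Geo.exists_perm_of_mem hgD
    set g' : GL ι F := P₀⁻¹ * g * P₀ with hg'def
    set G : Matrix II II F := Matrix.reindex e.symm e.symm (g' : Matrix ι ι F) with hGdef
    have hzero : ∀ i, ∀ w ∈ D i, ∀ r, (if i = 0 then r else r.swap).isRight →
        (((P₀⁻¹ : GL ι F) : Matrix ι ι F) *ᵥ w) (e r) = 0 := by
      intro i w hw r hr
      have hsp : ∀ (c : Fin 2 → II), (∀ k, (P₀ : Matrix ι ι F) *ᵥ Pi.single (e (c k)) 1 ∈ D i) → Function.Injective c →
          (∀ k, c k ≠ r) → (((P₀⁻¹ : GL ι F) : Matrix ι ι F) *ᵥ w) (e r) = 0 := by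
        intro c hc hci hcr
        let v : Fin 2 → D i := fun k => ⟨_, hc k⟩
        have hvl : LinearIndependent F v := by
          apply LinearIndependent.of_comp (D i).subtype
          have h1 := (((Pi.basisFun F ι).linearIndependent).map' (Matrix.toLin' (P₀ : Matrix ι ι F))
            (LinearMap.ker_eq_bot.mpr (mulVec_injective_GL P₀))).comp (e ∘ c) (e.injective.comp hci)
          have h2 : ⇑(D i).subtype ∘ v =
              (⇑(Matrix.toLin' (P₀ : Matrix ι ι F)) ∘ ⇑(Pi.basisFun F ι)) ∘ (e ∘ c) := by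
            funext k
            simp [v, Matrix.toLin'_apply]
          rw [h2]
          exact h1
        have hvt : Submodule.span F (Set.range v) = ⊤ := hvl.span_eq_top_of_card_eq_finrank (by simp [hD.finrank_eq])
        obtain ⟨x, hx⟩ := (Submodule.mem_span_range_iff_exists_fun F).mp (hvt ▸ Submodule.mem_top (x := (⟨w, hw⟩ : D i)))
        have hx' : w = ∑ k, x k • ((P₀ : Matrix ι ι F) *ᵥ Pi.single (e (c k)) 1) := by
          have h2 := congrArg (D i).subtype hx
          simp only [map_sum, map_smul, Submodule.subtype_apply] at h2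
          exact h2.symm
        rw [hx', mulVec_sum, Finset.sum_apply]
        refine Finset.sum_eq_zero fun k _ => ?_
        rw [mulVec_smul, mulVec_mulVec, Units.inv_mul, one_mulVec]
        simp [Ne.symm (hcr k)]
      fin_cases i
      · exact hsp Sum.inl hP0 Sum.inl_injective (fun k h => by subst h; simp at hr)
      · exact hsp Sum.inr hP1 Sum.inr_injective (fun k h => by subst h; simp at hr)
    have hentry : ∀ r c, G r c = (((P₀⁻¹ : GL ι F) : Matrix ι ι F) *ᵥ
        ((g : Matrix ι ι F) *ᵥ ((P₀ : Matrix ι ι F) *ᵥ Pi.single (e c) 1))) (e r) := fun r c => by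
      rw [mulVec_mulVec, mulVec_mulVec, mulVec_single_one, Matrix.col_apply]
      simp [G, hg'def, mul_assoc]
    have hgu : (g : Matrix ι ι F)ᵀ * gramMatrix f * (g : Matrix ι ι F).map σ = gramMatrix f := by
      ext a b
      have h := hgS.1 (Pi.single a 1) (Pi.single b 1)
      rw [hs.eq_gram, hs.eq_gram, comp_mulVec, ← vecMul_transpose, ← dotProduct_mulVec, mulVec_mulVec, mulVec_mulVec] at h
      simpa [Function.comp_def, Pi.single_apply, apply_ite σ, Matrix.mulVec, dotProduct, mul_assoc] using h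
    have hform : Gᵀ * fromBlocks 0 1 1 0 * G.map σ = fromBlocks 0 1 1 0 := by
      have h1 : (P₀ : Matrix ι ι F).map σ * ((P₀⁻¹ : GL ι F) : Matrix ι ι F).map σ = 1 := by
        rw [← Matrix.map_mul, Units.mul_inv, Matrix.map_one _ (map_zero σ) (map_one σ)]
      have h2 : ((P₀⁻¹ : GL ι F) : Matrix ι ι F)ᵀ * (P₀ : Matrix ι ι F)ᵀ = 1 := by
        rw [← transpose_mul, Units.mul_inv, transpose_one]
      have h : (g' : Matrix ι ι F)ᵀ * ((P₀ : Matrix ι ι F)ᵀ * gramMatrix f * (P₀ : Matrix ι ι F).map σ) *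
          (g' : Matrix ι ι F).map σ = (P₀ : Matrix ι ι F)ᵀ * gramMatrix f * (P₀ : Matrix ι ι F).map σ := by
        rw [hg'def, Units.val_mul, Units.val_mul, transpose_mul, transpose_mul, Matrix.map_mul, Matrix.map_mul]
        conv_rhs => rw [← hgu]
        simp only [mul_assoc]
        rw [← mul_assoc ((P₀⁻¹ : GL ι F) : Matrix ι ι F)ᵀ, h2, one_mul, ← mul_assoc ((P₀ : Matrix ι ι F).map σ), h1,
          one_mul]
      rw [← hgram]
      conv_rhs => rw [← h]
      simp [G, hre, Matrix.transpose_submatrix, Matrix.submatrix_map, mul_assoc]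
    have hdet : G.det = 1 := by
      rw [hGdef, Matrix.det_reindex_self, hg'def, Units.val_mul, Units.val_mul, det_mul, det_mul,
        CfsgLib.Geo.mem_specialLinear.mp hgS.2, mul_one, ← det_mul, Units.inv_mul, det_one]
    obtain ⟨d, hd, hGT⟩ : ∃ d : F, (d = 1 ∨ d = -1) ∧ G.map σ * halfT = d • (halfT * G) := by
      rw [← fromBlocks_toBlocks G] at hform hdet ⊢
      rcases Fin.exists_fin_two.mp ⟨π 0, rfl⟩ with h0 | h0
      · have h1 : π 1 = 1 := (Fin.exists_fin_two.mp ⟨π 1, rfl⟩).resolve_left fun h => by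
          simpa using π.injective (h.trans h0.symm)
        have z1 : G.toBlocks₁₂ = 0 := by
          ext a b; show G (Sum.inl a) (Sum.inr b) = 0
          rw [hentry]; exact hzero 1 _ (h1 ▸ hπ 1 _ (hP1 b)) _ rfl
        have z2 : G.toBlocks₂₁ = 0 := by
          ext a b; show G (Sum.inr a) (Sum.inl b) = 0
          rw [hentry]; exact hzero 0 _ (h0 ▸ hπ 0 _ (hP0 b)) _ rfl
        rw [z1, z2] at hform hdet ⊢
        rw [Matrix.det_fromBlocks_zero₂₁] at hdet
        simp only [fromBlocks_transpose, fromBlocks_map, Matrix.map_zero _ (map_zero σ), fromBlocks_multiply,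
          transpose_zero, Matrix.mul_zero, Matrix.zero_mul, add_zero, zero_add, Matrix.mul_one, fromBlocks_inj] at hform
        obtain ⟨d, hd, hA, hB⟩ := half_blocks hinv hone hform.2.1 hdet
        refine ⟨d, hd, ?_⟩
        simp only [halfT, fromBlocks_map, Matrix.map_zero _ (map_zero σ), fromBlocks_multiply, fromBlocks_smul,
          Matrix.mul_zero, Matrix.zero_mul, add_zero, zero_add, smul_zero, Matrix.mul_neg, Matrix.neg_mul, smul_neg,
          neg_zero, hA, hB]
      · have h1 : π 1 = 0 := (Fin.exists_fin_two.mp ⟨π 1, rfl⟩).resolve_right fun h => by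
          simpa using π.injective (h.trans h0.symm)
        have z1 : G.toBlocks₁₁ = 0 := by
          ext a b; show G (Sum.inl a) (Sum.inl b) = 0
          rw [hentry]; exact hzero 1 _ (h0 ▸ hπ 0 _ (hP0 b)) _ rfl
        have z2 : G.toBlocks₂₂ = 0 := by
          ext a b; show G (Sum.inr a) (Sum.inr b) = 0
          rw [hentry]; exact hzero 0 _ (h1 ▸ hπ 1 _ (hP1 b)) _ rfl
        rw [z1, z2] at hform hdet ⊢
        have hdet' : G.toBlocks₂₁.det * G.toBlocks₁₂.det = 1 := by
          rw [← hdet, show fromBlocks (0 : Matrix (Fin 2) (Fin 2) F) G.toBlocks₁₂ G.toBlocks₂₁ 0 =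
            (fromBlocks G.toBlocks₂₁ 0 0 G.toBlocks₁₂).submatrix (Equiv.sumComm (Fin 2) (Fin 2)) id by
              ext (i | i) (j | j) <;> simp, Matrix.det_permute, Matrix.det_fromBlocks_zero₂₁,
            show Equiv.Perm.sign (Equiv.sumComm (Fin 2) (Fin 2) : Equiv.Perm II) = 1 by decide]
          simp
        simp only [fromBlocks_transpose, fromBlocks_map, Matrix.map_zero _ (map_zero σ), fromBlocks_multiply,
          transpose_zero, Matrix.mul_zero, Matrix.zero_mul, add_zero, zero_add, Matrix.mul_one, fromBlocks_inj] at hform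
        obtain ⟨d, hd, hA, hB⟩ := half_blocks hinv hone hform.2.1 hdet'
        refine ⟨-d, hd.symm.imp (fun h => by rw [h, neg_neg]) (fun h => by rw [h]), ?_⟩
        simp only [halfT, fromBlocks_map, Matrix.map_zero _ (map_zero σ), fromBlocks_multiply, fromBlocks_smul,
          Matrix.mul_zero, Matrix.zero_mul, add_zero, zero_add, smul_zero, Matrix.mul_neg, Matrix.neg_mul, smul_neg,
          neg_smul, neg_zero, neg_neg, fromBlocks_neg, hA, hB]
    obtain ⟨l, hl0, hl⟩ : ∃ l : F, l ≠ 0 ∧ σ l = d * l := by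
      rcases hd with rfl | rfl
      · exact ⟨1, one_ne_zero, by rw [map_one, mul_one]⟩
      · exact ⟨ζ, sub_ne_zero.mpr (Ne.symm hα), by rw [hζσ, neg_one_mul]⟩
    set Qi := ((hQu.unit⁻¹ : GL II F) : Matrix II II F)
    have hQi : Qi * Q = 1 := hQu.val_inv_mul
    have hQi' : Q * Qi = 1 := hQu.mul_val_inv
    have hQiσ : Qi.map σ = Qi * halfT := by
      have h1 : (Qi.map σ) * (Q.map σ) = 1 := by
        rw [← Matrix.map_mul, hQi, Matrix.map_one _ (map_zero σ) (map_one σ)]
      calc Qi.map σ = Qi.map σ * (Q.map σ * (Qi * halfT)) := by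
            rw [hQσ, mul_assoc halfT Q, ← mul_assoc Q, hQi', one_mul, halfT_sq, mul_one]
        _ = _ := by rw [← mul_assoc, h1, one_mul]
    set M : Matrix II II F := l⁻¹ • (Qi * G * Q)
    have hMσ : M.map σ = M := by
      calc M.map σ = σ l⁻¹ • ((Qi * G * Q).map σ) := by
            ext a b; simp only [M, Matrix.map_apply, Matrix.smul_apply, smul_eq_mul, map_mul]
        _ = σ l⁻¹ • (Qi * halfT * (G.map σ * halfT) * Q) := by
          rw [Matrix.map_mul, Matrix.map_mul, hQσ, hQiσ]; simp only [mul_assoc]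
        _ = (σ l⁻¹ * d) • (Qi * G * Q) := by
          rw [hGT, mul_smul_comm, smul_mul_assoc, smul_smul]
          congr 1
          rw [mul_assoc Qi halfT (halfT * G), ← mul_assoc halfT halfT, halfT_sq, one_mul]
        _ = M := by
          show _ = l⁻¹ • _
          congr 1
          rw [map_inv₀, hl, mul_inv]
          have : d ≠ 0 := by rcases hd with rfl | rfl <;> simp
          field_simp
    refine mem_subfieldSubgroup_of hl0 (M := Matrix.reindex e e M) (fun a b => congrFun (congrFun hMσ _) _) ?_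
    rw [hPdef, show (P₀ * Qe)⁻¹ * g * (P₀ * Qe) = Qe⁻¹ * g' * Qe by rw [hg'def]; group, Units.val_mul, Units.val_mul,
      show ((Qe⁻¹ : GL ι F) : Matrix ι ι F) = Matrix.reindex e e Qi from Units.inv_eq_of_mul_eq_one_right (by
        show Matrix.reindex e e Q * Matrix.reindex e e Qi = 1
        simp [Matrix.submatrix_mul_equiv, hQi']),
      show (Qe : Matrix ι ι F) = Matrix.reindex e e Q from rfl,
      show (g' : Matrix ι ι F) = Matrix.reindex e e G by simp [G]]
    ext a b
    simp [M, Matrix.submatrix_mul_equiv, mul_inv_cancel_left₀ hl0]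

end CfsgLib.Aschbacher
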