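import Cfsg.Agent.Aschbacher.Form.UnitaryStd
import Cfsg.Agent.Aschbacher.Form.FourPlanes

/-!
The maximal subgroups of the special unitary groups.
-/
set_option autoImplicit false

namespace CfsgLib.Aschbacher

open Matrix Cfsg Cfsg.Geo CfsgLib.GeoClifford
open scoped MatrixGroups

variable {F : Type*} [Field F] [Fintype F]

/-- Maximal subgroups of the special unitary group in dimension at least four: a member of one of the classes,
with the obvious numerical conditions, or residual. The normaliser of a group of class two is assumed proper. -/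
theorem maximal_unitary {n q : ℕ} (hF : Fintype.card F = q ^ 2) (hn : 4 ≤ n) {H : Subgroup (GL (Fin n) F)}
    (hH : IsMaximalIn (Cfsg.GU n F q ⊓ specialLinear (Fin n) F) H)
    (hnorm : ∀ R : Subgroup (GL (Fin n) F), ActsAbsolutelyIrreducibly (matrixSet R) → ⁅R, R⁆ ≤ scalars (Fin n) F →
      ¬ Cfsg.GU n F q ⊓ specialLinear (Fin n) F ≤ subgroupNormalizer R) :
    let f := Cfsg.hermForm n F q
    let S := Cfsg.GU n F q ⊓ specialLinear (Fin n) F
    (∃ W : Submodule F (Fin n → F), W ≠ ⊥ ∧ IsTotallySingularFor f W ∧ H = subspaceStabilizer W ⊓ S) ∨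
    (∃ W : Submodule F (Fin n → F), W ≠ ⊥ ∧ IsNondegenerateOn f W ∧ 2 * Module.finrank F W < n ∧
      H = subspaceStabilizer W ⊓ S) ∨
    (∃ (t k : ℕ) (D : Fin t → Submodule F (Fin n → F)), t * k = n ∧ 2 ≤ t ∧ 1 ≤ k ∧ (k = 2 → 3 ≤ q) ∧
      IsNondegenerateMDecomposition f k D ∧ H = decompositionStabilizer D ⊓ S) ∨
    (∃ (k : ℕ) (D : Fin 2 → Submodule F (Fin n → F)), 2 * k = n ∧ IsMDecomposition k D ∧
      (∀ i, IsTotallySingularFor f (D i)) ∧ H = decompositionStabilizer D ⊓ S) ∨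
    (∃ (r : ℕ) (K : Subalgebra F (Matrix (Fin n) (Fin n) F)), r.Prime ∧ Odd r ∧ r ∣ n ∧ IsFieldSubalgebra r K ∧
      IsAdjointClosedFor f K ∧ H = subalgebraNormalizer K ⊓ S) ∨
    (∃ (n₁ n₂ : ℕ) (e : Fin n ≃ Fin n₁ × Fin n₂) (P : GL (Fin n) F) (f₁ : (Fin n₁ → F) → (Fin n₁ → F) → F)
      (f₂ : (Fin n₂ → F) → (Fin n₂ → F) → F), 2 ≤ n₁ ∧ n₁ < n₂ ∧ n₁ * n₂ = n ∧ (n₁ = 2 → 3 ≤ q) ∧
      IsUnitaryFormPow q f₁ ∧ IsUnitaryFormPow q f₂ ∧ IsTensorFormStructure (fun x : F => x ^ q) f f₁ f₂ e P ∧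
      H = tensorProductSubgroup n₁ n₂ e P ⊓ S) ∨
    (∃ (F₀ : Subfield F) (r : ℕ) (P : GL (Fin n) F), r.Prime ∧ Odd r ∧ Fintype.card F = Nat.card F₀ ^ r ∧
      IsFormRationalStructure f F₀ 1 P ∧ H = subfieldSubgroup F₀ P ⊓ S) ∨
    (∃ (F₀ : Subfield F) (P : GL (Fin n) F) (ζ : F), Even n ∧ Fintype.card F = Nat.card F₀ ^ 2 ∧ ζ ≠ 0 ∧
      ζ + ζ ^ q = 0 ∧ IsFormRationalStructure f F₀ ζ P ∧
      (∀ u : Fin n → F, (∀ i, u i ∈ F₀) →
        f ((P : Matrix (Fin n) (Fin n) F) *ᵥ u) ((P : Matrix (Fin n) (Fin n) F) *ᵥ u) = 0) ∧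
      H = subfieldSubgroup F₀ P ⊓ S) ∨
    (Odd q ∧ ∃ (F₀ : Subfield F) (P : GL (Fin n) F), Fintype.card F = Nat.card F₀ ^ 2 ∧
      IsFormRationalStructure f F₀ 1 P ∧ H = subfieldSubgroup F₀ P ⊓ S) ∨
    (∃ (r : ℕ) (R : Subgroup (GL (Fin n) F)) (p e k : ℕ), n = r ^ k ∧ IsSymplecticTypeGroup r R ∧
      ActsAbsolutelyIrreducibly (matrixSet R) ∧ R ≤ similarityGroup f ∧ r ≠ p ∧
      IsMinimalFieldFor (Nat.card (Subgroup.center R)) p e F ∧ q ^ 2 = p ^ e ∧
      ((Odd r ∧ Nat.card (Subgroup.center R) = r ∧ 1 ≤ k ∧ Nat.card R = r ^ (1 + 2 * k)) ∨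
       (r = 2 ∧ e = 2 ∧ Nat.card (Subgroup.center R) = 4 ∧ Nat.card R = 2 ^ (2 + 2 * k))) ∧
      H = subgroupNormalizer R ⊓ S) ∨
    (∃ (k t : ℕ) (e : Fin n ≃ (Fin t → Fin k)) (P : GL (Fin n) F) (f₁ : (Fin k → F) → (Fin k → F) → F),
      3 ≤ k ∧ 2 ≤ t ∧ k ^ t = n ∧ ¬ (q = 2 ∧ k = 3) ∧ IsUnitaryFormPow q f₁ ∧
      IsTensorPowerFormStructure (fun x : F => x ^ q) f f₁ e P ∧ H = tensorWreathSubgroup k t e P ⊓ S) ∨
    InUnitaryResidualClass H := by
  classical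
  intro f S
  obtain ⟨σ, hf, hσ, -⟩ := exists_hermForm_unitary (n := n) hF
  have hσf : (⇑σ : F → F) = fun x => x ^ q := funext hσ
  have hfix : FixesForm (matrixSet H) f := fixesForm_of_le_isoSL (f := f) hH.1.le
  have hcard : Fintype.card (Fin n) = n := Fintype.card_fin n
  have hn3 : 3 ≤ Fintype.card (Fin n) := by omega
  have hq2 : 2 ≤ q := by
    by_contra h
    have := Fintype.one_lt_card (α := F)
    rw [hF] at this
    interval_cases q <;> simp at this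
  have hpow : ∀ {k : ℕ} {g : (Fin k → F) → (Fin k → F) → F}, IsUnitaryForm σ g → IsUnitaryFormPow q g :=
    fun hg => ⟨hg.add_left, hg.smul_left, fun v w => by rw [← hσ]; exact hg.herm v w, hg.nondegenerate⟩
  have hlines : ∀ {t : ℕ} {D : Fin t → Submodule F (Fin n → F)}, IsNondegenerateMDecomposition f 1 D →
      ¬ S ≤ decompositionStabilizer D := by
    intro t D hD
    obtain rfl : t = Fintype.card (Fin n) := by have := decomposition_card hD.decomp; omega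
    exact isoSL_not_le_frame hf (by omega) hD
  have hsub : ∀ {W : Submodule F (Fin n → F)}, W ≠ ⊥ → W ≠ ⊤ → ¬ S ≤ subspaceStabilizer W := fun h0 h1 =>
    isoSL_not_le_subspace hf hn3 h0 h1
  rcases unitary_structure hf hn3 hfix with
    ⟨W, h0, hW, hG⟩ | ⟨W, h0, hW, hd, hG⟩ | ⟨t, k, D, hD, hG⟩ | ⟨k, D, hk, hD, hts, hG⟩ |
    ⟨r, K, hr, hro, hK, hac, hG⟩ | ⟨n₁, n₂, e, P, f₁, f₂, h1, h2, hf₁, hf₂, hT, hG⟩ |
    ⟨F₀, r, P, ζ, hr, hc, hζ, hP, hG, hkind⟩ | ⟨r, R, p, e, k, h1, h2, h3, h4, h5, h6, hcl, hdim, hG⟩ |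
    ⟨k, t, e, P, f₁, hk, ht, hex, hf₁, hT, hG⟩ | h
  · refine Or.inl ⟨W, h0, hW, eq_inf_of_le hH hG (hsub h0 fun htop => ?_)⟩
    obtain ⟨z, x, -, hzx⟩ := exists_isotropic_pair hf hn3
    exact hzx (hW z (htop ▸ Submodule.mem_top) x (htop ▸ Submodule.mem_top))
  · rw [hcard] at hd
    refine Or.inr (Or.inl ⟨W, h0, hW, hd, eq_inf_of_le hH hG (hsub h0 fun htop => ?_)⟩)
    rw [htop, finrank_top, Module.finrank_fintype_fun_eq_card, hcard] at hd
    omega
  · by_cases hex : k = 2 ∧ q < 3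
    · obtain ⟨rfl, hq⟩ := hex
      obtain rfl : q = 2 := by omega
      obtain ⟨D', hD', hG'⟩ := planes_to_lines (by rw [hF]; norm_num) hf hfix hD hG
      refine Or.inr (Or.inr (Or.inl ⟨_, 1, D', ?_, hD'.decomp.two_le, le_rfl, by omega, hD',
        eq_inf_of_le hH hG' (hlines hD')⟩))
      rw [decomposition_card hD'.decomp, hcard]
    refine Or.inr (Or.inr (Or.inl ⟨t, k, D, by rw [decomposition_card hD.decomp, hcard], hD.decomp.two_le, hD.decomp.pos,
      fun h => by by_contra hq; exact hex ⟨h, by omega⟩, hD, eq_inf_of_le hH hG ?_⟩))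
    by_cases hk : k = 1
    · subst hk; exact hlines hD
    · exact isoSL_not_le_decomposition hf hn3 hD.decomp (by have := hD.decomp.pos; omega)
  · rw [hcard] at hk
    exact Or.inr (Or.inr (Or.inr (Or.inl ⟨k, D, hk, hD, hts,
      eq_inf_of_le hH hG (isoSL_not_le_decomposition hf hn3 hD (by omega))⟩)))
  · exact Or.inr (Or.inr (Or.inr (Or.inr (Or.inl ⟨r, K, hr, hro, hcard ▸ fieldSubalgebra_dvd hK, hK, hac,
      eq_inf_of_le hH hG (isoSL_not_le_field hf hn3 hr.two_le hK)⟩))))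
  · have hnn : n₁ * n₂ = n := by simpa using (Fintype.card_congr e).symm
    by_cases hex : n₁ = 2 ∧ q < 3
    · obtain ⟨rfl, hq⟩ := hex
      obtain rfl : q = 2 := by omega
      obtain ⟨D, hD, hG'⟩ := tensor_two_to_blocks (by rw [hF]; norm_num) hf hfix (by omega) hf₁ hf₂ hT hG
      exact Or.inr (Or.inr (Or.inl ⟨2, n₂, D, hnn, le_rfl, by omega, by omega, hD,
        eq_inf_of_le hH hG' (isoSL_not_le_decomposition hf hn3 hD.decomp (by omega))⟩))
    exact Or.inr (Or.inr (Or.inr (Or.inr (Or.inr (Or.inl ⟨n₁, n₂, e, P, f₁, f₂, h1, h2, hnn,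
      fun h => by by_contra hq; exact hex ⟨h, by omega⟩, hpow hf₁, hpow hf₂, hσf ▸ hT,
      eq_inf_of_le hH hG (isoSL_not_le_tensor hf hn3 h1 (by omega) e P)⟩)))))
  · rcases hkind with ⟨rfl, hr'⟩ | ⟨rfl, hev, hsum, hz⟩
    · have hproper := isoSL_not_le_subfield hf hn3 hr hr' hc hP
      rcases hr' with hr' | ⟨rfl, hodd⟩
      · exact Or.inr (Or.inr (Or.inr (Or.inr (Or.inr (Or.inr (Or.inl
          ⟨F₀, r, P, hr, hr', hc, hP, eq_inf_of_le hH hG hproper⟩))))))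
      · rw [hF] at hodd
        exact Or.inr (Or.inr (Or.inr (Or.inr (Or.inr (Or.inr (Or.inr (Or.inr (Or.inl
          ⟨(Nat.odd_pow_iff (by norm_num)).mp hodd, F₀, P, hc, hP, eq_inf_of_le hH hG hproper⟩))))))))
    · rw [hcard] at hev
      rw [hσ] at hsum
      exact Or.inr (Or.inr (Or.inr (Or.inr (Or.inr (Or.inr (Or.inr (Or.inl
        ⟨F₀, P, ζ, hev, hc, hζ, hsum, hP, hz,
          eq_inf_of_le hH hG (isoSL_not_le_subfield_symplectic hf hn3 hc hζ hP hz)⟩)))))))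
  · exact Or.inr (Or.inr (Or.inr (Or.inr (Or.inr (Or.inr (Or.inr (Or.inr (Or.inr (Or.inl
      ⟨r, R, p, e, k, by rw [← hdim, hcard], h1, h2, h3, h4, h5, hF.symm.trans h5.2.2.1, h6,
        eq_inf_of_le hH hG (hnorm R h2 hcl)⟩)))))))))
  · exact Or.inr (Or.inr (Or.inr (Or.inr (Or.inr (Or.inr (Or.inr (Or.inr (Or.inr (Or.inr (Or.inl
      ⟨k, t, e, P, f₁, hk, ht, by simpa using (Fintype.card_congr e).symm,
        fun ⟨hq, hk3⟩ => hex ⟨by rw [hF, hq]; norm_num, hk3⟩, hpow hf₁, hσf ▸ hT,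
        eq_inf_of_le hH hG (isoSL_not_le_wreath hf hn3 hk ht e P)⟩))))))))))
  · exact Or.inr (Or.inr (Or.inr (Or.inr (Or.inr (Or.inr (Or.inr (Or.inr (Or.inr (Or.inr (Or.inr h))))))))))

/-- The normaliser of a group of class two is proper in dimension at least five. -/
lemma unitary_normalizer_proper {n q : ℕ} (hF : Fintype.card F = q ^ 2) (hn : 5 ≤ n) (R : Subgroup (GL (Fin n) F))
    (hR : ActsAbsolutelyIrreducibly (matrixSet R)) (hcl : ⁅R, R⁆ ≤ scalars (Fin n) F) :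
    ¬ Cfsg.GU n F q ⊓ specialLinear (Fin n) F ≤ subgroupNormalizer R := by
  obtain ⟨σ, hf, -⟩ := exists_hermForm_unitary (n := n) hF
  exact isoSL_not_le_normalizer hf (by rw [Fintype.card_fin]; exact hn) hR hcl

/-- Extraspecial 3-groups in a unitary group need a prime field of order congruent to two modulo three. -/
lemma classSix_three {z p e q : ℕ} (h : IsMinimalFieldFor z p e F) (hz : z = 3) (hq : q ^ 2 = p ^ e) :
    q = p ∧ p % 3 = 2 := by
  obtain ⟨hp, -, hcard, hdvd, hmin⟩ := h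
  subst hz
  have h1 : 1 ≤ p ^ e := Nat.one_le_pow _ _ hp.pos
  have he0 : 0 < e := by
    rcases Nat.eq_zero_or_pos e with h0 | h0
    · exfalso
      have h2 := Fintype.one_lt_card (α := F)
      rw [hcard, h0, pow_zero] at h2
      omega
    · exact h0
  have h3 : p % 3 ≠ 0 := by
    intro h0
    have : 3 ∣ p ^ e := dvd_pow (Nat.dvd_of_mod_eq_zero h0) he0.ne'
    omega
  have hp2 : 3 ∣ p ^ 2 - 1 := by
    have h2 : p ^ 2 % 3 = 1 := by
      rw [Nat.pow_mod]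
      obtain h | h : p % 3 = 1 ∨ p % 3 = 2 := by omega
      all_goals simp [h]
    omega
  have he2 : e ≤ 2 := by
    by_contra h2
    exact hmin 2 two_pos (by omega) hp2
  interval_cases e
  · rw [pow_one] at hq
    exact absurd (hq ▸ hp) (Nat.Prime.not_prime_pow (le_refl 2))
  · refine ⟨Nat.pow_left_injective two_ne_zero hq, ?_⟩
    by_contra hne
    exact hmin 1 one_pos one_lt_two (by rw [pow_one]; omega)

/-- Groups of symplectic type with centre of order four in a unitary group need a prime field, three modulo four. -/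
lemma classSix_two {z p e q : ℕ} (h : IsMinimalFieldFor z p e F) (hz : z = 4) (he : e = 2) (hq : q ^ 2 = p ^ e) :
    q = p ∧ p % 4 = 3 := by
  obtain ⟨hp, -, -, hdvd, hmin⟩ := h
  subst hz he
  refine ⟨Nat.pow_left_injective two_ne_zero hq, ?_⟩
  have h1 := hmin 1 one_pos one_lt_two
  rw [pow_one] at h1
  have hp2 := hp.two_le
  have hodd : p % 2 = 1 := by
    rcases hp.eq_two_or_odd with rfl | h
    · norm_num at hdvd
    · exact h
  omega

end CfsgLib.Aschbacher
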