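import Cfsg.Agent.Aschbacher.Form.CentralFour
import Cfsg.Agent.Aschbacher.Form.SympFourThree
import Cfsg.Agent.Aschbacher.Form.UnitaryMaximal
import Cfsg.Agent.Geo.SympLagrangianPair

/-!
Over nine elements the stabiliser of four orthogonal lines normalises a group of symplectic type.
-/
set_option autoImplicit false

namespace CfsgLib.Aschbacher

open Matrix Cfsg Cfsg.Geo
open scoped MatrixGroups commutatorElement

variable {F : Type*} [Field F]

namespace CP

/-- A power with exponent modulo four. -/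
def wp (w : F) (c : ZMod 4) : F := w ^ c.val

lemma wp_add {w : F} (hw : w ^ 4 = 1) (c d : ZMod 4) : wp w (c + d) = wp w c * wp w d := by
  rw [wp, wp, wp, ← pow_add, ZMod.val_add, ← pow_eq_pow_mod _ hw]

lemma wp_zero (w : F) : wp w 0 = 1 := by simp [wp]

lemma add_zero' : ∀ k, add k 0 = k := by decide +kernel

/-- The monomial matrix of an element. -/
def mat (w : F) (x : E) : Matrix (Fin 4) (Fin 4) F :=
  Matrix.of fun r k => if r = add k x.b then wp w (ex x k) else 0

lemma mat_one (w : F) : mat w 1 = 1 := by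
  ext r k
  have h : ∀ k, ex 1 k = 0 ∧ add k (1 : E).b = k := by decide +kernel
  simp [mat, (h k).1, (h k).2, wp_zero, Matrix.one_apply]

lemma mat_mul {w : F} (hw : w ^ 4 = 1) (x y : E) : mat w (x * y) = mat w x * mat w y := by
  ext r k
  simp only [mat, Matrix.mul_apply, Matrix.of_apply]
  rw [Finset.sum_eq_single (add k y.b) (fun s _ hs => by simp [hs]) (by simp), if_pos rfl,
    show add k (x * y).b = add (add k y.b) x.b by rw [mul_def, add_assoc', add_comm' x.b], ex_mul, wp_add hw]
  split <;> ring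

end CP

variable [Fintype F] {σ : F ≃+* F} {f : (Fin 4 → F) → (Fin 4 → F) → F}

/-- A primitive fourth root of unity over nine elements. -/
lemma exists_root_four (hq : Fintype.card F = 9) : ∃ w : F, w * w = -1 ∧ (2 : F) ≠ 0 := by
  have h2 : (2 : F) ≠ 0 := odd_card_iff_two_ne_zero.mp (by rw [hq]; decide)
  obtain ⟨w, hw⟩ : IsSquare (-1 : F) := FiniteField.isSquare_neg_one_iff.mpr (by rw [hq]; decide)
  exact ⟨w, hw.symm, h2⟩

/-- Over nine elements the stabiliser of four orthogonal lines normalises a group of symplectic type. -/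
theorem unitary_lines_to_classSix (hf : IsUnitaryForm σ f) (hq : Fintype.card F = 9) (hσ : ∀ x, σ x = x ^ 3)
    {D : Fin 4 → Submodule F (Fin 4 → F)} (hD : IsNondegenerateMDecomposition f 1 D)
    {H : Subgroup (GL (Fin 4) F)} (hH : H ≤ decompositionStabilizer D ⊓ isoSL f) :
    ∃ R : Subgroup (GL (Fin 4) F), IsSymplecticTypeGroup 2 R ∧ ActsAbsolutelyIrreducibly (matrixSet R) ∧
      ⁅R, R⁆ ≤ scalars (Fin 4) F ∧ R ≤ similarityGroup f ∧ Nat.card R = 64 ∧
      Nat.card (Subgroup.center R) = 4 ∧ H ≤ subgroupNormalizer R := by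
  classical
  have hs := isSesq_of_unitary hf
  obtain ⟨w, hww, h2⟩ := exists_root_four hq
  have hw4 : w ^ 4 = 1 := by
    calc w ^ 4 = (w * w) * (w * w) := by ring
      _ = 1 := by rw [hww]; ring
  have hwσ : ∀ c, CP.wp w c * σ (CP.wp w c) = 1 := fun c => by
    rw [hσ, CP.wp]
    calc w ^ c.val * (w ^ c.val) ^ 3 = (w ^ 4) ^ c.val := by ring
      _ = 1 := by rw [hw4, one_pow]
  have hfour : ∀ s : F, s * σ s = 1 → ∃ c, s = CP.wp w c := by
    intro s hss
    rw [hσ] at hss
    have h4 : (s * s - 1) * (s * s - w * w) = 0 := by rw [hww]; linear_combination hss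
    rcases mul_eq_zero.mp h4 with h | h
    · rcases mul_self_eq_one_iff.mp (sub_eq_zero.mp h) with h | h
      · exact ⟨0, by rw [h, CP.wp_zero]⟩
      · exact ⟨2, by rw [h, CP.wp, show (2 : ZMod 4).val = 2 from rfl, sq, hww]⟩
    · rcases mul_self_eq_mul_self_iff.mp (sub_eq_zero.mp h) with h | h
      · exact ⟨1, by rw [h, CP.wp, show (1 : ZMod 4).val = 1 from rfl, pow_one]⟩
      · exact ⟨3, by rw [h, CP.wp, show (3 : ZMod 4).val = 3 from rfl]; linear_combination -w * hww⟩
  have hm1 : (-1 : F) ≠ 1 := fun h => h2 (by linear_combination -h)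
  have hwp2 : CP.wp w 2 = -1 := by rw [CP.wp, show (2 : ZMod 4).val = 2 from rfl, sq, hww]
  have hwinj : ∀ c, CP.wp w c = 1 → c = 0 := by
    intro c hc
    obtain rfl | rfl | rfl | rfl := (show ∀ c : ZMod 4, c = 0 ∨ c = 1 ∨ c = 2 ∨ c = 3 by decide) c
    · rfl
    · rw [CP.wp, show (1 : ZMod 4).val = 1 from rfl, pow_one] at hc
      exact absurd (by rw [hc, one_mul] at hww; exact hww.symm) hm1
    · exact absurd (hwp2.symm.trans hc) hm1
    · rw [CP.wp, show (3 : ZMod 4).val = 3 from rfl] at hc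
      have : w = 1 := by linear_combination hw4 - w * hc
      exact absurd (by rw [this, one_mul] at hww; exact hww.symm) hm1
  -- the orthonormal basis
  have hb : ∀ k, ∃ b ∈ D k, f b b = 1 := by
    intro k
    obtain ⟨v, hv, hv0⟩ := (D k).ne_bot_iff.mp fun h => by
      have := hD.decomp.finrank_eq k
      rw [h, finrank_bot] at this
      omega
    obtain ⟨-, u, hu, huv⟩ := hD.nondegenerate k v hv hv0
    obtain ⟨a, rfl⟩ := exists_smul_eq_of_finrank_eq_one (hD.decomp.finrank_eq k)
      (show (⟨v, hv⟩ : D k) ≠ 0 from fun h => hv0 (congrArg Subtype.val h)) ⟨u, hu⟩ |>.imp fun a h => (congrArg Subtype.val h).symm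
    simp only [SetLike.val_smul] at huv
    rw [hs.smul_right] at huv
    have hvv : f v v ≠ 0 := right_ne_zero_of_mul huv
    have hfix : σ (f v v)⁻¹ = (f v v)⁻¹ := by rw [map_inv₀, ← hf.herm]
    obtain ⟨c, hc⟩ := CfsgLib.Geo.Unit.exists_norm_eq hf.ne_refl hf.involutive hfix
    refine ⟨c • v, (D k).smul_mem c hv, ?_⟩
    rw [hs.smul_left, hs.smul_right, ← mul_assoc, hc, inv_mul_cancel₀ hvv]
  choose b hbD hb1 using hb
  set M : Matrix (Fin 4) (Fin 4) F := Matrix.of fun r c => b c r
  have hcol : ∀ k, M *ᵥ Pi.single k 1 = b k := fun k => by ext r; simp [M]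
  have hgram : Mᵀ * gramMatrix f * M.map σ = 1 := by
    ext j k
    have : f (b j) (b k) = (1 : Matrix (Fin 4) (Fin 4) F) j k := by
      by_cases h : j = k
      · subst h; simp [hb1]
      · rw [Matrix.one_apply_ne h]; exact hD.orthogonal j k h _ (hbD j) _ (hbD k)
    rw [← this, hs.eq_gram, ← hcol, ← hcol, comp_mulVec, ← vecMul_transpose M, ← dotProduct_mulVec, mulVec_mulVec,
      mulVec_mulVec]
    simp [Pi.single_apply, apply_ite σ, Matrix.mulVec, dotProduct, mul_assoc]
  have hMu : IsUnit M := by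
    rw [Matrix.isUnit_iff_isUnit_det, isUnit_iff_ne_zero]
    intro h0
    have h1 := congrArg Matrix.det hgram
    rw [det_mul, det_mul, det_transpose, h0, zero_mul, zero_mul, det_one] at h1
    exact zero_ne_one h1
  set P : GL (Fin 4) F := hMu.unit
  have hPf : ∀ u v, f ((P : Matrix (Fin 4) (Fin 4) F) *ᵥ u) ((P : Matrix (Fin 4) (Fin 4) F) *ᵥ v) = u ⬝ᵥ (σ ∘ v) := by
    intro u v
    rw [hs.eq_gram, comp_mulVec, ← vecMul_transpose (P : Matrix (Fin 4) (Fin 4) F), ← dotProduct_mulVec, mulVec_mulVec,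
      mulVec_mulVec]
    show u ⬝ᵥ ((Mᵀ * gramMatrix f * M.map σ) *ᵥ _) = _
    rw [hgram, one_mulVec]
  -- the group
  let φ₀ : CP.E →* GL (Fin 4) F := MonoidHom.toHomUnits
    { toFun := CP.mat w, map_one' := CP.mat_one w, map_mul' := CP.mat_mul hw4 }
  have hφ₀ : ∀ x, (φ₀ x : Matrix (Fin 4) (Fin 4) F) = CP.mat w x := fun x => rfl
  let φ : CP.E →* GL (Fin 4) F := (MulAut.conj P).toMonoidHom.comp φ₀
  have hφ : ∀ x, φ x = P * φ₀ x * P⁻¹ := fun x => rfl
  have hinj : Function.Injective φ := by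
    rw [injective_iff_map_eq_one]
    intro x hx
    have h1 := congrArg Units.val ((MulAut.conj P).map_eq_one_iff.mp hx)
    rw [hφ₀, Units.val_one] at h1
    have hb0 : ∀ k, CP.add k x.b = k := by
      intro k
      by_contra hne
      have h := congrFun (congrFun h1 (CP.add k x.b)) k
      simp only [CP.mat, Matrix.of_apply, if_true, Matrix.one_apply_ne hne] at h
      exact (pow_ne_zero _ (fun h0 : w = 0 => by simp [h0] at hw4)) h
    have hex : ∀ k, CP.ex x k = 0 := fun k => hwinj _ (by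
      have h := congrFun (congrFun h1 k) k
      simpa [CP.mat, hb0 k] using h)
    have hdec : ∀ x : CP.E, ((∀ k, CP.add k x.b = k) ∧ ∀ k, CP.ex x k = 0) → x = 1 := by decide +kernel
    exact hdec x ⟨hb0, hex⟩
  let eR : CP.E ≃* φ.range := MonoidHom.ofInjective hinj
  have hcardR : Nat.card φ.range = 64 := (Nat.card_congr eR.toEquiv).symm.trans CP.card_E
  refine ⟨φ.range, ⟨Nat.prime_two, ?_, ?_, ?_⟩, absIrred_of_span_eq_top ?_, ?_, ?_, hcardR, ?_, ?_⟩
  · exact IsPGroup.of_card (n := 6) (by rw [hcardR]; norm_num)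
  · intro A hA hAc
    have hchar : (A.comap eR.toMonoidHom).Characteristic := ⟨fun τ => by
      have h := hA.fixed ((eR.symm.trans τ).trans eR)
      ext x
      have h1 : eR (τ x) ∈ A ↔ eR x ∈ A := by
        conv_rhs => rw [← h]
        simp [Subgroup.mem_comap]
      simpa [Subgroup.mem_comap] using h1⟩
    have hc : IsMulCommutative (A.comap eR.toMonoidHom) := ⟨⟨fun x y => Subtype.ext (eR.injective (by
      rw [Subgroup.coe_mul, Subgroup.coe_mul, map_mul, map_mul]
      exact congrArg Subtype.val (hAc.is_comm.comm ⟨eR x, x.2⟩ ⟨eR y, y.2⟩)))⟩⟩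
    have := CP.cyclic_of_characteristic _ hchar hc
    let μ : A.comap eR.toMonoidHom →* A :=
      (eR.toMonoidHom.comp (A.comap eR.toMonoidHom).subtype).codRestrict A fun x => x.2
    refine isCyclic_of_surjective μ fun a => ?_
    obtain ⟨z, ha⟩ := a
    obtain ⟨x, hx⟩ := eR.surjective z
    subst hx
    exact ⟨⟨x, ha⟩, rfl⟩
  · rw [← Monoid.exponent_eq_of_mulEquiv eR, CP.exponent_E]; norm_num
  · rw [eq_top_iff]
    have hmem : ∀ x, (P : Matrix (Fin 4) (Fin 4) F) * CP.mat w x * ((P⁻¹ : GL (Fin 4) F) : Matrix (Fin 4) (Fin 4) F) ∈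
        Submodule.span F (matrixSet φ.range) := fun x =>
      Submodule.subset_span ⟨φ x, ⟨x, rfl⟩, by simp [hφ, hφ₀]⟩
    have hsingle : ∀ j k : Fin 4, Matrix.single j k (1 : F) =
        (4 : F)⁻¹ • ∑ a : Fin 4, CP.wp w (CP.chi a j) • CP.mat w ⟨0, a, CP.add j k⟩ := by
      intro j k
      have hcx : ∀ j k r c : Fin 4, r = CP.add c (CP.add j k) → ((j = r ∧ k = c) ↔ j = r) := by decide +kernel
      ext r c
      simp only [Matrix.smul_apply, Matrix.sum_apply, CP.mat, Matrix.of_apply, smul_eq_mul, Matrix.single_apply]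
      by_cases hr : r = CP.add c (CP.add j k)
      · have hsum : (∑ a : Fin 4, CP.wp w (CP.chi a j) *
            if r = CP.add c (CP.add j k) then CP.wp w (CP.ex ⟨0, a, CP.add j k⟩ c) else 0) =
            if j = r then 4 else 0 := by
          have hval : ∀ a i, CP.wp w (CP.chi a j + CP.chi a i) =
              ((if CP.chi a j + CP.chi a i = 0 then (1 : ℤ) else -1 : ℤ) : F) := by
            intro a i
            have hd : ∀ a j i : Fin 4, CP.chi a j + CP.chi a i = 0 ∨ CP.chi a j + CP.chi a i = 2 := by decide +kernel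
            rcases hd a j i with h | h <;> simp [h, CP.wp_zero, hwp2, show (2 : ZMod 4) ≠ 0 by decide]
          simp only [if_pos hr, ← CP.wp_add hw4]
          simp only [CP.ex, zero_add, ← hr, hval]
          rw [← Int.cast_sum, CP.orthogonal]
          split <;> simp
        rw [hsum]
        have h4 : (4 : F) ≠ 0 := by rw [show (4 : F) = 2 * 2 by norm_num]; exact mul_ne_zero h2 h2
        rw [if_congr (hcx j k r c hr) rfl rfl]
        split <;> simp [inv_mul_cancel₀ h4]
      · have : ¬ (j = r ∧ k = c) := by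
          rintro ⟨rfl, rfl⟩
          have : ∀ j k : Fin 4, j = CP.add k (CP.add j k) := by decide +kernel
          exact hr (this j k)
        simp [hr, this]
    intro N _
    set N' := ((P⁻¹ : GL (Fin 4) F) : Matrix (Fin 4) (Fin 4) F) * N * (P : Matrix (Fin 4) (Fin 4) F) with hN'
    have hN : N = (P : Matrix (Fin 4) (Fin 4) F) * N' * ((P⁻¹ : GL (Fin 4) F) : Matrix (Fin 4) (Fin 4) F) := by
      simp [hN', mul_assoc]
    rw [hN, Matrix.matrix_eq_sum_single N', Finset.mul_sum, Finset.sum_mul]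
    refine Submodule.sum_mem _ fun j _ => ?_
    rw [Finset.mul_sum, Finset.sum_mul]
    refine Submodule.sum_mem _ fun k _ => ?_
    rw [show Matrix.single j k (N' j k) = N' j k • Matrix.single j k (1 : F) by simp, mul_smul_comm, smul_mul_assoc]
    refine Submodule.smul_mem _ _ ?_
    rw [hsingle, mul_smul_comm, smul_mul_assoc, Finset.mul_sum, Finset.sum_mul]
    refine Submodule.smul_mem _ _ (Submodule.sum_mem _ fun a _ => ?_)
    rw [mul_smul_comm, smul_mul_assoc]
    exact Submodule.smul_mem _ _ (hmem _)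
  · rw [Subgroup.commutator_le]
    rintro _ ⟨x, rfl⟩ _ ⟨y, rfl⟩
    rw [← map_commutatorElement, commutatorElement_def]
    set z := x * y * x⁻¹ * y⁻¹
    obtain ⟨ha, hb'⟩ : z.a = 0 ∧ z.b = 0 := CP.commutator_ab x y
    have hu : CP.wp w z.c ≠ 0 := pow_ne_zero _ fun h0 => by simp [h0] at hw4
    rw [mem_scalars_iff]
    refine ⟨Units.mk0 _ hu, ?_⟩
    have hz : CP.mat w z = CP.wp w z.c • (1 : Matrix (Fin 4) (Fin 4) F) := by
      ext r c
      have hchi : ∀ k, CP.chi 0 k = 0 := by decide +kernel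
      simp [CP.mat, CP.ex, ha, hb', CP.add_zero', hchi, Matrix.one_apply, mul_ite]
    simp [hφ, hφ₀, hz]
  · rintro _ ⟨x, rfl⟩
    refine ⟨1, fun u v => ?_⟩
    rw [Units.val_one, one_mul, hφ, Units.val_mul, Units.val_mul, ← mulVec_mulVec, ← mulVec_mulVec, ← mulVec_mulVec,
      ← mulVec_mulVec, hPf, comp_mulVec, hφ₀, ← vecMul_transpose, ← dotProduct_mulVec, mulVec_mulVec]
    have hiso : (CP.mat w x)ᵀ * (CP.mat w x).map σ = 1 := by
      ext i j
      have hcancel : ∀ i j b : Fin 4, CP.add i b = CP.add j b ↔ i = j := by decide +kernel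
      simp only [Matrix.mul_apply, transpose_apply, Matrix.map_apply, CP.mat, Matrix.of_apply]
      rw [Finset.sum_eq_single (CP.add i x.b) (fun s _ hs => by simp [hs]) (by simp), if_pos rfl, Matrix.one_apply,
        if_congr (hcancel i j x.b) rfl rfl]
      split
      next h => subst h; exact hwσ _
      next h => simp
    rw [hiso, one_mulVec, ← hPf]
    simp only [mulVec_mulVec, Units.mul_inv, one_mulVec]
  · rw [← Nat.card_congr (Subgroup.centerCongr eR).toEquiv, CP.card_center]
  · intro g hg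
    obtain ⟨hgD, hgS⟩ := hH hg
    obtain ⟨π, hπ⟩ := CfsgLib.Geo.exists_perm_of_mem hgD
    set g' : GL (Fin 4) F := P⁻¹ * g * P
    have hP1 : ∀ k, (P : Matrix (Fin 4) (Fin 4) F) *ᵥ Pi.single k 1 = b k := hcol
    have hcolg : ∀ k, ∃ s : F, s * σ s = 1 ∧ (g : Matrix (Fin 4) (Fin 4) F) *ᵥ b k = s • b (π k) := by
      intro k
      have hb0 : (⟨b (π k), hbD _⟩ : D (π k)) ≠ 0 := fun h => by
        have h1 := hb1 (π k)
        rw [show b (π k) = 0 from congrArg Subtype.val h, hs.zero_left] at h1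
        exact zero_ne_one h1
      obtain ⟨s, hsv⟩ := exists_smul_eq_of_finrank_eq_one (hD.decomp.finrank_eq (π k)) hb0
        ⟨_, hπ k _ (hbD k)⟩
      have hsv' : (g : Matrix (Fin 4) (Fin 4) F) *ᵥ b k = s • b (π k) := (congrArg Subtype.val hsv).symm
      refine ⟨s, ?_, hsv'⟩
      have h1 : f ((g : Matrix (Fin 4) (Fin 4) F) *ᵥ b k) ((g : Matrix (Fin 4) (Fin 4) F) *ᵥ b k) = f (b k) (b k) :=
        hgS.1 _ _
      rwa [hsv', hs.smul_left, hs.smul_right, hb1, hb1, mul_one] at h1
    choose s hs1 hsv using hcolg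
    choose e he using fun k => hfour (s k) (hs1 k)
    have hg' : (g' : Matrix (Fin 4) (Fin 4) F) = Matrix.of fun r k => if r = π k then CP.wp w (e k) else 0 := by
      refine Matrix.ext_of_mulVec_single fun k => ?_
      rw [show ((g' : GL (Fin 4) F) : Matrix (Fin 4) (Fin 4) F) *ᵥ Pi.single k 1 =
          ((P⁻¹ : GL (Fin 4) F) : Matrix (Fin 4) (Fin 4) F) *ᵥ ((g : Matrix (Fin 4) (Fin 4) F) *ᵥ b k) by
        rw [← hP1 k, mulVec_mulVec, mulVec_mulVec]; simp [g', mul_assoc]]
      rw [hsv, mulVec_smul, ← hP1, mulVec_mulVec, Units.inv_mul, one_mulVec, he]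
      ext r
      simp [Pi.single_apply]
    have hsum : (e 0 + e 1 + e 2 + e 3) * 2 = 0 := by
      have hdet : ((g' : GL (Fin 4) F) : Matrix (Fin 4) (Fin 4) F).det = 1 := by
        rw [show ((g' : GL (Fin 4) F) : Matrix (Fin 4) (Fin 4) F) = ((P⁻¹ : GL (Fin 4) F) : Matrix (Fin 4) (Fin 4) F) *
          (g : Matrix (Fin 4) (Fin 4) F) * (P : Matrix (Fin 4) (Fin 4) F) from by simp [g'], det_mul, det_mul,
          CfsgLib.Geo.mem_specialLinear.mp hgS.2, mul_one, ← det_mul, Units.inv_mul, det_one]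
      rw [hg', show (Matrix.of fun r k => if r = π k then CP.wp w (e k) else 0) =
        (Matrix.diagonal fun k => CP.wp w (e k)).submatrix π.symm id by
          ext r k
          simp only [Matrix.of_apply, Matrix.submatrix_apply, id, Matrix.diagonal_apply, Equiv.symm_apply_eq]
          split
          next h => subst h; simp
          next h => rfl,
        Matrix.det_permute, det_diagonal, Fin.prod_univ_four, ← CP.wp_add hw4, ← CP.wp_add hw4, ← CP.wp_add hw4] at hdet
      refine hwinj _ ?_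
      rw [mul_two, CP.wp_add hw4]
      rcases Int.units_eq_one_or (Equiv.Perm.sign π.symm) with h | h <;> rw [h] at hdet
      · simp only [Units.val_one, Int.cast_one, one_mul] at hdet
        rw [hdet, mul_one]
      · simp only [Units.val_neg, Units.val_one, Int.cast_neg, Int.cast_one, neg_mul, one_mul] at hdet
        rw [show CP.wp w (e 0 + e 1 + e 2 + e 3) = -1 by linear_combination -hdet]
        ring
    refine Subgroup.mem_normalizer_fintype ?_
    rintro _ ⟨x, rfl⟩
    obtain ⟨y, hy1, hy2⟩ := CP.monomial_normal π e hsum x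
    refine ⟨y, ?_⟩
    have hcomm : g' * φ₀ x = φ₀ y * g' := by
      apply Units.ext
      rw [Units.val_mul g' (φ₀ x), Units.val_mul (φ₀ y) g', hg', hφ₀, hφ₀]
      ext r k
      simp only [CP.mat, Matrix.mul_apply, Matrix.of_apply]
      rw [Finset.sum_eq_single (CP.add k x.b) (fun s _ hs => by simp [hs]) (by simp),
        Finset.sum_eq_single (π k) (fun s _ hs => by simp [hs]) (by simp), if_pos rfl, if_pos rfl, hy1]
      split
      · rw [← CP.wp_add hw4, ← CP.wp_add hw4, add_comm _ (CP.ex x k), hy2, add_comm]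
      · simp
    rw [hφ, hφ]
    calc P * φ₀ y * P⁻¹ = P * (φ₀ y * g') * g'⁻¹ * P⁻¹ := by group
      _ = P * (g' * φ₀ x) * g'⁻¹ * P⁻¹ := by rw [hcomm]
      _ = g * (P * φ₀ x * P⁻¹) * g⁻¹ := by simp only [g']; group

end CfsgLib.Aschbacher
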