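import Cfsg.Agent.Aschbacher.Form.UnitarySixLines
import Cfsg.Agent.Aschbacher.Form.UnitaryHalvesFour

/-!
Over four elements the normaliser of a field of degree three in the special unitary group of dimension six lies
in a subfield group of symplectic type.
-/
set_option autoImplicit false
set_option maxHeartbeats 2000000

namespace CfsgLib.Aschbacher

open Matrix Cfsg Cfsg.Geo CfsgLib.GeoClifford CfsgLib.Geo
open scoped MatrixGroups

variable {F : Type*} [Field F]

/-- The determinant of a two-by-two block matrix of multiplications, over characteristic two. -/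
lemma det_blocks_regular {R : Type*} [Field R] [Algebra F R] (L : R →ₐ[F] Matrix (Fin 3) (Fin 3) F)
    (h2 : (2 : F) = 0) (a b c d : R) :
    (Matrix.fromBlocks (L a) (L c) (L b) (L d)).det = (L (a * d + b * c)).det := by
  classical
  have hK2 : (2 : R) = 0 := by rw [← map_ofNat (algebraMap F R) 2, h2, map_zero]
  have hschur : ∀ a b c d : R, a ≠ 0 →
      (Matrix.fromBlocks (L a) (L c) (L b) (L d)).det = (L (a * d + b * c)).det := by
    intro a b c d ha
    letI : Invertible (L a) := ⟨L a⁻¹, by rw [← map_mul, inv_mul_cancel₀ ha, map_one],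
      by rw [← map_mul, mul_inv_cancel₀ ha, map_one]⟩
    rw [Matrix.det_fromBlocks₁₁, show ⅟(L a) = L a⁻¹ from rfl, ← map_mul, ← map_mul, ← map_sub, ← det_mul, ← map_mul]
    congr 2
    field_simp
    linear_combination (-(c * b)) * hK2
  by_cases ha : a = 0
  · subst ha
    by_cases hb : b = 0
    · subst hb
      rw [map_zero, zero_mul, zero_mul, add_zero, map_zero, Matrix.det_zero, Matrix.det_fromBlocks_zero₂₁,
        Matrix.det_zero, zero_mul]
    · have h := hschur b 0 d c hb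
      have hperm : (Matrix.fromBlocks (L 0) (L c) (L b) (L d)) =
          (Matrix.fromBlocks (L b) (L d) (L 0) (L c)).submatrix (Equiv.sumComm (Fin 3) (Fin 3)) id := by
        ext (i | i) (j | j) <;> simp
      rw [hperm, Matrix.det_permute, h]
      have hm1 : (-1 : F) = 1 := by linear_combination (-1 : F) * h2
      rcases Int.units_eq_one_or (Equiv.Perm.sign (Equiv.sumComm (Fin 3) (Fin 3))) with e | e <;>
        simp [e, hm1, mul_comm]
  · exact hschur a b c d ha

variable [Fintype F]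

/-- Over four elements the normaliser of a field of degree three lies in a subfield group of symplectic type. -/
theorem fieldSix_to_subfield (hF : Fintype.card F = 2 ^ 2) {σ : F ≃+* F} (hf : IsUnitaryForm σ (hermForm 6 F 2))
    (hσ : ∀ a, σ a = a ^ 2) {K : Subalgebra F (Matrix (Fin 6) (Fin 6) F)}
    (hK : IsFieldSubalgebra 3 K) (hac : IsAdjointClosedFor (hermForm 6 F 2) K) {H : Subgroup (GL (Fin 6) F)}
    (hle : H ≤ subalgebraNormalizer K ⊓ (Cfsg.GU 6 F 2 ⊓ specialLinear (Fin 6) F)) :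
    ∃ P : GL (Fin 6) F, IsFormRationalStructure (hermForm 6 F 2) (fixSubfield σ) 1 P ∧
      (∀ u : Fin 6 → F, (∀ i, u i ∈ fixSubfield σ) →
        hermForm 6 F 2 ((P : Matrix (Fin 6) (Fin 6) F) *ᵥ u) ((P : Matrix (Fin 6) (Fin 6) F) *ᵥ u) = 0) ∧
      H ≤ subfieldSubgroup (fixSubfield σ) P := by
  classical
  set f := hermForm 6 F 2 with hfdef
  have hR := isRefl_of_unitary hf
  have hse := isSesq_of_unitary hf
  have h4 : Fintype.card F = 4 := by rw [hF]; norm_num
  obtain ⟨ω, hω, h2⟩ := exists_cube_root h4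
  have hω3 : ω ^ 3 = 1 := by linear_combination (ω - 1) * hω
  have hσσ : ∀ a, σ (σ a) = a := hf.involutive
  have hfix : ∀ a, a ∈ fixSubfield σ ↔ σ a = a := fun a => Iff.rfl
  have hfield : IsField K := ⟨⟨0, 1, zero_ne_one⟩, fun a b => Subtype.ext (hK.comm _ a.2 _ b.2), fun {a} ha => by
    obtain ⟨y, hy, hy1⟩ := hK.inv _ a.2 (fun h => ha (Subtype.ext h))
    exact ⟨⟨y, hy⟩, Subtype.ext hy1⟩⟩
  letI : Field K := hfield.toField
  have : Fintype K := Fintype.ofFinite _
  have hcardK : Fintype.card K = 64 := by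
    rw [Module.card_eq_pow_finrank (K := F), h4, hK.finrank_eq]
    norm_num
  set i := algebraMap F K ω with hidef
  have hi : i * i + i + 1 = 0 := by
    rw [hidef, ← map_mul, ← map_add, ← map_one (algebraMap F K), ← map_add, hω, map_zero]
  have hK2 : (2 : K) = 0 := by rw [← map_ofNat (algebraMap F K) 2, h2, map_zero]
  have hi3 : i ^ 3 = 1 := by linear_combination (i - 1) * hi
  -- an element of order nine
  obtain ⟨k, hk3, hk9⟩ : ∃ k : K, k ^ 3 = i ∧ k ^ 9 = 1 := by
    obtain ⟨u, hu⟩ := IsCyclic.exists_monoid_generator (α := Kˣ)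
    have hord : orderOf u = 63 := by
      rw [orderOf_eq_card_of_forall_mem_powers hu, Nat.card_eq_fintype_card, Fintype.card_units, hcardK]
    have hx : orderOf (u ^ 7) = 9 := by rw [orderOf_pow, hord]; rfl
    set x : K := ((u ^ 7 : Kˣ) : K) with hxdef
    have hx9 : x ^ 9 = 1 := by rw [hxdef, ← Units.val_pow_eq_pow_val, ← hx, pow_orderOf_eq_one, Units.val_one]
    have hx3 : x ^ 3 ≠ 1 := by
      intro h
      have h' : (u ^ 7) ^ 3 = 1 := Units.ext (by rw [Units.val_pow_eq_pow_val, ← hxdef, h, Units.val_one])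
      have := Nat.le_of_dvd (by norm_num) (orderOf_dvd_of_pow_eq_one h')
      omega
    have h : (x ^ 3 - 1) * ((x ^ 3 - i) * (x ^ 3 - i ^ 2)) = 0 := by
      linear_combination hx9 + (x ^ 3 - x ^ 6) * hi + (x ^ 3 - 1) * hi3
    rcases mul_eq_zero.mp ((mul_eq_zero.mp h).resolve_left (sub_ne_zero.mpr hx3)) with h | h
    · exact ⟨x, sub_eq_zero.mp h, hx9⟩
    · refine ⟨x⁻¹, ?_, by rw [inv_pow, hx9, inv_one]⟩
      rw [inv_pow, sub_eq_zero.mp h]
      exact inv_eq_of_mul_eq_one_left (by linear_combination hi3)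
  have hkne : k ≠ 0 := fun h => by rw [h] at hk9; simp at hk9
  have hi0 : i ≠ 1 := by
    intro h
    rw [h] at hi
    exact one_ne_zero (show (1 : K) = 0 by linear_combination hi - hK2)
  have hkprim : IsPrimitiveRoot k 9 := by
    have h := orderOf_eq_prime_pow (p := 3) (hp := ⟨Nat.prime_three⟩) (n := 1) (x := k)
      (by rw [pow_one, hk3]; exact hi0) (by norm_num; exact hk9)
    have h9 : orderOf k = 9 := h.trans (by norm_num)
    exact h9 ▸ IsPrimitiveRoot.orderOf k
  have hadjK : ∀ a ∈ K, hR.adj a ∈ K := fun a ha => by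
    obtain ⟨a', ha', h⟩ := hac a ha
    rwa [hR.adj_eq h]
  let J : K → K := fun a => ⟨hR.adj a, hadjK _ a.2⟩
  have hJadd : ∀ a b, J (a + b) = J a + J b := fun a b => Subtype.ext (hR.adj_add _ _)
  have hJmul : ∀ a b, J (a * b) = J a * J b := fun a b => Subtype.ext (by
    show hR.adj ((a : Matrix (Fin 6) (Fin 6) F) * (b : Matrix (Fin 6) (Fin 6) F)) = _
    rw [hR.adj_mul]
    exact hK.comm _ (hadjK _ b.2) _ (hadjK _ a.2))
  have hJone : J 1 = 1 := Subtype.ext hR.adj_one
  have hJpow : ∀ (a : K) n, J (a ^ n) = J a ^ n := by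
    intro a n
    induction n with
    | zero => rw [pow_zero, pow_zero, hJone]
    | succ n ih => rw [pow_succ, pow_succ, hJmul, ih]
  have hJsmul : ∀ (c : F) (a : K), J (c • a) = σ c • J a := fun c a => Subtype.ext (hR.adj_smul _ _)
  have hJalg : ∀ c, J (algebraMap F K c) = algebraMap F K (σ c) := fun c => by
    rw [Algebra.algebraMap_eq_smul_one, Algebra.algebraMap_eq_smul_one, hJsmul, hJone]
  have hJJ : ∀ a, J (J a) = a := fun a => Subtype.ext (hR.adj_adj _)
  have hJi : J i = i ^ 2 := by rw [hidef, hJalg, hσ, map_pow]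
  have hJk : J k * k = 1 := by
    obtain ⟨a, ha, hka⟩ := hkprim.eq_pow_of_pow_eq_one (show J k ^ 9 = 1 by rw [← hJpow, hk9, hJone])
    have h := hJJ k
    rw [← hka, hJpow, ← hka, ← pow_mul] at h
    have hmod : a * a % 9 = 1 := by
      have h' : k ^ (a * a % 9) = k ^ 1 := by rw [← pow_eq_pow_mod _ hk9, pow_one, h]
      exact hkprim.pow_inj (Nat.mod_lt _ (by norm_num)) (by norm_num) h'
    have ha' : a = 1 ∨ a = 8 := by interval_cases a <;> omega
    rcases ha' with rfl | rfl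
    · exfalso
      rw [pow_one] at hka
      have h' : i = i ^ 2 := by rw [← hJi, ← hk3, hJpow, ← hka]
      have hi' : i = 0 ∨ i = 1 := by
        rcases mul_eq_zero.mp (show i * (i - 1) = 0 by linear_combination -h') with h | h
        · exact Or.inl h
        · exact Or.inr (sub_eq_zero.mp h)
      rcases hi' with h | h
      · rw [h] at hi3; simp at hi3
      · exact hi0 h
    · rw [← hka, ← pow_succ, hk9]
  have hJk8 : J k = k ^ 8 := mul_right_cancel₀ hkne (hJk.trans (by rw [← pow_succ, hk9]))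
  have hadjf : ∀ (a : K) u v, f ((a : Matrix (Fin 6) (Fin 6) F) *ᵥ u) v = f u ((J a : Matrix (Fin 6) (Fin 6) F) *ᵥ v) :=
    fun a u v => hR.adj_spec _ u v
  have hmulv : ∀ (a b : K) v, (a : Matrix (Fin 6) (Fin 6) F) *ᵥ ((b : Matrix (Fin 6) (Fin 6) F) *ᵥ v) =
      ((a * b : K) : Matrix (Fin 6) (Fin 6) F) *ᵥ v := fun a b v => by rw [mulVec_mulVec]; rfl
  have hmoveR : ∀ (a b : K) u v, f ((a : Matrix (Fin 6) (Fin 6) F) *ᵥ u) ((b : Matrix (Fin 6) (Fin 6) F) *ᵥ v) =
      f (((J b * a : K) : Matrix (Fin 6) (Fin 6) F) *ᵥ u) v := fun a b u v => by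
    rw [← hmulv, hadjf (J b), hJJ]
  have hsw : ∀ u v, f v u = f u v ^ 2 := fun u v => by rw [hf.herm, hσ]
  -- normalised vectors
  have hnormal : ∀ u : Fin 6 → F, f u u = 1 → ∃ y : K,
      f ((y : Matrix (Fin 6) (Fin 6) F) *ᵥ u) ((y : Matrix (Fin 6) (Fin 6) F) *ᵥ u) = 1 ∧
      f (((k * y : K) : Matrix (Fin 6) (Fin 6) F) *ᵥ u) ((y : Matrix (Fin 6) (Fin 6) F) *ᵥ u) = 0 := by
    intro u hu
    set c := f ((k : Matrix (Fin 6) (Fin 6) F) *ᵥ u) u with hc
    by_cases hc0 : c = 0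
    · exact ⟨1, by simpa using hu, by simpa [← hc] using hc0⟩
    have hc3 : c ^ 3 = 1 := by
      have := FiniteField.pow_card_sub_one_eq_one c hc0
      rwa [h4] at this
    have hk1 : ∀ z : K, f (((k * z : K) : Matrix (Fin 6) (Fin 6) F) *ᵥ u) ((k : Matrix (Fin 6) (Fin 6) F) *ᵥ u) =
        f ((z : Matrix (Fin 6) (Fin 6) F) *ᵥ u) u := fun z => by
      rw [hmoveR, ← mul_assoc, hJk, one_mul]
    have hsm : ∀ (a : F) (z : K) v, ((a • z : K) : Matrix (Fin 6) (Fin 6) F) *ᵥ v =
        a • ((z : Matrix (Fin 6) (Fin 6) F) *ᵥ v) := fun a z v => smul_mulVec a _ v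
    refine ⟨k + (ω * c ^ 2) • k ^ 2, ?_, ?_⟩
    · simp only [Subalgebra.coe_add, add_mulVec, hsm, hse.add_left, hse.add_right, hse.smul_left, hse.smul_right]
      rw [hsw ((↑(k ^ 2) : Matrix (Fin 6) (Fin 6) F) *ᵥ u) ((k : Matrix (Fin 6) (Fin 6) F) *ᵥ u),
        show (k : K) ^ 2 = k * k by ring, hk1 k, ← hc]
      have e1 : f ((k : Matrix (Fin 6) (Fin 6) F) *ᵥ u) ((k : Matrix (Fin 6) (Fin 6) F) *ᵥ u) = 1 := by
        have h := hk1 1
        simpa [hu] using h
      rw [e1, show f (((k * k : K) : Matrix (Fin 6) (Fin 6) F) *ᵥ u) (((k * k : K) : Matrix (Fin 6) (Fin 6) F) *ᵥ u) = 1 by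
        rw [hmoveR, hJmul, show J k * J k * (k * k) = 1 by linear_combination (J k * k + 1) * hJk]
        simpa using hu, hσ]
      linear_combination hω + (ω ^ 2 * c ^ 3 + ω ^ 2 + ω + ω ^ 3 * (c ^ 3 + 1)) * hc3 +
        (1 : F) * hω3
    · simp only [mul_add, mul_smul_comm, Subalgebra.coe_add, add_mulVec, hsm, hse.add_left, hse.add_right,
        hse.smul_left, hse.smul_right]
      rw [show k * k ^ 2 = algebraMap F K ω by rw [← hidef, ← hk3]; ring, show k ^ 2 = k * k by ring]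
      have e3 : ∀ v, ((algebraMap F K ω : K) : Matrix (Fin 6) (Fin 6) F) *ᵥ v = ω • v := fun v => by
        rw [Subalgebra.coe_algebraMap, Algebra.algebraMap_eq_smul_one, smul_mulVec, one_mulVec]
      have e2 : f (((k * k : K) : Matrix (Fin 6) (Fin 6) F) *ᵥ u) (((k * k : K) : Matrix (Fin 6) (Fin 6) F) *ᵥ u) = 1 := by
        rw [hmoveR, hJmul, show J k * J k * (k * k) = 1 by linear_combination (J k * k + 1) * hJk]
        simpa using hu
      have e4 : f u (((k * k : K) : Matrix (Fin 6) (Fin 6) F) *ᵥ u) = f (((k * k : K) : Matrix (Fin 6) (Fin 6) F) *ᵥ u) u ^ 2 :=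
        hsw _ _
      have e5 : f (((k * k : K) : Matrix (Fin 6) (Fin 6) F) *ᵥ u) u = ω * c ^ 2 := by
        rw [hsw u, show f u (((k * k : K) : Matrix (Fin 6) (Fin 6) F) *ᵥ u) = f (((J (k * k)) : Matrix (Fin 6) (Fin 6) F) *ᵥ u) u by
          rw [hadjf, hJJ]]
        have : J (k * k) = (ω ^ 2) • k := by
          rw [hJmul, Algebra.smul_def, map_pow, ← hidef]
          rw [hJk8]
          linear_combination k ^ 7 * hk9 + k * (k ^ 3 + i) * hk3
        rw [this, hsm, hse.smul_left, ← hc]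
        linear_combination c ^ 2 * ω * hω3
      rw [hk1 k, e2, e3, hse.smul_left, hsw ((k : Matrix (Fin 6) (Fin 6) F) *ᵥ u) u, hse.smul_left, e4, e5, hσ, ← hc]
      linear_combination (ω ^ 3 + 1) * c ^ 10 * hω3 + c * (c ^ 6 + c ^ 3 + 1) * hc3 + (c + ω ^ 2 * c ^ 4) * h2
  have hunit1 : ∀ u : Fin 6 → F, f u u ≠ 0 → f u u = 1 := fun u hu => by
    have h := hsw u u
    exact (mul_right_eq_self₀.mp (show f u u * f u u = f u u by linear_combination -h)).resolve_right hu
  obtain ⟨v₁, hv₁, hv₁'⟩ : ∃ v : Fin 6 → F, f v v = 1 ∧ f ((k : Matrix (Fin 6) (Fin 6) F) *ᵥ v) v = 0 := by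
    obtain ⟨y, h1, h2'⟩ := hnormal (Pi.single 0 1) (by simp [hfdef, hermForm, Pi.single_apply])
    exact ⟨_, h1, by rwa [hmulv]⟩
  have hfirst : ∀ v : Fin 6 → F, f v v = 1 → f ((k : Matrix (Fin 6) (Fin 6) F) *ᵥ v) v = 0 → ∀ a b : Fin 3,
      f (((k ^ (a : ℕ) : K) : Matrix (Fin 6) (Fin 6) F) *ᵥ v) (((k ^ (b : ℕ) : K) : Matrix (Fin 6) (Fin 6) F) *ᵥ v) =
        if a = b then 1 else 0 := by
    intro v h1 h2'
    have hge : ∀ a b : ℕ, b ≤ a →
        f (((k ^ a : K) : Matrix (Fin 6) (Fin 6) F) *ᵥ v) (((k ^ b : K) : Matrix (Fin 6) (Fin 6) F) *ᵥ v) =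
          f (((k ^ (a - b) : K) : Matrix (Fin 6) (Fin 6) F) *ᵥ v) v := fun a b hab => by
      rw [hmoveR, hJpow]
      conv_lhs => rw [show a = b + (a - b) by omega, pow_add, ← mul_assoc, ← mul_pow, hJk, one_pow, one_mul]
    have hd : ∀ d : ℕ, d < 3 → f (((k ^ d : K) : Matrix (Fin 6) (Fin 6) F) *ᵥ v) v = if d = 0 then 1 else 0 := by
      intro d hd
      interval_cases d
      · simpa using h1
      · simpa using h2'
      · have : k ^ 2 = algebraMap F K ω * J k := by
          rw [← hidef, ← hk3]; linear_combination -(k ^ 2) * hJk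
        rw [this, Algebra.algebraMap_eq_smul_one, smul_mul_assoc, one_mul, Subalgebra.coe_smul, smul_mulVec,
          hse.smul_left, hadjf, hJJ, hsw, h2']
        simp
    intro a b
    rcases le_total (b : ℕ) a with h | h
    · rw [hge _ _ h, hd _ (by omega)]
      exact if_congr (by rw [Fin.ext_iff]; omega) rfl rfl
    · rw [hsw, hge _ _ h, hd _ (by omega)]
      by_cases hab : a = b
      · subst hab; simp
      · rw [if_neg hab, if_neg (fun h0 => hab (Fin.ext (by omega)))]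
        simp
  -- the second vector
  let kv : (Fin 6 → F) → Fin 3 → Fin 6 → F := fun v a => ((k ^ (a : ℕ) : K) : Matrix (Fin 6) (Fin 6) F) *ᵥ v
  have hlinl : ∀ (β : Fin 3 → F) (w : Fin 3 → Fin 6 → F) x, f (∑ a, β a • w a) x = ∑ a, β a * f (w a) x :=
    fun β w x => by simp only [Fin.sum_univ_three, hse.add_left, hse.smul_left]
  have horth₁ : ∀ a b, f (kv v₁ a) (kv v₁ b) = if a = b then 1 else 0 := hfirst v₁ hv₁ hv₁'
  have hperp : ∀ x, ∃ w, (∀ b, f w (kv v₁ b) = 0) ∧ x = w + ∑ a, f x (kv v₁ a) • kv v₁ a := by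
    intro x
    refine ⟨x - ∑ a, f x (kv v₁ a) • kv v₁ a, fun b => ?_, by abel⟩
    rw [sub_eq_add_neg, hse.add_left, ← neg_one_smul F, hse.smul_left, hlinl]
    simp [horth₁]
  obtain ⟨v₂, hv₂, hv₂', hv₁₂⟩ : ∃ v : Fin 6 → F, f v v = 1 ∧ f ((k : Matrix (Fin 6) (Fin 6) F) *ᵥ v) v = 0 ∧
      ∀ a b, f (kv v a) (kv v₁ b) = 0 := by
    obtain ⟨u, hu, hu1⟩ : ∃ u, (∀ b, f u (kv v₁ b) = 0) ∧ f u u = 1 := by
      by_contra hcon
      push Not at hcon
      have hzero : ∀ w, (∀ b, f w (kv v₁ b) = 0) → f w w = 0 := fun w hw => by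
        by_contra h; exact hcon w hw (hunit1 w h)
      have hall : ∀ w w', (∀ b, f w (kv v₁ b) = 0) → (∀ b, f w' (kv v₁ b) = 0) → f w w' = 0 := by
        intro w w' hw hw'
        by_contra ht
        have hmem : ∀ s : F, ∀ b, f (w + s • w') (kv v₁ b) = 0 := fun s b => by
          rw [hse.add_left, hse.smul_left, hw, hw', mul_zero, add_zero]
        have h := hzero _ (hmem (σ (ω / f w w')))
        simp only [hse.add_left, hse.add_right, hse.smul_left, hse.smul_right, hzero w hw, hzero w' hw',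
          mul_zero, zero_mul, zero_add, add_zero, hsw w' w, hσσ] at h
        have ht' : f w' w ≠ 0 := fun h0 => ht (by rw [hsw w' w, h0]; ring)
        have h3 : f w' w ^ 3 = 1 := by
          have := FiniteField.pow_card_sub_one_eq_one _ ht'
          rwa [h4] at this
        rw [div_mul_cancel₀ _ (pow_ne_zero _ ht'), hσ, div_pow, div_mul_eq_mul_div,
          show (f w' w ^ 2) ^ 2 = f w' w by linear_combination f w' w * h3, mul_div_assoc, div_self ht', mul_one] at h
        exact one_ne_zero (show (1 : F) = 0 by linear_combination hω - h)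
      have hcard : Fintype.card (Fin 3) < Fintype.card (Fin 6) := by simp
      let T : (Fin 6 → F) →ₗ[F] (Fin 3 → F) :=
        { toFun := fun x b => f x (kv v₁ b)
          map_add' := fun x y => funext fun b => hse.add_left x y _
          map_smul' := fun c x => funext fun b => hse.smul_left c x _ }
      obtain ⟨w, hw, hw0⟩ := (LinearMap.ker T).ne_bot_iff.mp fun h => by
        have := LinearMap.finrank_range_add_finrank_ker T
        have h' := Submodule.finrank_le (LinearMap.range T)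
        rw [h, finrank_bot, Module.finrank_fin_fun] at this
        rw [Module.finrank_fin_fun] at h'
        omega
      have hw' : ∀ b, f w (kv v₁ b) = 0 := fun b => congrFun hw b
      obtain ⟨⟨x, hx⟩, -⟩ := hf.nondegenerate w hw0
      obtain ⟨x', hx', hxe⟩ := hperp x
      apply hx
      rw [hxe, hse.add_left, hall x' w hx' hw', hlinl]
      simp [hsw w, hw']
    obtain ⟨y, h1, h2'⟩ := hnormal u hu1
    refine ⟨_, h1, by rwa [hmulv], fun a b => ?_⟩
    show f (((k ^ (a : ℕ) : K) : Matrix (Fin 6) (Fin 6) F) *ᵥ ((y : Matrix (Fin 6) (Fin 6) F) *ᵥ u)) _ = 0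
    rw [hmulv, hadjf, hmulv]
    obtain ⟨α, hα⟩ : ∃ α : Fin 3 → F, ((J (k ^ (a : ℕ) * y) * k ^ (b : ℕ) : K) : Matrix (Fin 6) (Fin 6) F) *ᵥ v₁ =
        ∑ c, α c • kv v₁ c := by
      have hli : LinearIndependent F fun c : Fin 3 => (k ^ (c : ℕ) : K) := by
        refine Fintype.linearIndependent_iff.mpr fun β hβ d => ?_
        have h := congrArg (fun x : K => f ((x : Matrix (Fin 6) (Fin 6) F) *ᵥ v₁) (kv v₁ d)) hβ
        simp only [AddSubmonoidClass.coe_finsetSum, Subalgebra.coe_smul, sum_mulVec, smul_mulVec,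
          ZeroMemClass.coe_zero, zero_mulVec, hse.zero_left] at h
        rw [hlinl β (fun c => ((k ^ (c : ℕ) : K) : Matrix (Fin 6) (Fin 6) F) *ᵥ v₁)] at h
        have horth₁' : ∀ a b : Fin 3, f (((k ^ (a : ℕ) : K) : Matrix (Fin 6) (Fin 6) F) *ᵥ v₁) (((k ^ (b : ℕ) : K) : Matrix (Fin 6) (Fin 6) F) *ᵥ v₁) = if a = b then 1 else 0 := horth₁
        simp only [kv] at h
        simp only [horth₁', mul_ite, mul_one, mul_zero, Finset.sum_ite_eq', Finset.mem_univ, if_true] at h
        exact h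
      have hspan := hli.span_eq_top_of_card_eq_finrank' (by rw [hK.finrank_eq, Fintype.card_fin])
      obtain ⟨α, hα⟩ := (Submodule.mem_span_range_iff_exists_fun F).mp
        (hspan.ge (Submodule.mem_top (x := J (k ^ (a : ℕ) * y) * k ^ (b : ℕ))))
      refine ⟨α, ?_⟩
      rw [← hα]
      simp only [AddSubmonoidClass.coe_finsetSum, Subalgebra.coe_smul, sum_mulVec, smul_mulVec]
      rfl
    rw [hα]
    simp only [Fin.sum_univ_three, hse.add_right, hse.smul_right, hu, mul_zero, add_zero]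
  have horth₂ : ∀ a b, f (kv v₂ a) (kv v₂ b) = if a = b then 1 else 0 := hfirst v₂ hv₂ hv₂'
  have hli : LinearIndependent F fun c : Fin 3 => (k ^ (c : ℕ) : K) := by
    refine Fintype.linearIndependent_iff.mpr fun β hβ d => ?_
    have h := congrArg (fun x : K => f ((x : Matrix (Fin 6) (Fin 6) F) *ᵥ v₁) (kv v₁ d)) hβ
    simp only [AddSubmonoidClass.coe_finsetSum, Subalgebra.coe_smul, sum_mulVec, smul_mulVec, ZeroMemClass.coe_zero,
      zero_mulVec, hse.zero_left] at h
    rw [hlinl β (fun c => ((k ^ (c : ℕ) : K) : Matrix (Fin 6) (Fin 6) F) *ᵥ v₁)] at h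
    have horth₁' : ∀ a b : Fin 3, f (((k ^ (a : ℕ) : K) : Matrix (Fin 6) (Fin 6) F) *ᵥ v₁) (((k ^ (b : ℕ) : K) : Matrix (Fin 6) (Fin 6) F) *ᵥ v₁) = if a = b then 1 else 0 := horth₁
    simp only [kv] at h
    simp only [horth₁', mul_ite, mul_one, mul_zero, Finset.sum_ite_eq', Finset.mem_univ, if_true] at h
    exact h
  let bK : Module.Basis (Fin 3) F K := Module.Basis.mk hli
    (hli.span_eq_top_of_card_eq_finrank' (by rw [hK.finrank_eq, Fintype.card_fin])).ge
  have hbK : ∀ c, bK c = k ^ (c : ℕ) := fun c => by simp [bK]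
  have hexp : ∀ (x : K) v, (x : Matrix (Fin 6) (Fin 6) F) *ᵥ v = ∑ c, bK.repr x c • kv v c := fun x v => by
    conv_lhs => rw [← bK.sum_repr x]
    simp only [AddSubmonoidClass.coe_finsetSum, Subalgebra.coe_smul, sum_mulVec, smul_mulVec, hbK]
    rfl
  have hf₁ : ∀ (x : K) c, f ((x : Matrix (Fin 6) (Fin 6) F) *ᵥ v₁) (kv v₁ c) = bK.repr x c := fun x c => by
    rw [hexp, hlinl]; simp [horth₁]
  have hφ₂ : ∀ x : K, f ((x : Matrix (Fin 6) (Fin 6) F) *ᵥ v₂) v₂ = bK.repr x 0 := fun x => by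
    rw [hexp, hlinl]
    have : ∀ c, f (kv v₂ c) v₂ = if c = 0 then 1 else 0 := fun c => by simpa [kv] using horth₂ c 0
    simp [this]
  have hφ₁ : ∀ x : K, f ((x : Matrix (Fin 6) (Fin 6) F) *ᵥ v₁) v₁ = bK.repr x 0 := fun x => by
    simpa [kv] using hf₁ x 0
  have hcross : ∀ x y : K, f ((x : Matrix (Fin 6) (Fin 6) F) *ᵥ v₂) ((y : Matrix (Fin 6) (Fin 6) F) *ᵥ v₁) = 0 := fun x y => by
    rw [hexp, hlinl, hexp y]
    simp only [Fin.sum_univ_three, hse.add_right, hse.smul_right, hv₁₂, mul_zero, add_zero]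
  have hcross' : ∀ x y : K, f ((x : Matrix (Fin 6) (Fin 6) F) *ᵥ v₁) ((y : Matrix (Fin 6) (Fin 6) F) *ᵥ v₂) = 0 := fun x y => by
    rw [hsw, hcross]; ring
  let comb : K → K → Fin 6 → F := fun x y => (x : Matrix (Fin 6) (Fin 6) F) *ᵥ v₁ + (y : Matrix (Fin 6) (Fin 6) F) *ᵥ v₂
  have hfcomb : ∀ x y x' y', f (comb x y) (comb x' y') = bK.repr (J x' * x + J y' * y) 0 := fun x y x' y' => by
    simp only [comb, hse.add_left, hse.add_right, hcross, hcross', add_zero, zero_add]
    rw [hmoveR, hmoveR, hφ₁, hφ₂, map_add, Finsupp.add_apply]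
  have hsmulcomb : ∀ (s : F) x y, s • comb x y = comb (s • x) (s • y) := fun s x y => by
    simp only [comb, Subalgebra.coe_smul, smul_mulVec, smul_add]
  have hkcomb : ∀ (z x y : K), (z : Matrix (Fin 6) (Fin 6) F) *ᵥ comb x y = comb (z * x) (z * y) := fun z x y => by
    simp only [comb, mulVec_add, hmulv]
  -- coordinates
  let e : Fin 6 ≃ Fin 3 ⊕ Fin 3 := (finSumFinEquiv (m := 3) (n := 3)).symm
  let col : Fin 6 → Fin 6 → F := fun l => Sum.elim (kv v₁) (kv v₂) (e l)
  have hcol : ∀ s, col (e.symm s) = Sum.elim (kv v₁) (kv v₂) s := fun s => by simp [col]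
  have hcolorth : ∀ s t, f (Sum.elim (kv v₁) (kv v₂) s) (Sum.elim (kv v₁) (kv v₂) t) = if s = t then 1 else 0 := by
    rintro (a | a) (b | b)
    · simp [horth₁]
    · simp only [Sum.elim_inl, Sum.elim_inr, reduceCtorEq, if_false]; exact hcross' _ _
    · simp only [Sum.elim_inl, Sum.elim_inr, reduceCtorEq, if_false]; exact hcross _ _
    · simp [horth₂]
  have hdecomp : ∀ u, ∃ x y, u = comb x y := by
    intro u
    have hli6 : LinearIndependent F (Sum.elim (kv v₁) (kv v₂)) := by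
      refine Fintype.linearIndependent_iff.mpr fun β hβ d => ?_
      have h := congrArg (fun x => f x (Sum.elim (kv v₁) (kv v₂) d)) hβ
      simp only [Fintype.sum_sum_type, Fin.sum_univ_three, hse.add_left, hse.smul_left, hse.zero_left, hcolorth] at h
      rcases d with d | d <;> fin_cases d <;> simpa using h
    have hspan := hli6.span_eq_top_of_card_eq_finrank' (by simp [Module.finrank_fin_fun])
    obtain ⟨β, hβ⟩ := (Submodule.mem_span_range_iff_exists_fun F).mp (hspan.ge (Submodule.mem_top (x := u)))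
    refine ⟨∑ a, β (.inl a) • k ^ (a : ℕ), ∑ a, β (.inr a) • k ^ (a : ℕ), ?_⟩
    rw [← hβ, Fintype.sum_sum_type]
    simp only [comb, AddSubmonoidClass.coe_finsetSum, Subalgebra.coe_smul, sum_mulVec, smul_mulVec]
    rfl
  set M : Matrix (Fin 6) (Fin 6) F := Matrix.of fun r l => col l r with hM
  have hMsingle : ∀ l, M *ᵥ Pi.single l 1 = col l := fun l => by ext r; simp [hM]
  have hMdet : M.det ≠ 0 := by
    intro h0
    obtain ⟨a, ha, ha0⟩ := Matrix.exists_mulVec_eq_zero_iff.mpr h0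
    refine ha (funext fun l => ?_)
    have h := congrArg (fun x => f x (col l)) ha0
    have e1 : M *ᵥ a = ∑ m, a m • col m := by ext r; simp [hM, Matrix.mulVec, dotProduct, Finset.sum_apply, mul_comm]
    simp only [e1, Fin.sum_univ_six, hse.add_left, hse.smul_left, hse.zero_left, col, hcolorth, e.injective.eq_iff] at h
    fin_cases l <;> simpa using h
  -- the rational frame
  let w : Fin 6 → K := fun l => Sum.elim (fun a : Fin 3 => k ^ (a : ℕ)) (fun a : Fin 3 => ω • k ^ (a : ℕ)) (e l)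
  set Pm : Matrix (Fin 6) (Fin 6) F := Matrix.of fun r l => comb (w l) (J (w l)) r with hPm
  have hPv : ∀ u, (∀ l, σ (u l) = u l) → ∃ x, Pm *ᵥ u = comb x (J x) := fun u hu => by
    refine ⟨∑ l, u l • w l, ?_⟩
    have e1 : Pm *ᵥ u = ∑ m, u m • comb (w m) (J (w m)) := by
      ext r; simp [hPm, Matrix.mulVec, dotProduct, Finset.sum_apply, mul_comm]
    rw [e1]
    simp only [Fin.sum_univ_six, hJadd, hJsmul, hu]
    simp only [comb, Subalgebra.coe_add, Subalgebra.coe_smul, add_mulVec, smul_mulVec, smul_add]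
    abel
  have hsplit : ∀ a : F, ∃ s t : F, σ s = s ∧ σ t = t ∧ a = s + t * ω := by
    intro a
    obtain ⟨q, rfl⟩ := FiveData.phi_surj h2 hω h4 a
    cases q
    · exact ⟨0, 0, map_zero σ, map_zero σ, by simp [FiveData.phi]⟩
    · exact ⟨1, 0, map_one σ, map_zero σ, by simp [FiveData.phi]⟩
    · exact ⟨0, 1, map_zero σ, map_one σ, by simp [FiveData.phi]⟩
    · exact ⟨1, 1, map_one σ, map_one σ, by simp [FiveData.phi, add_comm]⟩
  have hW : ∀ x : K, ∃ u, (∀ l, σ (u l) = u l) ∧ Pm *ᵥ u = comb x (J x) := by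
    intro x
    choose s t hs ht hst using fun c => hsplit (bK.repr x c)
    refine ⟨fun l => Sum.elim s t (e l), fun l => by rcases h : e l with a | a <;> simp [h, hs, ht], ?_⟩
    have hx : ∑ l, Sum.elim s t (e l) • w l = x := by
      rw [← Equiv.sum_comp e.symm, Fintype.sum_sum_type]
      conv_rhs => rw [← bK.sum_repr x]
      simp only [w, Equiv.apply_symm_apply, Sum.elim_inl, Sum.elim_inr, smul_smul, ← Finset.sum_add_distrib,
        ← add_smul, hbK, hst]
    have e1 : Pm *ᵥ (fun l => Sum.elim s t (e l)) = ∑ m, Sum.elim s t (e m) • comb (w m) (J (w m)) := by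
      ext r; simp [hPm, Matrix.mulVec, dotProduct, Finset.sum_apply, mul_comm]
    have hu : ∀ l, σ (Sum.elim s t (e l)) = Sum.elim s t (e l) := fun l => by
      rcases h : e l with a | a <;> simp [h, hs, ht]
    rw [e1, ← hx]
    simp only [Fin.sum_univ_six, hJadd, hJsmul, hu]
    simp only [comb, Subalgebra.coe_add, Subalgebra.coe_smul, add_mulVec, smul_mulVec, smul_add]
    abel
  have hPdet : Pm.det ≠ 0 := by
    intro h0
    obtain ⟨a, ha, ha0⟩ := Matrix.exists_mulVec_eq_zero_iff.mpr h0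
    have e1 : Pm *ᵥ a = comb (∑ l, a l • w l) (∑ l, a l • J (w l)) := by
      have e0 : Pm *ᵥ a = ∑ m, a m • comb (w m) (J (w m)) := by
        ext r; simp [hPm, Matrix.mulVec, dotProduct, Finset.sum_apply, mul_comm]
      rw [e0]
      simp only [Fin.sum_univ_six, comb, Subalgebra.coe_add, Subalgebra.coe_smul, add_mulVec, smul_mulVec, smul_add]
      abel
    rw [e1] at ha0
    have hcomb0 : ∀ x y, comb x y = 0 → x = 0 ∧ y = 0 := by
      intro x y hxy
      have hz : ∀ z z', f (comb x y) (comb z z') = 0 := fun z z' => by rw [hxy, hse.zero_left]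
      constructor
      · refine bK.repr.injective (Finsupp.ext fun c => ?_)
        rw [map_zero, Finsupp.zero_apply, ← hf₁]
        have := hz (k ^ (c : ℕ)) 0
        simpa only [comb, ZeroMemClass.coe_zero, zero_mulVec, add_zero, hse.add_left, hcross] using this
      · refine bK.repr.injective (Finsupp.ext fun c => ?_)
        rw [map_zero, Finsupp.zero_apply]
        have := hz 0 (k ^ (c : ℕ))
        simp only [comb, ZeroMemClass.coe_zero, zero_mulVec, zero_add, hse.add_left, hcross', kv] at this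
        rw [hexp y, hlinl] at this
        have horth₂' : ∀ a b : Fin 3, f (((k ^ (a : ℕ) : K) : Matrix (Fin 6) (Fin 6) F) *ᵥ v₂) (((k ^ (b : ℕ) : K) : Matrix (Fin 6) (Fin 6) F) *ᵥ v₂) = if a = b then 1 else 0 := horth₂
        simpa only [kv, horth₂', mul_ite, mul_one, mul_zero, Finset.sum_ite_eq', Finset.mem_univ, if_true] using this
    obtain ⟨hx, hy⟩ := hcomb0 _ _ ha0
    refine ha (funext fun l => ?_)
    have hrep : ∀ (β : Fin 6 → F) (c : Fin 3), bK.repr (∑ l, β l • w l) c = β (e.symm (.inl c)) + β (e.symm (.inr c)) * ω := by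
      intro β c
      rw [← Equiv.sum_comp e.symm, Fintype.sum_sum_type]
      simp only [w, Equiv.apply_symm_apply, Sum.elim_inl, Sum.elim_inr, ← hbK, smul_smul, map_add, map_sum, map_smul,
        Finsupp.coe_add, Pi.add_apply, Finsupp.coe_finsetSum, Finset.sum_apply, Module.Basis.repr_self, Finsupp.smul_single,
        smul_eq_mul, mul_one, Finsupp.single_apply, Finset.sum_ite_eq', Finset.mem_univ, if_true]
    obtain ⟨s, rfl⟩ := e.symm.surjective l
    have hx' : ∀ c, bK.repr (∑ l, a l • w l) c = 0 := fun c => by rw [hx]; simp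
    have hy' : ∀ c, bK.repr (∑ l, σ (a l) • w l) c = 0 := fun c => by
      have : J (∑ l, a l • J (w l)) = ∑ l, σ (a l) • w l := by simp only [Fin.sum_univ_six, hJadd, hJsmul, hJJ]
      rw [← this, hy, show J 0 = 0 from Subtype.ext hR.adj_zero]
      simp
    have key : ∀ c, a (e.symm (.inl c)) = 0 ∧ a (e.symm (.inr c)) = 0 := by
      intro c
      have h1 := (hrep a c).symm.trans (hx' c)
      have h3 := congrArg σ ((hrep (fun l => σ (a l)) c).symm.trans (hy' c))
      rw [map_add, map_mul, hσσ, hσσ, map_zero, hσ ω] at h3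
      have hr : a (e.symm (.inr c)) = 0 := by
        linear_combination (h1 - h3) + (a (e.symm (.inr c))) * hω - a (e.symm (.inr c)) * ω * h2
      exact ⟨by rwa [hr, zero_mul, add_zero] at h1, hr⟩
    rcases s with c | c
    · exact (key c).1
    · exact (key c).2
  set P : GL (Fin 6) F := Matrix.GeneralLinearGroup.mkOfDetNeZero Pm hPdet
  have hPP : (P : Matrix (Fin 6) (Fin 6) F) = Pm := rfl
  have hzero : ∀ x : K, bK.repr x 0 + bK.repr (J x) 0 ∈ fixSubfield σ := fun x => by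
    have h : bK.repr (J x) 0 = σ (bK.repr x 0) := by rw [← hφ₁, ← hφ₁, hadjf, hJJ, hf.herm]
    rw [hfix, h, map_add, hσσ, add_comm]
  refine ⟨P, fun u v hu hv => ?_, fun u hu => ?_, fun g hg => ?_⟩
  · obtain ⟨x, hx⟩ := hPv u hu
    obtain ⟨y, hy⟩ := hPv v hv
    rw [one_mul, hPP, hx, hy, hfcomb, hJJ, map_add, Finsupp.add_apply,
      show y * J x = J (J y * x) by rw [hJmul, hJJ]]
    exact hzero _
  · obtain ⟨x, hx⟩ := hPv u hu
    rw [hPP, hx, hfcomb, hJJ, mul_comm, map_add, Finsupp.add_apply]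
    linear_combination (bK.repr (x * J x) 0) * h2
  obtain ⟨hgN, hgU, hgS⟩ := hle hg
  set k' := (g : Matrix (Fin 6) (Fin 6) F) * k * (↑g⁻¹ : Matrix (Fin 6) (Fin 6) F) with hk'
  have hk'K : k' ∈ K := (hgN _).mp k.2
  have hcomm : (g : Matrix (Fin 6) (Fin 6) F) * k = k' * g := by rw [hk', mul_assoc, Units.inv_mul, mul_one]
  have hpow : ∀ n : ℕ, (g : Matrix (Fin 6) (Fin 6) F) * (k : Matrix (Fin 6) (Fin 6) F) ^ n = k' ^ n * g := by
    intro n
    induction n with
    | zero => simp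
    | succ n ih => rw [pow_succ, ← mul_assoc, ih, mul_assoc, hcomm, ← mul_assoc, ← pow_succ]
  have hk'3 : (⟨k', hk'K⟩ : K) ^ 3 = i := Subtype.ext (by
    have h3 : (k : Matrix (Fin 6) (Fin 6) F) ^ 3 = ω • 1 := by
      have := congrArg (Subtype.val : K → Matrix (Fin 6) (Fin 6) F) hk3
      simpa [hidef, Algebra.algebraMap_eq_smul_one] using this
    have h := hpow 3
    rw [h3, mul_smul_comm, mul_one] at h
    have h' := congrArg (fun X => X * (↑g⁻¹ : Matrix (Fin 6) (Fin 6) F)) h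
    simpa [mul_assoc, hidef, Algebra.algebraMap_eq_smul_one] using h'.symm)
  obtain ⟨ε, hε3, hkε⟩ : ∃ ε : F, ε ^ 3 = 1 ∧ (⟨k', hk'K⟩ : K) = algebraMap F K ε * k := by
    obtain ⟨a, ha, hka⟩ := hkprim.eq_pow_of_pow_eq_one (show (⟨k', hk'K⟩ : K) ^ 9 = 1 by
      rw [show 9 = 3 * 3 from rfl, pow_mul, hk'3, hi3])
    have h := hk'3
    rw [← hka, ← pow_mul] at h
    have hmod : a * 3 % 9 = 3 := by
      have h' : k ^ (a * 3 % 9) = k ^ 3 := by rw [← pow_eq_pow_mod _ hk9, h, hk3]
      exact hkprim.pow_inj (Nat.mod_lt _ (by norm_num)) (by norm_num) h'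
    refine ⟨ω ^ (a / 3), by rw [← pow_mul, mul_comm, pow_mul, hω3, one_pow], ?_⟩
    rw [← hka, map_pow, ← hidef, ← hk3, ← pow_mul, ← pow_succ]
    congr 1
    omega
  have hεσ : σ ε = ε ^ 2 := hσ ε
  have hgk : ∀ (n : ℕ) v, (g : Matrix (Fin 6) (Fin 6) F) *ᵥ (((k ^ n : K) : Matrix (Fin 6) (Fin 6) F) *ᵥ v) =
      ((algebraMap F K (ε ^ n) * k ^ n : K) : Matrix (Fin 6) (Fin 6) F) *ᵥ ((g : Matrix (Fin 6) (Fin 6) F) *ᵥ v) := by
    intro n v
    rw [mulVec_mulVec, mulVec_mulVec, SubmonoidClass.coe_pow, hpow,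
      show k' = ((algebraMap F K ε * k : K) : Matrix (Fin 6) (Fin 6) F) from congrArg Subtype.val hkε, map_pow,
      ← mul_pow, SubmonoidClass.coe_pow]
  have hgsm : ∀ (s : F) (n : ℕ) v, (g : Matrix (Fin 6) (Fin 6) F) *ᵥ (((s • k ^ n : K) : Matrix (Fin 6) (Fin 6) F) *ᵥ v) =
      (((s * ε ^ n) • k ^ n : K) : Matrix (Fin 6) (Fin 6) F) *ᵥ ((g : Matrix (Fin 6) (Fin 6) F) *ᵥ v) := fun s n v => by
    rw [Subalgebra.coe_smul, smul_mulVec, mulVec_smul, hgk, ← smul_mulVec, mul_smul, ← Subalgebra.coe_smul,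
      Algebra.smul_def (ε ^ n) (k ^ n)]
  obtain ⟨a, b, hab⟩ := hdecomp ((g : Matrix (Fin 6) (Fin 6) F) *ᵥ v₁)
  obtain ⟨c, d, hcd⟩ := hdecomp ((g : Matrix (Fin 6) (Fin 6) F) *ᵥ v₂)
  have hiso : ∀ u v, f ((g : Matrix (Fin 6) (Fin 6) F) *ᵥ u) ((g : Matrix (Fin 6) (Fin 6) F) *ᵥ v) = f u v := hgU
  have hεn : ∀ n : ℕ, ε ^ n ≠ 0 := fun n => pow_ne_zero _ fun h => by simp [h] at hε3
  have hgcomb : ∀ (n : ℕ) x y x' y' (u v : Fin 6 → F), (g : Matrix (Fin 6) (Fin 6) F) *ᵥ u = comb x y →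
      (g : Matrix (Fin 6) (Fin 6) F) *ᵥ v = comb x' y' →
      f (((k ^ n : K) : Matrix (Fin 6) (Fin 6) F) *ᵥ u) v = ε ^ n * bK.repr (k ^ n * (J x' * x + J y' * y)) 0 := by
    intro n x y x' y' u v hu hv
    rw [← hiso, hgk, hu, hv, hkcomb, hfcomb, mul_assoc, mul_assoc, mul_left_comm (J x'), mul_left_comm (J y'), ← mul_add,
      mul_left_comm (J x'), mul_left_comm (J y'), ← mul_add, ← Algebra.smul_def, map_smul, Finsupp.smul_apply,
      smul_eq_mul]
  have hdet0 : ∀ z : K, (∀ n : Fin 3, bK.repr (k ^ (n : ℕ) * z) 0 = 0) → z = 0 := by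
    intro z hz
    have hall : ∀ y : K, bK.repr (y * z) 0 = 0 := fun y => by
      conv_lhs => rw [← bK.sum_repr y, Finset.sum_mul]
      simp [hbK, hz]
    refine bK.repr.injective (Finsupp.ext fun c' => ?_)
    rw [map_zero, Finsupp.zero_apply, ← hf₁]
    show f _ (((k ^ (c' : ℕ) : K) : Matrix (Fin 6) (Fin 6) F) *ᵥ v₁) = 0
    rw [hmoveR, hφ₁, hall]
  have h11 : J a * a + J b * b = 1 := by
    refine sub_eq_zero.mp (hdet0 _ fun n => ?_)
    rw [mul_sub, mul_one, map_sub, Finsupp.sub_apply, sub_eq_zero, ← hφ₁ (k ^ (n : ℕ))]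
    have h := hgcomb n a b a b v₁ v₁ hab hab
    rw [h]
    by_cases hn : n = 0
    · simp [hn]
    · have h0 := horth₁ n 0
      rw [if_neg hn] at h0
      simp only [kv, Fin.val_zero, pow_zero, OneMemClass.coe_one, one_mulVec] at h0
      rw [h] at h0
      rw [(mul_eq_zero.mp h0).resolve_left (hεn n), mul_zero]
  have h12 : J a * c + J b * d = 0 := by
    refine hdet0 _ fun n => ?_
    have h := hgcomb n c d a b v₂ v₁ hcd hab
    have h0 : f (((k ^ (n : ℕ) : K) : Matrix (Fin 6) (Fin 6) F) *ᵥ v₂) v₁ = 0 := by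
      simpa using hcross (k ^ (n : ℕ)) 1
    rw [h] at h0
    exact (mul_eq_zero.mp h0).resolve_left (hεn n)
  have h22 : J c * c + J d * d = 1 := by
    refine sub_eq_zero.mp (hdet0 _ fun n => ?_)
    rw [mul_sub, mul_one, map_sub, Finsupp.sub_apply, sub_eq_zero, ← hφ₂ (k ^ (n : ℕ))]
    have h := hgcomb n c d c d v₂ v₂ hcd hcd
    rw [h]
    by_cases hn : n = 0
    · simp [hn]
    · have h0 := horth₂ n 0
      rw [if_neg hn] at h0
      simp only [kv, Fin.val_zero, pow_zero, OneMemClass.coe_one, one_mulVec] at h0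
      rw [h] at h0
      rw [(mul_eq_zero.mp h0).resolve_left (hεn n), mul_zero]
  set E := a * d + b * c with hE
  have hcE : c = J b * E := by
    rw [hE]; linear_combination (-c) * h11 + a * h12 + (-(a * J b * d)) * hK2
  have hdE : d = J a * E := by
    rw [hE]; linear_combination (-d) * h11 + b * h12 + (-(b * J a * c)) * hK2
  have hEE : J E * E = 1 := by
    have h := h22
    rw [hcE, hdE, hJmul, hJmul, hJJ, hJJ] at h
    linear_combination h - J E * E * h11
  -- the determinant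
  set L : K →ₐ[F] Matrix (Fin 3) (Fin 3) F := Algebra.leftMulMatrix bK
  have hLdet : (L E).det = 1 := by
    set D : Fin 6 → F := fun l => ε ^ (Sum.elim (fun j : Fin 3 => (j : ℕ)) (fun j : Fin 3 => (j : ℕ)) (e l))
    set A : Matrix (Fin 6) (Fin 6) F := (Matrix.fromBlocks (L a) (L c) (L b) (L d)).submatrix e e * Matrix.diagonal D
    have hgM : (g : Matrix (Fin 6) (Fin 6) F) * M = M * A := by
      refine Matrix.ext_of_mulVec_single fun l => ?_
      rw [← mulVec_mulVec, ← mulVec_mulVec, hMsingle]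
      have e1 : ∀ β : Fin 6 → F, M *ᵥ β = ∑ s, β (e.symm s) • Sum.elim (kv v₁) (kv v₂) s := fun β => by
        rw [← Equiv.sum_comp e]
        ext r; simp [hM, col, Matrix.mulVec, dotProduct, Finset.sum_apply, mul_comm]
      rw [e1]
      obtain ⟨s, rfl⟩ := e.symm.surjective l
      simp only [hcol, A, D, mulVec_single_one, Matrix.col_apply, Matrix.mul_diagonal, submatrix_apply,
        Equiv.apply_symm_apply, Fintype.sum_sum_type]
      rcases s with j | j
      · show (g : Matrix (Fin 6) (Fin 6) F) *ᵥ (((k ^ (j : ℕ) : K) : Matrix (Fin 6) (Fin 6) F) *ᵥ v₁) = _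
        rw [hgk, hab, hkcomb, ← Algebra.smul_def, smul_mul_assoc, smul_mul_assoc, ← hsmulcomb]
        simp only [Sum.elim_inl, Sum.elim_inr, fromBlocks_apply₁₁, fromBlocks_apply₂₁, comb, smul_add, mul_comm _ (ε ^ (j : ℕ)),
          mul_smul, ← Finset.smul_sum]
        congr 2 <;> rw [hexp] <;> refine Finset.sum_congr rfl fun i _ => ?_ <;> congr 1 <;>
          rw [Algebra.leftMulMatrix_eq_repr_mul, hbK, mul_comm]
      · show (g : Matrix (Fin 6) (Fin 6) F) *ᵥ (((k ^ (j : ℕ) : K) : Matrix (Fin 6) (Fin 6) F) *ᵥ v₂) = _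
        rw [hgk, hcd, hkcomb, ← Algebra.smul_def, smul_mul_assoc, smul_mul_assoc, ← hsmulcomb]
        simp only [Sum.elim_inl, Sum.elim_inr, fromBlocks_apply₁₂, fromBlocks_apply₂₂, comb, smul_add, mul_comm _ (ε ^ (j : ℕ)),
          mul_smul, ← Finset.smul_sum]
        congr 2 <;> rw [hexp] <;> refine Finset.sum_congr rfl fun i _ => ?_ <;> congr 1 <;>
          rw [Algebra.leftMulMatrix_eq_repr_mul, hbK, mul_comm]
    have h := congrArg Matrix.det hgM
    rw [det_mul, det_mul, mem_specialLinear.mp hgS, one_mul] at h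
    have hA : A.det = 1 := mul_left_cancel₀ hMdet (h.symm.trans (mul_one _).symm)
    have hprod : ∏ l, D l = 1 := by
      rw [← Equiv.prod_comp e.symm, Fintype.prod_sum_type]
      simp only [D, Equiv.apply_symm_apply, Sum.elim_inl, Sum.elim_inr, Fin.prod_univ_three]
      simp only [Fin.val_zero, Fin.val_one, Fin.val_two]
      linear_combination (ε ^ 3 + 1) * hε3
    rwa [det_mul, det_diagonal, hprod, mul_one, det_submatrix_equiv_self, det_blocks_regular L h2] at hA
  have hE3 : ∃ s : F, s ^ 3 = 1 ∧ E = algebraMap F K s := by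
    have hLk : (L k).det = ω := by
      have ev : ∀ i j : Fin 3, L k i j = bK.repr (k * k ^ (j : ℕ)) i := fun i j => by
        rw [Algebra.leftMulMatrix_eq_repr_mul, hbK]
      have e2 : k * k ^ 2 = ω • bK 0 := by rw [hbK, Algebra.smul_def, ← hidef, ← hk3]; simp; ring
      have e0 : k * k ^ 0 = bK 1 := by rw [hbK]; simp
      have e1 : k * k ^ 1 = bK 2 := by rw [hbK]; simp [sq]
      rw [Matrix.det_fin_three]
      simp only [ev, Fin.val_zero, Fin.val_one, Fin.val_two, e0, e1, e2, map_smul, Module.Basis.repr_self,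
        Finsupp.smul_apply, Finsupp.single_apply, smul_eq_mul]
      simp
    have hE9 : E ^ 9 = 1 := by
      have hb : ∀ cc, J (bK cc) = bK cc ^ 8 := fun cc => by
        rw [hbK, hJpow, hJk8, ← pow_mul, ← pow_mul, mul_comm]
      have hc8 : ∀ s : F, s ^ 8 = σ s := fun s => by
        rw [hσ]
        by_cases hs : s = 0
        · simp [hs]
        · have := FiniteField.pow_card_sub_one_eq_one s hs
          rw [h4] at this
          linear_combination (s ^ 5 + s ^ 2) * this
      have : CharP K 2 := (CharP.charP_iff_prime_eq_zero Nat.prime_two).mpr hK2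
      have hJ8 : J E = E ^ 8 := by
        conv_lhs => rw [← bK.sum_repr E]
        conv_rhs => rw [← bK.sum_repr E, show 8 = 2 ^ 3 from rfl, sum_pow_char_pow]
        simp only [Fin.sum_univ_three, hJadd, hJsmul, hb, _root_.smul_pow, show 2 ^ 3 = 8 from rfl, hc8]
      rw [hJ8, ← pow_succ] at hEE
      exact hEE
    obtain ⟨j, hj, hjE⟩ := hkprim.eq_pow_of_pow_eq_one hE9
    rw [← hjE, map_pow, det_pow, hLk] at hLdet
    have hω1 : ω ≠ 1 := fun h => hi0 (by rw [hidef, h, map_one])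
    have h3j : j % 3 = 0 := by
      by_contra hne
      rw [pow_eq_pow_mod _ hω3] at hLdet
      rcases (show j % 3 = 1 ∨ j % 3 = 2 by omega) with h | h <;> rw [h] at hLdet
      · exact hω1 (by simpa using hLdet)
      · exact hω1 (by linear_combination (-ω) * hLdet + hω3)
    refine ⟨ω ^ (j / 3), by rw [← pow_mul, mul_comm, pow_mul, hω3, one_pow], ?_⟩
    rw [← hjE, map_pow, ← hidef, ← hk3, ← pow_mul]
    congr 1; omega
  obtain ⟨s, hs3, hEs⟩ := hE3
  have hs0 : s ≠ 0 := fun h => by simp [h] at hs3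
  have hkey : ∀ X : K, ∀ u : Fin 6 → F, (g : Matrix (Fin 6) (Fin 6) F) *ᵥ u =
      comb (X * a + J X * c) (X * b + J X * d) → ∃ u', (∀ l, σ (u' l) = u' l) ∧ s • ((g : Matrix (Fin 6) (Fin 6) F) *ᵥ u) = Pm *ᵥ u' := by
    intro X u hu
    obtain ⟨u', hu', hu''⟩ := hW (algebraMap F K s * (X * a + J X * c))
    refine ⟨u', hu', ?_⟩
    rw [hu'', hu, hsmulcomb, Algebra.smul_def, Algebra.smul_def]
    have hJs : J (algebraMap F K s) = algebraMap F K s ^ 2 := by rw [hJalg, hσ, map_pow]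
    have hs3' : algebraMap F K s ^ 3 = 1 := by rw [← map_pow, hs3, map_one]
    congr 1
    rw [hcE, hdE, hEs, hJmul, hJadd, hJmul, hJmul, hJmul, hJJ, hJJ, hJs]
    linear_combination (-(algebraMap F K s * X * b)) * hs3'
  have hcolW : ∀ l, ∃ u', (∀ m, σ (u' m) = u' m) ∧
      s • ((g : Matrix (Fin 6) (Fin 6) F) *ᵥ comb (w l) (J (w l))) = Pm *ᵥ u' := by
    intro l
    have hw' : ∀ (t : F) (n : ℕ), n < 3 → ∃ u', (∀ m, σ (u' m) = u' m) ∧
        s • ((g : Matrix (Fin 6) (Fin 6) F) *ᵥ comb (t • k ^ n) (J (t • k ^ n))) = Pm *ᵥ u' := by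
      intro t n hn
      refine hkey ((t * ε ^ n) • k ^ n) _ ?_
      have hJkn : J (k ^ n) = k ^ (8 * n) := by rw [hJpow, hJk8, ← pow_mul]
      show (g : Matrix (Fin 6) (Fin 6) F) *ᵥ ((_ : Matrix (Fin 6) (Fin 6) F) *ᵥ v₁ + _) = _
      rw [mulVec_add, hgsm, hJsmul, hJkn, hgsm, hab, hcd, hkcomb, hkcomb, hJsmul, hJkn, map_mul, hσ (ε ^ n)]
      have hεe : ε ^ (8 * n) = (ε ^ n) ^ 2 := by
        rw [← pow_mul, pow_eq_pow_mod _ hε3, pow_eq_pow_mod (n * 2) hε3]; congr 1; omega
      rw [hεe]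
      simp only [comb, Subalgebra.coe_add, add_mulVec]
      abel
    rcases h : e l with j | j
    · have := hw' 1 j j.2
      simpa [w, h] using this
    · have := hw' ω j j.2
      simpa [w, h] using this
  choose u' hu' hu'' using hcolW
  refine mem_subfieldSubgroup_of (c := s⁻¹) (M := Matrix.of fun r l => u' l r) (inv_ne_zero hs0)
    (fun r l => hu' l r) ?_
  rw [Units.val_mul, Units.val_mul, mul_assoc]
  refine (Units.mul_right_inj P).mp ?_
  rw [← mul_assoc, Units.mul_inv, one_mul, hPP]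
  refine Matrix.ext_of_mulVec_single fun l => ?_
  rw [mul_smul_comm, smul_mulVec, ← mulVec_mulVec, ← mulVec_mulVec, show Pm *ᵥ Pi.single l 1 = comb (w l) (J (w l)) by
    ext r; simp [hPm], show (Matrix.of fun r l => u' l r) *ᵥ Pi.single l 1 = u' l by ext r; simp, ← hu'', smul_smul,
    inv_mul_cancel₀ hs0, one_smul]

end CfsgLib.Aschbacher
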