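import Cfsg.Agent.Aschbacher.Form.UnitaryFive
import Cfsg.Agent.Geo.SympLagrangianPair

/-!
Over four elements the stabiliser of six orthogonal lines in the special unitary group is not maximal: it
stabilises, with one further transvection, a set of 126 isotropic points.
-/
set_option autoImplicit false
set_option maxHeartbeats 1000000

namespace CfsgLib.Aschbacher

open Matrix Cfsg Cfsg.Geo CfsgLib.GeoClifford CfsgLib.Geo
open scoped MatrixGroups

namespace SixData

open FiveData

/-- Six coordinates in the set: two non-zero, or none zero and product one. -/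
def om (a b c d e g : Q4) : Bool :=
  let n := [a, b, c, d, e, g].countP fun x => decide (x = .z)
  n == 4 || (n == 0 && decide (((((a.mul b).mul c).mul d).mul e).mul g = .o))

/-- The image under the transvection of the all-one vector. -/
theorem om_shift : ∀ a ∈ Q4.all, ∀ b ∈ Q4.all, ∀ c ∈ Q4.all, ∀ d ∈ Q4.all, ∀ e ∈ Q4.all, ∀ g ∈ Q4.all,
    om a b c d e g = true →
      (let s := ((((a.add b).add c).add d).add e).add g
       om (a.add s) (b.add s) (c.add s) (d.add s) (e.add s) (g.add s)) = true := by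
  decide +kernel

/-- The set on functions. -/
def omq (x : Fin 6 → Q4) : Prop :=
  (∃ i j, i ≠ j ∧ x i ≠ .z ∧ x j ≠ .z ∧ ∀ l, l ≠ i → l ≠ j → x l = .z) ∨
    ((∀ i, x i ≠ .z) ∧ (((((x 0).mul (x 1)).mul (x 2)).mul (x 3)).mul (x 4)).mul (x 5) = .o)

/-- The count describes the set. -/
theorem om_iff (x : Fin 6 → Q4) : om (x 0) (x 1) (x 2) (x 3) (x 4) (x 5) = true ↔ omq x := by
  set Z := Finset.univ.filter fun i => x i = Q4.z with hZ
  have hn : ([x 0, x 1, x 2, x 3, x 4, x 5].countP fun y => decide (y = Q4.z)) = Z.card := by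
    rw [hZ, Finset.card_filter, Fin.sum_univ_six]
    simp only [List.countP_cons, List.countP_nil, decide_eq_true_eq]
    omega
  simp only [om, hn, Bool.or_eq_true, Bool.and_eq_true, beq_iff_eq, decide_eq_true_eq, omq]
  constructor
  · rintro (h | ⟨h, hp⟩)
    · left
      have hc : Zᶜ.card = 2 := by rw [Finset.card_compl, h, Fintype.card_fin]
      obtain ⟨i, j, hij, he⟩ := Finset.card_eq_two.mp hc
      have hmem : ∀ l, x l ≠ Q4.z ↔ l = i ∨ l = j := fun l => by
        have : l ∈ Zᶜ ↔ l = i ∨ l = j := by rw [he]; simp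
        simpa [hZ] using this
      exact ⟨i, j, hij, (hmem i).mpr (Or.inl rfl), (hmem j).mpr (Or.inr rfl), fun l h1 h2 => by
        by_contra hl; rcases (hmem l).mp hl with e | e <;> contradiction⟩
    · exact Or.inr ⟨fun i hi => Finset.notMem_empty i (Finset.card_eq_zero.mp h ▸
        Finset.mem_filter.mpr ⟨Finset.mem_univ _, hi⟩), hp⟩
  · rintro (⟨i, j, hij, hi, hj, hl⟩ | ⟨hz, hp⟩)
    · left
      have : Z = ({i, j} : Finset (Fin 6))ᶜ := by
        ext l
        simp only [hZ, Finset.mem_filter, Finset.mem_univ, true_and, Finset.mem_compl, Finset.mem_insert,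
          Finset.mem_singleton, not_or]
        exact ⟨fun h => ⟨fun e => hi (e ▸ h), fun e => hj (e ▸ h)⟩, fun h => hl l h.1 h.2⟩
      rw [this, Finset.card_compl, Finset.card_pair hij, Fintype.card_fin]
    · exact Or.inr ⟨Finset.card_eq_zero.mpr (Finset.filter_eq_empty_iff.mpr fun i _ => hz i), hp⟩

end SixData

open FiveData SixData

variable {F : Type*} [Field F]

/-- The set of vectors: two non-zero coordinates, or none zero with product one. -/
def sixSet (u : Fin 6 → F) : Prop :=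
  (∃ i j, i ≠ j ∧ u i ≠ 0 ∧ u j ≠ 0 ∧ ∀ l, l ≠ i → l ≠ j → u l = 0) ∨ ((∀ i, u i ≠ 0) ∧ ∏ i, u i = 1)

lemma sixSet_monomial {u : Fin 6 → F} (hu : sixSet u) (π : Equiv.Perm (Fin 6)) {s : Fin 6 → F} (hs : ∀ i, s i ≠ 0)
    (hprod : ∏ i, s i = 1) {u' : Fin 6 → F} (h : ∀ k, u' (π k) = s k * u k) : sixSet u' := by
  rcases hu with ⟨i, j, hij, hi, hj, hl⟩ | ⟨hn, hp⟩
  · refine Or.inl ⟨π i, π j, π.injective.ne hij, by rw [h]; exact mul_ne_zero (hs i) hi,
      by rw [h]; exact mul_ne_zero (hs j) hj, fun l h1 h2 => ?_⟩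
    obtain ⟨k, rfl⟩ := π.surjective l
    rw [h, hl k (fun e => h1 (by rw [e])) (fun e => h2 (by rw [e])), mul_zero]
  · refine Or.inr ⟨fun l => ?_, ?_⟩
    · obtain ⟨k, rfl⟩ := π.surjective l
      rw [h]; exact mul_ne_zero (hs k) (hn k)
    · rw [← Equiv.prod_comp π u']
      simp only [h, Finset.prod_mul_distrib, hprod, hp, mul_one]

lemma sixSet_shift [Fintype F] (hF : Fintype.card F = 4) {ω : F} (h2 : (2 : F) = 0) (hω : ω * ω + ω + 1 = 0)
    {u : Fin 6 → F} (hu : sixSet u) : sixSet (u + (∑ i, u i) • (1 : Fin 6 → F)) := by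
  have hbridge : ∀ x : Fin 6 → Q4, sixSet (fun i => phi ω (x i)) ↔ omq x := by
    intro x
    have h0 : ∀ a, phi ω a = 0 ↔ a = .z := fun a => ⟨phi_eq_zero h2 hω, fun h => by rw [h]; rfl⟩
    have h1 : ∀ a, phi ω a = 1 ↔ a = .o := fun a => ⟨fun h => phi_inj h2 hω (h.trans rfl), fun h => by rw [h]; rfl⟩
    simp only [sixSet, omq, ne_eq, h0, Fin.prod_univ_six, ← phi_mul h2 hω, h1]
  choose x hx using fun i => phi_surj h2 hω hF (u i)
  obtain rfl : u = fun i => phi ω (x i) := funext fun i => (hx i).symm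
  have hq := (hbridge x).mp hu
  have h3 := om_shift _ (Q4.mem_all (x 0)) _ (Q4.mem_all (x 1)) _ (Q4.mem_all (x 2)) _ (Q4.mem_all (x 3)) _
    (Q4.mem_all (x 4)) _ (Q4.mem_all (x 5)) ((om_iff x).mpr hq)
  set s := (((((x 0).add (x 1)).add (x 2)).add (x 3)).add (x 4)).add (x 5) with hs
  have h4 := (hbridge _).mpr ((om_iff fun i => (x i).add s).mp h3)
  convert h4 using 1
  funext i
  simp [Fin.sum_univ_six, hs, phi_add h2 hω]

variable [Fintype F]

/-- Facts about a field of four elements. -/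
lemma exists_cube_root (hF : Fintype.card F = 4) : ∃ ω : F, ω * ω + ω + 1 = 0 ∧ (2 : F) = 0 := by
  classical
  have h2 : (2 : F) = 0 := by
    have h := FiniteField.cast_card_eq_zero F
    rw [hF, show ((4 : ℕ) : F) = 2 ^ 2 by norm_num] at h
    exact pow_eq_zero_iff two_ne_zero |>.mp h
  obtain ⟨x, hx⟩ : ∃ x : F, x ∉ ({0, 1} : Finset F) := by
    by_contra hcon
    push Not at hcon
    have := (Finset.card_le_card (fun x (_ : x ∈ (Finset.univ : Finset F)) => hcon x)).trans Finset.card_le_two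
    rw [Finset.card_univ, hF] at this
    omega
  simp only [Finset.mem_insert, Finset.mem_singleton, not_or] at hx
  have h := FiniteField.pow_card_sub_one_eq_one x hx.1
  rw [hF] at h
  have h' : (x - 1) * (x * x + x + 1) = 0 := by linear_combination h
  exact ⟨x, (mul_eq_zero.mp h').resolve_left (sub_ne_zero.mpr hx.2), h2⟩

/-- Two vanishes in a field of four elements. -/
lemma two_eq_zero_of_card_four (hF : Fintype.card F = 4) : (2 : F) = 0 :=
  (exists_cube_root hF).choose_spec.2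

/-- The stabiliser of six orthogonal lines is not maximal over four elements. -/
theorem sixLines_not_maximal (hF : Fintype.card F = 2 ^ 2) {D : Fin 6 → Submodule F (Fin 6 → F)}
    (hD : IsNondegenerateMDecomposition (hermForm 6 F 2) 1 D) {H : Subgroup (GL (Fin 6) F)}
    (hH : IsMaximalIn (Cfsg.GU 6 F 2 ⊓ specialLinear (Fin 6) F) H)
    (hN : H = decompositionStabilizer D ⊓ (Cfsg.GU 6 F 2 ⊓ specialLinear (Fin 6) F)) : False := by
  classical
  obtain ⟨σ, hf, hσ, -⟩ := exists_hermForm_unitary (n := 6) hF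
  set f := hermForm 6 F 2
  have hs := isSesq_of_unitary hf
  have h4 : Fintype.card F = 4 := by rw [hF]; norm_num
  obtain ⟨ω, hω, h2⟩ := exists_cube_root h4
  have hω0 : ω ≠ 0 := by rintro rfl; simp at hω
  have hneg : ∀ a : F, -a = a := fun a => by linear_combination (-a) * h2
  have hσω : σ ω = ω + 1 := by rw [hσ]; linear_combination hω + (-ω - 1) * h2
  have hb : ∀ k, ∃ b ∈ D k, f b b = 1 := by
    intro k
    obtain ⟨v, hv, hv0⟩ := (D k).ne_bot_iff.mp fun h => by
      have := hD.decomp.finrank_eq k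
      rw [h, finrank_bot] at this
      omega
    obtain ⟨-, u, hu, huv⟩ := hD.nondegenerate k v hv hv0
    obtain ⟨a, rfl⟩ := exists_smul_eq_of_finrank_eq_one (hD.decomp.finrank_eq k)
      (show (⟨v, hv⟩ : D k) ≠ 0 from fun h => hv0 (congrArg Subtype.val h)) ⟨u, hu⟩ |>.imp
        fun a h => (congrArg Subtype.val h).symm
    simp only [SetLike.val_smul] at huv
    rw [hs.smul_right] at huv
    have hvv : f v v ≠ 0 := right_ne_zero_of_mul huv
    have hfix : σ (f v v)⁻¹ = (f v v)⁻¹ := by rw [map_inv₀, ← hf.herm]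
    obtain ⟨c, hc⟩ := CfsgLib.Geo.Unit.exists_norm_eq hf.ne_refl hf.involutive hfix
    refine ⟨c • v, (D k).smul_mem c hv, ?_⟩
    rw [hs.smul_left, hs.smul_right, ← mul_assoc, hc, inv_mul_cancel₀ hvv]
  choose b hbD hb1 using hb
  set M : Matrix (Fin 6) (Fin 6) F := Matrix.of fun r c => b c r
  have hcol : ∀ k, M *ᵥ Pi.single k 1 = b k := fun k => by ext r; simp [M]
  have hgram : Mᵀ * gramMatrix f * M.map σ = 1 := by
    ext j k
    have : f (b j) (b k) = (1 : Matrix (Fin 6) (Fin 6) F) j k := by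
      by_cases h : j = k
      · subst h; simp [hb1]
      · rw [Matrix.one_apply_ne h]; exact hD.orthogonal j k h _ (hbD j) _ (hbD k)
    rw [← this, hs.eq_gram, ← hcol, ← hcol, comp_mulVec, ← vecMul_transpose M, ← dotProduct_mulVec, mulVec_mulVec,
      mulVec_mulVec]
    simp [Pi.single_apply, apply_ite σ, Matrix.mulVec, dotProduct, mul_assoc]
  have hMu : IsUnit M := by
    rw [Matrix.isUnit_iff_isUnit_det, isUnit_iff_ne_zero]
    intro h0
    have h1 := congrArg Matrix.det hgram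
    rw [det_mul, det_mul, det_transpose, h0, zero_mul, zero_mul, det_one] at h1
    exact zero_ne_one h1
  set P : GL (Fin 6) F := hMu.unit
  have hPv : (P : Matrix (Fin 6) (Fin 6) F) = M := hMu.unit_spec
  have hPf : ∀ u v, f (M *ᵥ u) (M *ᵥ v) = u ⬝ᵥ (σ ∘ v) := by
    intro u v
    rw [hs.eq_gram, comp_mulVec, ← vecMul_transpose M, ← dotProduct_mulVec, mulVec_mulVec, mulVec_mulVec,
      hgram, one_mulVec]
  have hMinj : ∀ u v, M *ᵥ u = M *ᵥ v → u = v := fun u v h => by
    have := congrArg (fun w => (↑P⁻¹ : Matrix (Fin 6) (Fin 6) F) *ᵥ w) h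
    simpa [mulVec_mulVec, ← hPv] using this
  let O : Submonoid (GL (Fin 6) F) :=
    { carrier := {g | ∀ u, sixSet u → ∃ u', sixSet u' ∧ (g : Matrix (Fin 6) (Fin 6) F) *ᵥ (M *ᵥ u) = M *ᵥ u'}
      one_mem' := fun u hu => ⟨u, hu, by simp⟩
      mul_mem' := by
        intro g g' hg hg' u hu
        obtain ⟨u', hu', h'⟩ := hg' u hu
        obtain ⟨u'', hu'', h''⟩ := hg u' hu'
        exact ⟨u'', hu'', by rw [Units.val_mul, ← mulVec_mulVec, h', h'']⟩ }
  let OG : Subgroup (GL (Fin 6) F) :=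
    { O with
      inv_mem' := fun {a} ha => by
        obtain ⟨n, hn⟩ : ∃ n : ℕ, a⁻¹ = a ^ n := ⟨orderOf a - 1, by
          have : 0 < orderOf a := orderOf_pos a
          rw [inv_eq_iff_mul_eq_one, ← pow_succ', Nat.sub_add_cancel this, pow_orderOf_eq_one]⟩
        rw [hn]
        exact O.pow_mem ha n }
  have hmono : ∀ g ∈ H, ∃ (π : Equiv.Perm (Fin 6)) (s : Fin 6 → F), (∀ k, s k ≠ 0) ∧ ∏ k, s k = 1 ∧
      ∀ u, (g : Matrix (Fin 6) (Fin 6) F) *ᵥ (M *ᵥ u) = M *ᵥ fun r => s (π.symm r) * u (π.symm r) := by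
    intro g hg
    rw [hN] at hg
    obtain ⟨hgD, hgS⟩ := hg
    obtain ⟨π, hπ⟩ := CfsgLib.Geo.exists_perm_of_mem hgD
    have hcolg : ∀ k, ∃ s : F, s ≠ 0 ∧ (g : Matrix (Fin 6) (Fin 6) F) *ᵥ b k = s • b (π k) := by
      intro k
      have hb0 : (⟨b (π k), hbD _⟩ : D (π k)) ≠ 0 := fun h => by
        have h1 := hb1 (π k)
        rw [show b (π k) = 0 from congrArg Subtype.val h, hs.zero_left] at h1
        exact zero_ne_one h1
      obtain ⟨s, hsv⟩ := exists_smul_eq_of_finrank_eq_one (hD.decomp.finrank_eq (π k)) hb0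
        ⟨_, hπ k _ (hbD k)⟩
      have hsv' : (g : Matrix (Fin 6) (Fin 6) F) *ᵥ b k = s • b (π k) := (congrArg Subtype.val hsv).symm
      refine ⟨s, fun h0 => ?_, hsv'⟩
      have h1 : f ((g : Matrix (Fin 6) (Fin 6) F) *ᵥ b k) ((g : Matrix (Fin 6) (Fin 6) F) *ᵥ b k) = f (b k) (b k) :=
        hgS.1 _ _
      rw [hsv', h0, zero_smul, hs.zero_left, hb1] at h1
      exact zero_ne_one h1
    choose s hs0 hsv using hcolg
    set A : Matrix (Fin 6) (Fin 6) F := (Matrix.diagonal s).submatrix π.symm id with hA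
    have hgM : (g : Matrix (Fin 6) (Fin 6) F) * M = M * A := by
      refine Matrix.ext_of_mulVec_single fun k => ?_
      rw [← mulVec_mulVec, ← mulVec_mulVec, hcol, hsv, ← hcol, ← mulVec_smul]
      congr 1
      ext r
      simp [hA, Matrix.mulVec_single, Matrix.diagonal_apply, Pi.single_apply, Equiv.symm_apply_eq]
      split
      next hr => subst hr; simp
      next => rfl
    refine ⟨π, s, hs0, ?_, fun u => ?_⟩
    · have hd := congrArg Matrix.det hgM
      rw [det_mul, det_mul, CfsgLib.Geo.mem_specialLinear.mp hgS.2, one_mul, hA, Matrix.det_permute,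
        det_diagonal] at hd
      have hd' := mul_left_cancel₀ (Matrix.isUnit_iff_isUnit_det M |>.mp hMu).ne_zero ((mul_one _).trans hd)
      rcases Int.units_eq_one_or (Equiv.Perm.sign π.symm) with h | h <;> rw [h] at hd'
      · simpa using hd'.symm
      · simp only [Units.val_neg, Units.val_one, Int.cast_neg, Int.cast_one, hneg, one_mul] at hd'
        exact hd'.symm
    · rw [mulVec_mulVec, hgM, ← mulVec_mulVec]
      congr 1
      ext r
      simp [hA, Matrix.mulVec, dotProduct, Matrix.diagonal_apply]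
  have hHM : H ≤ OG := by
    intro g hg u hu
    obtain ⟨π, s, hs0, hp, hgu⟩ := hmono g hg
    exact ⟨_, sixSet_monomial hu π hs0 hp fun k => by simp, hgu u⟩
  have hc1 : σ (1 : F) = -1 := by rw [map_one, hneg]
  have hiso : f (M *ᵥ 1) (M *ᵥ 1) = 0 := by
    rw [hPf]
    simp [dotProduct, Fin.sum_univ_six]
    linear_combination (3 : F) * h2
  set z' : Fin 6 → F := ![1, 1, 1, 1, ω, ω] with hz'
  have hiso' : f (M *ᵥ z') (M *ᵥ z') = 0 := by
    rw [hPf]
    simp [dotProduct, Fin.sum_univ_six, hz', hσω]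
    linear_combination (2 : F) * hω + (1 : F) * h2
  have htv : ∀ z (hz : f (M *ᵥ z) (M *ᵥ z) = 0) u,
      (tvec (M *ᵥ z) ((1 : F) • axisOf f (M *ᵥ z)) (CfsgLib.Geo.Unit.tv_dot hf hz 1) : Matrix (Fin 6) (Fin 6) F) *ᵥ
        (M *ᵥ u) = M *ᵥ (u + (u ⬝ᵥ (σ ∘ z)) • z) := by
    intro z hz u
    rw [tvec_mulVec, smul_dotProduct, (CfsgLib.Geo.Unit.linLeft hf).dot, one_smul, hPf, mulVec_add, mulVec_smul]
  rcases hH.2 (OG ⊓ (Cfsg.GU 6 F 2 ⊓ specialLinear (Fin 6) F)) (le_inf hHM hH.1.le) inf_le_right with h | h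
  · have hmem : tvec (M *ᵥ 1) ((1 : F) • axisOf f (M *ᵥ 1)) (CfsgLib.Geo.Unit.tv_dot hf hiso 1) ∈ H := by
      rw [← h]
      refine ⟨fun u hu => ⟨_, sixSet_shift h4 h2 hω hu, ?_⟩, tv_mem_isoSL hf hiso hc1⟩
      rw [htv 1 hiso]
      congr 1
      simp [dotProduct]
    obtain ⟨π, s, -, -, hgu⟩ := hmono _ hmem
    have h0 := hMinj _ _ ((htv 1 hiso (Pi.single 0 1)).symm.trans (hgu _))
    have h1 := congrFun h0 1
    have h2' := congrFun h0 2
    simp [Pi.single_apply, Equiv.symm_apply_eq] at h1 h2'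
    split_ifs at h1 with e1
    on_goal 1 => rw [if_neg (show ¬ (2 : Fin 6) = π 0 by rw [← e1]; decide)] at h2'
    · exact one_ne_zero h2'
    · exact one_ne_zero h1
  · have hle : Cfsg.GU 6 F 2 ⊓ specialLinear (Fin 6) F ≤ OG := h ▸ inf_le_left
    have hu : sixSet (![1, ω, 0, 0, 0, 0] : Fin 6 → F) := by
      refine Or.inl ⟨0, 1, by decide, by simp, by simpa using hω0, fun l h0 h1 => ?_⟩
      fin_cases l <;> simp_all
    obtain ⟨u', hu', hgu⟩ := hle (tv_mem_isoSL hf hiso' hc1) _ hu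
    obtain rfl := hMinj _ _ (hgu.symm.trans (htv z' hiso' _))
    have hx : ((![1, ω, 0, 0, 0, 0] : Fin 6 → F) ⬝ᵥ (σ ∘ z')) = ω + 1 := by
      simp [dotProduct, Fin.sum_univ_six, hz', add_comm]
    rw [hx] at hu'
    rcases hu' with ⟨i, j, -, -, -, hl⟩ | ⟨-, hp⟩
    · obtain ⟨l, h0, h1⟩ := (by decide : ∀ i j : Fin 6, ∃ l, l ≠ i ∧ l ≠ j) i j
      have := hl l h0 h1
      fin_cases l <;> simp [hz'] at this
      all_goals
        first
          | exact hω0 (by linear_combination this - h2)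
          | exact one_ne_zero (show (1 : F) = 0 by linear_combination this - ω * h2)
          | exact one_ne_zero (show (1 : F) = 0 by linear_combination hω - ω * this)
          | (rcases this with e | e
             · exact one_ne_zero (show (1 : F) = 0 by linear_combination hω - ω * e)
             · exact hω0 e)
    · simp [Fin.prod_univ_six, hz'] at hp
      have e0 : 1 + (ω + 1) = ω := by linear_combination h2
      have e1 : ω + (ω + 1) = 1 := by linear_combination ω * h2
      have e4 : (ω + 1) * ω = 1 := by linear_combination hω - h2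
      have e2 : (ω + 1) * (ω + 1) = ω := by linear_combination hω
      rw [e0, e1, e4, mul_one, mul_one, mul_one, mul_assoc, e2] at hp
      exact hω0 (by linear_combination hω - hp - h2)

end CfsgLib.Aschbacher
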