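import Cfsg.Agent.Aschbacher.Form.Unitary
import Cfsg.Agent.Aschbacher.UnitaryPrime

/-!
Aschbacher's theorem for the standard unitary group.
-/
set_option autoImplicit false

namespace CfsgLib.Aschbacher

open Matrix Cfsg Cfsg.Geo
open scoped MatrixGroups

variable {F : Type*} [Field F]

/-- Subgroups of the unitary group lie in a geometric member or are residual. -/
theorem unitary_class [Fintype F] {n q : ℕ} (hF : Fintype.card F = q ^ 2) (hn : 3 ≤ n)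
    (H : Subgroup (GL (Fin n) F)) (hH : H ≤ Cfsg.GU n F q) :
    (∃ M, InUnitaryClass n F q M ∧ H ≤ M) ∨ InUnitaryResidualClass H := by
  obtain ⟨σ, hf, hσ, -⟩ := exists_hermForm_unitary (n := n) hF
  have hσf : (⇑σ : F → F) = fun x => x ^ q := funext hσ
  have hfix : FixesForm (matrixSet H) (hermForm n F q) := fun s hs u v => by
    obtain ⟨g, hg, rfl⟩ := hs
    exact hH hg u v
  have key : ∀ X, H ≤ X → H ≤ X ⊓ Cfsg.GU n F q := fun X h => le_inf h hH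
  have hpow : ∀ {κ : Type} [Fintype κ] [DecidableEq κ] {g : (κ → F) → (κ → F) → F}, IsUnitaryForm σ g →
      ∀ v w, g v w = (g w v) ^ q := fun hg v w => by rw [← hσ]; exact hg.herm v w
  have hq4 : ∀ k : ℕ, ¬ (Fintype.card F = 4 ∧ k = 3) → ¬ (q = 2 ∧ k = 3) := fun k h hh =>
    h ⟨by rw [hF, hh.1]; norm_num, hh.2⟩
  have hoddq : Odd (Fintype.card F) → Odd q := fun h => by
    rw [hF] at h; exact (Nat.odd_pow_iff (by norm_num)).mp h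
  rcases unitary_structure hf (by rw [Fintype.card_fin]; omega) hfix with
    ⟨W, h0, hW, hG⟩ | ⟨W, h0, hW, hd, hG⟩ | ⟨t, k, D, hD, hG⟩ | ⟨k, D, hk, hD, hts, hG⟩ |
    ⟨r, K, hr, hro, hK, hac, hG⟩ | ⟨n₁, n₂, e, P, f₁, f₂, h1, h2, hf₁, hf₂, hT, hG⟩ |
    ⟨F₀, r, P, ζ, hr, hc, hζ, hP, hG, hkind⟩ | ⟨r, R, p, e, k, h1, h2, h3, h4, h5, h6, -, -, hG⟩ |
    ⟨k, t, e, P, f₁, hk, ht, hex, hf₁, hT, hG⟩ | h
  · exact Or.inl ⟨_, Or.inl (Or.inl ⟨W, h0, hW, rfl⟩), key _ hG⟩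
  · rw [Fintype.card_fin] at hd
    exact Or.inl ⟨_, Or.inl (Or.inr (Or.inl ⟨W, h0, hW, hd, rfl⟩)), key _ hG⟩
  · exact Or.inl ⟨_, Or.inl (Or.inr (Or.inr (Or.inl ⟨t, k, D, hD, rfl⟩))), key _ hG⟩
  · rw [Fintype.card_fin] at hk
    exact Or.inl ⟨_, Or.inl (Or.inr (Or.inr (Or.inr (Or.inl ⟨k, D, hk, hD, hts, rfl⟩)))), key _ hG⟩
  · exact Or.inl ⟨_, Or.inr (Or.inl ⟨r, K, hr, hro, hK, hac, rfl⟩), key _ hG⟩
  · exact Or.inl ⟨_, Or.inr (Or.inr (Or.inl ⟨n₁, n₂, e, P, f₁, f₂, h1, h2,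
      ⟨hf₁.add_left, hf₁.smul_left, hpow hf₁, hf₁.nondegenerate⟩,
      ⟨hf₂.add_left, hf₂.smul_left, hpow hf₂, hf₂.nondegenerate⟩, hσf ▸ hT, rfl⟩)), key _ hG⟩
  · rcases hkind with ⟨rfl, hr' | ⟨rfl, hodd⟩⟩ | ⟨rfl, hev, hsum, hz⟩
    · exact Or.inl ⟨_, Or.inl (Or.inr (Or.inr (Or.inr (Or.inr (Or.inl ⟨F₀, r, P, hr, hr', hc, hP, rfl⟩))))), key _ hG⟩
    · exact Or.inl ⟨_, Or.inl (Or.inr (Or.inr (Or.inr (Or.inr (Or.inr (Or.inl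
        ⟨F₀, P, hoddq hodd, hc, hP, rfl⟩)))))), key _ hG⟩
    · rw [Fintype.card_fin] at hev
      rw [hσ] at hsum
      exact Or.inl ⟨_, Or.inl (Or.inr (Or.inr (Or.inr (Or.inr (Or.inr (Or.inr (Or.inl
        ⟨F₀, P, ζ, hev, hc, hζ, hsum, hP, hz, rfl⟩))))))), key _ hG⟩
  · exact Or.inl ⟨_, Or.inl (Or.inr (Or.inr (Or.inr (Or.inr (Or.inr (Or.inr (Or.inr
      ⟨r, R, p, e, k, h1, h2, h3, h4, h5, h6, rfl⟩))))))), key _ hG⟩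
  · exact Or.inl ⟨_, Or.inr (Or.inr (Or.inr ⟨k, t, e, P, f₁, hk, ht, hq4 k hex,
      ⟨hf₁.add_left, hf₁.smul_left, hpow hf₁, hf₁.nondegenerate⟩, hσf ▸ hT, rfl⟩)), key _ hG⟩
  · exact Or.inr h

end CfsgLib.Aschbacher
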