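import Mathlib.Data.List.Basic

/-!
Arithmetic in the fields with nine and with twenty-five elements and three-dimensional vectors over them: an element
`(a, b)` stands for `a + b r` with `r² = 2`.  Sets of points preserved by subgroups properly containing some
geometric subgroups of the special unitary groups in dimension three, and the finite checks about them.
-/
set_option autoImplicit false
set_option maxRecDepth 20000

namespace CfsgLib.Aschbacher.ThreeData

/-- A coded element. -/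
abbrev Q := Nat × Nat

/-- Sum. -/
def add (p : Nat) (a b : Q) : Q := ((a.1 + b.1) % p, (a.2 + b.2) % p)

/-- Product. -/
def mul (p : Nat) (a b : Q) : Q := ((a.1 * b.1 + 2 * (a.2 * b.2)) % p, (a.1 * b.2 + a.2 * b.1) % p)

/-- The involution. -/
def conj (p : Nat) (a : Q) : Q := (a.1 % p, ((p - 1) * a.2) % p)

/-- Negation. -/
def neg (p : Nat) (a : Q) : Q := (((p - 1) * a.1) % p, ((p - 1) * a.2) % p)

/-- Powers. -/
def npow (p : Nat) (a : Q) : Nat → Q
  | 0 => (1, 0)
  | n + 1 => mul p (npow p a n) a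

/-- Equality of the elements coded. -/
def same (p : Nat) (a b : Q) : Bool := a.1 % p == b.1 % p && a.2 % p == b.2 % p

/-- A vector. -/
structure V3 where
  a : Q
  b : Q
  c : Q

/-- Three columns. -/
structure M3 where
  a : V3
  b : V3
  c : V3

/-- Sum of vectors. -/
def vadd (p : Nat) (x y : V3) : V3 := ⟨add p x.a y.a, add p x.b y.b, add p x.c y.c⟩

/-- Scalar multiple. -/
def vsmul (p : Nat) (s : Q) (x : V3) : V3 := ⟨mul p s x.a, mul p s x.b, mul p s x.c⟩

/-- Coordinatewise involution. -/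
def vconj (p : Nat) (x : V3) : V3 := ⟨conj p x.a, conj p x.b, conj p x.c⟩

/-- Equality of the vectors coded. -/
def vsame (p : Nat) (x y : V3) : Bool := same p x.a y.a && same p x.b y.b && same p x.c y.c

/-- Bilinear pairing. -/
def dot (p : Nat) (x y : V3) : Q := add p (add p (mul p x.a y.a) (mul p x.b y.b)) (mul p x.c y.c)

/-- Image of a vector. -/
def mv (p : Nat) (A : M3) (x : V3) : V3 :=
  vadd p (vadd p (vsmul p x.a A.a) (vsmul p x.b A.b)) (vsmul p x.c A.c)

/-- Product. -/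
def mmul (p : Nat) (A B : M3) : M3 := ⟨mv p A B.a, mv p A B.b, mv p A B.c⟩

/-- Equality of the matrices coded. -/
def msame (p : Nat) (A B : M3) : Bool := vsame p A.a B.a && vsame p A.b B.b && vsame p A.c B.c

/-- The first basis vector. -/
def e1 : V3 := ⟨(1, 0), (0, 0), (0, 0)⟩

/-- The second basis vector. -/
def e2 : V3 := ⟨(0, 0), (1, 0), (0, 0)⟩

/-- The third basis vector. -/
def e3 : V3 := ⟨(0, 0), (0, 0), (1, 0)⟩

/-- The identity. -/
def mone : M3 := ⟨e1, e2, e3⟩

/-- Powers of a matrix. -/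
def mpow (p : Nat) (A : M3) : Nat → M3
  | 0 => mone
  | n + 1 => mmul p A (mpow p A n)

/-- The determinant of three columns. -/
def det3 (p : Nat) (x y z : V3) : Q :=
  add p (add p (add p (add p (add p (mul p (mul p x.a y.b) z.c) (neg p (mul p (mul p x.a z.b) y.c)))
    (neg p (mul p (mul p y.a x.b) z.c))) (mul p (mul p y.a z.b) x.c))
    (mul p (mul p z.a x.b) y.c)) (neg p (mul p (mul p z.a y.b) x.c))

/-- The form of a Gram matrix. -/
def form (p : Nat) (G : M3) (x y : V3) : Q := dot p x (mv p G (vconj p y))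

/-- A matrix is an isometry of determinant one. -/
def isoOK (p : Nat) (G t : M3) : Bool :=
  same p (det3 p t.a t.b t.c) (1, 0) &&
    same p (form p G t.a t.a) (form p G e1 e1) && same p (form p G t.a t.b) (form p G e1 e2) &&
    same p (form p G t.a t.c) (form p G e1 e3) && same p (form p G t.b t.a) (form p G e2 e1) &&
    same p (form p G t.b t.b) (form p G e2 e2) && same p (form p G t.b t.c) (form p G e2 e3) &&
    same p (form p G t.c t.a) (form p G e3 e1) && same p (form p G t.c t.b) (form p G e3 e2) &&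
    same p (form p G t.c t.c) (form p G e3 e3)

/-- All elements. -/
def elems (p : Nat) : List Q := (List.range p).flatMap fun i => (List.range p).map fun j => (i, j)

/-- Representatives of all points. -/
def points (p : Nat) : List V3 :=
  e3 :: ((elems p).map fun y => ⟨(0, 0), (1, 0), y⟩) ++
    (elems p).flatMap fun x => (elems p).map fun y => ⟨(1, 0), x, y⟩

/-- A set of points is stable under a matrix. -/
def stable (p : Nat) (om : V3 → Bool) (t : M3) : Bool :=
  (points p).all fun v => !om v || om (mv p t v)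

/-- A value is non-zero. -/
def nz (p : Nat) (a : Q) : Bool := !same p a (0, 0)

/-- The points of the first set: orthonormal coordinates. -/
def lineOm (x : V3) : Bool :=
  let na := mul 5 x.a (conj 5 x.a)
  let nb := mul 5 x.b (conj 5 x.b)
  let nc := mul 5 x.c (conj 5 x.c)
  let pr := mul 5 (mul 5 x.a x.b) x.c
  nz 5 (form 5 mone x x) && (same 5 na nb || same 5 na nc || same 5 nb nc) &&
    (same 5 pr (0, 0) || same 5 (npow 5 pr 8) (2, 3))

/-- A vector is a multiple of a rational one. -/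
def ratOm (x : V3) : Bool :=
  same 5 (mul 5 x.a (conj 5 x.b)) (mul 5 x.b (conj 5 x.a)) &&
    same 5 (mul 5 x.a (conj 5 x.c)) (mul 5 x.c (conj 5 x.a)) &&
    same 5 (mul 5 x.b (conj 5 x.c)) (mul 5 x.c (conj 5 x.b))

/-- The points of the second set: rational orthonormal coordinates. -/
def realOm (x : V3) : Bool :=
  let h := form 5 mone x x
  let s := dot 5 x x
  nz 5 h && (same 5 s (0, 0) || same 5 (npow 5 s 3) (mul 5 (2, 0) h) || ratOm x)

/-- Companion matrix of an element of order seven over twenty-five elements. -/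
def comp25 : M3 := ⟨e2, e3, ⟨(1, 0), (3, 4), (2, 4)⟩⟩

/-- Its Gram values. -/
def std25 : V3 := ⟨(1, 0), (0, 0), (3, 4)⟩

/-- Companion matrix of an element of order seven over nine elements. -/
def comp9 : M3 := ⟨e2, e3, ⟨(1, 0), (2, 1), (1, 1)⟩⟩

/-- Its Gram values. -/
def std9 : V3 := ⟨(1, 0), (0, 0), (2, 1)⟩

/-- The Gram matrix of three values. -/
def toep (p : Nat) (c : V3) : M3 :=
  ⟨⟨c.a, c.b, c.c⟩, ⟨conj p c.b, c.a, c.b⟩, ⟨conj p c.c, conj p c.b, c.a⟩⟩

/-- The values of a form along powers of a companion matrix. -/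
def vals (p : Nat) (C G : M3) (y : V3) : V3 :=
  ⟨form p G y y, form p G (mv p C y) y, form p G (mv p C (mv p C y)) y⟩

/-- Sum of a function over the first natural numbers. -/
def sumTo (p : Nat) (f : Nat → Q) : Nat → Q
  | 0 => (0, 0)
  | n + 1 => add p (sumTo p f n) (f n)

/-- Power sums of the form along seven powers. -/
def fsum (p : Nat) (C G : M3) (e : Nat) (x : V3) : Q :=
  sumTo p (fun i => npow p (form p G (mv p (mpow p C i) x) x) e) 7

/-- Power sums of determinants along seven powers. -/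
def dsum (p : Nat) (C : M3) (x : V3) : Q :=
  sumTo p (fun i =>
    let A := mpow p C i
    let y := mv p A x
    npow p (det3 p x y (mv p A y)) 4) 7

/-- The values distinguishing the points of the third set. -/
def fieldKeys : List (Q × Q × Q) :=
  [((2, 0), (3, 0), (3, 2)), ((2, 0), (0, 0), (3, 3)), ((2, 0), (0, 0), (4, 0)), ((4, 0), (4, 0), (2, 3)),
    ((1, 0), (0, 0), (2, 3))]

/-- The points of the third set. -/
def field25Om (x : V3) : Bool :=
  let G := toep 5 std25
  let h := form 5 G x x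
  nz 5 h && fieldKeys.any fun k =>
    same 5 (fsum 5 comp25 G 3 x) (mul 5 k.1 (npow 5 h 3)) &&
      same 5 (fsum 5 comp25 G 4 x) (mul 5 k.2.1 (npow 5 h 4)) &&
      same 5 (dsum 5 comp25 x) (mul 5 k.2.2 (npow 5 h 2))

/-- The points of the fourth set. -/
def field9Om (x : V3) : Bool :=
  let G := toep 3 std9
  let h := form 3 G x x
  nz 3 h && same 3 (fsum 3 comp9 G 4 x) (mul 3 (2, 0) (npow 3 h 4))

/-- The diagonal generator. -/
def genA : M3 := ⟨e1, ⟨(0, 0), (2, 3), (0, 0)⟩, ⟨(0, 0), (0, 0), (2, 2)⟩⟩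

/-- The cyclic generator. -/
def genB : M3 := ⟨e2, e3, e1⟩

/-- Representatives modulo scalars of the group of order twenty-seven. -/
def rep (i : Nat) : M3 := mmul 5 (mpow 5 genA (i / 3)) (mpow 5 genB (i % 3))

/-- The points of the fifth set. -/
def sixOm (x : V3) : Bool :=
  let h := form 5 mone x x
  nz 5 h && (same 5 (sumTo 5 (fun i => npow 5 (form 5 mone (mv 5 (rep i) x) x) 3) 9) (0, 0) ||
    same 5 (mul 5 (3, 0) (sumTo 5 (fun i =>
      let A := rep i
      let y := mv 5 A x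
      npow 5 (det3 5 x y (mv 5 A y)) 4) 9)) (mul 5 (4, 4) (npow 5 h 2)))

/-- Isometry preserving the first set. -/
def lineT : M3 :=
  ⟨⟨(4, 1), (2, 3), (1, 0)⟩, ⟨(3, 2), (3, 2), (3, 0)⟩, ⟨(3, 3), (1, 1), (3, 2)⟩⟩

/-- Isometry preserving the second set. -/
def realT : M3 :=
  ⟨⟨(1, 4), (3, 0), (4, 2)⟩, ⟨(1, 2), (0, 4), (0, 0)⟩, ⟨(4, 1), (2, 0), (4, 2)⟩⟩

/-- Isometry preserving the fifth set. -/
def sixT : M3 :=
  ⟨⟨(1, 2), (2, 4), (2, 2)⟩, ⟨(0, 2), (1, 2), (1, 0)⟩, ⟨(2, 2), (2, 3), (3, 0)⟩⟩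

/-- An isometry moving the fifth set. -/
def sixS : M3 := ⟨⟨(4, 0), (0, 0), (0, 0)⟩, ⟨(0, 0), (4, 0), (0, 0)⟩, e3⟩

/-- Isometry preserving the third set. -/
def field25T : M3 :=
  ⟨⟨(0, 0), (2, 4), (4, 4)⟩, ⟨(0, 2), (2, 4), (4, 2)⟩, ⟨(0, 1), (2, 3), (3, 1)⟩⟩

/-- An isometry moving the third set. -/
def field25S : M3 :=
  ⟨⟨(1, 0), (0, 1), (1, 0)⟩, ⟨(0, 0), (2, 1), (3, 0)⟩, ⟨(3, 2), (1, 3), (0, 1)⟩⟩

/-- Isometry preserving the fourth set. -/
def field9T : M3 :=
  ⟨⟨(0, 2), (2, 0), (0, 2)⟩, ⟨(1, 2), (2, 1), (2, 1)⟩, ⟨(0, 1), (0, 0), (1, 0)⟩⟩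

/-- An isometry moving the fourth set. -/
def field9S : M3 :=
  ⟨⟨(0, 2), (0, 1), (0, 2)⟩, ⟨(0, 0), (1, 2), (2, 2)⟩, ⟨(0, 0), (1, 1), (2, 1)⟩⟩

theorem line_iso : isoOK 5 mone lineT && isoOK 5 mone realT = true := by decide +kernel
theorem line_moved : (lineOm e3 && !lineOm (mv 5 realT e3)) = true := by decide +kernel
theorem line_stable : stable 5 lineOm lineT = true := by decide +kernel
theorem real_iso : isoOK 5 mone sixT = true := by decide +kernel
theorem real_moved : (realOm e2 && !realOm (mv 5 sixT e2)) = true := by decide +kernel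
theorem real_stable : stable 5 realOm realT = true := by decide +kernel
theorem real_not : (ratOm e1 && !ratOm (mv 5 realT e1)) = true := by decide +kernel

theorem six_iso : isoOK 5 mone sixS = true := by decide +kernel
theorem six_moved : (sixOm ⟨(0, 0), (1, 0), (4, 0)⟩ && !sixOm (mv 5 sixS ⟨(0, 0), (1, 0), (4, 0)⟩)) = true := by
  decide +kernel
theorem six_stable : stable 5 sixOm sixT = true := by decide +kernel

theorem field25_iso : (isoOK 5 (toep 5 std25) field25T && isoOK 5 (toep 5 std25) field25S) = true := by decide +kernel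
theorem field25_moved : (field25Om ⟨(0, 0), (1, 0), (0, 1)⟩ &&
    !field25Om (mv 5 field25S ⟨(0, 0), (1, 0), (0, 1)⟩)) = true := by decide +kernel
theorem field25_stable : stable 5 field25Om field25T = true := by decide +kernel

theorem field9_iso : (isoOK 3 (toep 3 std9) field9T && isoOK 3 (toep 3 std9) field9S) = true := by decide +kernel
theorem field9_moved : (field9Om ⟨(0, 0), (1, 0), (0, 1)⟩ &&
    !field9Om (mv 3 field9S ⟨(0, 0), (1, 0), (0, 1)⟩)) = true := by decide +kernel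
theorem field9_stable : stable 3 field9Om field9T = true := by decide +kernel

theorem field25_not : ((List.range 7).all fun i =>
    !msame 5 (mmul 5 field25T comp25) (mmul 5 (mpow 5 comp25 i) field25T)) = true := by decide +kernel
theorem field9_not : ((List.range 7).all fun i =>
    !msame 3 (mmul 3 field9T comp9) (mmul 3 (mpow 3 comp9 i) field9T)) = true := by decide +kernel
theorem six_not : ((List.range 9).all fun i => [((1, 0) : Q), (2, 3), (2, 2)].all fun s =>
    let B := rep i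
    !msame 5 (mmul 5 sixT genA)
      (mmul 5 ⟨vsmul 5 s B.a, vsmul 5 s B.b, vsmul 5 s B.c⟩ sixT)) = true := by decide +kernel

/-- Normalisation of Gram values over twenty-five elements. -/
def witnesses25 : List V3 :=
  [⟨(0, 0), (0, 0), (1, 0)⟩, ⟨(0, 0), (2, 0), (0, 2)⟩, ⟨(1, 0), (1, 0), (0, 4)⟩, ⟨(1, 0), (0, 0), (1, 2)⟩,
    ⟨(1, 0), (1, 0), (1, 3)⟩, ⟨(1, 0), (1, 1), (2, 1)⟩, ⟨(1, 0), (0, 0), (2, 3)⟩, ⟨(1, 0), (0, 0), (0, 1)⟩,
    ⟨(0, 0), (1, 0), (4, 0)⟩, ⟨(1, 0), (4, 0), (0, 3)⟩, ⟨(0, 0), (0, 1), (0, 1)⟩, ⟨(1, 0), (2, 0), (3, 2)⟩,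
    ⟨(0, 0), (2, 0), (2, 4)⟩, ⟨(0, 0), (1, 0), (4, 4)⟩, ⟨(0, 0), (1, 0), (1, 3)⟩, ⟨(1, 0), (3, 0), (4, 3)⟩,
    ⟨(0, 0), (0, 1), (1, 2)⟩, ⟨(1, 0), (0, 0), (4, 0)⟩, ⟨(1, 0), (4, 1), (1, 0)⟩, ⟨(1, 0), (1, 0), (2, 0)⟩,
    ⟨(0, 0), (2, 0), (1, 4)⟩, ⟨(0, 0), (1, 0), (1, 4)⟩, ⟨(0, 0), (2, 0), (1, 3)⟩, ⟨(0, 0), (0, 1), (0, 2)⟩,
    ⟨(1, 0), (4, 2), (2, 1)⟩]

/-- Normalisation of Gram values over nine elements. -/
def witnesses9 : List V3 :=
  [⟨(0, 0), (0, 0), (1, 0)⟩, ⟨(0, 0), (1, 1), (2, 1)⟩, ⟨(0, 0), (1, 0), (2, 0)⟩, ⟨(1, 0), (1, 0), (2, 0)⟩,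
    ⟨(0, 0), (1, 0), (1, 2)⟩, ⟨(1, 0), (1, 1), (0, 2)⟩, ⟨(0, 0), (1, 0), (2, 2)⟩, ⟨(1, 0), (0, 0), (2, 0)⟩,
    ⟨(1, 0), (0, 0), (2, 1)⟩]

/-- Three values are the Gram values of an isometry. -/
def compatible (p : Nat) (C : M3) (c : V3) : Bool :=
  let G := toep p c
  let x := mv p C e3
  same p (form p G x (mv p C e1)) (form p G e3 e1) && same p (form p G x (mv p C e2)) (form p G e3 e2) &&
    same p (form p G x (mv p C e3)) (form p G e3 e3)

theorem normalisable25 : ((elems 5).all fun a => (elems 5).all fun b =>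
    !compatible 5 comp25 ⟨(1, 0), a, b⟩ ||
      witnesses25.any fun y => vsame 5 (vals 5 comp25 (toep 5 ⟨(1, 0), a, b⟩) y) std25) = true := by decide +kernel

theorem normalisable9 : ((elems 3).all fun a => (elems 3).all fun b =>
    !compatible 3 comp9 ⟨(1, 0), a, b⟩ ||
      witnesses9.any fun y => vsame 3 (vals 3 comp9 (toep 3 ⟨(1, 0), a, b⟩) y) std9) = true := by decide +kernel

end CfsgLib.Aschbacher.ThreeData
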