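import Cfsg.Agent.Aschbacher.Form.UnitaryThreePoints

/-!
The normalisers of fields of degree three in the special unitary groups of dimension three over nine and over
twenty-five elements are not maximal: they preserve, with a further isometry, an orbit of points.
-/
set_option autoImplicit false
set_option maxHeartbeats 1000000

namespace CfsgLib.Aschbacher

open Matrix Cfsg Cfsg.Geo CfsgLib.GeoClifford CfsgLib.Geo
open scoped MatrixGroups

variable {F : Type*} [Field F] [Fintype F]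

lemma sum_range_seven_reindex {M : Type*} [AddCommMonoid M] (f : ℕ → M) {a : ℕ} (h0 : 0 < a) (h7 : a < 7) :
    ∑ i ∈ Finset.range 7, f (a * i % 7) = ∑ i ∈ Finset.range 7, f i := by
  interval_cases a <;> simp [Finset.sum_range_succ] <;> abel

open ThreeData in
/-- Coordinates for a field of degree three containing an element of order seven. -/
lemma exists_field_coord {p : ℕ} {r : F} {σ : F ≃+* F} (hc : CodedField p r σ) (hp : p = 3 ∨ p = 5)
    (hF : Fintype.card F = p ^ 2) (hf : IsUnitaryForm σ (hermForm 3 F p))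
    {K : Subalgebra F (Matrix (Fin 3) (Fin 3) F)} (hK : IsFieldSubalgebra 3 K)
    (hac : IsAdjointClosedFor (hermForm 3 F p) K) {C : M3} {std : V3} {wit : List V3}
    (hCa : C.a = e2) (hCb : C.b = e3) (hC1 : C.c.a = (1, 0))
    (ht : (same p (add p C.c.c (conj p C.c.c)) (neg p (1, 0)) && same p (mul p C.c.c (conj p C.c.c)) (2, 0) &&
      same p C.c.b (neg p (conj p C.c.c)) && !same p C.c.c (conj p C.c.c)) = true)
    (hG : nz p (det3 p (toep p std).a (toep p std).b (toep p std).c) = true)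
    (hnorm : ((elems p).all fun a => (elems p).all fun b => !compatible p C ⟨(1, 0), a, b⟩ ||
      wit.any fun y => vsame p (vals p C (toep p ⟨(1, 0), a, b⟩) y) std) = true) :
    ∃ X : GL (Fin 3) F,
      (∀ u v, hermForm 3 F p ((X : Matrix (Fin 3) (Fin 3) F) *ᵥ u) ((X : Matrix (Fin 3) (Fin 3) F) *ᵥ v) =
        formOf σ (toM r (toep p std)) u v) ∧
      toM r C ^ 7 = 1 ∧
      ∀ g ∈ subalgebraNormalizer K, ∃ a, 0 < a ∧ a < 7 ∧
        ((X⁻¹ * g * X : GL (Fin 3) F) : Matrix (Fin 3) (Fin 3) F) * toM r C =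
          toM r C ^ a * ((X⁻¹ * g * X : GL (Fin 3) F) : Matrix (Fin 3) (Fin 3) F) := by
  classical
  set f := hermForm 3 F p with hfdef
  have hR := isRefl_of_unitary hf
  have hse := isSesq_of_unitary hf
  have h2 := ThreeData.two_ne_zero' hc
  simp only [Bool.and_eq_true, Bool.not_eq_true', Bool.eq_false_iff, ne_eq, same_iff hc, phi_add hc, phi_mul hc,
    phi_conj hc, phi_neg hc, phi_one] at ht
  obtain ⟨⟨⟨hts, htp⟩, htb⟩, htne⟩ := ht
  set t := phi r C.c.c with htdef
  have htwo : phi r (2, 0) = 2 := by simp [phi]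
  rw [htwo] at htp
  have hfield : IsField K := ⟨⟨0, 1, zero_ne_one⟩, fun a b => Subtype.ext (hK.comm _ a.2 _ b.2), fun {a} ha => by
    obtain ⟨y, hy, hy1⟩ := hK.inv _ a.2 (fun h => ha (Subtype.ext h))
    exact ⟨⟨y, hy⟩, Subtype.ext hy1⟩⟩
  letI : Field K := hfield.toField
  have : Fintype K := Fintype.ofFinite _
  have hcardK : Fintype.card K = (p ^ 2) ^ 3 := by
    rw [Module.card_eq_pow_finrank (K := F), hF, hK.finrank_eq]
  set i := algebraMap F K t with hidef
  set i' := algebraMap F K (σ t) with hi'def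
  have his : i + i' = -1 := by rw [hidef, hi'def, ← map_add, hts, map_neg, map_one]
  have hip : i * i' = 2 := by rw [hidef, hi'def, ← map_mul, htp, map_ofNat]
  obtain ⟨k, hk7, hk1, hkP⟩ : ∃ k : K, k ^ 7 = 1 ∧ k ≠ 1 ∧ k ^ 3 = i * k ^ 2 - i' * k + 1 := by
    obtain ⟨u, hu⟩ := exists_prime_orderOf_dvd_card' (G := Kˣ) (hp := ⟨by norm_num⟩) 7 (by
      rw [Nat.card_eq_fintype_card, Fintype.card_units, hcardK]
      rcases hp with rfl | rfl <;> norm_num)
    have hx7 : (u : K) ^ 7 = 1 := by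
      rw [← Units.val_pow_eq_pow_val, ← hu, pow_orderOf_eq_one, Units.val_one]
    have hx1 : (u : K) ≠ 1 := fun h => by
      rw [Units.val_eq_one.mp h, orderOf_one] at hu
      omega
    generalize (u : K) = x at hx7 hx1
    have hsum : x ^ 6 + x ^ 5 + x ^ 4 + x ^ 3 + x ^ 2 + x + 1 = 0 := by
      have h : (x - 1) * (x ^ 6 + x ^ 5 + x ^ 4 + x ^ 3 + x ^ 2 + x + 1) = 0 := by linear_combination hx7
      exact (mul_eq_zero.mp h).resolve_left (sub_ne_zero.mpr hx1)
    have hprod : (x ^ 3 - i * x ^ 2 + i' * x - 1) * (x ^ 3 - i' * x ^ 2 + i * x - 1) = 0 := by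
      linear_combination hsum + (-x ^ 5 + x ^ 4 - (i + i' - 1) * x ^ 3 + x ^ 2 - x) * his +
        (x ^ 4 + 2 * x ^ 3 + x ^ 2) * hip
    rcases mul_eq_zero.mp hprod with h | h
    · exact ⟨x, hx7, hx1, by linear_combination h⟩
    · have hx0 : x ≠ 0 := fun h0 => by rw [h0] at hx7; simp at hx7
      refine ⟨x⁻¹, by rw [inv_pow, hx7, inv_one], fun h0 => hx1 (inv_eq_one.mp h0), ?_⟩
      field_simp
      linear_combination -h
  set kM : Matrix (Fin 3) (Fin 3) F := (k : Matrix (Fin 3) (Fin 3) F) with hkM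
  have hadjK : ∀ a ∈ K, hR.adj a ∈ K := fun a ha => by
    obtain ⟨a', ha', h⟩ := hac a ha
    rwa [hR.adj_eq h]
  let J : K → K := fun a => ⟨hR.adj a, hadjK _ a.2⟩
  have hJadd : ∀ a b, J (a + b) = J a + J b := fun a b => Subtype.ext (hR.adj_add _ _)
  have hJmul : ∀ a b, J (a * b) = J a * J b := fun a b => Subtype.ext (by
    show hR.adj ((a : Matrix (Fin 3) (Fin 3) F) * (b : Matrix (Fin 3) (Fin 3) F)) = _
    rw [hR.adj_mul]
    exact hK.comm _ (hadjK _ b.2) _ (hadjK _ a.2))
  have hJone : J 1 = 1 := Subtype.ext hR.adj_one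
  have hJpow : ∀ (a : K) n, J (a ^ n) = J a ^ n := by
    intro a n
    induction n with
    | zero => rw [pow_zero, pow_zero, hJone]
    | succ n ih => rw [pow_succ, pow_succ, hJmul, ih]
  have hJalg : ∀ c : F, J (algebraMap F K c) = algebraMap F K (σ c) := fun c => Subtype.ext (by
    show hR.adj (algebraMap F (Matrix (Fin 3) (Fin 3) F) c) = algebraMap F (Matrix (Fin 3) (Fin 3) F) (σ c)
    rw [Algebra.algebraMap_eq_smul_one, Algebra.algebraMap_eq_smul_one, hR.adj_smul, hR.adj_one])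
  have hJJ : ∀ a, J (J a) = a := fun a => Subtype.ext (hR.adj_adj _)
  have hkprim : IsPrimitiveRoot k 7 := by
    rw [← orderOf_eq_prime (p := 7) (hp := ⟨by norm_num⟩) hk7 hk1]
    exact IsPrimitiveRoot.orderOf k
  have hk0 : k ≠ 0 := fun h0 => by rw [h0] at hk7; simp at hk7
  have hJk : J k * k = 1 := by
    obtain ⟨a, ha, hka⟩ := hkprim.eq_pow_of_pow_eq_one (show J k ^ 7 = 1 by rw [← hJpow, hk7, hJone])
    have h := hJJ k
    rw [← hka, hJpow, ← hka, ← pow_mul] at h
    have hmod : a * a % 7 = 1 := by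
      have h' : k ^ (a * a % 7) = k ^ 1 := by rw [← pow_eq_pow_mod _ hk7, pow_one, h]
      exact hkprim.pow_inj (Nat.mod_lt _ (by norm_num)) (by norm_num) h'
    have ha' : a = 1 ∨ a = 6 := by interval_cases a <;> omega
    rcases ha' with rfl | rfl
    · exfalso
      rw [pow_one] at hka
      have h' : J (k ^ 3) + J (i' * k) = J (i * k ^ 2) + J 1 := by
        rw [← hJadd, ← hJadd]; congr 1; linear_combination hkP
      simp only [hJmul, hJpow, hJone, hJalg, hidef, hi'def, hf.involutive, ← hka] at h'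
      rw [← hidef, ← hi'def] at h'
      have hne : i - i' ≠ 0 := sub_ne_zero.mpr fun e => htne ((algebraMap F K).injective e)
      have h3 : (i - i') * (k * (k + 1)) = 0 := by linear_combination h' - hkP
      have hkm : k + 1 = 0 := (mul_eq_zero.mp ((mul_eq_zero.mp h3).resolve_left hne)).resolve_left hk0
      rw [eq_neg_of_add_eq_zero_left hkm, Odd.neg_one_pow (by decide)] at hk7
      apply h2
      have : algebraMap F K 2 = algebraMap F K 0 := by rw [map_ofNat, map_zero]; linear_combination -hk7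
      exact (algebraMap F K).injective this
    · rw [← hka, ← pow_succ, hk7]
  have hiso : ∀ u v, f (kM *ᵥ u) (kM *ᵥ v) = f u v := fun u v => by
    rw [hR.adj_spec, mulVec_mulVec, show hR.adj kM * kM = 1 from congrArg Subtype.val hJk, one_mulVec]
  have hkM7 : kM ^ 7 = 1 := by simpa using congrArg Subtype.val hk7
  have hkMP : kM ^ 3 = t • kM ^ 2 - σ t • kM + 1 := by
    have h' := congrArg (Subtype.val : K → Matrix (Fin 3) (Fin 3) F) hkP
    simpa [← hkM, hidef, hi'def, Algebra.algebraMap_eq_smul_one, smul_mul_assoc] using h'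
  let B : (Fin 3 → F) → Matrix (Fin 3) (Fin 3) F := fun v => Matrix.of fun a b => ((kM ^ (b : ℕ)) *ᵥ v) a
  have hBs : ∀ v (j : Fin 3), B v *ᵥ Pi.single j 1 = (kM ^ (j : ℕ)) *ᵥ v := fun v j => by ext; simp [B]
  have hshift : ∀ v, kM * B v = B v * toM r C := fun v => by
    refine Matrix.ext_of_mulVec_single fun j => ?_
    rw [← mulVec_mulVec, hBs, ← mulVec_mulVec, toM_col, mulVec_mulVec, ← pow_succ']
    have hlin : ∀ a : Fin 3 → F, B v *ᵥ a = ∑ l : Fin 3, a l • ((kM ^ (l : ℕ)) *ᵥ v) := fun a => by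
      ext x; simp [B, Matrix.mulVec, dotProduct, Finset.sum_apply, mul_comm]
    rw [hlin, Fin.sum_univ_three]
    fin_cases j <;>
      simp [hCa, hCb, e2, e3, tov, hkMP, hC1, htb, ← htdef, add_mulVec, sub_mulVec, smul_mulVec]
    abel
  let val : (Fin 3 → F) → V3 → Prop := fun v c => ∀ d : Fin 3, tov r c d = f ((kM ^ (d : ℕ)) *ᵥ v) v
  have hvals : ∀ v c, val v c → ∀ u w, f (B v *ᵥ u) (B v *ᵥ w) = formOf σ (toM r (toep p c)) u w := by
    intro v c hcv u w
    have hg : IsSesq σ (fun a b => f (B v *ᵥ a) (B v *ᵥ b)) :=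
      ⟨fun a b w => by simp only [mulVec_add, hse.add_left], fun s a w => by simp only [mulVec_smul, hse.smul_left],
        fun w a b => by simp only [mulVec_add, hse.add_right], fun s w a => by simp only [mulVec_smul, hse.smul_right]⟩
    rw [show f (B v *ᵥ u) (B v *ᵥ w) = _ from hg.eq_gram _ _, formOf]
    congr 2
    have hP : ∀ (d : ℕ) u v, f ((kM ^ d) *ᵥ u) ((kM ^ d) *ᵥ v) = f u v := by
      intro d
      induction d with
      | zero => simp
      | succ n ih => intro u v; rw [pow_succ', ← mulVec_mulVec, ← mulVec_mulVec, hiso, ih]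
    have hge : ∀ a b : ℕ, b ≤ a → f ((kM ^ a) *ᵥ v) ((kM ^ b) *ᵥ v) = f ((kM ^ (a - b)) *ᵥ v) v := fun a b hab => by
      conv_lhs => rw [show a = b + (a - b) by omega, pow_add, ← mulVec_mulVec, hP]
    have hle : ∀ a b : ℕ, a ≤ b → f ((kM ^ a) *ᵥ v) ((kM ^ b) *ᵥ v) = σ (f ((kM ^ (b - a)) *ᵥ v) v) :=
      fun a b hab => by rw [hf.herm, hge b a hab]
    have c0 := hcv 0; have c1 := hcv 1; have c2 := hcv 2
    simp [tov] at c0 c1 c2
    ext a b
    simp only [gramMatrix, hBs]
    fin_cases a <;> fin_cases b <;>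
      first
        | (rw [hge _ _ (by norm_num)]; simp [toM, toep, tov, c0, c1, c2]; done)
        | (rw [hle _ _ (by norm_num)]; simp [toM, toep, tov, phi_conj hc, c0, c1, c2]; done)
  -- a first vector
  set v0 : Fin 3 → F := Pi.single 0 1 with hv0
  obtain ⟨a, ha, hae⟩ := elems_surj hc (f (kM *ᵥ v0) v0)
  obtain ⟨b, hb, hbe⟩ := elems_surj hc (f ((kM ^ 2) *ᵥ v0) v0)
  have hv00 : f v0 v0 = 1 := by
    rw [hfdef, hermForm, Fin.sum_univ_three]
    simp [v0]
  have hval0 : val v0 ⟨(1, 0), a, b⟩ := fun d => by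
    fin_cases d <;> simp [tov, hae, hbe, hv00]
  have hcomp : compatible p C ⟨(1, 0), a, b⟩ = true := by
    have key : ∀ x y : V3, phi r (form p (toep p ⟨(1, 0), a, b⟩) (mv p C x) (mv p C y)) =
        phi r (form p (toep p ⟨(1, 0), a, b⟩) x y) := fun x y => by
      rw [phi_form hc, phi_form hc, tov_mv hc, tov_mv hc, ← hvals _ _ hval0, ← hvals _ _ hval0, mulVec_mulVec,
        ← hshift, mulVec_mulVec, ← hshift, ← mulVec_mulVec, ← mulVec_mulVec, hiso]
    simp only [compatible, Bool.and_eq_true, same_iff hc]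
    exact ⟨⟨key _ _, key _ _⟩, key _ _⟩
  obtain ⟨y, -, hy⟩ : ∃ y ∈ wit, vsame p (vals p C (toep p ⟨(1, 0), a, b⟩) y) std = true := by
    have h := List.all_eq_true.mp (List.all_eq_true.mp hnorm a ha) b hb
    rw [hcomp, Bool.not_true, Bool.false_or] at h
    exact List.any_eq_true.mp h
  set v := B v0 *ᵥ tov r y with hv
  have hpowB : ∀ n : ℕ, kM ^ n * B v0 = B v0 * toM r C ^ n := by
    intro n
    induction n with
    | zero => simp
    | succ n ih => rw [pow_succ, pow_succ, mul_assoc, hshift, ← mul_assoc, ih, mul_assoc]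
  have hvs : val v std := by
    have e : ∀ n : ℕ, (kM ^ n) *ᵥ v = B v0 *ᵥ (toM r C ^ n *ᵥ tov r y) := fun n => by
      rw [hv, mulVec_mulVec, hpowB, ← mulVec_mulVec]
    intro d
    rw [e, hv, hvals _ _ hval0, ← (vsame_iff hc _ _).mp hy]
    fin_cases d
    · show phi r (form p _ y y) = _
      rw [phi_form hc]; simp
    · show phi r (form p _ (mv p C y) y) = _
      rw [phi_form hc, tov_mv hc]; simp
    · show phi r (form p _ (mv p C (mv p C y)) y) = _
      rw [phi_form hc, tov_mv hc, tov_mv hc]; simp [pow_two, ← mulVec_mulVec]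
  have hBu : IsUnit (B v) := by
    rw [Matrix.isUnit_iff_isUnit_det, isUnit_iff_ne_zero]
    intro hdet
    obtain ⟨w, hw, hw0⟩ := Matrix.exists_mulVec_eq_zero_iff.mpr hdet
    have hGdet : (toM r (toep p std)).det ≠ 0 := by
      have := (nz_iff hc _).mp hG
      rwa [phi_det3 hc] at this
    have hu : IsUnit (toM r (toep p std)) := by
      rw [Matrix.isUnit_iff_isUnit_det, isUnit_iff_ne_zero]; exact hGdet
    obtain ⟨-, x, hx⟩ := nondegenerate_formOf σ hu w hw
    apply hx
    rw [← hvals _ _ hvs, hw0, hse.zero_left]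
  refine ⟨hBu.unit, fun u w => by rw [hBu.unit_spec]; exact hvals _ _ hvs u w, ?_, fun g hg => ?_⟩
  · have h : ∀ n : ℕ, kM ^ n * B v = B v * toM r C ^ n := by
      intro n
      induction n with
      | zero => simp
      | succ n ih => rw [pow_succ, pow_succ, mul_assoc, hshift, ← mul_assoc, ih, mul_assoc]
    have h' := h 7
    rw [hkM7, one_mul] at h'
    exact hBu.mul_left_cancel (by rw [← h', mul_one])
  · set X := hBu.unit with hX
    set Xi : Matrix (Fin 3) (Fin 3) F := ((X⁻¹ : GL (Fin 3) F) : Matrix (Fin 3) (Fin 3) F) with hXi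
    have hiB : Xi * B v = 1 := Units.inv_mul X
    have hBi : B v * Xi = 1 := Units.mul_inv X
    have hXC : Xi * kM = toM r C * Xi := by
      have h : Xi * (kM * B v) * Xi = Xi * (B v * toM r C) * Xi := by rw [hshift]
      rwa [← mul_assoc, ← mul_assoc, hiB, mul_assoc _ (B v), hBi, mul_one, one_mul] at h
    set k' := (g : Matrix (Fin 3) (Fin 3) F) * kM * (↑g⁻¹ : Matrix (Fin 3) (Fin 3) F) with hk'
    have hk'K : k' ∈ K := (hg kM).mp k.2
    have hpow : ∀ n : ℕ, k' ^ n = (g : Matrix (Fin 3) (Fin 3) F) * kM ^ n * (↑g⁻¹ : Matrix (Fin 3) (Fin 3) F) :=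
      fun n => by rw [hk', Units.conj_pow]
    obtain ⟨a, ha, hka⟩ := hkprim.eq_pow_of_pow_eq_one (show (⟨k', hk'K⟩ : K) ^ 7 = 1 from Subtype.ext (by
      show k' ^ 7 = 1
      rw [hpow, hkM7, mul_one, Units.mul_inv]))
    have hka' : kM ^ a = k' := by simpa using congrArg Subtype.val hka
    refine ⟨a, Nat.pos_of_ne_zero fun h0 => ?_, ha, ?_⟩
    · subst h0
      rw [pow_zero, hk', eq_comm] at hka'
      apply hk1
      apply Subtype.ext
      show kM = 1
      have := congrArg (fun M => (↑g⁻¹ : Matrix (Fin 3) (Fin 3) F) * M * (g : Matrix (Fin 3) (Fin 3) F)) hka'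
      simpa [mul_assoc] using this
    · have hn : ∀ n : ℕ, Xi * kM ^ n = toM r C ^ n * Xi := by
        intro n
        induction n with
        | zero => simp
        | succ n ih => rw [pow_succ, pow_succ, ← mul_assoc, ih, mul_assoc, hXC, ← mul_assoc]
      have hgk : (g : Matrix (Fin 3) (Fin 3) F) * kM = kM ^ a * g := by
        rw [hka', hk', mul_assoc, Units.inv_mul, mul_one]
      rw [Units.val_mul, Units.val_mul, ← hXi]
      calc Xi * g * X * toM r C
          = Xi * g * (kM * B v) := by rw [hshift, ← mul_assoc, show (X : Matrix (Fin 3) (Fin 3) F) = B v from rfl]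
        _ = Xi * (kM ^ a * g) * B v := by rw [← hgk, mul_assoc, mul_assoc, mul_assoc]
        _ = toM r C ^ a * (Xi * g * B v) := by rw [← mul_assoc, hn, mul_assoc, mul_assoc, mul_assoc]

open ThreeData in
/-- The sums over the powers of a companion matrix are invariant under its normaliser. -/
lemma power_sums_invariant {r : F} {σ : F ≃+* F} {C G : M3} (hC7 : toM r C ^ 7 = 1)
    {T : Matrix (Fin 3) (Fin 3) F} {a : ℕ} (ha : 0 < a) (ha7 : a < 7) (hT : T * toM r C = toM r C ^ a * T)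
    (hiso : ∀ u v, formOf σ (toM r G) (T *ᵥ u) (T *ᵥ v) = formOf σ (toM r G) u v) (hdet : T.det = 1)
    (u : Fin 3 → F) :
    (∀ e : ℕ, ∑ i ∈ Finset.range 7, formOf σ (toM r G) ((toM r C ^ i) *ᵥ (T *ᵥ u)) (T *ᵥ u) ^ e =
      ∑ i ∈ Finset.range 7, formOf σ (toM r G) ((toM r C ^ i) *ᵥ u) u ^ e) ∧
    ∑ i ∈ Finset.range 7, (Matrix.of fun x y => ![T *ᵥ u, (toM r C ^ i) *ᵥ (T *ᵥ u),
        (toM r C ^ i) *ᵥ ((toM r C ^ i) *ᵥ (T *ᵥ u))] y x).det ^ 4 =
      ∑ i ∈ Finset.range 7, (Matrix.of fun x y => ![u, (toM r C ^ i) *ᵥ u,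
        (toM r C ^ i) *ᵥ ((toM r C ^ i) *ᵥ u)] y x).det ^ 4 := by
  set Cm := toM r C
  have hpow : ∀ i : ℕ, T * Cm ^ i = Cm ^ (a * i % 7) * T := by
    intro i
    rw [← pow_eq_pow_mod _ hC7]
    induction i with
    | zero => simp
    | succ n ih => rw [pow_succ, ← mul_assoc, ih, mul_assoc, hT, ← mul_assoc, ← pow_add, Nat.mul_succ]
  refine ⟨fun e => ?_, ?_⟩
  · rw [← sum_range_seven_reindex _ ha ha7]
    refine Finset.sum_congr rfl fun i _ => ?_
    rw [mulVec_mulVec, ← hpow, ← mulVec_mulVec, hiso]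
  · rw [← sum_range_seven_reindex _ ha ha7]
    refine Finset.sum_congr rfl fun i _ => ?_
    have e : (Matrix.of fun x y => ![T *ᵥ u, (Cm ^ (a * i % 7)) *ᵥ (T *ᵥ u),
        (Cm ^ (a * i % 7)) *ᵥ ((Cm ^ (a * i % 7)) *ᵥ (T *ᵥ u))] y x) =
        T * Matrix.of fun x y => ![u, (Cm ^ i) *ᵥ u, (Cm ^ i) *ᵥ ((Cm ^ i) *ᵥ u)] y x := by
      refine Matrix.ext_of_mulVec_single fun j => ?_
      rw [← mulVec_mulVec, mulVec_single_one, mulVec_single_one]
      have h1 : ∀ w : Fin 3 → F, T *ᵥ ((Cm ^ i) *ᵥ w) = (Cm ^ (a * i % 7)) *ᵥ (T *ᵥ w) := fun w => by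
        rw [mulVec_mulVec, hpow, ← mulVec_mulVec]
      fin_cases j
      · rfl
      · exact (h1 u).symm
      · show _ = T *ᵥ ((Cm ^ i) *ᵥ ((Cm ^ i) *ᵥ u))
        rw [h1, h1]; rfl
    rw [e, det_mul, hdet, one_mul]

open ThreeData in
/-- Over twenty-five elements the normaliser of a field of degree three is not maximal. -/
theorem fieldThree_not_maximal_five (hF : Fintype.card F = 5 ^ 2) {H : Subgroup (GL (Fin 3) F)}
    (hH : IsMaximalIn (Cfsg.GU 3 F 5 ⊓ specialLinear (Fin 3) F) H) {K : Subalgebra F (Matrix (Fin 3) (Fin 3) F)}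
    (hK : IsFieldSubalgebra 3 K) (hac : IsAdjointClosedFor (hermForm 3 F 5) K) (hle : H ≤ subalgebraNormalizer K) :
    False := by
  classical
  obtain ⟨σ, hf, hσ, -⟩ := exists_hermForm_unitary (n := 3) hF
  obtain ⟨r, hc⟩ := exists_codedField (Or.inr rfl) hF hσ
  obtain ⟨X, hX, hC7, hconj⟩ := exists_field_coord hc (Or.inr rfl) hF hf hK hac (C := comp25) (std := std25)
    rfl rfl rfl (by decide) (by decide) normalisable25
  set G := toep 5 std25 with hG
  set Cm := toM r comp25 with hCm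
  let h : (Fin 3 → F) → F := fun u => formOf σ (toM r G) u u
  let P : (Fin 3 → F) → Prop := fun u => h u ≠ 0 ∧ ∃ k ∈ fieldKeys,
    ∑ i ∈ Finset.range 7, formOf σ (toM r G) ((Cm ^ i) *ᵥ u) u ^ 3 = phi r k.1 * h u ^ 3 ∧
    ∑ i ∈ Finset.range 7, formOf σ (toM r G) ((Cm ^ i) *ᵥ u) u ^ 4 = phi r k.2.1 * h u ^ 4 ∧
    ∑ i ∈ Finset.range 7, (Matrix.of fun x y => ![u, (Cm ^ i) *ᵥ u, (Cm ^ i) *ᵥ ((Cm ^ i) *ᵥ u)] y x).det ^ 4 =
      phi r k.2.2 * h u ^ 2
  have hs := isSesq_formOf σ (toM r G)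
  refine not_maximal_of_points hc hH X hX P field25Om ?_ ?_ ?_ ?_ (t := field25T) (s := field25S) ?_ ?_
    field25_stable ⟨(0, 0), (1, 0), (0, 1)⟩ field25_moved ?_
  · intro c hc0 u ⟨h1, k, hk, e1, e2, e3⟩
    have hform : ∀ a b, formOf σ (toM r G) (c • a) (c • b) = c * σ c * formOf σ (toM r G) a b := fun a b => by
      rw [hs.smul_left, hs.smul_right, ← mul_assoc]
    refine ⟨?_, k, hk, ?_, ?_, ?_⟩
    · show formOf σ _ (c • u) (c • u) ≠ 0
      rw [hform]; exact mul_ne_zero (mul_ne_zero hc0 (by simpa using hc0)) h1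
    · simp only [h, mulVec_smul, hform, mul_pow, ← Finset.mul_sum, e1]; ring
    · simp only [h, mulVec_smul, hform, mul_pow, ← Finset.mul_sum, e2]; ring
    · have hd : ∀ i : ℕ, (Matrix.of fun x y => ![c • u, (Cm ^ i) *ᵥ (c • u), (Cm ^ i) *ᵥ ((Cm ^ i) *ᵥ (c • u))] y x) =
          c • Matrix.of fun x y => ![u, (Cm ^ i) *ᵥ u, (Cm ^ i) *ᵥ ((Cm ^ i) *ᵥ u)] y x := fun i => by
        ext x y; fin_cases y <;> simp [mulVec_smul]
      simp only [h, hd, det_smul, Fintype.card_fin, mul_pow, hform, ← Finset.mul_sum, e3, hσ]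
      ring
  · intro h0; exact h0.1 (by simp [h, formOf])
  · intro x
    simp only [P, h, field25Om, Bool.and_eq_true, nz_iff hc, List.any_eq_true, same_iff hc, phi_mul hc, phi_npow hc,
      fsum, dsum, phi_sumTo hc, phi_form hc, phi_det3 hc, tov_mv hc, toM_mpow hc, ← hG, ← hCm, and_assoc]
  · intro g hg u ⟨h1, k, hk, e1, e2, e3⟩
    obtain ⟨a, ha, ha7, hT⟩ := hconj g (hle hg)
    set T : GL (Fin 3) F := X⁻¹ * g * X with hTdef
    have hiso : ∀ u v, formOf σ (toM r G) ((T : Matrix (Fin 3) (Fin 3) F) *ᵥ u)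
        ((T : Matrix (Fin 3) (Fin 3) F) *ᵥ v) = formOf σ (toM r G) u v := by
      intro u v
      rw [← hX, ← hX, mulVec_mulVec, mulVec_mulVec, ← Units.val_mul, show X * T = g * X by rw [hTdef]; group,
        Units.val_mul, ← mulVec_mulVec, ← mulVec_mulVec]
      exact (hH.1.le hg).1 _ _
    have hdet : (T : Matrix (Fin 3) (Fin 3) F).det = 1 := by
      have h := (hH.1.le hg).2
      have h' : Matrix.GeneralLinearGroup.det T = 1 := by
        rw [hTdef, map_mul, map_mul, map_inv, show Matrix.GeneralLinearGroup.det g = 1 from h, mul_one, inv_mul_cancel]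
      exact congrArg Units.val h'
    obtain ⟨s1, s2⟩ := power_sums_invariant (G := G) hC7 ha ha7 hT hiso hdet u
    refine ⟨by simp only [h, hiso]; exact h1, k, hk, ?_, ?_, ?_⟩
    · rw [s1]; simp only [h, hiso]; exact e1
    · rw [s1]; simp only [h, hiso]; exact e2
    · rw [s2]; simp only [h, hiso]; exact e3
  · exact ((Bool.and_eq_true _ _).mp field25_iso).1
  · exact ((Bool.and_eq_true _ _).mp field25_iso).2
  · intro g hg he
    obtain ⟨a, -, ha7, hT⟩ := hconj g (hle hg)
    rw [he] at hT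
    have h := List.all_eq_true.mp field25_not a (List.mem_range.mpr ha7)
    rw [Bool.not_eq_true', Bool.eq_false_iff, ne_eq, msame_iff hc, toM_mmul hc, toM_mmul hc, toM_mpow hc] at h
    exact h hT

open ThreeData in
/-- Over nine elements the normaliser of a field of degree three is not maximal. -/
theorem fieldThree_not_maximal_three (hF : Fintype.card F = 3 ^ 2) {H : Subgroup (GL (Fin 3) F)}
    (hH : IsMaximalIn (Cfsg.GU 3 F 3 ⊓ specialLinear (Fin 3) F) H) {K : Subalgebra F (Matrix (Fin 3) (Fin 3) F)}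
    (hK : IsFieldSubalgebra 3 K) (hac : IsAdjointClosedFor (hermForm 3 F 3) K) (hle : H ≤ subalgebraNormalizer K) :
    False := by
  classical
  obtain ⟨σ, hf, hσ, -⟩ := exists_hermForm_unitary (n := 3) hF
  obtain ⟨r, hc⟩ := exists_codedField (Or.inl rfl) hF hσ
  obtain ⟨X, hX, hC7, hconj⟩ := exists_field_coord hc (Or.inl rfl) hF hf hK hac (C := comp9) (std := std9)
    rfl rfl rfl (by decide) (by decide) normalisable9
  set G := toep 3 std9 with hG
  set Cm := toM r comp9 with hCm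
  let h : (Fin 3 → F) → F := fun u => formOf σ (toM r G) u u
  let P : (Fin 3 → F) → Prop := fun u => h u ≠ 0 ∧
    ∑ i ∈ Finset.range 7, formOf σ (toM r G) ((Cm ^ i) *ᵥ u) u ^ 4 = phi r (2, 0) * h u ^ 4
  have hs := isSesq_formOf σ (toM r G)
  refine not_maximal_of_points hc hH X hX P field9Om ?_ ?_ ?_ ?_ (t := field9T) (s := field9S) ?_ ?_
    field9_stable ⟨(0, 0), (1, 0), (0, 1)⟩ field9_moved ?_
  · intro c hc0 u ⟨h1, e2⟩
    have hform : ∀ a b, formOf σ (toM r G) (c • a) (c • b) = c * σ c * formOf σ (toM r G) a b := fun a b => by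
      rw [hs.smul_left, hs.smul_right, ← mul_assoc]
    refine ⟨?_, ?_⟩
    · show formOf σ _ (c • u) (c • u) ≠ 0
      rw [hform]; exact mul_ne_zero (mul_ne_zero hc0 (by simpa using hc0)) h1
    · simp only [h, mulVec_smul, hform, mul_pow, ← Finset.mul_sum, e2]; ring
  · intro h0; exact h0.1 (by simp [h, formOf])
  · intro x
    simp only [P, h, field9Om, Bool.and_eq_true, nz_iff hc, same_iff hc, phi_mul hc, phi_npow hc,
      fsum, phi_sumTo hc, phi_form hc, tov_mv hc, toM_mpow hc, ← hG, ← hCm]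
  · intro g hg u ⟨h1, e2⟩
    obtain ⟨a, ha, ha7, hT⟩ := hconj g (hle hg)
    set T : GL (Fin 3) F := X⁻¹ * g * X with hTdef
    have hiso : ∀ u v, formOf σ (toM r G) ((T : Matrix (Fin 3) (Fin 3) F) *ᵥ u)
        ((T : Matrix (Fin 3) (Fin 3) F) *ᵥ v) = formOf σ (toM r G) u v := by
      intro u v
      rw [← hX, ← hX, mulVec_mulVec, mulVec_mulVec, ← Units.val_mul, show X * T = g * X by rw [hTdef]; group,
        Units.val_mul, ← mulVec_mulVec, ← mulVec_mulVec]
      exact (hH.1.le hg).1 _ _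
    have hdet : (T : Matrix (Fin 3) (Fin 3) F).det = 1 := by
      have h := (hH.1.le hg).2
      have h' : Matrix.GeneralLinearGroup.det T = 1 := by
        rw [hTdef, map_mul, map_mul, map_inv, show Matrix.GeneralLinearGroup.det g = 1 from h, mul_one, inv_mul_cancel]
      exact congrArg Units.val h'
    obtain ⟨s1, -⟩ := power_sums_invariant (G := G) hC7 ha ha7 hT hiso hdet u
    refine ⟨by simp only [h, hiso]; exact h1, ?_⟩
    rw [s1]; simp only [h, hiso]; exact e2
  · exact ((Bool.and_eq_true _ _).mp field9_iso).1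
  · exact ((Bool.and_eq_true _ _).mp field9_iso).2
  · intro g hg he
    obtain ⟨a, -, ha7, hT⟩ := hconj g (hle hg)
    rw [he] at hT
    have h := List.all_eq_true.mp field9_not a (List.mem_range.mpr ha7)
    rw [Bool.not_eq_true', Bool.eq_false_iff, ne_eq, msame_iff hc, toM_mmul hc, toM_mmul hc, toM_mpow hc] at h
    exact h hT

end CfsgLib.Aschbacher
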