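import Cfsg.Agent.Aschbacher.Form.UnitaryThreePoints
import Cfsg.Agent.Aschbacher.Form.Orth
import Cfsg.Agent.Geo.RatPoints

/-!
Frames and rational orthonormal structures in the unitary groups of dimension three: over twenty-five elements
their stabilisers are not maximal, over nine elements the second lie in the first.
-/
set_option autoImplicit false
set_option maxHeartbeats 1000000

namespace CfsgLib.Aschbacher

open Matrix Cfsg Cfsg.Geo CfsgLib.GeoClifford CfsgLib.Geo
open scoped MatrixGroups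

variable {F : Type*} [Field F] [Fintype F]

lemma formOf_one_apply (σ : F ≃+* F) (u v : Fin 3 → F) :
    formOf σ 1 u v = u 0 * σ (v 0) + u 1 * σ (v 1) + u 2 * σ (v 2) := by
  simp [formOf, dotProduct, Fin.sum_univ_three]

lemma formOf_one_single (σ : F ≃+* F) (i j : Fin 3) :
    formOf σ (1 : Matrix (Fin 3) (Fin 3) F) (Pi.single i 1) (Pi.single j 1) = if i = j then 1 else 0 := by
  fin_cases i <;> fin_cases j <;> simp [formOf_one_apply]

/-- Coordinates along an orthogonal frame, with all values one. -/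
lemma exists_frame_coord {σ : F ≃+* F} {f : (Fin 3 → F) → (Fin 3 → F) → F} (hf : IsUnitaryForm σ f)
    {D : Fin 3 → Submodule F (Fin 3 → F)} (hD : IsNondegenerateMDecomposition f 1 D) :
    ∃ X : GL (Fin 3) F, (∀ u v, f ((X : Matrix (Fin 3) (Fin 3) F) *ᵥ u) ((X : Matrix (Fin 3) (Fin 3) F) *ᵥ v) =
        formOf σ 1 u v) ∧
      ∀ g ∈ decompositionStabilizer D, ∃ π : Equiv.Perm (Fin 3), ∀ j, ∃ c : F,
        ((X⁻¹ * g * X : GL (Fin 3) F) : Matrix (Fin 3) (Fin 3) F) *ᵥ Pi.single j 1 = c • Pi.single (π j) 1 := by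
  classical
  have hse := isSesq_of_unitary hf
  have hex : ∀ i, ∃ v, v ∈ D i ∧ f v v = 1 ∧ D i = Submodule.span F {v} := by
    intro i
    obtain ⟨v, hv, hv0⟩ := (D i).ne_bot_iff.mp (by
      intro h
      have := hD.decomp.finrank_eq i
      rw [h, finrank_bot] at this
      omega)
    have hsp : D i = Submodule.span F {v} := (Submodule.eq_of_le_of_finrank_eq
      (Submodule.span_le.mpr (Set.singleton_subset_iff.mpr hv))
      (by rw [finrank_span_singleton hv0, hD.decomp.finrank_eq i])).symm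
    obtain ⟨-, x, hx, hx0⟩ := hD.nondegenerate i v hv hv0
    have hvv : f v v ≠ 0 := by
      rw [hsp] at hx
      obtain ⟨d, rfl⟩ := Submodule.mem_span_singleton.mp hx
      exact fun h => hx0 (by rw [hse.smul_right, h, mul_zero])
    obtain ⟨c, hc⟩ := Unit.exists_norm_eq hf.ne_refl hf.involutive (t := (f v v)⁻¹)
      (by rw [map_inv₀, Unit.sigma_self hf])
    have hc0 : c ≠ 0 := fun h => by
      rw [h, zero_mul, eq_comm, inv_eq_zero] at hc; exact hvv hc
    refine ⟨c • v, (D i).smul_mem c hv, ?_, ?_⟩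
    · rw [hse.smul_left, hse.smul_right, ← mul_assoc, hc, inv_mul_cancel₀ hvv]
    · rw [hsp, Submodule.span_singleton_smul_eq (IsUnit.mk0 c hc0)]
  choose b hbD hb1 hspan using hex
  have hb0 : ∀ i, b i ≠ 0 := fun i h => by
    have := hb1 i
    rw [h, hse.zero_left] at this
    exact zero_ne_one this
  have hbb : ∀ i j, f (b i) (b j) = if i = j then 1 else 0 := by
    intro i j
    by_cases h : i = j
    · rw [if_pos h, h, hb1]
    · rw [if_neg h]; exact hD.orthogonal i j h _ (hbD i) _ (hbD j)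
  set M : Matrix (Fin 3) (Fin 3) F := Matrix.of fun i j => b j i with hM
  have hMs : ∀ j, M *ᵥ Pi.single j 1 = b j := fun j => by ext i; simp [hM]
  have hMu : IsUnit M := Matrix.linearIndependent_cols_iff_isUnit.mp (by
    have e : M.col = b := by funext j; ext i; simp [hM]
    rw [e]; exact hD.decomp.indep.linearIndependent D hbD hb0)
  refine ⟨hMu.unit, fun u v => ?_, fun g hg => ?_⟩
  · rw [hMu.unit_spec]
    have hg : IsSesq σ (fun a c => f (M *ᵥ a) (M *ᵥ c)) :=
      ⟨fun a c w => by simp only [mulVec_add, hse.add_left], fun s a w => by simp only [mulVec_smul, hse.smul_left],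
        fun w a c => by simp only [mulVec_add, hse.add_right], fun s w a => by simp only [mulVec_smul, hse.smul_right]⟩
    rw [show f (M *ᵥ u) (M *ᵥ v) = _ from hg.eq_gram u v, formOf]
    congr 2
    ext i j
    simp only [gramMatrix, hMs, hbb, Matrix.one_apply]
  · obtain ⟨π, hπ⟩ := hg
    refine ⟨π, fun j => ?_⟩
    have h : (g : Matrix (Fin 3) (Fin 3) F) *ᵥ b j ∈ D (π j) := by
      rw [← hπ j]
      exact ⟨b j, hbD j, by rw [Matrix.toLin'_apply]⟩
    rw [hspan (π j)] at h
    obtain ⟨c, hc⟩ := Submodule.mem_span_singleton.mp h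
    refine ⟨c, ?_⟩
    rw [Units.val_mul, Units.val_mul, ← mulVec_mulVec, ← mulVec_mulVec, hMu.unit_spec, hMs, ← hc, ← hMs,
      mulVec_smul, mulVec_mulVec]
    congr 1
    conv_lhs => arg 1; arg 2; rw [← hMu.unit_spec]
    rw [Units.inv_mul, one_mulVec]

/-- Three orthogonal lines are not stabilised by the whole special unitary group in dimension three. -/
theorem isoSL_not_le_frame_three {σ : F ≃+* F} {f : (Fin 3 → F) → (Fin 3 → F) → F} (hf : IsUnitaryForm σ f)
    {q : ℕ} (hσ : ∀ a, σ a = a ^ q) (hF : Fintype.card F = q ^ 2) (hq : 3 ≤ q)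
    {D : Fin 3 → Submodule F (Fin 3 → F)} (hD : IsNondegenerateMDecomposition f 1 D) :
    ¬ isoSL f ≤ decompositionStabilizer D := by
  classical
  intro hle
  obtain ⟨X, hX, hmono⟩ := exists_frame_coord hf hD
  -- a fixed element other than zero and minus one
  obtain ⟨a, ha, ha0, ha1⟩ : ∃ a : F, σ a = a ∧ a ≠ 0 ∧ a ≠ -1 := by
    by_contra hcon
    push Not at hcon
    have hle' : Nat.card (fixSubfield σ) ≤ 2 := by
      rw [← SetLike.coe_sort_coe, Nat.card_coe_set_eq]
      refine (Set.ncard_le_ncard (t := {0, -1}) (fun a ha => ?_)).trans ((Set.ncard_insert_le _ _).trans (by simp))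
      by_cases h0 : a = 0
      · exact Or.inl h0
      · exact Or.inr (hcon a ha h0)
    have h2 := card_eq_sq_fixSubfield hf.ne_refl hf.involutive
    rw [hF] at h2
    have := Nat.pow_le_pow_left hle' 2
    nlinarith
  have hn : ∀ t : F, σ t = t → t ≠ 0 → ∃ c : F, c ≠ 0 ∧ c * σ c = t := by
    intro t ht ht0
    obtain ⟨c, hc⟩ := Unit.exists_norm_eq hf.ne_refl hf.involutive ht
    exact ⟨c, fun h => ht0 (by rw [← hc, h, zero_mul]), hc⟩
  obtain ⟨y, hy0, hy⟩ := hn a ha ha0
  obtain ⟨z, hz0, hz⟩ := hn (-1 - a) (by rw [map_sub, map_neg, map_one, ha])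
    (fun h => ha1 (by linear_combination -h))
  set w : Fin 3 → F := ![1, y, z] with hw
  have hXw : (X : Matrix (Fin 3) (Fin 3) F) *ᵥ w ≠ 0 := by
    intro h
    have := congrFun (mulVec_injective_GL X (a₁ := w) (a₂ := 0) (by simpa using h)) 0
    simp [hw] at this
  have hiso : f ((X : Matrix (Fin 3) (Fin 3) F) *ᵥ w) ((X : Matrix (Fin 3) (Fin 3) F) *ᵥ w) = 0 := by
    rw [hX, formOf_one_apply]
    simp [hw, hy, hz]
  obtain ⟨c, hc0, hc⟩ := Unit.exists_skew hf.ne_refl hf.involutive
  obtain ⟨π, hπ⟩ := hmono _ (hle (tv_mem_isoSL hf hiso hc))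
  obtain ⟨d, hd⟩ := hπ 0
  rw [Units.val_mul, Units.val_mul, ← mulVec_mulVec, ← mulVec_mulVec, tvec_mulVec, smul_dotProduct, (Unit.linLeft hf).dot, smul_eq_mul] at hd
  rw [hX, formOf_one_apply, mulVec_add, mulVec_smul, mulVec_mulVec, Units.inv_mul, one_mulVec, mulVec_mulVec,
    Units.inv_mul, one_mulVec] at hd
  have e1 := congrFun hd 1
  have e2 := congrFun hd 2
  generalize π 0 = i at e1 e2
  fin_cases i <;> simp [hw, hc0, hy0, hz0] at e1 e2

open ThreeData in
/-- Over twenty-five elements the stabiliser of a frame is not maximal. -/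
theorem linesThree_not_maximal (hF : Fintype.card F = 5 ^ 2) {H : Subgroup (GL (Fin 3) F)}
    (hH : IsMaximalIn (Cfsg.GU 3 F 5 ⊓ specialLinear (Fin 3) F) H) {D : Fin 3 → Submodule F (Fin 3 → F)}
    (hD : IsNondegenerateMDecomposition (hermForm 3 F 5) 1 D) (hle : H ≤ decompositionStabilizer D) : False := by
  classical
  obtain ⟨σ, hf, hσ, -⟩ := exists_hermForm_unitary (n := 3) hF
  obtain ⟨r, hc⟩ := exists_codedField (Or.inr rfl) hF hσ
  obtain ⟨X, hX, hmono⟩ := exists_frame_coord hf hD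
  have h24 : ∀ a : F, a ≠ 0 → a ^ 24 = 1 := fun a ha => by
    have := FiniteField.pow_card_sub_one_eq_one a ha
    rwa [hF] at this
  let P : (Fin 3 → F) → Prop := fun u => formOf σ 1 u u ≠ 0 ∧
    (u 0 * σ (u 0) = u 1 * σ (u 1) ∨ u 0 * σ (u 0) = u 2 * σ (u 2) ∨ u 1 * σ (u 1) = u 2 * σ (u 2)) ∧
    (u 0 * u 1 * u 2 = 0 ∨ (u 0 * u 1 * u 2) ^ 8 = phi r (2, 3))
  refine not_maximal_of_points hc hH X (G := mone) (by rw [toM_one]; exact hX) P lineOm ?_ ?_ ?_ ?_
    (t := lineT) (s := realT) ?_ ?_ line_stable e3 line_moved ?_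
  · intro c hc0 u ⟨h1, h2, h3⟩
    have hN : c * σ c ≠ 0 := mul_ne_zero hc0 (by simpa using hc0)
    refine ⟨?_, ?_, ?_⟩
    · rw [(isSesq_formOf σ _).smul_left, (isSesq_formOf σ _).smul_right, ← mul_assoc]
      exact mul_ne_zero hN h1
    · simp only [Pi.smul_apply, smul_eq_mul, map_mul]
      rcases h2 with h2 | h2 | h2
      · exact Or.inl (by linear_combination c * σ c * h2)
      · exact Or.inr (Or.inl (by linear_combination c * σ c * h2))
      · exact Or.inr (Or.inr (by linear_combination c * σ c * h2))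
    · simp only [Pi.smul_apply, smul_eq_mul]
      rcases h3 with h3 | h3
      · exact Or.inl (by linear_combination c ^ 3 * h3)
      · exact Or.inr (by linear_combination c ^ 24 * h3 + phi r (2, 3) * h24 c hc0)
  · intro h; exact h.1 (by simp [formOf])
  · intro x
    have e : formOf σ 1 (tov r x) (tov r x) = phi r (form 5 mone x x) := by rw [phi_form hc, toM_one]
    simp only [P]
    rw [e]
    simp [lineOm, same_iff hc, nz_iff hc, phi_mul hc, phi_conj hc, phi_npow hc, tov, or_assoc, and_assoc]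
  · intro g hg u ⟨h1, h2, h3⟩
    obtain ⟨π, hπ⟩ := hmono g (hle hg)
    choose s hs using hπ
    set T : GL (Fin 3) F := X⁻¹ * g * X with hT
    have hiso : ∀ u v, formOf σ 1 ((T : Matrix (Fin 3) (Fin 3) F) *ᵥ u) ((T : Matrix (Fin 3) (Fin 3) F) *ᵥ v) =
        formOf σ 1 u v := by
      intro u v
      rw [← hX, ← hX, mulVec_mulVec, mulVec_mulVec, ← Units.val_mul, show X * T = g * X by rw [hT]; group,
        Units.val_mul, ← mulVec_mulVec, ← mulVec_mulVec]
      exact (hH.1.le hg).1 _ _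
    have hdet : (T : Matrix (Fin 3) (Fin 3) F).det = 1 := by
      have h := (hH.1.le hg).2
      have h' : Matrix.GeneralLinearGroup.det T = 1 := by
        rw [hT, map_mul, map_mul, map_inv, show Matrix.GeneralLinearGroup.det g = 1 from h, mul_one, inv_mul_cancel]
      exact congrArg Units.val h'
    have hN : ∀ j, s j * σ (s j) = 1 := fun j => by
      have h := hiso (Pi.single j 1) (Pi.single j 1)
      rwa [hs, formOf_one_single, if_pos rfl, (isSesq_formOf σ _).smul_left, (isSesq_formOf σ _).smul_right,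
        formOf_one_single, if_pos rfl, mul_one] at h
    have hTu : (T : Matrix (Fin 3) (Fin 3) F) *ᵥ u = fun i => s (π.symm i) * u (π.symm i) := by
      conv_lhs => rw [pi_eq_sum_univ' u, mulVec_sum]
      funext i
      simp only [mulVec_smul, hs, Finset.sum_apply, Pi.smul_apply, smul_eq_mul, Pi.single_apply]
      rw [Finset.sum_eq_single (π.symm i)]
      · simp [mul_comm]
      · intro b _ hb
        rw [if_neg fun h => hb (by rw [h, Equiv.symm_apply_apply]), mul_zero, mul_zero]
      · simp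
    have hS : (s 0 * s 1 * s 2) ^ 2 = 1 := by
      have hTm : (T : Matrix (Fin 3) (Fin 3) F) = Matrix.of fun i j => if π j = i then s j else 0 := by
        ext i j
        have := congrFun (hs j) i
        simpa [Pi.single_apply, eq_comm] using this
      rw [hTm, Matrix.det_fin_three] at hdet
      obtain ⟨a, b, c, hab, hac, hbc, e0, e1, e2⟩ : ∃ a b c : Fin 3, a ≠ b ∧ a ≠ c ∧ b ≠ c ∧
          π 0 = a ∧ π 1 = b ∧ π 2 = c :=
        ⟨_, _, _, π.injective.ne (by decide), π.injective.ne (by decide), π.injective.ne (by decide), rfl, rfl, rfl⟩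
      simp only [Matrix.of_apply, e0, e1, e2] at hdet
      fin_cases a <;> fin_cases b <;> fin_cases c <;> simp at hab hac hbc hdet <;>
        first
          | linear_combination (s 0 * s 1 * s 2 + 1) * hdet
          | linear_combination (1 - s 0 * s 1 * s 2) * hdet
    have hNu : ∀ i, ((T : Matrix (Fin 3) (Fin 3) F) *ᵥ u) i * σ (((T : Matrix (Fin 3) (Fin 3) F) *ᵥ u) i) =
        u (π.symm i) * σ (u (π.symm i)) := fun i => by
      rw [hTu, map_mul]; linear_combination (u (π.symm i) * σ (u (π.symm i))) * hN (π.symm i)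
    have hprod : ((T : Matrix (Fin 3) (Fin 3) F) *ᵥ u) 0 * ((T : Matrix (Fin 3) (Fin 3) F) *ᵥ u) 1 *
        ((T : Matrix (Fin 3) (Fin 3) F) *ᵥ u) 2 = (s 0 * s 1 * s 2) * (u 0 * u 1 * u 2) := by
      rw [hTu, ← Fin.prod_univ_three (fun i => s (π.symm i) * u (π.symm i)),
        Equiv.prod_comp π.symm (fun i => s i * u i), Fin.prod_univ_three]
      ring
    refine ⟨by rw [hiso]; exact h1, ?_, ?_⟩
    · rw [hNu, hNu, hNu]
      obtain ⟨a, b, c, hab, hac, hbc, e0, e1, e2⟩ : ∃ a b c : Fin 3, a ≠ b ∧ a ≠ c ∧ b ≠ c ∧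
          π.symm 0 = a ∧ π.symm 1 = b ∧ π.symm 2 = c :=
        ⟨_, _, _, π.symm.injective.ne (by decide), π.symm.injective.ne (by decide),
          π.symm.injective.ne (by decide), rfl, rfl, rfl⟩
      rw [e0, e1, e2]
      rcases h2 with h2 | h2 | h2 <;> fin_cases a <;> fin_cases b <;> fin_cases c <;> simp_all
    · rw [hprod]
      rcases h3 with h3 | h3
      · exact Or.inl (by rw [h3, mul_zero])
      · right
        rw [mul_pow, h3, show (s 0 * s 1 * s 2) ^ 8 = ((s 0 * s 1 * s 2) ^ 2) ^ 4 by ring, hS, one_pow, one_mul]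
  · exact ((Bool.and_eq_true _ _).mp line_iso).1
  · exact ((Bool.and_eq_true _ _).mp line_iso).2
  · intro g hg he
    obtain ⟨π, hπ⟩ := hmono g (hle hg)
    obtain ⟨c, hc'⟩ := hπ 0
    rw [he, toM_col] at hc'
    have e1 := congrFun hc' 1
    have e2 := congrFun hc' 2
    have n1 : phi r (2, 3) ≠ 0 := (nz_iff hc _).mp (by decide)
    have n2 : phi r (1, 0) ≠ 0 := (nz_iff hc _).mp (by decide)
    generalize π 0 = i at e1 e2
    fin_cases i <;> simp [lineT, tov, n1, n2] at e1 e2

/-- Coordinates in which a rational structure is the standard one. -/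
lemma exists_rational_coord {p : ℕ} {r : F} {σ : F ≃+* F} (hc : CodedField p r σ) (hσ : ∀ a, σ a = a ^ p)
    {f : (Fin 3 → F) → (Fin 3 → F) → F} (hf : IsUnitaryForm σ f) {F₀ : Subfield F} (hcard : Nat.card F₀ = p)
    {P : GL (Fin 3) F} (hP : IsFormRationalStructure f F₀ 1 P) :
    ∃ X : GL (Fin 3) F, (∀ u v, f ((X : Matrix (Fin 3) (Fin 3) F) *ᵥ u) ((X : Matrix (Fin 3) (Fin 3) F) *ᵥ v) =
        formOf σ 1 u v) ∧
      ∀ g ∈ subfieldSubgroup F₀ P, ∃ d : F, d ≠ 0 ∧ ∀ i j,
        σ (d * ((X⁻¹ * g * X : GL (Fin 3) F) : Matrix (Fin 3) (Fin 3) F) i j) =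
          d * ((X⁻¹ * g * X : GL (Fin 3) F) : Matrix (Fin 3) (Fin 3) F) i j := by
  classical
  have hse := isSesq_of_unitary hf
  have hfix : ∀ a : F₀, σ (a : F) = a := fun a => by
    rw [hσ]
    have : Fintype F₀ := Fintype.ofFinite _
    have h := FiniteField.pow_card a
    rw [← Nat.card_eq_fintype_card, hcard] at h
    exact_mod_cast h
  set B : Matrix (Fin 3) (Fin 3) F₀ := Matrix.of fun i j =>
    ⟨f ((P : Matrix (Fin 3) (Fin 3) F) *ᵥ Pi.single i 1) ((P : Matrix (Fin 3) (Fin 3) F) *ᵥ Pi.single j 1), by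
      simpa using hP _ _ (ratVec_single i F₀.one_mem) (ratVec_single j F₀.one_mem)⟩ with hB
  have hgP : IsSesq σ (fun a c => f ((P : Matrix (Fin 3) (Fin 3) F) *ᵥ a) ((P : Matrix (Fin 3) (Fin 3) F) *ᵥ c)) :=
    ⟨fun a c w => by simp only [mulVec_add, hse.add_left], fun s a w => by simp only [mulVec_smul, hse.smul_left],
      fun w a c => by simp only [mulVec_add, hse.add_right], fun s w a => by simp only [mulVec_smul, hse.smul_right]⟩
  have hBgram : B.map F₀.subtype =
      gramMatrix (fun a c => f ((P : Matrix (Fin 3) (Fin 3) F) *ᵥ a) ((P : Matrix (Fin 3) (Fin 3) F) *ᵥ c)) := by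
    ext i j; rfl
  have hBt : Bᵀ = B := by
    ext i j
    show f _ _ = f _ _
    have h1 := hfix (B i j)
    simp only [hB, Matrix.of_apply] at h1
    rw [hf.herm, h1]
  have hBu : IsUnit B := by
    rw [Matrix.isUnit_iff_isUnit_det, isUnit_iff_ne_zero]
    intro h0
    obtain ⟨v, hv, hv0⟩ := Matrix.exists_mulVec_eq_zero_iff.mpr h0
    have hkill : ∀ a, f ((P : Matrix (Fin 3) (Fin 3) F) *ᵥ a) ((P : Matrix (Fin 3) (Fin 3) F) *ᵥ (fun i => (v i : F))) = 0 := by
      intro a
      rw [show f _ _ = _ from hgP.eq_gram a _, ← hBgram,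
        show σ ∘ (fun i => (v i : F)) = F₀.subtype ∘ v from funext fun i => hfix (v i)]
      have h : B.map F₀.subtype *ᵥ (F₀.subtype ∘ v) = 0 := by
        funext i
        have := congrFun hv0 i
        rw [← RingHom.map_mulVec, this, Pi.zero_apply, map_zero, Pi.zero_apply]
      rw [h, dotProduct_zero]
    have hne : (P : Matrix (Fin 3) (Fin 3) F) *ᵥ (fun i => (v i : F)) ≠ 0 := by
      intro h
      apply hv
      funext i
      have := congrFun (mulVec_injective_GL P (a₁ := fun i => (v i : F)) (a₂ := 0) (by simpa using h)) i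
      exact Subtype.ext this
    obtain ⟨⟨x, hx⟩, -⟩ := hf.nondegenerate _ hne
    apply hx
    rw [← CfsgLib.Geo.mulVec_inv_mulVec P x]
    exact hkill _
  have h2 : (2 : F₀) ≠ 0 := fun h => ThreeData.two_ne_zero' hc (by
    have h' := congrArg F₀.subtype h
    rwa [map_ofNat, map_zero] at h')
  have : Fintype F₀ := Fintype.ofFinite _
  obtain ⟨C, s, hs, hC⟩ := exists_congr_scalar_one h2 (show Odd 3 by decide) hBu hBt
  obtain ⟨μ, hμ⟩ := Unit.exists_norm_eq hf.ne_refl hf.involutive (t := (s : F)⁻¹) (by rw [map_inv₀, hfix])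
  have hs' : (s : F) ≠ 0 := by exact_mod_cast hs
  have hμ0 : μ ≠ 0 := fun h => by rw [h, zero_mul, eq_comm, inv_eq_zero] at hμ; exact hs' hμ
  set CF := Matrix.GeneralLinearGroup.map (F₀.subtype : F₀ →+* F) C with hCF
  have hCFv : (CF : Matrix (Fin 3) (Fin 3) F) = (C : Matrix (Fin 3) (Fin 3) F₀).map F₀.subtype := rfl
  set Z : GL (Fin 3) F := Matrix.GeneralLinearGroup.scalar (Fin 3) (Units.mk0 μ hμ0) with hZ
  have hZv : ∀ w : Fin 3 → F, (Z : Matrix (Fin 3) (Fin 3) F) *ᵥ w = μ • w := fun w => by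
    funext i; simp [hZ, Matrix.scalar, Matrix.mulVec, dotProduct, Matrix.diagonal_apply]
  refine ⟨P * CF * Z, fun u v => ?_, fun g hg => ?_⟩
  · rw [Units.val_mul, Units.val_mul, ← mulVec_mulVec, ← mulVec_mulVec, ← mulVec_mulVec, ← mulVec_mulVec, hZv, hZv,
      show f _ _ = _ from hgP.eq_gram _ _, ← hBgram, hCFv]
    simp only [mulVec_smul]
    rw [show σ ∘ (μ • ((C : Matrix (Fin 3) (Fin 3) F₀).map F₀.subtype *ᵥ v)) =
      σ μ • ((C : Matrix (Fin 3) (Fin 3) F₀).map F₀.subtype *ᵥ (σ ∘ v)) from funext fun i => by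
        simp [Matrix.mulVec, dotProduct, Fin.sum_univ_three, hfix]]
    rw [mulVec_smul, dotProduct_smul, smul_dotProduct, mulVec_mulVec, dotProduct_comm, dotProduct_mulVec,
      ← mulVec_transpose, mulVec_mulVec]
    have hCC : ((C : Matrix (Fin 3) (Fin 3) F₀).map F₀.subtype)ᵀ *
        (B.map F₀.subtype * (C : Matrix (Fin 3) (Fin 3) F₀).map F₀.subtype) = (s : F) • 1 := by
      have h := congrArg (fun M : Matrix (Fin 3) (Fin 3) F₀ => M.map F₀.subtype) hC
      have hrefl : (C : Matrix (Fin 3) (Fin 3) F₀).map (RingEquiv.refl F₀) = (C : Matrix (Fin 3) (Fin 3) F₀) := by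
        ext i j; rfl
      simp only [hrefl, Matrix.map_mul, ← Matrix.transpose_map] at h
      rw [← mul_assoc, ← Matrix.transpose_map, h]
      ext i j
      by_cases hij : i = j <;> simp [hij]
    rw [hCC, smul_mulVec, one_mulVec, smul_dotProduct, formOf, one_mulVec, dotProduct_comm (σ ∘ v) u]
    simp only [smul_eq_mul]
    linear_combination (s : F) * (u ⬝ᵥ (σ ∘ v)) * hμ + (u ⬝ᵥ (σ ∘ v)) * (inv_mul_cancel₀ hs')
  · obtain ⟨d, hd, hdr⟩ := exists_scaled_rs_of_mem hg
    refine ⟨d, hd, fun i j => ?_⟩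
    have hzc : (P * CF * Z)⁻¹ * g * (P * CF * Z) = CF⁻¹ * (P⁻¹ * g * P) * CF := by
      have : Z⁻¹ * (CF⁻¹ * (P⁻¹ * g * P) * CF) = (CF⁻¹ * (P⁻¹ * g * P) * CF) * Z⁻¹ := by
        have hcen : Z ∈ Subgroup.center (GL (Fin 3) F) := by
          rw [Matrix.GeneralLinearGroup.center_eq_range_scalar]; exact ⟨_, rfl⟩
        exact (Subgroup.mem_center_iff.mp ((Subgroup.center _).inv_mem hcen) _).symm
      calc (P * CF * Z)⁻¹ * g * (P * CF * Z) = (Z⁻¹ * (CF⁻¹ * (P⁻¹ * g * P) * CF)) * Z := by group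
        _ = _ := by rw [this, inv_mul_cancel_right]
    rw [hzc]
    have hinv : ((CF⁻¹ : GL (Fin 3) F) : Matrix (Fin 3) (Fin 3) F) =
        ((C⁻¹ : GL (Fin 3) F₀) : Matrix (Fin 3) (Fin 3) F₀).map F₀.subtype := by
      rw [hCF, ← map_inv]; rfl
    have hmem : d * ((CF⁻¹ * (P⁻¹ * g * P) * CF : GL (Fin 3) F) : Matrix (Fin 3) (Fin 3) F) i j ∈ F₀ := by
      have hA : ∀ k l, d * ((P⁻¹ * g * P : GL (Fin 3) F) : Matrix (Fin 3) (Fin 3) F) k l ∈ F₀ := fun k l => by
        have h1 := hdr _ (inRS_col l) k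
        rwa [mulVec_smul, Pi.smul_apply, smul_eq_mul, mulVec_mulVec, mulVec_mulVec, mulVec_single_one] at h1
      rw [Units.val_mul, Units.val_mul, hinv, hCFv, ← smul_eq_mul, ← Matrix.smul_apply, ← smul_mul_assoc,
        ← mul_smul_comm, Matrix.mul_apply]
      refine F₀.sum_mem fun k _ => F₀.mul_mem ?_ ((C : Matrix (Fin 3) (Fin 3) F₀) k j).2
      rw [Matrix.mul_apply]
      exact F₀.sum_mem fun l _ => F₀.mul_mem ((C⁻¹ : GL (Fin 3) F₀).val i l).2 (hA l k)
    exact hfix ⟨_, hmem⟩

open ThreeData in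
/-- Over twenty-five elements a rational structure is not the mark of a maximal subgroup. -/
theorem rationalThree_not_maximal (hF : Fintype.card F = 5 ^ 2) {H : Subgroup (GL (Fin 3) F)}
    (hH : IsMaximalIn (Cfsg.GU 3 F 5 ⊓ specialLinear (Fin 3) F) H) {F₀ : Subfield F}
    (hcard : Fintype.card F = Nat.card F₀ ^ 2) {P : GL (Fin 3) F}
    (hP : IsFormRationalStructure (hermForm 3 F 5) F₀ 1 P) (hle : H ≤ subfieldSubgroup F₀ P) : False := by
  classical
  obtain ⟨σ, hf, hσ, -⟩ := exists_hermForm_unitary (n := 3) hF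
  obtain ⟨r, hc⟩ := exists_codedField (Or.inr rfl) hF hσ
  have h5 : Nat.card F₀ = 5 := (Nat.pow_left_injective two_ne_zero (hcard.symm.trans hF))
  obtain ⟨X, hX, hrat⟩ := exists_rational_coord hc hσ hf h5 hP
  have h24 : ∀ a : F, a ≠ 0 → a ^ 24 = 1 := fun a ha => by
    have := FiniteField.pow_card_sub_one_eq_one a ha
    rwa [hF] at this
  let Rt : (Fin 3 → F) → Prop := fun u => u 0 * σ (u 1) = u 1 * σ (u 0) ∧ u 0 * σ (u 2) = u 2 * σ (u 0) ∧
    u 1 * σ (u 2) = u 2 * σ (u 1)
  let Ps : (Fin 3 → F) → Prop := fun u => formOf σ 1 u u ≠ 0 ∧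
    (u ⬝ᵥ u = 0 ∨ (u ⬝ᵥ u) ^ 3 = phi r (2, 0) * formOf σ 1 u u ∨ Rt u)
  have hRom : ∀ x, Rt (tov r x) ↔ ratOm x = true := fun x => by
    simp [Rt, ratOm, same_iff hc, phi_mul hc, phi_conj hc, tov, and_assoc]
  have hinv : ∀ g ∈ H, ∀ u,
      (formOf σ 1 (((X⁻¹ * g * X : GL (Fin 3) F) : Matrix (Fin 3) (Fin 3) F) *ᵥ u)
        (((X⁻¹ * g * X : GL (Fin 3) F) : Matrix (Fin 3) (Fin 3) F) *ᵥ u) = formOf σ 1 u u) ∧
      ((((X⁻¹ * g * X : GL (Fin 3) F) : Matrix (Fin 3) (Fin 3) F) *ᵥ u) ⬝ᵥ
        (((X⁻¹ * g * X : GL (Fin 3) F) : Matrix (Fin 3) (Fin 3) F) *ᵥ u)) ^ 3 = (u ⬝ᵥ u) ^ 3 ∧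
      (Rt u → Rt (((X⁻¹ * g * X : GL (Fin 3) F) : Matrix (Fin 3) (Fin 3) F) *ᵥ u)) := by
    intro g hg u
    obtain ⟨d, hd, hdM⟩ := hrat g (hle hg)
    set T : GL (Fin 3) F := X⁻¹ * g * X with hT
    set A : Matrix (Fin 3) (Fin 3) F := (T : Matrix (Fin 3) (Fin 3) F) with hA
    have hiso : ∀ u v, formOf σ 1 (A *ᵥ u) (A *ᵥ v) = formOf σ 1 u v := by
      intro u v
      rw [← hX, ← hX, hA, mulVec_mulVec, mulVec_mulVec, ← Units.val_mul, show X * T = g * X by rw [hT]; group,
        Units.val_mul, ← mulVec_mulVec, ← mulVec_mulVec]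
      exact (hH.1.le hg).1 _ _
    have hdet : A.det = 1 := by
      have h := (hH.1.le hg).2
      have h' : Matrix.GeneralLinearGroup.det T = 1 := by
        rw [hT, map_mul, map_mul, map_inv, show Matrix.GeneralLinearGroup.det g = 1 from h, mul_one, inv_mul_cancel]
      exact congrArg Units.val h'
    have hσA : ∀ i j, σ d * σ (A i j) = d * A i j := fun i j => by rw [← map_mul]; exact hdM i j
    have hAA : d • (Aᵀ * A) = σ d • 1 := by
      ext i j
      have h := hiso (Pi.single i 1) (Pi.single j 1)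
      rw [formOf_one_single, formOf_one_apply, mulVec_single_one, mulVec_single_one] at h
      simp only [Matrix.col_apply] at h
      simp only [Matrix.smul_apply, Matrix.mul_apply, Fin.sum_univ_three, transpose_apply, smul_eq_mul, Matrix.one_apply]
      linear_combination σ d * h - A 0 i * hσA 0 j - A 1 i * hσA 1 j - A 2 i * hσA 2 j
    have hd12 : d ^ 12 = 1 := by
      have h := congrArg Matrix.det hAA
      rw [det_smul, det_smul, det_one, det_mul, det_transpose, hdet] at h
      simp only [Fintype.card_fin, hσ, mul_one] at h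
      exact mul_left_cancel₀ (pow_ne_zero 3 hd) (by linear_combination -h)
    refine ⟨hiso u u, ?_, fun ⟨r1, r2, r3⟩ => ?_⟩
    · have hQ : d * (A *ᵥ u ⬝ᵥ A *ᵥ u) = σ d * (u ⬝ᵥ u) := by
        have h : u ⬝ᵥ ((d • (Aᵀ * A)) *ᵥ u) = u ⬝ᵥ ((σ d • (1 : Matrix (Fin 3) (Fin 3) F)) *ᵥ u) := by rw [hAA]
        rw [smul_mulVec, smul_mulVec, one_mulVec, ← mulVec_mulVec, dotProduct_smul, dotProduct_smul,
          dotProduct_mulVec, vecMul_transpose, smul_eq_mul, smul_eq_mul] at h
        exact h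
      rw [hσ] at hQ
      have := congrArg (· ^ 3) hQ
      simp only [mul_pow] at this
      refine mul_left_cancel₀ (pow_ne_zero 3 hd) ?_
      rw [this]
      linear_combination (d ^ 3 * (u ⬝ᵥ u) ^ 3) * hd12
    · have key : ∀ i j, (A *ᵥ u) i * σ ((A *ᵥ u) j) = (A *ᵥ u) j * σ ((A *ᵥ u) i) := by
        intro i j
        have hsd : σ d ≠ 0 := by simpa using hd
        apply mul_left_cancel₀ (mul_ne_zero hd hsd)
        have hk : ∀ k, d * (A *ᵥ u) k = (d * A k 0) * u 0 + (d * A k 1) * u 1 + (d * A k 2) * u 2 := fun k => by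
          simp [Matrix.mulVec, dotProduct, Fin.sum_univ_three]; ring
        have hk' : ∀ k, σ d * σ ((A *ᵥ u) k) = (d * A k 0) * σ (u 0) + (d * A k 1) * σ (u 1) + (d * A k 2) * σ (u 2) :=
          fun k => by rw [← map_mul, hk]; simp only [map_add, map_mul, hdM]
        calc d * σ d * ((A *ᵥ u) i * σ ((A *ᵥ u) j)) = (d * (A *ᵥ u) i) * (σ d * σ ((A *ᵥ u) j)) := by ring
          _ = (d * (A *ᵥ u) j) * (σ d * σ ((A *ᵥ u) i)) := by
            rw [hk, hk, hk', hk']
            linear_combination (d * A i 0 * (d * A j 1) - d * A j 0 * (d * A i 1)) * r1 +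
              (d * A i 0 * (d * A j 2) - d * A j 0 * (d * A i 2)) * r2 +
              (d * A i 1 * (d * A j 2) - d * A j 1 * (d * A i 2)) * r3
          _ = _ := by ring
      exact ⟨key 0 1, key 0 2, key 1 2⟩
  refine not_maximal_of_points hc hH X (G := mone) (by rw [toM_one]; exact hX) Ps realOm ?_ ?_ ?_ ?_
    (t := realT) (s := sixT) ?_ real_iso real_stable e2 real_moved ?_
  · intro c hc0 u ⟨h1, h2⟩
    have hN : c * σ c ≠ 0 := mul_ne_zero hc0 (by simpa using hc0)
    have hform : formOf σ 1 (c • u) (c • u) = c * σ c * formOf σ 1 u u := by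
      rw [(isSesq_formOf σ _).smul_left, (isSesq_formOf σ _).smul_right, ← mul_assoc]
    have hdot : (c • u) ⬝ᵥ (c • u) = c ^ 2 * (u ⬝ᵥ u) := by
      rw [smul_dotProduct, dotProduct_smul, smul_eq_mul, smul_eq_mul]; ring
    refine ⟨by rw [hform]; exact mul_ne_zero hN h1, ?_⟩
    rcases h2 with h2 | h2 | ⟨h3, h4, h5⟩
    · exact Or.inl (by rw [hdot, h2, mul_zero])
    · exact Or.inr (Or.inl (by rw [hdot, hform, hσ]; linear_combination c ^ 6 * h2))
    · refine Or.inr (Or.inr ⟨?_, ?_, ?_⟩) <;> simp only [Pi.smul_apply, smul_eq_mul, map_mul]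
      · linear_combination c * σ c * h3
      · linear_combination c * σ c * h4
      · linear_combination c * σ c * h5
  · intro h; exact h.1 (by simp [formOf])
  · intro x
    have e : formOf σ 1 (tov r x) (tov r x) = phi r (form 5 mone x x) := by rw [phi_form hc, toM_one]
    simp [Ps, realOm, e, hRom, same_iff hc, nz_iff hc, phi_mul hc, phi_npow hc, phi_dot hc, or_assoc]
  · intro g hg u ⟨h1, h2⟩
    obtain ⟨e1, e2, e3⟩ := hinv g hg u
    refine ⟨by rw [e1]; exact h1, ?_⟩
    rcases h2 with h2 | h2 | h2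
    · exact Or.inl (pow_eq_zero_iff three_ne_zero |>.mp (by rw [e2, h2, zero_pow three_ne_zero]))
    · exact Or.inr (Or.inl (by rw [e1, e2, h2]))
    · exact Or.inr (Or.inr (e3 h2))
  · exact ((Bool.and_eq_true _ _).mp line_iso).2
  · intro g hg he
    have hrn := real_not
    simp only [Bool.and_eq_true, Bool.not_eq_true'] at hrn
    have h := (hinv g hg (tov r e1)).2.2 ((hRom _).mpr hrn.1)
    rw [he, ← tov_mv hc, hRom, hrn.2] at h
    exact absurd h (by decide)

/-- Over nine elements a rational structure gives a frame. -/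
theorem rationalThree_to_lines (hF : Fintype.card F = 3 ^ 2) {F₀ : Subfield F}
    (hcard : Fintype.card F = Nat.card F₀ ^ 2) {P : GL (Fin 3) F}
    (hP : IsFormRationalStructure (hermForm 3 F 3) F₀ 1 P) {H : Subgroup (GL (Fin 3) F)}
    (hS : H ≤ Cfsg.GU 3 F 3 ⊓ specialLinear (Fin 3) F) (hle : H ≤ subfieldSubgroup F₀ P) :
    ∃ D : Fin 3 → Submodule F (Fin 3 → F), IsNondegenerateMDecomposition (hermForm 3 F 3) 1 D ∧
      H ≤ decompositionStabilizer D := by
  classical
  obtain ⟨σ, hf, hσ, -⟩ := exists_hermForm_unitary (n := 3) hF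
  obtain ⟨r, hc⟩ := exists_codedField (Or.inl rfl) hF hσ
  have h3 : Nat.card F₀ = 3 := (Nat.pow_left_injective two_ne_zero (hcard.symm.trans hF))
  have h0 : (3 : F) = 0 := by
    have := hc.char
    exact_mod_cast CharP.cast_eq_zero F 3
  obtain ⟨X, hX, hrat⟩ := exists_rational_coord hc hσ hf h3 hP
  have hse := isSesq_of_unitary hf
  set b : Fin 3 → Fin 3 → F := fun j => (X : Matrix (Fin 3) (Fin 3) F) *ᵥ Pi.single j 1 with hb
  have hbb : ∀ i j, hermForm 3 F 3 (b i) (b j) = if i = j then 1 else 0 := fun i j => by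
    rw [hb, hX, formOf_one_single]
  have hli : LinearIndependent F b := by
    have e : b = (X : Matrix (Fin 3) (Fin 3) F).col := by funext i; simp [hb]
    rw [e]; exact Matrix.linearIndependent_cols_iff_isUnit.mpr X.isUnit
  have hne : ∀ i, b i ≠ 0 := fun i => hli.ne_zero i
  refine ⟨fun i => Submodule.span F {b i}, ⟨⟨by norm_num, one_pos, fun i => finrank_span_singleton (hne i),
    hli.iSupIndep_span_singleton, ?_⟩, fun i w hw hw0 => ?_, fun i j hij u hu v hv => ?_⟩, fun g hg => ?_⟩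
  · rw [eq_top_iff, ← hli.span_eq_top_of_card_eq_finrank' (by rw [Module.finrank_fintype_fun_eq_card]),
      Submodule.span_le]
    rintro _ ⟨i, rfl⟩
    exact Submodule.mem_iSup_of_mem i (Submodule.mem_span_singleton_self _)
  · obtain ⟨a, rfl⟩ := Submodule.mem_span_singleton.mp hw
    have ha : a ≠ 0 := fun h0 => hw0 (by rw [h0, zero_smul])
    have hne' : hermForm 3 F 3 (a • b i) (a • b i) ≠ 0 := by
      rw [hse.smul_left, hse.smul_right, hbb, if_pos rfl, mul_one]
      exact mul_ne_zero ha (by simpa using ha)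
    exact ⟨⟨_, hw, hne'⟩, _, hw, hne'⟩
  · obtain ⟨a, rfl⟩ := Submodule.mem_span_singleton.mp hu
    obtain ⟨a', rfl⟩ := Submodule.mem_span_singleton.mp hv
    rw [hse.smul_left, hse.smul_right, hbb, if_neg hij, mul_zero, mul_zero]
  · obtain ⟨d, hd, hdM⟩ := hrat g (hle hg)
    set T : GL (Fin 3) F := X⁻¹ * g * X with hT
    set M : Matrix (Fin 3) (Fin 3) F := fun i j => d * (T : Matrix (Fin 3) (Fin 3) F) i j with hM
    set ν : F := d * σ d with hν
    have hiso : ∀ u v, formOf σ 1 ((T : Matrix (Fin 3) (Fin 3) F) *ᵥ u) ((T : Matrix (Fin 3) (Fin 3) F) *ᵥ v) =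
        formOf σ 1 u v := by
      intro u v
      rw [← hX, ← hX, mulVec_mulVec, mulVec_mulVec, ← Units.val_mul, show X * T = g * X by rw [hT]; group,
        Units.val_mul, ← mulVec_mulVec, ← mulVec_mulVec]
      exact (hS hg).1 _ _
    have hMM : ∀ i j, M 0 i * M 0 j + M 1 i * M 1 j + M 2 i * M 2 j = if i = j then ν else 0 := by
      intro i j
      have h := hiso (Pi.single i 1) (Pi.single j 1)
      rw [formOf_one_single, formOf_one_apply, mulVec_single_one, mulVec_single_one] at h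
      simp only [Matrix.col_apply] at h
      have hk : ∀ k, d * (T : Matrix (Fin 3) (Fin 3) F) k j = σ d * σ ((T : Matrix (Fin 3) (Fin 3) F) k j) :=
        fun k => by rw [← map_mul]; exact (hdM k j).symm
      simp only [hM, hk]
      split_ifs at h ⊢ <;> linear_combination ν * h
    have hval : ∀ x : F, σ x = x → x = 0 ∨ x ^ 2 = 1 := by
      intro x hx
      rw [hσ] at hx
      by_cases h : x = 0
      · exact Or.inl h
      · exact Or.inr (mul_left_cancel₀ h (by linear_combination hx))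
    have hMv : ∀ i j, M i j = 0 ∨ M i j ^ 2 = 1 := fun i j => hval _ (hdM i j)
    have hν1 : ν = 1 := by
      have hνs : σ ν = ν := by rw [hν, map_mul, hf.involutive]; ring
      have hν0 : ν ≠ 0 := mul_ne_zero hd (by simpa using hd)
      have hν2 : ν ^ 2 = 1 := (hval ν hνs).resolve_left hν0
      have hdet : M.det ^ 2 = ν := by
        have hmat : Mᵀ * M = ν • 1 := by
          ext i j
          simp [Matrix.mul_apply, Fin.sum_univ_three, hMM, Matrix.one_apply]
        have h := congrArg Matrix.det hmat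
        rw [det_mul, det_transpose, det_smul, det_one, mul_one, Fintype.card_fin] at h
        linear_combination h + ν * hν2
      have hσdet : σ M.det = M.det := by
        simp only [Matrix.det_fin_three, map_sub, map_add, map_mul]
        simp only [hM, hdM]
      rcases hval _ hσdet with h | h
      · rw [h] at hdet; exact absurd hdet.symm (by simpa using hν0)
      · rw [← hdet, h]
    have hcol : ∀ j, ∃ i, ∀ k, k ≠ i → M k j = 0 := by
      intro j
      have h := hMM j j
      rw [if_pos rfl, hν1] at h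
      rcases hMv 0 j with h0' | h0' <;> rcases hMv 1 j with h1' | h1' <;> rcases hMv 2 j with h2' | h2'
      all_goals first
        | (refine ⟨0, fun k hk => ?_⟩; fin_cases k <;> first | exact absurd rfl hk | assumption)
        | (refine ⟨1, fun k hk => ?_⟩; fin_cases k <;> first | exact absurd rfl hk | assumption)
        | (refine ⟨2, fun k hk => ?_⟩; fin_cases k <;> first | exact absurd rfl hk | assumption)
        | (exfalso; simp only [h0', h1', h2', mul_zero, zero_add, add_zero, ← sq] at h; exact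
            one_ne_zero (show (1 : F) = 0 by first | linear_combination h | linear_combination -h + h0 | linear_combination h + (-1 : F) * h0 | linear_combination -h))
    choose π hπ using hcol
    have himg : ∀ j, (g : Matrix (Fin 3) (Fin 3) F) *ᵥ b j = ((T : Matrix (Fin 3) (Fin 3) F) (π j) j) • b (π j) := by
      intro j
      have hTj : (T : Matrix (Fin 3) (Fin 3) F) *ᵥ Pi.single j 1 =
          ((T : Matrix (Fin 3) (Fin 3) F) (π j) j) • Pi.single (π j) 1 := by
        rw [mulVec_single_one]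
        funext k
        by_cases hk : k = π j
        · subst hk; simp
        · have := hπ j k hk
          simp only [hM, mul_eq_zero, hd, false_or] at this
          simp [this, hk]
      rw [hb, mulVec_mulVec, ← Units.val_mul, show g * X = X * T by rw [hT]; group, Units.val_mul, ← mulVec_mulVec,
        hTj, mulVec_smul]
    have hne' : ∀ j, (T : Matrix (Fin 3) (Fin 3) F) (π j) j ≠ 0 := fun j h => hne j (mulVec_injective_GL g
      (show (g : Matrix (Fin 3) (Fin 3) F) *ᵥ b j = (g : Matrix (Fin 3) (Fin 3) F) *ᵥ 0 by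
        rw [himg, h, zero_smul, mulVec_zero]))
    have hinj : Function.Injective π := by
      intro i j hij
      by_contra hne2
      have h := hMM i j
      rw [if_neg hne2] at h
      have hz : ∀ l k, k ≠ π l → M k l = 0 := hπ
      have hMi : M (π i) i ≠ 0 := mul_ne_zero hd (hne' i)
      have hMj : M (π i) j ≠ 0 := by rw [hij]; exact mul_ne_zero hd (hne' j)
      generalize hl : π i = l at hMi hMj hij
      fin_cases l <;> simp only [Fin.zero_eta, Fin.mk_one, Fin.reduceFinMk] at * <;>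
        simp [hz i, hz j, hl, ← hij, hMi, hMj] at h
    refine ⟨Equiv.ofBijective π (Finite.injective_iff_bijective.mp hinj), fun j => ?_⟩
    rw [Submodule.map_span, Set.image_singleton, Matrix.toLin'_apply, himg,
      Submodule.span_singleton_smul_eq (IsUnit.mk0 _ (hne' j))]
    rfl

end CfsgLib.Aschbacher
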