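import Cfsg.Agent.Aschbacher.Form.UnitaryMaximal
import Cfsg.Agent.Aschbacher.General.FormOf
import Cfsg.Agent.Aschbacher.Form.UnitaryThreeData

/-!
Coded elements as field elements, and subgroups of the special unitary group in dimension three that are not maximal
because they preserve, with a further isometry, a proper set of points.
-/
set_option autoImplicit false

namespace CfsgLib.Aschbacher

open Matrix Cfsg Cfsg.Geo CfsgLib.GeoClifford CfsgLib.Geo
open scoped MatrixGroups

variable {F : Type*} [Field F]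

/-- A field with a chosen square root of two on which the Frobenius is the involution. -/
structure CodedField (p : ℕ) (r : F) (σ : F ≃+* F) : Prop where
  prime : p.Prime
  odd : p ≠ 2
  char : CharP F p
  root : r * r = 2
  conj : σ r = -r
  surj : ∀ x : F, ∃ a b : ℕ, x = a + b * r

namespace ThreeData

/-- A coded element in the field. -/
def phi (r : F) (a : Q) : F := (a.1 : F) + (a.2 : F) * r

/-- A coded vector in the space. -/
def tov (r : F) (x : V3) : Fin 3 → F := ![phi r x.a, phi r x.b, phi r x.c]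

/-- Coded columns as a matrix. -/
def toM (r : F) (A : M3) : Matrix (Fin 3) (Fin 3) F :=
  Matrix.of fun i j => ![tov r A.a, tov r A.b, tov r A.c] j i

@[simp] lemma phi_zero (r : F) : phi r (0, 0) = 0 := by simp [phi]

@[simp] lemma phi_one (r : F) : phi r (1, 0) = 1 := by simp [phi]

lemma toM_one (r : F) : toM r mone = 1 := by
  ext i j; fin_cases i <;> fin_cases j <;> simp [toM, tov, mone, e1, e2, e3]

lemma tov_e1 (r : F) : tov r e1 = Pi.single 0 1 := by
  funext i; fin_cases i <;> simp [tov, e1]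

lemma tov_e2 (r : F) : tov r e2 = Pi.single 1 1 := by
  funext i; fin_cases i <;> simp [tov, e2]

lemma tov_e3 (r : F) : tov r e3 = Pi.single 2 1 := by
  funext i; fin_cases i <;> simp [tov, e3]

lemma toM_col (r : F) (A : M3) (j : Fin 3) :
    toM r A *ᵥ Pi.single j 1 = tov r (![A.a, A.b, A.c] j) := by
  ext i; fin_cases j <;> simp [toM]

section Hom

variable {p : ℕ} {r : F} {σ : F ≃+* F} (h : CodedField p r σ)
include h

lemma cast_mod (n : ℕ) : ((n % p : ℕ) : F) = n := by
  have := h.char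
  conv_rhs => rw [← Nat.mod_add_div n p]
  simp [CharP.cast_eq_zero]

lemma phi_add (a b : Q) : phi r (add p a b) = phi r a + phi r b := by
  simp only [phi, add, cast_mod h, Nat.cast_add]
  ring

lemma phi_mul (a b : Q) : phi r (mul p a b) = phi r a * phi r b := by
  simp only [phi, mul, cast_mod h, Nat.cast_add, Nat.cast_mul, Nat.cast_ofNat]
  linear_combination (-(a.2 : F) * b.2) * h.root

lemma cast_pred : ((p - 1 : ℕ) : F) = -1 := by
  have := h.char
  rw [Nat.cast_sub h.prime.one_le, CharP.cast_eq_zero, Nat.cast_one, zero_sub]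

lemma phi_conj (a : Q) : phi r (conj p a) = σ (phi r a) := by
  simp only [phi, conj, cast_mod h, Nat.cast_mul, cast_pred h, map_add, map_mul, map_natCast, h.conj]
  ring

lemma phi_neg (a : Q) : phi r (neg p a) = -phi r a := by
  simp only [phi, neg, cast_mod h, Nat.cast_mul, cast_pred h]
  ring

lemma phi_npow (a : Q) : ∀ n, phi r (npow p a n) = phi r a ^ n
  | 0 => by simp [npow]
  | n + 1 => by rw [npow, phi_mul h, phi_npow a n, pow_succ]

lemma two_ne_zero' : (2 : F) ≠ 0 := by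
  intro h2
  have := h.char
  have : p ∣ 2 := (CharP.cast_eq_zero_iff F p 2).mp (by exact_mod_cast h2)
  exact h.odd ((Nat.prime_dvd_prime_iff_eq h.prime Nat.prime_two).mp this)

lemma same_iff (a b : Q) : same p a b = true ↔ phi r a = phi r b := by
  have := h.char
  have key : ∀ m n : ℕ, (m : F) = n ↔ m % p = n % p := fun m n => by
    rw [CharP.natCast_eq_natCast F p]; rfl
  simp only [same, Bool.and_eq_true, beq_iff_eq, ← key]
  refine ⟨fun ⟨e₁, e₂⟩ => by rw [phi, phi, e₁, e₂], fun e => ?_⟩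
  have e' := congrArg σ e
  simp only [phi, map_add, map_mul, map_natCast, h.conj] at e'
  simp only [phi] at e
  have h0 : r ≠ 0 := fun h0 => two_ne_zero' h (by rw [← h.root, h0, mul_zero])
  exact ⟨mul_left_cancel₀ (two_ne_zero' h) (by linear_combination e + e'),
    mul_left_cancel₀ (mul_ne_zero (two_ne_zero' h) h0) (by linear_combination e - e')⟩

lemma nz_iff (a : Q) : nz p a = true ↔ phi r a ≠ 0 := by
  rw [nz, Bool.not_eq_true', Bool.eq_false_iff, ne_eq, same_iff h, phi_zero]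

lemma elems_surj (x : F) : ∃ a ∈ elems p, phi r a = x := by
  obtain ⟨a, b, rfl⟩ := h.surj x
  refine ⟨(a % p, b % p), ?_, by simp [phi, cast_mod h]⟩
  simp [elems, Nat.mod_lt _ h.prime.pos]

lemma tov_vadd (x y : V3) : tov r (vadd p x y) = tov r x + tov r y := by
  funext i; fin_cases i <;> simp [tov, vadd, phi_add h]

lemma tov_vsmul (s : Q) (x : V3) : tov r (vsmul p s x) = phi r s • tov r x := by
  funext i; fin_cases i <;> simp [tov, vsmul, phi_mul h]

lemma tov_vconj (x : V3) : tov r (vconj p x) = σ ∘ tov r x := by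
  funext i; fin_cases i <;> simp [tov, vconj, phi_conj h]

lemma vsame_iff (x y : V3) : vsame p x y = true ↔ tov r x = tov r y := by
  simp only [vsame, Bool.and_eq_true, same_iff h]
  refine ⟨fun ⟨⟨e₁, e₂⟩, e₃⟩ => by rw [tov, tov, e₁, e₂, e₃], fun e => ?_⟩
  exact ⟨⟨congrFun e 0, congrFun e 1⟩, congrFun e 2⟩

lemma msame_iff (A B : M3) : msame p A B = true ↔ toM r A = toM r B := by
  simp only [msame, Bool.and_eq_true, vsame_iff h]
  refine ⟨fun ⟨⟨e₁, e₂⟩, e₃⟩ => by rw [toM, toM, e₁, e₂, e₃], fun e => ?_⟩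
  have e' := fun j => congrArg (· *ᵥ (Pi.single j 1 : Fin 3 → F)) e
  simp only [toM_col] at e'
  exact ⟨⟨e' 0, e' 1⟩, e' 2⟩

lemma phi_dot (x y : V3) : phi r (dot p x y) = tov r x ⬝ᵥ tov r y := by
  simp [dotProduct, Fin.sum_univ_three, dot, tov, phi_add h, phi_mul h]

lemma tov_mv (A : M3) (x : V3) : tov r (mv p A x) = toM r A *ᵥ tov r x := by
  funext i
  fin_cases i <;>
    simp [Matrix.mulVec, dotProduct, Fin.sum_univ_three, toM, mv, tov, vadd, vsmul, phi_add h, phi_mul h] <;> ring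

lemma toM_mmul (A B : M3) : toM r (mmul p A B) = toM r A * toM r B := by
  refine Matrix.ext_of_mulVec_single fun j => ?_
  rw [← mulVec_mulVec, toM_col, toM_col, ← tov_mv h]
  fin_cases j <;> rfl

lemma toM_mpow (A : M3) : ∀ n, toM r (mpow p A n) = toM r A ^ n
  | 0 => by rw [mpow, toM_one, pow_zero]
  | n + 1 => by rw [mpow, toM_mmul h, toM_mpow A n, pow_succ']

lemma phi_form (G : M3) (x y : V3) : phi r (form p G x y) = formOf σ (toM r G) (tov r x) (tov r y) := by
  rw [form, phi_dot h, tov_mv h, tov_vconj h, formOf]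

lemma phi_det3 (x y z : V3) :
    phi r (det3 p x y z) = (Matrix.of fun i j => ![tov r x, tov r y, tov r z] j i).det := by
  simp [Matrix.det_fin_three, det3, tov, phi_add h, phi_mul h, phi_neg h]
  ring

lemma phi_sumTo (f : ℕ → Q) : ∀ n, phi r (sumTo p f n) = ∑ i ∈ Finset.range n, phi r (f i)
  | 0 => by simp [sumTo]
  | n + 1 => by rw [sumTo, phi_add h, phi_sumTo f n, Finset.sum_range_succ]

lemma isoOK_spec {G t : M3} (ht : isoOK p G t = true) : (toM r t).det = 1 ∧
    ∀ u v, formOf σ (toM r G) (toM r t *ᵥ u) (toM r t *ᵥ v) = formOf σ (toM r G) u v := by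
  simp only [isoOK, Bool.and_eq_true, same_iff h, phi_det3 h, phi_form h, phi_one] at ht
  obtain ⟨⟨⟨⟨⟨⟨⟨⟨⟨hd, haa⟩, hab⟩, hac⟩, hba⟩, hbb⟩, hbc⟩, hca⟩, hcb⟩, hcc⟩ := ht
  refine ⟨hd, fun u v => ?_⟩
  have hs := isSesq_formOf σ (toM r G)
  have hg : IsSesq σ (fun a b => formOf σ (toM r G) (toM r t *ᵥ a) (toM r t *ᵥ b)) :=
    ⟨fun a b w => by simp only [mulVec_add, hs.add_left], fun s a w => by simp only [mulVec_smul, hs.smul_left],
      fun w a b => by simp only [mulVec_add, hs.add_right], fun s w a => by simp only [mulVec_smul, hs.smul_right]⟩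
  rw [show formOf σ (toM r G) (toM r t *ᵥ u) (toM r t *ᵥ v) = _ from hg.eq_gram u v, hs.eq_gram u v]
  congr 2
  ext i j
  simp only [gramMatrix, toM_col]
  fin_cases i <;> fin_cases j <;> simp only [← tov_e1 r, ← tov_e2 r, ← tov_e3 r] <;> simpa [← tov_e1 r, ← tov_e2 r, ← tov_e3 r]

lemma exists_point (u : Fin 3 → F) (hu : u ≠ 0) : ∃ x ∈ points p, ∃ c : F, c ≠ 0 ∧ u = c • tov r x := by
  by_cases h0 : u 0 = 0
  · by_cases h1 : u 1 = 0
    · refine ⟨e3, List.mem_cons_self, u 2, fun h2 => hu ?_, ?_⟩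
      · funext i; fin_cases i <;> assumption
      · funext i; fin_cases i <;> simp [tov, e3, h0, h1]
    · obtain ⟨a, ha, hae⟩ := elems_surj h (u 2 / u 1)
      refine ⟨⟨(0, 0), (1, 0), a⟩, by simp [points, ha], u 1, h1, ?_⟩
      funext i; fin_cases i <;> simp [tov, h0, hae]
      field_simp
  · obtain ⟨a, ha, hae⟩ := elems_surj h (u 1 / u 0)
    obtain ⟨b, hb, hbe⟩ := elems_surj h (u 2 / u 0)
    refine ⟨⟨(1, 0), a, b⟩, List.mem_cons_of_mem _ (List.mem_append_right _ ?_), u 0, h0, ?_⟩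
    · simp only [List.mem_flatMap, List.mem_map]
      exact ⟨a, ha, b, hb, rfl⟩
    · funext i; fin_cases i <;> simp [tov, hae, hbe] <;> field_simp

end Hom

end ThreeData

variable [Fintype F]

lemma exists_codedField {p : ℕ} (hp : p = 3 ∨ p = 5) (hF : Fintype.card F = p ^ 2) {σ : F ≃+* F}
    (hσ : ∀ a, σ a = a ^ p) : ∃ r : F, CodedField p r σ := by
  classical
  obtain ⟨ℓ, hℓ⟩ := CharP.exists F
  obtain ⟨n, hℓp, hcard⟩ := FiniteField.card F ℓ
  have hpp : p.Prime := by rcases hp with rfl | rfl <;> norm_num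
  have hℓeq : ℓ = p := (Nat.prime_dvd_prime_iff_eq hℓp hpp).mp (hℓp.dvd_of_dvd_pow (show ℓ ∣ p ^ 2 by
    rw [← hF, hcard]; exact dvd_pow_self ℓ n.ne_zero))
  subst hℓeq
  have h2 : (2 : F) ≠ 0 := by
    intro h2
    have h : ℓ ∣ 2 := (CharP.cast_eq_zero_iff F ℓ 2).mp (by exact_mod_cast h2)
    have := Nat.le_of_dvd two_pos h
    omega
  have hchar : ringChar F ≠ 2 := by
    rw [ringChar.eq F ℓ]; omega
  have hcz : (ℓ : F) = 0 := CharP.cast_eq_zero F ℓ
  obtain ⟨r, hr⟩ : IsSquare (2 : F) := by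
    rw [FiniteField.isSquare_iff hchar h2, hF]
    rcases hp with rfl | rfl
    · norm_num at hcz ⊢
      linear_combination 5 * hcz
    · norm_num at hcz ⊢
      linear_combination 819 * hcz
  have hrr : r * r = 2 := hr.symm
  have hconj : σ r = -r := by
    rw [hσ]
    rcases hp with rfl | rfl
    · norm_num at hcz
      linear_combination r * hrr + r * hcz
    · norm_num at hcz
      linear_combination (r ^ 3 + 2 * r) * hrr + r * hcz
  refine ⟨r, ⟨hpp, by omega, hℓ, hrr, hconj, ?_⟩⟩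
  have hinj : Function.Injective (fun a : Fin ℓ × Fin ℓ => ((a.1 : ℕ) : F) + ((a.2 : ℕ) : F) * r) := by
    rintro ⟨a, b⟩ ⟨a', b'⟩ e
    simp only at e
    have e' := congrArg σ e
    simp only [map_add, map_mul, map_natCast, hconj] at e'
    have h0 : r ≠ 0 := fun h0 => h2 (by rw [← hrr, h0, mul_zero])
    have key : ∀ x y : Fin ℓ, ((x : ℕ) : F) = ((y : ℕ) : F) → x = y := fun x y hxy =>
      Fin.ext (Nat.ModEq.eq_of_lt_of_lt ((CharP.natCast_eq_natCast F ℓ).mp hxy) x.2 y.2)
    exact Prod.ext (key _ _ (mul_left_cancel₀ h2 (by linear_combination e + e')))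
      (key _ _ (mul_left_cancel₀ (mul_ne_zero h2 h0) (by linear_combination e - e')))
  intro x
  obtain ⟨⟨a, b⟩, hab⟩ := ((Fintype.bijective_iff_injective_and_card _).mpr ⟨hinj, by simp [hF, sq]⟩).2 x
  exact ⟨a, b, hab.symm⟩

open ThreeData in
/-- A subgroup of the special unitary group preserving, with a further isometry, a proper set of points is not
maximal. -/
theorem not_maximal_of_points {p q : ℕ} {r : F} {σ : F ≃+* F} (hc : CodedField p r σ)
    {H : Subgroup (GL (Fin 3) F)} (hH : IsMaximalIn (Cfsg.GU 3 F q ⊓ specialLinear (Fin 3) F) H)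
    (X : GL (Fin 3) F) {G : M3}
    (hX : ∀ u v, hermForm 3 F q ((X : Matrix (Fin 3) (Fin 3) F) *ᵥ u) ((X : Matrix (Fin 3) (Fin 3) F) *ᵥ v) =
      formOf σ (toM r G) u v)
    (P : (Fin 3 → F) → Prop) (om : V3 → Bool) (hscale : ∀ c : F, c ≠ 0 → ∀ u, P u → P (c • u))
    (hP0 : ¬ P 0) (hom : ∀ x, P (tov r x) ↔ om x = true)
    (hinv : ∀ g ∈ H, ∀ u, P u → P (((X⁻¹ * g * X : GL (Fin 3) F) : Matrix (Fin 3) (Fin 3) F) *ᵥ u))
    {t s : M3} (ht : isoOK p G t = true) (hs : isoOK p G s = true) (hstab : stable p om t = true) (w : V3)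
    (hw : (om w && !om (mv p s w)) = true)
    (hnot : ∀ g ∈ H, ((X⁻¹ * g * X : GL (Fin 3) F) : Matrix (Fin 3) (Fin 3) F) ≠ toM r t) : False := by
  classical
  set f := hermForm 3 F q with hf
  set S := Cfsg.GU 3 F q ⊓ specialLinear (Fin 3) F with hS
  have hlift : ∀ A : M3, isoOK p G A = true → ∃ g : GL (Fin 3) F, g ∈ S ∧
      ((X⁻¹ * g * X : GL (Fin 3) F) : Matrix (Fin 3) (Fin 3) F) = toM r A := by
    intro A hA
    obtain ⟨hd, hiso⟩ := isoOK_spec hc hA
    let T : GL (Fin 3) F := Matrix.GeneralLinearGroup.mkOfDetNeZero (toM r A) (by rw [hd]; exact one_ne_zero)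
    have hT : (T : Matrix (Fin 3) (Fin 3) F) = toM r A := rfl
    refine ⟨X * T * X⁻¹, ⟨fun u v => ?_, ?_⟩, by rw [show X⁻¹ * (X * T * X⁻¹) * X = T by group, hT]⟩
    · show f _ _ = f u v
      have hu : ∀ u : Fin 3 → F, u = (X : Matrix (Fin 3) (Fin 3) F) *ᵥ ((↑X⁻¹ : Matrix (Fin 3) (Fin 3) F) *ᵥ u) :=
        fun u => by rw [mulVec_mulVec, Units.mul_inv, one_mulVec]
      have hv : ∀ u : Fin 3 → F, ((X * T * X⁻¹ : GL (Fin 3) F) : Matrix (Fin 3) (Fin 3) F) *ᵥ u =
          (X : Matrix (Fin 3) (Fin 3) F) *ᵥ (toM r A *ᵥ ((↑X⁻¹ : Matrix (Fin 3) (Fin 3) F) *ᵥ u)) := fun u => by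
        rw [Units.val_mul, Units.val_mul, hT, ← mulVec_mulVec, ← mulVec_mulVec]
      conv_rhs => rw [hu u, hu v]
      simp only [Units.coeHom_apply]
      rw [hv, hv, hX, hX, hiso]
    · show Matrix.GeneralLinearGroup.det (X * T * X⁻¹) = 1
      simp only [map_mul, map_inv]
      rw [mul_comm, ← mul_assoc, inv_mul_cancel, one_mul]
      exact Units.ext hd
  let O : Submonoid (GL (Fin 3) F) :=
    { carrier := {g | ∀ u, P u → P (((X⁻¹ * g * X : GL (Fin 3) F) : Matrix (Fin 3) (Fin 3) F) *ᵥ u)}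
      one_mem' := fun u hu => by simpa using hu
      mul_mem' := by
        intro g g' hg hg' u hu
        rw [show X⁻¹ * (g * g') * X = (X⁻¹ * g * X) * (X⁻¹ * g' * X) by group, Units.val_mul, ← mulVec_mulVec]
        exact hg _ (hg' u hu) }
  let OG : Subgroup (GL (Fin 3) F) :=
    { O with
      inv_mem' := fun {a} ha => by
        obtain ⟨n, hn⟩ : ∃ n : ℕ, a⁻¹ = a ^ n := ⟨orderOf a - 1, by
          have : 0 < orderOf a := orderOf_pos a
          rw [inv_eq_iff_mul_eq_one, ← pow_succ', Nat.sub_add_cancel this, pow_orderOf_eq_one]⟩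
        rw [hn]
        exact O.pow_mem ha n }
  obtain ⟨gt, hgt, hgtT⟩ := hlift t ht
  obtain ⟨gs, hgs, hgsT⟩ := hlift s hs
  have htO : gt ∈ OG := by
    intro u hu
    rw [hgtT]
    obtain ⟨x, hx, c, hc0, rfl⟩ := exists_point hc u fun h0 => hP0 (h0 ▸ hu)
    rw [mulVec_smul, ← tov_mv hc]
    refine hscale c hc0 _ ((hom _).mpr ?_)
    have h1 : P (tov r x) := by simpa [smul_smul, hc0] using hscale c⁻¹ (inv_ne_zero hc0) _ hu
    have h2 := List.all_eq_true.mp hstab x hx
    rwa [(hom x).mp h1, Bool.not_true, Bool.false_or] at h2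
  have hnle : ¬ S ≤ OG := by
    intro hle
    simp only [Bool.and_eq_true, Bool.not_eq_true'] at hw
    have h := hle hgs _ ((hom w).mpr hw.1)
    rw [hgsT, ← tov_mv hc, hom, hw.2] at h
    exact absurd h (by decide)
  have hHO : H ≤ OG := fun g hg => hinv g hg
  have heq := eq_inf_of_le hH hHO hnle
  exact hnot gt (heq ▸ ⟨htO, hgt⟩) hgtT

end CfsgLib.Aschbacher
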