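import Cfsg.Agent.Aschbacher.Form.UnitaryThreePoints

/-!
Normalisers of groups of order twenty-seven in the special unitary groups of dimension three: they are proper, and
over twenty-five elements they are not maximal, as they preserve, with a further isometry, forty-five points.
-/
set_option autoImplicit false
set_option maxHeartbeats 1000000

namespace CfsgLib.Aschbacher

open Matrix Cfsg Cfsg.Geo CfsgLib.GeoClifford CfsgLib.Geo
open scoped MatrixGroups commutatorElement

variable {F : Type*} [Field F]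

lemma scalar_of_mem_center {R : Subgroup (GL (Fin 3) F)} (habs : ActsAbsolutelyIrreducibly (matrixSet R))
    {z : GL (Fin 3) F} (hz : ∀ r ∈ R, r * z = z * r) : ∃ c : F, (z : Matrix (Fin 3) (Fin 3) F) = c • 1 := by
  refine habs.2 _ ?_
  rintro s ⟨r, hr, rfl⟩
  exact congrArg (Units.val : GL (Fin 3) F → _) (hz r hr).symm

variable [Fintype F]

/-- An element of prime order at least five centralising the centre of a group of order twenty-seven that it
normalises centralises the group. -/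
lemma centralizes_of_order {G : Type*} [Group G] {R : Subgroup G} (hR : Nat.card R = 27)
    (hZ : Nat.card (Subgroup.center R) = 3) {g : G} {p : ℕ} (hp : p.Prime) (h5 : 5 ≤ p) (hg : g ^ p = 1)
    (hn : ∀ x ∈ R, g * x * g⁻¹ ∈ R) (hc : ∀ x : R, x ∈ Subgroup.center R → g * x * g⁻¹ = x) :
    ∀ x ∈ R, g * x * g⁻¹ = x := by
  classical
  have : Fact p.Prime := ⟨hp⟩
  have : Finite R := Nat.finite_of_card_ne_zero (by rw [hR]; norm_num)
  let C : Subgroup R :=
    { carrier := {x | g * (x : G) * g⁻¹ = x}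
      one_mem' := by simp
      mul_mem' := by
        intro a b ha hb
        simp only [Set.mem_setOf_eq, Subgroup.coe_mul] at *
        calc g * (↑a * ↑b) * g⁻¹ = (g * ↑a * g⁻¹) * (g * ↑b * g⁻¹) := by group
          _ = _ := by rw [ha, hb]
      inv_mem' := by
        intro a ha
        simp only [Set.mem_setOf_eq, InvMemClass.coe_inv] at *
        calc g * (↑a)⁻¹ * g⁻¹ = (g * ↑a * g⁻¹)⁻¹ := by group
          _ = _ := by rw [ha] }
  let φ : R → R := fun x => ⟨g * x * g⁻¹, hn x x.2⟩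
  have hiter : ∀ (n : ℕ) (x : R), ((φ^[n] x : R) : G) = g ^ n * x * (g ^ n)⁻¹ := by
    intro n
    induction n with
    | zero => intro x; simp
    | succ n ih =>
      intro x
      rw [Function.iterate_succ_apply', pow_succ']
      show g * ((φ^[n] x : R) : G) * g⁻¹ = _
      rw [ih]
      group
  have hφp : ∀ x, φ^[p] x = x := fun x => Subtype.ext (by rw [hiter, hg]; simp)
  have hmod : Nat.card C ≡ 27 [MOD p] := by
    let e : Equiv.Perm R := ⟨φ, φ^[p - 1], fun x => by
        rw [← Function.iterate_succ_apply, Nat.succ_eq_add_one, Nat.sub_one_add_one hp.ne_zero, hφp], fun x => by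
        rw [← Function.iterate_succ_apply' φ, Nat.succ_eq_add_one, Nat.sub_one_add_one hp.ne_zero, hφp]⟩
    have hep : e ^ p = 1 := Equiv.ext fun x => by
      rw [Equiv.Perm.coe_pow]; exact hφp x
    have : Fintype R := Fintype.ofFinite _
    have h := Equiv.Perm.card_compl_support_modEq (p := p) (n := 1) (σ := e) (by rw [pow_one]; exact hep)
    rw [← Nat.card_eq_fintype_card (α := R), hR] at h
    convert h using 1
    rw [← SetLike.coe_sort_coe, Nat.card_coe_set_eq, ← Set.ncard_coe_finset]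
    congr 1
    ext x
    simp only [Finset.coe_compl, Set.mem_compl_iff, Finset.mem_coe, Equiv.Perm.mem_support, not_not]
    exact (Subtype.ext_iff (a1 := φ x) (a2 := x)).symm
  have h3 : 3 ∣ Nat.card C := by
    rw [← hZ]
    exact Subgroup.card_dvd_of_le fun x hx => hc x hx
  have h27 : Nat.card C ∣ 27 := hR ▸ C.card_subgroup_dvd_card
  have hC : Nat.card C = 27 := by
    have hle := Nat.le_of_dvd (by norm_num) h27
    have hd := (Nat.modEq_iff_dvd' hle).mp hmod
    have hpos : 0 < Nat.card C := Nat.card_pos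
    obtain h | h | h : Nat.card C = 3 ∨ Nat.card C = 9 ∨ Nat.card C = 27 := by
      obtain ⟨i, hi, he⟩ := (Nat.dvd_prime_pow Nat.prime_three).mp (show Nat.card C ∣ 3 ^ 3 by norm_num; exact h27)
      interval_cases i <;> simp_all
    · rw [h] at hd
      rcases (Nat.Prime.dvd_mul hp).mp (show p ∣ 8 * 3 by exact hd) with h' | h'
      · have := Nat.le_of_dvd two_pos (hp.dvd_of_dvd_pow (show p ∣ 2 ^ 3 from h'))
        omega
      · have := Nat.le_of_dvd (by norm_num) h'
        omega
    · rw [h] at hd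
      rcases (Nat.Prime.dvd_mul hp).mp (show p ∣ 2 * 9 by exact hd) with h' | h'
      · have := Nat.le_of_dvd two_pos h'
        omega
      · have := Nat.le_of_dvd (by norm_num) (hp.dvd_of_dvd_pow (show p ∣ 3 ^ 2 from h'))
        omega
    · exact h
  intro x hx
  have htop : C = ⊤ := C.eq_top_of_card_eq (hC.trans hR.symm)
  exact (htop ▸ Subgroup.mem_top (⟨x, hx⟩ : R) : (⟨x, hx⟩ : R) ∈ C)

/-- The normaliser of a group of order twenty-seven is proper in characteristic at least five. -/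
theorem isoSL_not_le_normalizer_three {σ : F ≃+* F} {f : (Fin 3 → F) → (Fin 3 → F) → F} (hf : IsUnitaryForm σ f)
    {p : ℕ} [CharP F p] (hp : p.Prime) (h5 : 5 ≤ p) {R : Subgroup (GL (Fin 3) F)}
    (habs : ActsAbsolutelyIrreducibly (matrixSet R)) (hR : Nat.card R = 27)
    (hZ : Nat.card (Subgroup.center R) = 3) : ¬ isoSL f ≤ subgroupNormalizer R := by
  classical
  intro hle
  obtain ⟨a, φ, h, ha, hφ, hmem⟩ := exists_nontrivial_tv hf (by simp)
  set g := tvec a φ h with hgdef
  have hgp : g ^ p = 1 := by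
    refine Units.ext ?_
    rw [Units.val_pow_eq_pow_val, Units.val_one, hgdef, tvec_val]
    have hsq : vecMulVec a φ * vecMulVec a φ = 0 := by
      rw [vecMulVec_mul_vecMulVec, h, zero_smul, vecMulVec_zero]
    have hN : ∀ n : ℕ, (1 + vecMulVec a φ) ^ n = 1 + (n : F) • vecMulVec a φ := by
      intro n
      induction n with
      | zero => simp
      | succ n ih =>
        rw [pow_succ, ih, add_mul, one_mul, smul_mul_assoc, mul_add, mul_one, hsq, add_zero, Nat.cast_succ,
          add_smul, one_smul]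
        abel
    rw [hN, CharP.cast_eq_zero, zero_smul, add_zero]
  have hn : ∀ x ∈ R, g * x * g⁻¹ ∈ R := fun x hx => (Subgroup.mem_normalizer_iff.mp (hle hmem) x).mp hx
  have hcen : ∀ x : R, x ∈ Subgroup.center R → g * (x : GL (Fin 3) F) * g⁻¹ = x := by
    intro x hx
    obtain ⟨c, hc⟩ := scalar_of_mem_center habs (z := (x : GL (Fin 3) F)) fun r hr =>
      congrArg Subtype.val (Subgroup.mem_center_iff.mp hx ⟨r, hr⟩)
    refine mul_inv_eq_of_eq_mul (Units.ext ?_)
    rw [Units.val_mul, Units.val_mul, hc, smul_mul_assoc, mul_smul_comm, one_mul, mul_one]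
  have hall := centralizes_of_order hR hZ hp h5 hgp hn hcen
  obtain ⟨c, hc⟩ := scalar_of_mem_center habs (z := g) fun r hr => by
    have := hall r hr
    conv_lhs => rw [← this]
    group
  obtain ⟨i, hi⟩ := Function.ne_iff.mp ha
  obtain ⟨j, hj⟩ := Function.ne_iff.mp hφ
  rw [hgdef, tvec_val] at hc
  by_cases hij : i = j
  · subst hij
    obtain ⟨k, hk⟩ : ∃ k : Fin 3, k ≠ i := exists_ne i
    have e1 := congrFun (congrFun hc k) i
    have e2 := congrFun (congrFun hc i) k
    simp only [Pi.zero_apply] at hi hj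
    simp [vecMulVec_apply, hk, hk.symm, hi, hj] at e1 e2
    have e3 := congrFun (congrFun hc k) k
    have e4 := congrFun (congrFun hc i) i
    simp [vecMulVec_apply, e1, e2] at e3 e4
    rw [← e3] at e4
    simp [hi, hj] at e4
  · have := congrFun (congrFun hc i) j
    simp only [Pi.zero_apply] at hi hj
    simp [vecMulVec_apply, hij, hi, hj] at this

open ThreeData in
/-- Over twenty-five elements the normaliser of a group of order twenty-seven is not maximal. -/
theorem classSixThree_not_maximal (hF : Fintype.card F = 5 ^ 2) {H : Subgroup (GL (Fin 3) F)}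
    (hH : IsMaximalIn (Cfsg.GU 3 F 5 ⊓ specialLinear (Fin 3) F) H) {R : Subgroup (GL (Fin 3) F)}
    (hR : IsSymplecticTypeGroup 3 R) (habs : ActsAbsolutelyIrreducibly (matrixSet R))
    (hRS : R ≤ isoSL (hermForm 3 F 5)) (hcard : Nat.card R = 27) (hZ : Nat.card (Subgroup.center R) = 3)
    (hcl : ⁅R, R⁆ ≤ scalars (Fin 3) F) (hle : H ≤ subgroupNormalizer R) : False := by
  classical
  obtain ⟨σ, hf, hσ, -⟩ := exists_hermForm_unitary (n := 3) hF
  obtain ⟨r, hc⟩ := exists_codedField (Or.inr rfl) hF hσ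
  have hse := isSesq_of_unitary hf
  set f := hermForm 3 F 5
  have : Finite R := Nat.finite_of_card_ne_zero (by rw [hcard]; norm_num)
  set w : F := phi r (2, 3) with hw
  have hw3 : w ^ 3 = 1 := by
    rw [hw, ← phi_npow hc, ← phi_one r, ← same_iff hc]; decide
  have hw1 : w ≠ 1 := by
    rw [hw, ← phi_one r, ne_eq, ← same_iff hc]; decide
  have hwsum : 1 + w + w ^ 2 = 0 := by
    have h : (w - 1) * (1 + w + w ^ 2) = 0 := by linear_combination hw3
    exact (mul_eq_zero.mp h).resolve_left (sub_ne_zero.mpr hw1)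
  have hw0 : w ≠ 0 := fun h => by rw [h] at hw3; simp at hw3
  have hwN : w * σ w = 1 := by rw [hσ]; linear_combination (w ^ 3 + 1) * hw3
  have hcube : ∀ x ∈ R, x ^ 3 = 1 := fun x hx => by
    have h := Monoid.pow_exponent_eq_one (⟨x, hx⟩ : R)
    rw [hR.exponent_eq, show 3 * Nat.gcd 2 3 = 3 from rfl] at h
    exact congrArg Subtype.val h
  -- two generators
  obtain ⟨a, ha, b, hb, hab⟩ : ∃ a ∈ R, ∃ b ∈ R,
      (a : Matrix (Fin 3) (Fin 3) F) * b = w • ((b : Matrix (Fin 3) (Fin 3) F) * a) := by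
    obtain ⟨a, ha, b, hb, hne⟩ : ∃ a ∈ R, ∃ b ∈ R, a * b ≠ b * a := by
      by_contra hcon
      push Not at hcon
      have : Subgroup.center R = ⊤ := eq_top_iff.mpr fun x _ =>
        Subgroup.mem_center_iff.mpr fun y => Subtype.ext (hcon y y.2 x x.2)
      rw [this, Subgroup.card_top, hcard] at hZ
      omega
    obtain ⟨u, hu⟩ := (mem_scalars_iff _).mp (hcl (Subgroup.commutator_mem_commutator ha hb))
    have hz : ⁅a, b⁆ ∈ R := R.mul_mem (R.mul_mem (R.mul_mem ha hb) (R.inv_mem ha)) (R.inv_mem hb)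
    have hu3 : (u : F) ^ 3 = 1 := by
      have h := congrArg Units.val (hcube _ hz)
      rw [Units.val_pow_eq_pow_val, hu, smul_pow, one_pow, Units.val_one] at h
      simpa using congrFun (congrFun h 0) 0
    have hmul : (a : Matrix (Fin 3) (Fin 3) F) * b = (u : F) • ((b : Matrix (Fin 3) (Fin 3) F) * a) := by
      have h : a * b = ⁅a, b⁆ * (b * a) := by rw [commutatorElement_def]; group
      have h' := congrArg (Units.val : GL (Fin 3) F → _) h
      simp only [Units.val_mul, hu, smul_mul_assoc, one_mul] at h'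
      exact h'
    have hu1 : (u : F) ≠ 1 := fun h => hne (Units.ext (by rw [Units.val_mul, Units.val_mul, hmul, h, one_smul]))
    have h : ((u : F) - 1) * (((u : F) - w) * ((u : F) - w ^ 2)) = 0 := by
      linear_combination hu3 - hw3 + ((u : F) * (1 - (u : F))) * hwsum + (u : F) * hw3
    rcases mul_eq_zero.mp ((mul_eq_zero.mp h).resolve_left (sub_ne_zero.mpr hu1)) with h | h
    · exact ⟨a, ha, b, hb, by rw [← sub_eq_zero.mp h]; exact hmul⟩
    · refine ⟨b, hb, a, ha, ?_⟩
      rw [hmul, sub_eq_zero.mp h, smul_smul, show w * w ^ 2 = 1 by linear_combination hw3, one_smul]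
  -- an eigenvector
  set A : Matrix (Fin 3) (Fin 3) F := (a : Matrix (Fin 3) (Fin 3) F) with hA
  set B : Matrix (Fin 3) (Fin 3) F := (b : Matrix (Fin 3) (Fin 3) F) with hB
  have hA3 : A * (A * A) = 1 := by
    have h := congrArg Units.val (hcube a ha)
    rwa [Units.val_pow_eq_pow_val, Units.val_one, pow_succ', pow_two] at h
  have hB3 : B * (B * B) = 1 := by
    have h := congrArg Units.val (hcube b hb)
    rwa [Units.val_pow_eq_pow_val, Units.val_one, pow_succ', pow_two] at h
  have hABv : ∀ v, A *ᵥ (B *ᵥ v) = w • (B *ᵥ (A *ᵥ v)) := fun v => by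
    rw [mulVec_mulVec, hab, smul_mulVec, ← mulVec_mulVec]
  obtain ⟨e₀, he0, heA⟩ : ∃ e, e ≠ 0 ∧ A *ᵥ e = e := by
    by_contra hcon
    push Not at hcon
    have hz : ∀ v, v + A *ᵥ v + A *ᵥ (A *ᵥ v) = 0 := by
      intro v
      by_contra hne
      refine hcon _ hne ?_
      rw [mulVec_add, mulVec_add, show A *ᵥ (A *ᵥ (A *ᵥ v)) = v by
        rw [mulVec_mulVec, mulVec_mulVec, mul_assoc, hA3, one_mulVec]]
      abel
    have hb0 : ∀ v, B *ᵥ v = 0 → v = 0 := fun v h => mulVec_injective_GL b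
      (show B *ᵥ v = B *ᵥ 0 by rw [h, mulVec_zero])
    have h1 : ∀ v, v + w • (A *ᵥ v) + w ^ 2 • (A *ᵥ (A *ᵥ v)) = 0 := fun v => hb0 _ (by
      have h := hz (B *ᵥ v)
      rw [hABv, mulVec_smul, hABv, smul_smul, ← pow_two] at h
      rw [mulVec_add, mulVec_add, mulVec_smul, mulVec_smul, h])
    have h2 : ∀ v, v + w ^ 2 • (A *ᵥ v) + w • (A *ᵥ (A *ᵥ v)) = 0 := fun v => hb0 _ (by
      have h := h1 (B *ᵥ v)
      rw [hABv, mulVec_smul, hABv, smul_smul, smul_smul, smul_smul] at h
      rw [mulVec_add, mulVec_add, mulVec_smul, mulVec_smul]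
      rw [show w * w = w ^ 2 by ring, show w ^ 2 * w * w = w by linear_combination w * hw3] at h
      exact h)
    have h3 : (3 : F) • (Pi.single 0 1 : Fin 3 → F) = 0 := by
      funext i
      have e0 := congrFun (hz (Pi.single 0 1)) i
      have e1 := congrFun (h1 (Pi.single 0 1)) i
      have e2 := congrFun (h2 (Pi.single 0 1)) i
      simp only [Pi.add_apply, Pi.smul_apply, smul_eq_mul, Pi.zero_apply] at e0 e1 e2 ⊢
      linear_combination e0 + e1 + e2 - ((A *ᵥ Pi.single 0 1) i + (A *ᵥ (A *ᵥ Pi.single 0 1)) i) * hwsum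
    have h30 : (3 : F) = 0 := by simpa using congrFun h3 0
    have := hc.char
    rw [← Nat.cast_ofNat, CharP.cast_eq_zero_iff F 5] at h30
    omega
  -- the basis of images
  let x : Fin 3 → Fin 3 → F := ![e₀, B *ᵥ e₀, B *ᵥ (B *ᵥ e₀)]
  have hAx : ∀ j : Fin 3, A *ᵥ x j = w ^ (j : ℕ) • x j := by
    intro j
    fin_cases j
    · simp [x, heA]
    · simp [x, hABv, heA]
    · show A *ᵥ (B *ᵥ (B *ᵥ e₀)) = w ^ 2 • (B *ᵥ (B *ᵥ e₀))
      rw [hABv, hABv, heA, mulVec_smul, smul_smul, pow_two]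
  have hfA : ∀ u v, f (A *ᵥ u) (A *ᵥ v) = f u v := (hRS ha).1
  have hfB : ∀ u v, f (B *ᵥ u) (B *ᵥ v) = f u v := (hRS hb).1
  have hpw : Function.Injective (fun j : Fin 3 => w ^ (j : ℕ)) := by
    have hw2 : w ^ 2 ≠ 1 := fun h2 => hw1 (by linear_combination hw3 - w * h2)
    have hw12 : w ^ 2 ≠ w := fun h2 => hw1 (mul_left_cancel₀ hw0 (by linear_combination h2))
    intro i j h
    fin_cases i <;> fin_cases j <;>
      simp only [Fin.zero_eta, Fin.mk_one, Fin.reduceFinMk, Fin.val_zero, Fin.val_one, Fin.val_two, pow_zero,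
        pow_one] at h ⊢ <;>
      first
        | rfl
        | exact absurd h hw1
        | exact absurd h.symm hw1
        | exact absurd h hw2
        | exact absurd h.symm hw2
        | exact absurd h hw12
        | exact absurd h.symm hw12
  have horth : ∀ i j, i ≠ j → f (x i) (x j) = 0 := by
    intro i j hij
    have h := hfA (x i) (x j)
    rw [hAx, hAx, hse.smul_left, hse.smul_right, map_pow, ← mul_assoc] at h
    have hne : w ^ (i : ℕ) * σ w ^ (j : ℕ) ≠ 1 := by
      intro e
      have e' : w ^ (i : ℕ) = w ^ (j : ℕ) := by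
        calc w ^ (i : ℕ) = w ^ (i : ℕ) * (w * σ w) ^ (j : ℕ) := by rw [hwN, one_pow, mul_one]
          _ = w ^ (i : ℕ) * σ w ^ (j : ℕ) * w ^ (j : ℕ) := by rw [mul_pow]; ring
          _ = _ := by rw [e, one_mul]
      exact hij (hpw e')
    by_contra hne0
    exact hne (mul_right_cancel₀ hne0 (by rw [h, one_mul]))
  have hnorm : ∀ j, f (x j) (x j) = f e₀ e₀ := by
    intro j; fin_cases j
    · rfl
    · exact hfB _ _
    · exact (hfB _ _).trans (hfB _ _)
  have hxne : ∀ j, x j ≠ 0 := by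
    have hb0 : ∀ v, v ≠ 0 → B *ᵥ v ≠ 0 := fun v hv h => hv (mulVec_injective_GL b
      (show B *ᵥ v = B *ᵥ 0 by rw [h, mulVec_zero]))
    intro j; fin_cases j
    · exact he0
    · exact hb0 _ he0
    · exact hb0 _ (hb0 _ he0)
  have hli : LinearIndependent F x := by
    let L : Module.End F (Fin 3 → F) := Matrix.toLin' A
    refine Module.End.eigenvectors_linearIndependent' L (fun j : Fin 3 => w ^ (j : ℕ)) ?_ x fun j =>
      ⟨Module.End.mem_eigenspace_iff.mpr (by simp only [L, Matrix.toLin'_apply, hAx]), hxne j⟩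
    exact hpw
  have hee : f e₀ e₀ ≠ 0 := by
    intro h0
    obtain ⟨-, y, hy⟩ := hf.nondegenerate e₀ he0
    apply hy
    have hy' : y ∈ Submodule.span F (Set.range x) := by
      rw [hli.span_eq_top_of_card_eq_finrank' (by rw [Module.finrank_fintype_fun_eq_card])]; trivial
    obtain ⟨co, rfl⟩ := (Submodule.mem_span_range_iff_exists_fun F).mp hy'
    rw [Fin.sum_univ_three, hse.add_right, hse.add_right, hse.smul_right, hse.smul_right, hse.smul_right]
    rw [show f e₀ (x 0) = 0 from (hnorm 0).trans h0, show f e₀ (x 1) = 0 from horth 0 1 (by decide),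
      show f e₀ (x 2) = 0 from horth 0 2 (by decide)]
    ring
  obtain ⟨c, hcc⟩ := Unit.exists_norm_eq hf.ne_refl hf.involutive (t := (f e₀ e₀)⁻¹)
    (by rw [map_inv₀, Unit.sigma_self hf])
  have hc0 : c ≠ 0 := fun h => by rw [h, zero_mul, eq_comm, inv_eq_zero] at hcc; exact hee hcc
  set M : Matrix (Fin 3) (Fin 3) F := Matrix.of fun i j => c * x j i with hM
  have hMs : ∀ j, M *ᵥ Pi.single j 1 = c • x j := fun j => by ext i; simp [hM]
  have hMu : IsUnit M := Matrix.linearIndependent_cols_iff_isUnit.mp (by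
    have e : M.col = fun j => (Units.mk0 c hc0) • x j := by funext j; ext i; simp [hM]
    rw [e]; exact hli.units_smul fun _ => Units.mk0 c hc0)
  set X := hMu.unit with hXdef
  have hXv : (X : Matrix (Fin 3) (Fin 3) F) = M := hMu.unit_spec
  have hX : ∀ u v, f ((X : Matrix (Fin 3) (Fin 3) F) *ᵥ u) ((X : Matrix (Fin 3) (Fin 3) F) *ᵥ v) =
      formOf σ (toM r mone) u v := by
    intro u v
    rw [hXv, toM_one]
    have hg : IsSesq σ (fun a c => f (M *ᵥ a) (M *ᵥ c)) :=
      ⟨fun a c w => by simp only [mulVec_add, hse.add_left], fun s a w => by simp only [mulVec_smul, hse.smul_left],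
        fun w a c => by simp only [mulVec_add, hse.add_right], fun s w a => by simp only [mulVec_smul, hse.smul_right]⟩
    rw [show f (M *ᵥ u) (M *ᵥ v) = _ from hg.eq_gram u v, formOf]
    congr 2
    ext i j
    simp only [gramMatrix, hMs, hse.smul_left, hse.smul_right, Matrix.one_apply]
    by_cases hij : i = j
    · rw [if_pos hij, hij, hnorm, ← mul_assoc, hcc, inv_mul_cancel₀ hee]
    · rw [if_neg hij, horth i j hij, mul_zero, mul_zero]
  -- the group in coordinates
  have hwA : phi r (2, 3) = w := rfl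
  have hwA2 : phi r (2, 2) = w ^ 2 := by
    rw [hw, ← phi_npow hc, ← same_iff hc]; decide
  have hXA : A * M = M * toM r genA := by
    refine Matrix.ext_of_mulVec_single fun j => ?_
    rw [← mulVec_mulVec, ← mulVec_mulVec, hMs, mulVec_smul, hAx]
    rw [show toM r genA *ᵥ Pi.single j 1 = w ^ (j : ℕ) • Pi.single j 1 by
      rw [toM_col]; fin_cases j <;> funext i <;> fin_cases i <;> simp [genA, tov, e1, hwA, hwA2]]
    rw [mulVec_smul, hMs, smul_comm]
  have hXB : B * M = M * toM r genB := by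
    refine Matrix.ext_of_mulVec_single fun j => ?_
    rw [← mulVec_mulVec, ← mulVec_mulVec, hMs, mulVec_smul]
    rw [toM_col]
    fin_cases j
    · show c • (B *ᵥ e₀) = M *ᵥ tov r e2
      rw [tov_e2, hMs]; rfl
    · show c • (B *ᵥ (B *ᵥ e₀)) = M *ᵥ tov r e3
      rw [tov_e3, hMs]; rfl
    · show c • (B *ᵥ (B *ᵥ (B *ᵥ e₀))) = M *ᵥ tov r e1
      rw [tov_e1, hMs, mulVec_mulVec, mulVec_mulVec, mul_assoc, hB3, one_mulVec]
      rfl
  let rr : ℕ → GL (Fin 3) F := fun n => a ^ (n / 3) * b ^ (n % 3)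
  have hrr : ∀ n, ((X⁻¹ * rr n * X : GL (Fin 3) F) : Matrix (Fin 3) (Fin 3) F) = toM r (rep n) := by
    intro n
    have hconjA : ((X⁻¹ * a * X : GL (Fin 3) F) : Matrix (Fin 3) (Fin 3) F) = toM r genA := by
      rw [Units.val_mul, Units.val_mul, hXv, mul_assoc, ← hA, hXA, ← mul_assoc, ← hXv, Units.inv_mul, one_mul]
    have hconjB : ((X⁻¹ * b * X : GL (Fin 3) F) : Matrix (Fin 3) (Fin 3) F) = toM r genB := by
      rw [Units.val_mul, Units.val_mul, hXv, mul_assoc, ← hB, hXB, ← mul_assoc, ← hXv, Units.inv_mul, one_mul]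
    have e : X⁻¹ * rr n * X = (X⁻¹ * a * X) ^ (n / 3) * (X⁻¹ * b * X) ^ (n % 3) := by
      have hp : ∀ (y : GL (Fin 3) F) (k : ℕ), (X⁻¹ * y * X) ^ k = X⁻¹ * y ^ k * X := fun y k => by
        induction k with
        | zero => simp
        | succ k ih => rw [pow_succ, pow_succ, ih]; group
      rw [hp, hp]
      simp only [rr]
      group
    rw [e, Units.val_mul, Units.val_pow_eq_pow_val, Units.val_pow_eq_pow_val, hconjA, hconjB, rep,
      toM_mmul hc, toM_mpow hc, toM_mpow hc]
  set sc : GL (Fin 3) F := a * b * a⁻¹ * b⁻¹ with hscdef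
  have hsc : (sc : Matrix (Fin 3) (Fin 3) F) = w • 1 := by
    rw [hscdef, Units.val_mul, Units.val_mul, Units.val_mul, ← hA, ← hB, hab, smul_mul_assoc, smul_mul_assoc,
      mul_assoc B A, hA, Units.mul_inv, mul_one, hB, Units.mul_inv]
  have hscR : sc ∈ R := R.mul_mem (R.mul_mem (R.mul_mem ha hb) (R.inv_mem ha)) (R.inv_mem hb)
  let el : Fin 3 × Fin 9 → R := fun i =>
    ⟨sc ^ (i.1 : ℕ) * rr i.2, R.mul_mem (R.pow_mem hscR _) (R.mul_mem (R.pow_mem ha _) (R.pow_mem hb _))⟩
  let code : Fin 3 × Fin 9 → M3 := fun i =>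
    let s := npow 5 (2, 3) i.1
    ⟨vsmul 5 s (rep i.2).a, vsmul 5 s (rep i.2).b, vsmul 5 s (rep i.2).c⟩
  have hel : ∀ i, ((X⁻¹ * (el i : GL (Fin 3) F) * X : GL (Fin 3) F) : Matrix (Fin 3) (Fin 3) F) =
      w ^ (i.1 : ℕ) • toM r (rep i.2) := by
    intro i
    rw [← hrr]
    simp only [el, Units.val_mul, Units.val_pow_eq_pow_val, hsc, smul_pow, one_pow, smul_mul_assoc, one_mul,
      mul_smul_comm]
  have hcode : ∀ i, toM r (code i) = w ^ (i.1 : ℕ) • toM r (rep i.2) := by
    intro i
    refine Matrix.ext_of_mulVec_single fun j => ?_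
    rw [toM_col, smul_mulVec, toM_col]
    fin_cases j <;> simp [code, tov_vsmul hc, phi_npow hc, hw]
  have hbij : Function.Bijective el := by
    have : Fintype R := Fintype.ofFinite _
    rw [Fintype.bijective_iff_injective_and_card]
    refine ⟨fun i j hij => ?_, by rw [← Nat.card_eq_fintype_card (α := R), hcard]; rfl⟩
    have h := hel i
    rw [hij, hel j, ← hcode, ← hcode] at h
    have hall : (List.finRange 3).all (fun i₁ => (List.finRange 9).all fun i₂ => (List.finRange 3).all fun j₁ =>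
        (List.finRange 9).all fun j₂ => !msame 5 (code (j₁, j₂)) (code (i₁, i₂)) || decide ((i₁, i₂) = (j₁, j₂))) = true := by
      decide +kernel
    simp only [List.all_eq_true, List.mem_finRange, forall_true_left] at hall
    have := hall i.1 i.2 j.1 j.2
    rw [(msame_iff hc _ _).mpr h, Bool.not_true, Bool.false_or, decide_eq_true_eq] at this
    exact this
  let e : Fin 3 × Fin 9 ≃ R := Equiv.ofBijective el hbij
  let cj : R → Matrix (Fin 3) (Fin 3) F := fun y => ((X⁻¹ * (y : GL (Fin 3) F) * X : GL (Fin 3) F) :)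
  have : Fintype R := Fintype.ofFinite _
  let SA : (Fin 3 → F) → F := fun u => ∑ y : R, formOf σ (toM r mone) (cj y *ᵥ u) u ^ 3
  let SD : (Fin 3 → F) → F := fun u =>
    ∑ y : R, (Matrix.of fun k l => ![u, cj y *ᵥ u, cj y *ᵥ (cj y *ᵥ u)] l k).det ^ 4
  let h : (Fin 3 → F) → F := fun u => formOf σ (toM r mone) u u
  let P : (Fin 3 → F) → Prop := fun u => h u ≠ 0 ∧ (SA u = 0 ∨ SD u = phi r (4, 4) * h u ^ 2)
  have hs := isSesq_formOf σ (toM r mone)
  have hcube' : ∀ k : ℕ, (w ^ k) ^ 3 = 1 := fun k => by rw [← pow_mul, mul_comm, pow_mul, hw3, one_pow]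
  have hevA : ∀ u, SA u = 3 * ∑ n ∈ Finset.range 9, formOf σ (toM r mone) (toM r (rep n) *ᵥ u) u ^ 3 := by
    intro u
    simp only [SA]
    rw [← e.sum_comp, Fintype.sum_prod_type]
    simp only [show ∀ i, cj (e i) = w ^ (i.1 : ℕ) • toM r (rep i.2) from hel, smul_mulVec, hs.smul_left, mul_pow,
      hcube', one_mul]
    rw [Finset.sum_const, Finset.card_univ, Fintype.card_fin, nsmul_eq_mul, Nat.cast_ofNat]
    congr 1
  have hevD : ∀ u, SD u = 3 * ∑ n ∈ Finset.range 9,
      (Matrix.of fun k l => ![u, toM r (rep n) *ᵥ u, toM r (rep n) *ᵥ (toM r (rep n) *ᵥ u)] l k).det ^ 4 := by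
    intro u
    simp only [SD]
    rw [← e.sum_comp, Fintype.sum_prod_type]
    have hdetw : ∀ (s : F) (N : Matrix (Fin 3) (Fin 3) F), s ^ 3 = 1 →
        (Matrix.of fun k l => ![u, (s • N) *ᵥ u, (s • N) *ᵥ ((s • N) *ᵥ u)] l k).det =
        (Matrix.of fun k l => ![u, N *ᵥ u, N *ᵥ (N *ᵥ u)] l k).det := by
      intro s N hs3
      simp only [Matrix.det_fin_three, Matrix.of_apply, smul_mulVec, mulVec_smul]
      simp [-mulVec_mulVec]
      linear_combination (u 0 * (N *ᵥ u) 1 * (N *ᵥ N *ᵥ u) 2 - u 0 * (N *ᵥ N *ᵥ u) 1 * (N *ᵥ u) 2 -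
        (N *ᵥ u) 0 * u 1 * (N *ᵥ N *ᵥ u) 2 + (N *ᵥ u) 0 * (N *ᵥ N *ᵥ u) 1 * u 2 +
        (N *ᵥ N *ᵥ u) 0 * u 1 * (N *ᵥ u) 2 - (N *ᵥ N *ᵥ u) 0 * (N *ᵥ u) 1 * u 2) * hs3
    simp only [show ∀ i, cj (e i) = w ^ (i.1 : ℕ) • toM r (rep i.2) from hel, hdetw _ _ (hcube' _)]
    rw [Finset.sum_const, Finset.card_univ, Fintype.card_fin, nsmul_eq_mul, Nat.cast_ofNat]
    congr 1
  have h3ne : (3 : F) ≠ 0 := by
    intro h30
    have := hc.char
    rw [← Nat.cast_ofNat, CharP.cast_eq_zero_iff F 5] at h30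
    omega
  refine not_maximal_of_points hc hH X hX P sixOm ?_ ?_ ?_ ?_ (t := sixT) (s := sixS) real_iso six_iso
    six_stable ⟨(0, 0), (1, 0), (4, 0)⟩ six_moved ?_
  · intro d hd0 u ⟨h1, h2⟩
    have hform : ∀ a b, formOf σ (toM r mone) (d • a) (d • b) = d * σ d * formOf σ (toM r mone) a b := fun a b => by
      rw [hs.smul_left, hs.smul_right, ← mul_assoc]
    have hhd : h (d • u) = d * σ d * h u := hform u u
    refine ⟨by rw [hhd]; exact mul_ne_zero (mul_ne_zero hd0 (by simpa using hd0)) h1, ?_⟩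
    rcases h2 with h2 | h2
    · left
      simp only [SA, mulVec_smul, hform, mul_pow, ← Finset.mul_sum]
      simp only [SA] at h2
      rw [h2, mul_zero]
    · right
      have hd : ∀ y : R, (Matrix.of fun k l => ![d • u, cj y *ᵥ (d • u), cj y *ᵥ (cj y *ᵥ (d • u))] l k) =
          d • Matrix.of fun k l => ![u, cj y *ᵥ u, cj y *ᵥ (cj y *ᵥ u)] l k := fun y => by
        ext k l; fin_cases l <;> simp [mulVec_smul]
      rw [hhd]
      simp only [SD] at h2
      simp only [SD, hd, det_smul, Fintype.card_fin, mul_pow, ← Finset.mul_sum, h2, hσ]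
      ring
  · intro h0; exact h0.1 (by simp [h, formOf])
  · intro x
    simp only [P, h, hevA, hevD, sixOm, Bool.and_eq_true, Bool.or_eq_true, nz_iff hc, same_iff hc, phi_mul hc,
      phi_npow hc, phi_sumTo hc, phi_form hc, phi_det3 hc, tov_mv hc, phi_zero, mul_eq_zero, h3ne, false_or]
    simp [phi]
  · intro g hg u ⟨h1, h2⟩
    set T : GL (Fin 3) F := X⁻¹ * g * X with hTdef
    have hiso : ∀ u v, formOf σ (toM r mone) ((T : Matrix (Fin 3) (Fin 3) F) *ᵥ u)
        ((T : Matrix (Fin 3) (Fin 3) F) *ᵥ v) = formOf σ (toM r mone) u v := by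
      intro u v
      rw [← hX, ← hX, mulVec_mulVec, mulVec_mulVec, ← Units.val_mul, show X * T = g * X by rw [hTdef]; group,
        Units.val_mul, ← mulVec_mulVec, ← mulVec_mulVec]
      exact (hH.1.le hg).1 _ _
    have hdet : (T : Matrix (Fin 3) (Fin 3) F).det = 1 := by
      have h := (hH.1.le hg).2
      have h' : Matrix.GeneralLinearGroup.det T = 1 := by
        rw [hTdef, map_mul, map_mul, map_inv, show Matrix.GeneralLinearGroup.det g = 1 from h, mul_one, inv_mul_cancel]
      exact congrArg Units.val h'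
    have hnR := Subgroup.mem_normalizer_iff.mp (hle hg)
    let π : R ≃ R :=
      { toFun := fun y => ⟨g * y * g⁻¹, (hnR _).mp y.2⟩
        invFun := fun y => ⟨g⁻¹ * y * g, (hnR _).mpr (by simp [mul_assoc])⟩
        left_inv := fun y => Subtype.ext (by simp [mul_assoc])
        right_inv := fun y => Subtype.ext (by simp [mul_assoc]) }
    have hπ : ∀ (y : R) v, cj (π y) *ᵥ ((T : Matrix (Fin 3) (Fin 3) F) *ᵥ v) =
        (T : Matrix (Fin 3) (Fin 3) F) *ᵥ (cj y *ᵥ v) := by
      intro y v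
      rw [mulVec_mulVec, mulVec_mulVec]
      simp only [cj, hTdef, π, Equiv.coe_fn_mk]
      rw [← Units.val_mul, ← Units.val_mul]
      congr 2
      group
    have hA' : SA ((T : Matrix (Fin 3) (Fin 3) F) *ᵥ u) = SA u := by
      simp only [SA]
      rw [← π.sum_comp]
      exact Finset.sum_congr rfl fun y _ => by rw [hπ, hiso]
    have hD' : SD ((T : Matrix (Fin 3) (Fin 3) F) *ᵥ u) = SD u := by
      simp only [SD]
      rw [← π.sum_comp]
      refine Finset.sum_congr rfl fun y _ => ?_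
      have e : (Matrix.of fun k l => ![(T : Matrix (Fin 3) (Fin 3) F) *ᵥ u,
          cj (π y) *ᵥ ((T : Matrix (Fin 3) (Fin 3) F) *ᵥ u),
          cj (π y) *ᵥ (cj (π y) *ᵥ ((T : Matrix (Fin 3) (Fin 3) F) *ᵥ u))] l k) =
          (T : Matrix (Fin 3) (Fin 3) F) * Matrix.of fun k l => ![u, cj y *ᵥ u, cj y *ᵥ (cj y *ᵥ u)] l k := by
        rw [hπ, hπ]
        refine Matrix.ext_of_mulVec_single fun j => ?_
        rw [← mulVec_mulVec, mulVec_single_one, mulVec_single_one]
        fin_cases j <;> rfl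
      rw [e, det_mul, hdet, one_mul]
    refine ⟨by simp only [h, hiso]; exact h1, ?_⟩
    rcases h2 with h2 | h2
    · exact Or.inl (by rw [hA', h2])
    · exact Or.inr (by rw [hD', h2]; simp only [h, hiso])
  · intro g hg he
    have hnR := Subgroup.mem_normalizer_iff.mp (hle hg)
    obtain ⟨i, hi⟩ := hbij.2 ⟨g * a * g⁻¹, (hnR a).mp ha⟩
    have h1 := hel i
    rw [hi, ← hcode] at h1
    have hconjA : ((X⁻¹ * a * X : GL (Fin 3) F) : Matrix (Fin 3) (Fin 3) F) = toM r genA := by
      rw [Units.val_mul, Units.val_mul, hXv, mul_assoc, ← hA, hXA, ← mul_assoc, ← hXv, Units.inv_mul, one_mul]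
    have h2 : toM r sixT * toM r genA = toM r (code i) * toM r sixT := by
      rw [← he, ← hconjA, ← h1, ← Units.val_mul, ← Units.val_mul]
      congr 1
      group
    rw [← toM_mmul hc, ← toM_mmul hc, ← msame_iff hc] at h2
    have hall : (List.finRange 3).all (fun i₁ => (List.finRange 9).all fun i₂ =>
        !msame 5 (mmul 5 sixT genA) (mmul 5 (code (i₁, i₂)) sixT)) = true := by decide +kernel
    simp only [List.all_eq_true, List.mem_finRange, forall_true_left] at hall
    have h3 := hall i.1 i.2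
    rw [h2] at h3
    exact absurd h3 (by decide)

end CfsgLib.Aschbacher
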